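import Mathlib

/-! Tensor products commute with "directed colimits along paths" (helper48).

A `PathSystem` is the elementary encoding of a colimit used in the limit statements: modules `N i`
with compatible maps `γ i : N i → L`, jointly surjective, and a class `Tr` of transition maps
(closed under composition, directed) along which every element of a kernel dies.  No functoriality
of the transition maps is assumed. -/

namespace Groth.Agent.Lib.Helper48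

open TensorProduct

structure PathSystem {ι : Type*} (R : Type*) [CommRing R] (N : ι → Type*)
    [∀ i, AddCommGroup (N i)] [∀ i, Module R (N i)] (L : Type*) [AddCommGroup L] [Module R L]
    (γ : ∀ i, N i →ₗ[R] L) (Tr : ∀ i j, (N i →ₗ[R] N j) → Prop) : Prop where
  comp_eq : ∀ {i j τ}, Tr i j τ → ∀ x, γ j (τ x) = γ i x
  trans : ∀ {i j k τ σ}, Tr i j τ → Tr j k σ → Tr i k (σ ∘ₗ τ)
  dir : ∀ i j, ∃ k τ σ, Tr i k τ ∧ Tr j k σ
  surj : ∀ n : L, ∃ i x, γ i x = n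
  ker : ∀ i (x : N i), γ i x = 0 → ∃ j τ, Tr i j τ ∧ τ x = 0

namespace PathSystem

variable {ι : Type*} {R : Type*} [CommRing R] {N : ι → Type*}
  [∀ i, AddCommGroup (N i)] [∀ i, Module R (N i)] {L : Type*} [AddCommGroup L] [Module R L]
  {γ : ∀ i, N i →ₗ[R] L} {Tr : ∀ i j, (N i →ₗ[R] N j) → Prop}

theorem range_le (h : PathSystem R N L γ Tr) {i j : ι} {τ : N i →ₗ[R] N j} (hτ : Tr i j τ) :
    LinearMap.range (γ i) ≤ LinearMap.range (γ j) := by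
  rintro _ ⟨x, rfl⟩
  exact ⟨τ x, h.comp_eq hτ x⟩

/-- A finitely generated submodule of the colimit lies in the image of a single stage. -/
theorem exists_le_range (h : PathSystem R N L γ Tr) (J : Submodule R L) (hJ : J.FG) :
    ∀ i₀, ∃ k τ, Tr i₀ k τ ∧ J ≤ LinearMap.range (γ k) := by
  induction J, hJ using Submodule.fg_induction with
  | singleton x =>
    intro i₀
    obtain ⟨j, y, rfl⟩ := h.surj x
    obtain ⟨k, τ, σ, hτ, hσ⟩ := h.dir i₀ j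
    refine ⟨k, τ, hτ, ?_⟩
    rw [Submodule.span_singleton_le_iff_mem]
    exact ⟨σ y, h.comp_eq hσ y⟩
  | sup M₁ M₂ _ _ h₁ h₂ =>
    intro i₀
    obtain ⟨k₁, τ₁, hτ₁, hM₁⟩ := h₁ i₀
    obtain ⟨k₂, τ₂, hτ₂, hM₂⟩ := h₂ k₁
    exact ⟨k₂, τ₂ ∘ₗ τ₁, h.trans hτ₁ hτ₂, sup_le (hM₁.trans (h.range_le hτ₂)) hM₂⟩

variable (M : Type*) [AddCommGroup M] [Module R M]

/-- Elements of `ker γ ⊗ M` die along a path. -/
theorem kill_tensor (h : PathSystem R N L γ Tr) (k : ι) (w : (LinearMap.ker (γ k)) ⊗[R] M) :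
    ∀ (k' : ι) (ρ : N k →ₗ[R] N k'), Tr k k' ρ → ∃ l σ, Tr k' l σ ∧
      ((σ ∘ₗ ρ ∘ₗ (LinearMap.ker (γ k)).subtype).rTensor M) w = 0 := by
  induction w using TensorProduct.induction_on with
  | zero =>
    intro k' ρ _
    obtain ⟨l, σ, -, hσ, -⟩ := h.dir k' k'
    exact ⟨l, σ, hσ, map_zero _⟩
  | tmul y m =>
    intro k' ρ hρ
    have : γ k' (ρ y.1) = 0 := by rw [h.comp_eq hρ]; exact y.2
    obtain ⟨l, σ, hσ, hσy⟩ := h.ker k' _ this
    refine ⟨l, σ, hσ, ?_⟩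
    rw [LinearMap.rTensor_tmul]
    simp only [LinearMap.comp_apply, Submodule.subtype_apply, hσy, zero_tmul]
  | add w₁ w₂ h₁ h₂ =>
    intro k' ρ hρ
    obtain ⟨l₁, σ₁, hσ₁, hw₁⟩ := h₁ k' ρ hρ
    obtain ⟨l₂, σ₂, hσ₂, hw₂⟩ := h₂ l₁ (σ₁ ∘ₗ ρ) (h.trans hρ hσ₁)
    refine ⟨l₂, σ₂ ∘ₗ σ₁, h.trans hσ₁ hσ₂, ?_⟩
    rw [map_add]
    have e₁ : ((σ₂ ∘ₗ σ₁) ∘ₗ ρ ∘ₗ (LinearMap.ker (γ k)).subtype).rTensor M w₁ =
        (σ₂.rTensor M) ((σ₁ ∘ₗ ρ ∘ₗ (LinearMap.ker (γ k)).subtype).rTensor M w₁) := by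
      rw [← LinearMap.rTensor_comp_apply]; rfl
    have e₂ : ((σ₂ ∘ₗ σ₁) ∘ₗ ρ ∘ₗ (LinearMap.ker (γ k)).subtype).rTensor M w₂ =
        ((σ₂ ∘ₗ (σ₁ ∘ₗ ρ) ∘ₗ (LinearMap.ker (γ k)).subtype).rTensor M w₂) := rfl
    rw [e₁, hw₁, map_zero, e₂, hw₂, add_zero]

/-- Kernels of the tensored system die along a path. -/
theorem rTensor_ker (h : PathSystem R N L γ Tr) (i : ι) (z : N i ⊗[R] M)
    (hz : (γ i).rTensor M z = 0) : ∃ j τ, Tr i j τ ∧ τ.rTensor M z = 0 := by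
  -- pass to the image of `γ i`
  have hsub : ∀ k, (LinearMap.range (γ k)).subtype ∘ₗ (γ k).rangeRestrict = γ k := fun k => rfl
  have h1 : (LinearMap.range (γ i)).subtype.rTensor M ((γ i).rangeRestrict.rTensor M z) = 0 := by
    rw [← LinearMap.rTensor_comp_apply, hsub, hz]
  obtain ⟨J, hJfg, hJle, y, hy⟩ :=
    Submodule.exists_fg_le_eq_rTensor_inclusion ((γ i).rangeRestrict.rTensor M z)
  have h2 : J.subtype.rTensor M y = J.subtype.rTensor M 0 := by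
    rw [map_zero]
    have : J.subtype = (LinearMap.range (γ i)).subtype ∘ₗ J.inclusion hJle := rfl
    rw [this, LinearMap.rTensor_comp_apply, ← hy, h1]
  obtain ⟨J', hJ'fg, hJJ', h3⟩ := Submodule.FG.exists_rTensor_fg_inclusion_eq hJfg h2
  rw [map_zero] at h3
  obtain ⟨k, τ, hτ, hJ'k⟩ := h.exists_le_range J' hJ'fg i
  -- the image of `z` at stage `k` dies in `range (γ k) ⊗ M`
  have h4 : (γ k).rangeRestrict.rTensor M (τ.rTensor M z) = 0 := by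
    have e1 : (γ k).rangeRestrict ∘ₗ τ =
        (LinearMap.range (γ i)).inclusion (h.range_le hτ) ∘ₗ (γ i).rangeRestrict := by
      ext x
      exact h.comp_eq hτ x
    have e2 : (LinearMap.range (γ i)).inclusion (h.range_le hτ) ∘ₗ J.inclusion hJle =
        J'.inclusion hJ'k ∘ₗ J.inclusion hJJ' := rfl
    rw [← LinearMap.rTensor_comp_apply, e1, LinearMap.rTensor_comp_apply, hy,
      ← LinearMap.rTensor_comp_apply, e2, LinearMap.rTensor_comp_apply, h3, map_zero]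
  -- exactness
  have hex : Function.Exact (LinearMap.ker (γ k)).subtype (γ k).rangeRestrict := by
    intro x
    constructor
    · intro hx
      have : γ k x = 0 := congrArg Subtype.val hx
      exact ⟨⟨x, this⟩, rfl⟩
    · rintro ⟨x', rfl⟩
      exact Subtype.ext x'.2
  have hex' := rTensor_exact M hex (LinearMap.surjective_rangeRestrict (γ k))
  obtain ⟨w, hw⟩ := (hex' (τ.rTensor M z)).mp h4
  obtain ⟨k', ρ, -, hρ, -⟩ := h.dir k k
  obtain ⟨l, σ, hσ, hkill⟩ := h.kill_tensor M k w k' ρ hρ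
  refine ⟨l, (σ ∘ₗ ρ) ∘ₗ τ, h.trans hτ (h.trans hρ hσ), ?_⟩
  have e4 : σ ∘ₗ ρ ∘ₗ (LinearMap.ker (γ k)).subtype =
      (σ ∘ₗ ρ) ∘ₗ (LinearMap.ker (γ k)).subtype := rfl
  rw [LinearMap.rTensor_comp_apply, ← hw, ← LinearMap.rTensor_comp_apply, ← e4, hkill]

/-- Joint surjectivity of the tensored system. -/
theorem rTensor_surj (h : PathSystem R N L γ Tr) (n : L ⊗[R] M) :
    ∀ i₀, ∃ k τ, Tr i₀ k τ ∧ ∃ x, (γ k).rTensor M x = n := by
  induction n using TensorProduct.induction_on with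
  | zero =>
    intro i₀
    obtain ⟨k, τ, -, hτ, -⟩ := h.dir i₀ i₀
    exact ⟨k, τ, hτ, 0, map_zero _⟩
  | tmul a m =>
    intro i₀
    obtain ⟨j, y, rfl⟩ := h.surj a
    obtain ⟨k, τ, σ, hτ, hσ⟩ := h.dir i₀ j
    exact ⟨k, τ, hτ, σ y ⊗ₜ m, by rw [LinearMap.rTensor_tmul, h.comp_eq hσ]⟩
  | add n₁ n₂ h₁ h₂ =>
    intro i₀
    obtain ⟨k₁, τ₁, hτ₁, x₁, hx₁⟩ := h₁ i₀
    obtain ⟨k₂, τ₂, hτ₂, x₂, hx₂⟩ := h₂ k₁
    refine ⟨k₂, τ₂ ∘ₗ τ₁, h.trans hτ₁ hτ₂, τ₂.rTensor M x₁ + x₂, ?_⟩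
    have : γ k₂ ∘ₗ τ₂ = γ k₁ := LinearMap.ext (h.comp_eq hτ₂)
    rw [map_add, hx₂, ← LinearMap.rTensor_comp_apply, this, hx₁]

/-- The tensored system is again a path system. -/
theorem rTensor (h : PathSystem R N L γ Tr) :
    PathSystem R (fun i => N i ⊗[R] M) (L ⊗[R] M) (fun i => (γ i).rTensor M)
      (fun i j τ' => ∃ τ, Tr i j τ ∧ τ' = τ.rTensor M) where
  comp_eq := by
    rintro i j _ ⟨τ, hτ, rfl⟩ x
    have : γ j ∘ₗ τ = γ i := LinearMap.ext (h.comp_eq hτ)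
    rw [← LinearMap.rTensor_comp_apply, this]
  trans := by
    rintro i j k _ _ ⟨τ, hτ, rfl⟩ ⟨σ, hσ, rfl⟩
    exact ⟨σ ∘ₗ τ, h.trans hτ hσ, (LinearMap.rTensor_comp M σ τ).symm⟩
  dir := fun i j => by
    obtain ⟨k, τ, σ, hτ, hσ⟩ := h.dir i j
    exact ⟨k, _, _, ⟨τ, hτ, rfl⟩, ⟨σ, hσ, rfl⟩⟩
  surj := fun n => by
    obtain ⟨i₀, -⟩ : ∃ i : ι, True := by
      obtain ⟨i, _, _⟩ := h.surj 0
      exact ⟨i, trivial⟩
    obtain ⟨k, τ, hτ, x, hx⟩ := h.rTensor_surj M n i₀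
    exact ⟨k, x, hx⟩
  ker := fun i x hx => by
    obtain ⟨j, τ, hτ, hz⟩ := h.rTensor_ker M i x hx
    exact ⟨j, _, ⟨τ, hτ, rfl⟩, hz⟩

/-- Kernels of the left-tensored system die along a path. -/
theorem lTensor_ker (h : PathSystem R N L γ Tr) (i : ι) (z : M ⊗[R] N i)
    (hz : (γ i).lTensor M z = 0) : ∃ j τ, Tr i j τ ∧ τ.lTensor M z = 0 := by
  have h1 : (γ i).rTensor M (TensorProduct.comm R M (N i) z) = 0 := by
    rw [LinearMap.rTensor_comm, hz, map_zero]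
  obtain ⟨j, τ, hτ, h2⟩ := h.rTensor_ker M i _ h1
  refine ⟨j, τ, hτ, ?_⟩
  rw [LinearMap.rTensor_comm] at h2
  exact (TensorProduct.comm R M (N j)).injective (h2.trans (map_zero _).symm)

/-- The left-tensored system is again a path system. -/
theorem lTensor (h : PathSystem R N L γ Tr) :
    PathSystem R (fun i => M ⊗[R] N i) (M ⊗[R] L) (fun i => (γ i).lTensor M)
      (fun i j τ' => ∃ τ, Tr i j τ ∧ τ' = τ.lTensor M) where
  comp_eq := by
    rintro i j _ ⟨τ, hτ, rfl⟩ x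
    have : γ j ∘ₗ τ = γ i := LinearMap.ext (h.comp_eq hτ)
    rw [← LinearMap.lTensor_comp_apply, this]
  trans := by
    rintro i j k _ _ ⟨τ, hτ, rfl⟩ ⟨σ, hσ, rfl⟩
    exact ⟨σ ∘ₗ τ, h.trans hτ hσ, (LinearMap.lTensor_comp M σ τ).symm⟩
  dir := fun i j => by
    obtain ⟨k, τ, σ, hτ, hσ⟩ := h.dir i j
    exact ⟨k, _, _, ⟨τ, hτ, rfl⟩, ⟨σ, hσ, rfl⟩⟩
  surj := fun n => by
    obtain ⟨i, x, hx⟩ := (h.rTensor M).surj (TensorProduct.comm R M L n)
    refine ⟨i, (TensorProduct.comm R M (N i)).symm x, ?_⟩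
    apply (TensorProduct.comm R M L).injective
    rw [← hx, ← LinearMap.rTensor_comm, LinearEquiv.apply_symm_apply]
  ker := fun i x hx => by
    obtain ⟨j, τ, hτ, hz⟩ := h.lTensor_ker M i x hx
    exact ⟨j, _, ⟨τ, hτ, rfl⟩, hz⟩

omit [AddCommGroup M] [Module R M] in
/-- Finitely many elements of a kernel die simultaneously along a path. -/
theorem kill_finset (h : PathSystem R N L γ Tr) (i : ι) (s : Finset (N i))
    (hs : ∀ y ∈ s, γ i y = 0) : ∃ j τ, Tr i j τ ∧ ∀ y ∈ s, τ y = 0 := by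
  classical
  induction s using Finset.induction_on with
  | empty =>
    obtain ⟨k, τ, -, hτ, -⟩ := h.dir i i
    exact ⟨k, τ, hτ, fun y hy => absurd hy (Finset.notMem_empty y)⟩
  | insert a s _ ih =>
    obtain ⟨j₁, τ₁, hτ₁, h₁⟩ := ih fun y hy => hs y (Finset.mem_insert_of_mem hy)
    have : γ j₁ (τ₁ a) = 0 := by rw [h.comp_eq hτ₁, hs a (Finset.mem_insert_self a s)]
    obtain ⟨j₂, τ₂, hτ₂, h₂⟩ := h.ker j₁ _ this
    refine ⟨j₂, τ₂ ∘ₗ τ₁, h.trans hτ₁ hτ₂, fun y hy => ?_⟩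
    rcases Finset.mem_insert.mp hy with rfl | hy
    · exact h₂
    · rw [LinearMap.comp_apply, h₁ y hy, map_zero]

omit [AddCommGroup M] [Module R M] in
/-- Finitely many elements of the colimit lift to a common stage reachable from `i₀`. -/
theorem lift_finset (h : PathSystem R N L γ Tr) (t : Finset L) (i₀ : ι) :
    ∃ k τ, Tr i₀ k τ ∧ ∀ q ∈ t, ∃ y, γ k y = q := by
  obtain ⟨k, τ, hτ, hle⟩ := h.exists_le_range (Submodule.span R (t : Set L))
    (Submodule.fg_span t.finite_toSet) i₀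
  exact ⟨k, τ, hτ, fun q hq => hle (Submodule.subset_span hq)⟩

end PathSystem

end Groth.Agent.Lib.Helper48
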