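import Mathlib
import Groth.Agent.Lib.Helper48.PathSystem

/-! Path systems of algebras and the limit statements (helper48). -/

namespace Groth.Agent.Lib.Helper48

open TensorProduct

/-- The algebra version of `PathSystem`: algebras `T i` with compatible maps to `L`, jointly
surjective, with a directed class of transition maps closed under composition along which every
element of a kernel dies. -/
structure AlgPathSystem {ι : Type*} (R : Type*) [CommRing R] (T : ι → Type*)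
    [∀ i, CommRing (T i)] [∀ i, Algebra R (T i)] (L : Type*) [CommRing L] [Algebra R L]
    (γ : ∀ i, T i →ₐ[R] L) (Tr : ∀ i j, (T i →ₐ[R] T j) → Prop) : Prop where
  comp_eq : ∀ {i j φ}, Tr i j φ → (γ j).comp φ = γ i
  trans : ∀ {i j k φ ψ}, Tr i j φ → Tr j k ψ → Tr i k (ψ.comp φ)
  dir : ∀ i j, ∃ k φ ψ, Tr i k φ ∧ Tr j k ψ
  surj : ∀ n : L, ∃ i x, γ i x = n
  ker : ∀ i (x : T i), γ i x = 0 → ∃ j φ, Tr i j φ ∧ φ x = 0

namespace AlgPathSystem

variable {ι : Type*} {R : Type*} [CommRing R] {T : ι → Type*}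
  [∀ i, CommRing (T i)] [∀ i, Algebra R (T i)] {L : Type*} [CommRing L] [Algebra R L]
  {γ : ∀ i, T i →ₐ[R] L} {Tr : ∀ i j, (T i →ₐ[R] T j) → Prop}

theorem toPathSystem (h : AlgPathSystem R T L γ Tr) :
    PathSystem R T L (fun i => (γ i).toLinearMap)
      (fun i j τ => ∃ φ, Tr i j φ ∧ τ = φ.toLinearMap) where
  comp_eq := by
    rintro i j _ ⟨φ, hφ, rfl⟩ x
    exact congr($(h.comp_eq hφ) x)
  trans := by
    rintro i j k _ _ ⟨φ, hφ, rfl⟩ ⟨ψ, hψ, rfl⟩
    exact ⟨ψ.comp φ, h.trans hφ hψ, rfl⟩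
  dir := fun i j => by
    obtain ⟨k, φ, ψ, hφ, hψ⟩ := h.dir i j
    exact ⟨k, _, _, ⟨φ, hφ, rfl⟩, ⟨ψ, hψ, rfl⟩⟩
  surj := h.surj
  ker := fun i x hx => by
    obtain ⟨j, φ, hφ, hj⟩ := h.ker i x hx
    exact ⟨j, _, ⟨φ, hφ, rfl⟩, hj⟩

/-- Finitely many elements of the colimit lift to a common stage reachable from `i₀`. -/
theorem lift_finset (h : AlgPathSystem R T L γ Tr) (t : Finset L) (i₀ : ι) :
    ∃ k φ, Tr i₀ k φ ∧ ∀ q ∈ t, ∃ y, γ k y = q := by
  obtain ⟨k, _, ⟨φ, hφ, rfl⟩, hk⟩ := h.toPathSystem.lift_finset t i₀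
  exact ⟨k, φ, hφ, hk⟩

/-- Finitely many elements of a kernel die simultaneously along a path. -/
theorem kill_finset (h : AlgPathSystem R T L γ Tr) (i : ι) (s : Finset (T i))
    (hs : ∀ y ∈ s, γ i y = 0) : ∃ j φ, Tr i j φ ∧ ∀ y ∈ s, φ y = 0 := by
  obtain ⟨j, _, ⟨φ, hφ, rfl⟩, hj⟩ := h.toPathSystem.kill_finset i s hs
  exact ⟨j, φ, hφ, hj⟩

variable (C : Type*) [CommRing C] [Algebra R C]

/-- The base change of an algebra map along `R → C`, as a map of `R`-algebras. -/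
noncomputable abbrev dmap {S₁ S₂ : Type*} [CommRing S₁] [CommRing S₂] [Algebra R S₁] [Algebra R S₂]
    (φ : S₁ →ₐ[R] S₂) : S₁ ⊗[R] C →ₐ[R] S₂ ⊗[R] C :=
  Algebra.TensorProduct.map φ (AlgHom.id R C)

omit [CommRing C] [Algebra R C] in
theorem dmap_eq_rTensor (C : Type*) [CommRing C] [Algebra R C] {S₁ S₂ : Type*} [CommRing S₁]
    [CommRing S₂] [Algebra R S₁] [Algebra R S₂]
    (φ : S₁ →ₐ[R] S₂) (z : S₁ ⊗[R] C) : dmap C φ z = φ.toLinearMap.rTensor C z := by
  induction z using TensorProduct.induction_on with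
  | zero => simp
  | tmul t c => simp [dmap]
  | add x y hx hy => rw [map_add, map_add, hx, hy]

/-- Finitely many elements of `T i ⊗ C` dying in `L ⊗ C` die at a finite stage. -/
theorem kill_finset_tensor (h : AlgPathSystem R T L γ Tr) (i : ι) (s : Finset (T i ⊗[R] C))
    (hs : ∀ y ∈ s, dmap C (γ i) y = 0) : ∃ j φ, Tr i j φ ∧ ∀ y ∈ s, dmap C φ y = 0 := by
  obtain ⟨j, _, ⟨_, ⟨φ, hφ, rfl⟩, rfl⟩, hj⟩ := (h.toPathSystem.rTensor C).kill_finset i s
    (fun y hy => by rw [← dmap_eq_rTensor]; exact hs y hy)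
  exact ⟨j, φ, hφ, fun y hy => by rw [dmap_eq_rTensor]; exact hj y hy⟩

/-- Surjectivity of `S → S ⊗ C` can be tested on algebra generators of `C`. -/
theorem surjective_algebraMap_of_generators {S : Type*} [CommRing S] [Algebra R S] (s : Set C)
    (hs : Algebra.adjoin R s = ⊤) (h : ∀ c ∈ s, ∃ u : S, u ⊗ₜ[R] (1 : C) = 1 ⊗ₜ c) :
    Function.Surjective (algebraMap S (S ⊗[R] C)) := by
  have htop := Algebra.TensorProduct.adjoin_one_tmul_image_eq_top (A := S) s hs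
  have hle : Algebra.adjoin S (((1 : S) ⊗ₜ[R] ·) '' s) ≤ ⊥ := by
    rw [Algebra.adjoin_le_iff]
    rintro _ ⟨c, hc, rfl⟩
    obtain ⟨u, hu⟩ := h c hc
    exact ⟨u, by change _ = (1 : S) ⊗ₜ[R] c; rw [← hu]; rfl⟩
  rw [htop] at hle
  intro z
  exact hle (Algebra.mem_top (x := z))

theorem exists_surjective (h : AlgPathSystem R T L γ Tr) [Algebra.FiniteType R C]
    (hL : Function.Surjective (algebraMap L (L ⊗[R] C))) (i₀ : ι) :
    ∃ i φ₀, Tr i₀ i φ₀ ∧ ∀ j φ, Tr i j φ →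
      Function.Surjective (algebraMap (T j) (T j ⊗[R] C)) := by
  classical
  obtain ⟨s, hs⟩ := (Algebra.FiniteType.out : (⊤ : Subalgebra R C).FG)
  choose t ht using fun c : C => hL (1 ⊗ₜ c)
  obtain ⟨k, φ₀, hφ₀, hk⟩ := h.lift_finset (s.image t) i₀
  choose! u hu using hk
  obtain ⟨i, φ₁, hφ₁, hi⟩ := h.kill_finset_tensor C k
    (s.image fun c => u (t c) ⊗ₜ[R] (1 : C) - 1 ⊗ₜ c) (by
      intro y hy
      obtain ⟨c, hc, rfl⟩ := Finset.mem_image.mp hy
      rw [map_sub, dmap, Algebra.TensorProduct.map_tmul, Algebra.TensorProduct.map_tmul,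
        hu _ (Finset.mem_image_of_mem t hc), map_one, map_one, sub_eq_zero, AlgHom.id_apply]
      exact ht c)
  refine ⟨i, φ₁.comp φ₀, h.trans hφ₀ hφ₁, fun j φ hφ => ?_⟩
  refine surjective_algebraMap_of_generators C (s : Set C) hs fun c hc => ?_
  refine ⟨φ (φ₁ (u (t c))), ?_⟩
  have := hi _ (Finset.mem_image_of_mem _ hc)
  rw [map_sub, dmap, Algebra.TensorProduct.map_tmul, Algebra.TensorProduct.map_tmul, map_one,
    sub_eq_zero] at this
  have h2 := congrArg (dmap C φ) this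
  simpa [dmap] using h2

theorem dmap_aeval {S₁ S₂ : Type*} [CommRing S₁] [CommRing S₂] [Algebra R S₁] [Algebra R S₂]
    (φ : S₁ →ₐ[R] S₂) (Q : Polynomial S₁) (c : C) :
    dmap C φ (Polynomial.aeval ((1 : S₁) ⊗ₜ[R] c) Q) =
      Polynomial.aeval ((1 : S₂) ⊗ₜ[R] c) (Q.map φ.toRingHom) := by
  have h : (algebraMap S₂ (S₂ ⊗[R] C)).comp φ.toRingHom =
      (dmap C φ).toRingHom.comp (algebraMap S₁ (S₁ ⊗[R] C)) := by
    ext x
    simp [dmap, Algebra.TensorProduct.algebraMap_apply]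
  have := Polynomial.map_aeval_eq_aeval_map h Q ((1 : S₁) ⊗ₜ[R] c)
  simpa [dmap] using this

/-- Finiteness of `S ⊗ C` over `S` can be tested on algebra generators of `C`. -/
theorem finite_of_generators_integral {S : Type*} [CommRing S] [Algebra R S] (s : Finset C)
    (hs : Algebra.adjoin R (s : Set C) = ⊤) (h : ∀ c ∈ s, IsIntegral S ((1 : S) ⊗ₜ[R] c)) :
    Module.Finite S (S ⊗[R] C) := by
  have htop := Algebra.TensorProduct.adjoin_one_tmul_image_eq_top (A := S) (s : Set C) hs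
  have hfg := _root_.fg_adjoin_of_finite (R := S) (s := ((1 : S) ⊗ₜ[R] ·) '' (s : Set C))
    (s.finite_toSet.image _) (by
      rintro _ ⟨c, hc, rfl⟩
      exact h c hc)
  rw [htop, Algebra.top_toSubmodule] at hfg
  exact ⟨hfg⟩

theorem exists_finite (h : AlgPathSystem R T L γ Tr) [Algebra.FiniteType R C]
    (hL : Module.Finite L (L ⊗[R] C)) (i₀ : ι) :
    ∃ i φ₀, Tr i₀ i φ₀ ∧ ∀ j φ, Tr i j φ → Module.Finite (T j) (T j ⊗[R] C) := by
  classical
  obtain ⟨s, hs⟩ := (Algebra.FiniteType.out : (⊤ : Subalgebra R C).FG)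
  have hint : ∀ c : C, IsIntegral L ((1 : L) ⊗ₜ[R] c) := fun c =>
    Algebra.IsIntegral.isIntegral _
  choose P hPm hP using hint
  obtain ⟨k, φ₀, hφ₀, hk⟩ := h.lift_finset (s.biUnion fun c => (P c).coeffs) i₀
  have hlift : ∀ c ∈ s, ∃ Q : Polynomial (T k), Q.map (γ k).toRingHom = P c ∧ Q.Monic := by
    intro c hc
    have : P c ∈ Polynomial.lifts (γ k).toRingHom := by
      rw [Polynomial.lifts_iff_coeff_lifts]
      intro n
      by_cases hn : (P c).coeff n = 0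
      · exact ⟨0, by rw [hn, map_zero]⟩
      · exact hk _ (Finset.mem_biUnion.mpr ⟨c, hc, Polynomial.coeff_mem_coeffs hn⟩)
    obtain ⟨Q, hQ, -, hQm⟩ := Polynomial.lifts_and_natDegree_eq_and_monic this (hPm c)
    exact ⟨Q, hQ, hQm⟩
  choose! Q hQ hQm using hlift
  obtain ⟨i, φ₁, hφ₁, hi⟩ := h.kill_finset_tensor C k
    (s.image fun c => Polynomial.aeval ((1 : T k) ⊗ₜ[R] c) (Q c)) (by
      intro y hy
      obtain ⟨c, hc, rfl⟩ := Finset.mem_image.mp hy
      rw [dmap_aeval, hQ c hc]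
      exact hP c)
  refine ⟨i, φ₁.comp φ₀, h.trans hφ₀ hφ₁, fun j φ hφ => ?_⟩
  refine finite_of_generators_integral C s hs fun c hc => ?_
  refine ⟨((Q c).map φ₁.toRingHom).map φ.toRingHom, ((hQm c hc).map _).map _, ?_⟩
  have := hi _ (Finset.mem_image_of_mem _ hc)
  rw [dmap_aeval] at this
  have h2 := congrArg (dmap C φ) this
  rw [dmap_aeval, map_zero] at h2
  exact h2

/-- A map from a finitely presented algebra to the colimit factors through a finite stage. -/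
theorem exists_algHom (h : AlgPathSystem R T L γ Tr) [Algebra.FinitePresentation R C]
    (ρ : C →ₐ[R] L) (i₀ : ι) :
    ∃ i φ₀, Tr i₀ i φ₀ ∧ ∃ ρ' : C →ₐ[R] T i, (γ i).comp ρ' = ρ := by
  classical
  obtain ⟨n, f, hf, gens, hgens⟩ := Algebra.FinitePresentation.out (R := R) (A := C)
  obtain ⟨k, φ₀, hφ₀, hk⟩ :=
    h.lift_finset (Finset.univ.image fun a => ρ (f (MvPolynomial.X a))) i₀
  choose! u hu using hk
  have hv : ∀ a, γ k (u (ρ (f (MvPolynomial.X a)))) = ρ (f (MvPolynomial.X a)) := fun a =>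
    hu _ (Finset.mem_image_of_mem _ (Finset.mem_univ a))
  have hcomp : (γ k).comp (MvPolynomial.aeval fun a => u (ρ (f (MvPolynomial.X a)))) =
      ρ.comp f := MvPolynomial.algHom_ext fun a => by simp [hv]
  obtain ⟨i, φ₁, hφ₁, hi⟩ := h.kill_finset k
    (gens.image (MvPolynomial.aeval fun a => u (ρ (f (MvPolynomial.X a))))) (by
      intro y hy
      obtain ⟨p, hp, rfl⟩ := Finset.mem_image.mp hy
      have hpk : p ∈ RingHom.ker f.toRingHom := hgens ▸ Ideal.subset_span hp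
      have : f p = 0 := hpk
      have h3 := congr($hcomp p)
      simp only [AlgHom.comp_apply, this, map_zero] at h3
      exact h3)
  have hw : RingHom.ker f.toRingHom ≤ RingHom.ker
      (φ₁.comp (MvPolynomial.aeval fun a => u (ρ (f (MvPolynomial.X a))))).toRingHom := by
    rw [← hgens, Ideal.span_le]
    intro p hp
    exact hi _ (Finset.mem_image_of_mem _ hp)
  refine ⟨i, φ₁.comp φ₀, h.trans hφ₀ hφ₁, AlgHom.liftOfSurjective f hf _ hw, ?_⟩
  apply AlgHom.ext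
  intro c
  obtain ⟨p, rfl⟩ := hf c
  rw [AlgHom.comp_apply, AlgHom.liftOfSurjective_apply, AlgHom.comp_apply,
    ← AlgHom.comp_apply (γ i) φ₁, h.comp_eq hφ₁]
  exact congr($hcomp p)

/-- `S → S ⊗ C` is bijective as soon as it is surjective and `C` maps to `S`. -/
theorem bijective_of_surjective_of_algHom {S : Type*} [CommRing S] [Algebra R S]
    (hs : Function.Surjective (algebraMap S (S ⊗[R] C))) (ρ : C →ₐ[R] S) :
    Function.Bijective (algebraMap S (S ⊗[R] C)) := by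
  refine ⟨?_, hs⟩
  have : Function.LeftInverse (Algebra.TensorProduct.lift (AlgHom.id S S) ρ fun _ _ => .all _ _)
      (algebraMap S (S ⊗[R] C)) := fun x => by
    simp [Algebra.TensorProduct.algebraMap_apply]
  exact this.injective

theorem exists_bijective (h : AlgPathSystem R T L γ Tr) [Algebra.FinitePresentation R C]
    (hL : Function.Bijective (algebraMap L (L ⊗[R] C))) (i₀ : ι) :
    ∃ i φ₀, Tr i₀ i φ₀ ∧ ∀ j φ, Tr i j φ →
      Function.Bijective (algebraMap (T j) (T j ⊗[R] C)) := by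
  haveI : Algebra.FiniteType R C := inferInstance
  obtain ⟨i₁, φ₁, hφ₁, hsurj⟩ := h.exists_surjective C hL.2 i₀
  -- the inverse gives a map `C → L`
  let e : L ≃+* L ⊗[R] C := RingEquiv.ofBijective (algebraMap L (L ⊗[R] C)) hL
  let ρ : C →ₐ[R] L :=
    { toRingHom := e.symm.toRingHom.comp (Algebra.TensorProduct.includeRight (R := R) (A := L)
        (B := C)).toRingHom
      commutes' := fun r => by
        apply e.injective
        simp [e, Algebra.TensorProduct.one_def, Algebra.algebraMap_eq_smul_one] }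
  obtain ⟨i, φ₂, hφ₂, ρ', -⟩ := h.exists_algHom C ρ i₁
  refine ⟨i, φ₂.comp φ₁, h.trans hφ₁ hφ₂, fun j φ hφ => ?_⟩
  exact bijective_of_surjective_of_algHom C (hsurj j (φ.comp φ₂) (h.trans hφ₂ hφ)) (φ.comp ρ')

open KaehlerDifferential in
/-- If the differentials of a set of algebra generators vanish, so do all differentials. -/
theorem subsingleton_kaehler_of_adjoin {S B : Type*} [CommRing S] [CommRing B] [Algebra S B]
    (t : Set B) (ht : Algebra.adjoin S t = ⊤) (h : ∀ x ∈ t, D S B x = 0) :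
    Subsingleton Ω[B⁄S] := by
  have hall : ∀ x : B, D S B x = 0 := by
    intro x
    have hx : x ∈ Algebra.adjoin S t := ht ▸ Algebra.mem_top
    induction hx using Algebra.adjoin_induction with
    | mem x hx => exact h x hx
    | algebraMap r => exact Derivation.map_algebraMap _ r
    | add x y _ _ hx hy => rw [map_add, hx, hy, add_zero]
    | mul x y _ _ hx hy => rw [Derivation.leibniz, hx, hy, smul_zero, smul_zero, add_zero]
  have : (⊤ : Submodule B Ω[B⁄S]) = ⊥ := by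
    rw [← KaehlerDifferential.span_range_derivation, Submodule.span_eq_bot]
    rintro _ ⟨x, rfl⟩
    exact hall x
  exact (Submodule.subsingleton_iff B).mp (subsingleton_of_bot_eq_top this.symm)

attribute [local instance] Algebra.TensorProduct.rightAlgebra

open KaehlerDifferential in
theorem D_one_tmul {S : Type*} [CommRing S] [Algebra R S] (c : C)
    (hc : (1 : S) ⊗ₜ[R] D R C c = 0) : D S (S ⊗[R] C) ((1 : S) ⊗ₜ[R] c) = 0 := by
  have h1 := congrArg (tensorKaehlerEquivBase R S C (S ⊗[R] C)) hc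
  rw [tensorKaehlerEquivBase_tmul, map_zero, one_smul, map_D] at h1
  exact h1

open KaehlerDifferential in
theorem exists_formallyUnramified (h : AlgPathSystem R T L γ Tr) [Algebra.FiniteType R C]
    (hL : Algebra.FormallyUnramified L (L ⊗[R] C)) (i₀ : ι) :
    ∃ i φ₀, Tr i₀ i φ₀ ∧ ∀ j φ, Tr i j φ →
      Algebra.FormallyUnramified (T j) (T j ⊗[R] C) := by
  classical
  obtain ⟨s, hs⟩ := (Algebra.FiniteType.out : (⊤ : Subalgebra R C).FG)
  have hsub : Subsingleton (L ⊗[R] Ω[C⁄R]) :=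
    (tensorKaehlerEquivBase R L C (L ⊗[R] C)).toEquiv.subsingleton
  obtain ⟨i, _, ⟨_, ⟨φ₁, hφ₁, rfl⟩, rfl⟩, hi⟩ := (h.toPathSystem.rTensor Ω[C⁄R]).kill_finset i₀
    (s.image fun c => (1 : T i₀) ⊗ₜ[R] D R C c) (fun y _ => Subsingleton.elim _ _)
  refine ⟨i, φ₁, hφ₁, fun j φ hφ => ?_⟩
  have hzero : ∀ c ∈ s, (1 : T j) ⊗ₜ[R] D R C c = 0 := by
    intro c hc
    have := hi _ (Finset.mem_image_of_mem _ hc)
    have h2 := congrArg (φ.toLinearMap.rTensor Ω[C⁄R]) this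
    simpa using h2
  have htop := Algebra.TensorProduct.adjoin_one_tmul_image_eq_top (A := T j) (s : Set C) hs
  have := subsingleton_kaehler_of_adjoin (S := T j) _ htop (by
    rintro _ ⟨c, hc, rfl⟩
    exact D_one_tmul C c (hzero c hc))
  exact ⟨this⟩

end AlgPathSystem

section Concrete

variable {ι : Type*} [Preorder ι] [IsDirected ι (· ≤ ·)]
  (A₀ : Type*) [CommRing A₀] (G : ι → Type*) [∀ i, CommRing (G i)] [∀ i, Algebra A₀ (G i)]
  (f : ∀ i j, i ≤ j → (G i →ₐ[A₀] G j)) (A : Type*) [CommRing A] [Algebra A₀ A]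
  (g : ∀ i, G i →ₐ[A₀] A)

include f in
/-- The elementary colimit data of the limit statements form a path system, with transitions
all algebra maps compatible with the maps to the colimit. -/
theorem pathSystem_of_directed (hg : ∀ i j (h : i ≤ j), (g j).comp (f i j h) = g i)
    (hsurj : ∀ a : A, ∃ i, ∃ x : G i, g i x = a)
    (hker : ∀ i (x : G i), g i x = 0 → ∃ j, ∃ h : i ≤ j, f i j h x = 0) :
    PathSystem A₀ G A (fun i => (g i).toLinearMap)
      (fun i j τ => ∃ φ : G i →ₐ[A₀] G j, (g j).comp φ = g i ∧ τ = φ.toLinearMap) where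
  comp_eq := by
    rintro i j _ ⟨φ, hφ, rfl⟩ x
    exact congr($hφ x)
  trans := by
    rintro i j k _ _ ⟨φ, hφ, rfl⟩ ⟨ψ, hψ, rfl⟩
    exact ⟨ψ.comp φ, by rw [← AlgHom.comp_assoc, hψ, hφ], rfl⟩
  dir := fun i j => by
    obtain ⟨k, hik, hjk⟩ := exists_ge_ge i j
    exact ⟨k, _, _, ⟨f i k hik, hg i k hik, rfl⟩, ⟨f j k hjk, hg j k hjk, rfl⟩⟩
  surj := fun a => by
    obtain ⟨i, x, hx⟩ := hsurj a
    exact ⟨i, x, hx⟩
  ker := fun i x hx => by
    obtain ⟨j, h, hj⟩ := hker i x hx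
    exact ⟨j, _, ⟨f i j h, hg i j h, rfl⟩, hj⟩

variable (B₀ : Type*) [CommRing B₀] [Algebra A₀ B₀]

/-- Base change of an `A₀`-algebra map to `B₀`. -/
noncomputable abbrev Tmap {G₁ G₂ : Type*} [CommRing G₁] [CommRing G₂] [Algebra A₀ G₁]
    [Algebra A₀ G₂] (φ : G₁ →ₐ[A₀] G₂) : B₀ ⊗[A₀] G₁ →ₐ[B₀] B₀ ⊗[A₀] G₂ :=
  Algebra.TensorProduct.map (AlgHom.id B₀ B₀) φ

theorem Tmap_comp {G₁ G₂ G₃ : Type*} [CommRing G₁] [CommRing G₂] [CommRing G₃] [Algebra A₀ G₁]
    [Algebra A₀ G₂] [Algebra A₀ G₃] (φ : G₁ →ₐ[A₀] G₂) (ψ : G₂ →ₐ[A₀] G₃) :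
    (Tmap A₀ B₀ ψ).comp (Tmap A₀ B₀ φ) = Tmap A₀ B₀ (ψ.comp φ) := by
  ext x
  simp [Tmap]

theorem Tmap_eq_lTensor {G₁ G₂ : Type*} [CommRing G₁] [CommRing G₂] [Algebra A₀ G₁]
    [Algebra A₀ G₂] (φ : G₁ →ₐ[A₀] G₂) (z : B₀ ⊗[A₀] G₁) :
    Tmap A₀ B₀ φ z = φ.toLinearMap.lTensor B₀ z := by
  induction z using TensorProduct.induction_on with
  | zero => simp
  | tmul t c => simp [Tmap]
  | add x y hx hy => rw [map_add, map_add, hx, hy]

include f in
/-- The base change to `B₀` of the colimit data is a path system of `B₀`-algebras. -/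
theorem algPathSystem_T (hg : ∀ i j (h : i ≤ j), (g j).comp (f i j h) = g i)
    (hsurj : ∀ a : A, ∃ i, ∃ x : G i, g i x = a)
    (hker : ∀ i (x : G i), g i x = 0 → ∃ j, ∃ h : i ≤ j, f i j h x = 0) :
    AlgPathSystem B₀ (fun i => B₀ ⊗[A₀] G i) (B₀ ⊗[A₀] A) (fun i => Tmap A₀ B₀ (g i))
      (fun i j Φ => ∃ φ : G i →ₐ[A₀] G j, (g j).comp φ = g i ∧ Φ = Tmap A₀ B₀ φ) := by
  have hL := (pathSystem_of_directed A₀ G f A g hg hsurj hker).lTensor B₀
  refine ⟨?_, ?_, ?_, ?_, ?_⟩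
  · rintro i j _ ⟨φ, hφ, rfl⟩
    rw [Tmap_comp, hφ]
  · rintro i j k _ _ ⟨φ, hφ, rfl⟩ ⟨ψ, hψ, rfl⟩
    exact ⟨ψ.comp φ, by rw [← AlgHom.comp_assoc, hψ, hφ], Tmap_comp A₀ B₀ φ ψ⟩
  · intro i j
    obtain ⟨k, hik, hjk⟩ := exists_ge_ge i j
    exact ⟨k, _, _, ⟨f i k hik, hg i k hik, rfl⟩, ⟨f j k hjk, hg j k hjk, rfl⟩⟩
  · intro n
    obtain ⟨i, x, hx⟩ := hL.surj n
    exact ⟨i, x, by rw [Tmap_eq_lTensor]; exact hx⟩
  · intro i x hx
    rw [Tmap_eq_lTensor] at hx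
    obtain ⟨j, _, ⟨_, ⟨φ, hφ, rfl⟩, rfl⟩, hj⟩ := hL.ker i x hx
    exact ⟨j, _, ⟨φ, hφ, rfl⟩, by rw [Tmap_eq_lTensor]; exact hj⟩

end Concrete

end Groth.Agent.Lib.Helper48
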