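import Mathlib
import Groth.Agent.Lib.Helper48.LimitSetup

/-! Descent of smoothness along a path system (helper48). -/

namespace Groth.Agent.Lib.Helper48

open TensorProduct

namespace AlgPathSystem

variable {ι : Type*} {R : Type*} [CommRing R] {T : ι → Type*}
  [∀ i, CommRing (T i)] [∀ i, Algebra R (T i)] {L : Type*} [CommRing L] [Algebra R L]
  {γ : ∀ i, T i →ₐ[R] L} {Tr : ∀ i j, (T i →ₐ[R] T j) → Prop}

theorem dmap_comp (Q : Type*) [CommRing Q] [Algebra R Q] {S₁ S₂ S₃ : Type*} [CommRing S₁]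
    [CommRing S₂] [CommRing S₃] [Algebra R S₁] [Algebra R S₂] [Algebra R S₃]
    (φ : S₁ →ₐ[R] S₂) (ψ : S₂ →ₐ[R] S₃) :
    (dmap Q ψ).comp (dmap Q φ) = dmap Q (ψ.comp φ) := by
  apply Algebra.TensorProduct.ext <;> ext <;> simp [dmap]

/-- The tensored system of algebras. -/
theorem rTensor (Q : Type*) [CommRing Q] [Algebra R Q] (h : AlgPathSystem R T L γ Tr) :
    AlgPathSystem R (fun i => T i ⊗[R] Q) (L ⊗[R] Q) (fun i => dmap Q (γ i))
      (fun i j Φ => ∃ φ, Tr i j φ ∧ Φ = dmap Q φ) := by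
  have hP := h.toPathSystem.rTensor Q
  refine ⟨?_, ?_, ?_, ?_, ?_⟩
  · rintro i j _ ⟨φ, hφ, rfl⟩
    rw [dmap_comp, h.comp_eq hφ]
  · rintro i j k _ _ ⟨φ, hφ, rfl⟩ ⟨ψ, hψ, rfl⟩
    exact ⟨ψ.comp φ, h.trans hφ hψ, dmap_comp Q φ ψ⟩
  · intro i j
    obtain ⟨k, φ, ψ, hφ, hψ⟩ := h.dir i j
    exact ⟨k, _, _, ⟨φ, hφ, rfl⟩, ⟨ψ, hψ, rfl⟩⟩
  · intro n
    obtain ⟨i, x, hx⟩ := hP.surj n
    exact ⟨i, x, by rw [dmap_eq_rTensor]; exact hx⟩
  · intro i x hx
    rw [dmap_eq_rTensor] at hx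
    obtain ⟨j, _, ⟨_, ⟨φ, hφ, rfl⟩, rfl⟩, hj⟩ := hP.ker i x hx
    exact ⟨j, _, ⟨φ, hφ, rfl⟩, by rw [dmap_eq_rTensor]; exact hj⟩

section Criterion

variable {S : Type*} [CommRing S] [Algebra R S] {Q C : Type*} [CommRing Q] [Algebra R Q]
  [CommRing C] [Algebra R C]

/-- If `S ⊗ C` is formally smooth over `S`, then the base change of a square-zero extension
`π : Q → C` has a section. -/
theorem exists_section_of_formallySmooth (π : Q →ₐ[R] C) (hπ : Function.Surjective π)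
    (hsq : RingHom.ker π.toRingHom ^ 2 = ⊥) [Algebra.FormallySmooth S (S ⊗[R] C)] :
    ∃ s : S ⊗[R] C →ₐ[S] S ⊗[R] Q,
      (Algebra.TensorProduct.map (AlgHom.id S S) π).comp s = AlgHom.id S _ := by
  have hsurj : Function.Surjective (Algebra.TensorProduct.map (AlgHom.id S S) π) :=
    Algebra.TensorProduct.map_surjective _ _ Function.surjective_id hπ
  have hker : RingHom.ker (Algebra.TensorProduct.map (AlgHom.id S S) π : S ⊗[R] Q →+* S ⊗[R] C) =
      (RingHom.ker π).map (Algebra.TensorProduct.includeRight : Q →ₐ[R] S ⊗[R] Q) := by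
    have := Algebra.TensorProduct.lTensor_ker (A := S) π hπ
    rw [← this]
    ext x
    simp only [RingHom.mem_ker]
    rfl
  have hnil : IsNilpotent (RingHom.ker
      (Algebra.TensorProduct.map (AlgHom.id S S) π : S ⊗[R] Q →+* S ⊗[R] C)) := by
    refine ⟨2, ?_⟩
    rw [hker, ← Ideal.map_pow]
    have : RingHom.ker π ^ 2 = ⊥ := hsq
    rw [this, Ideal.map_bot, Ideal.zero_eq_bot]
  exact ⟨Algebra.FormallySmooth.liftOfSurjective (AlgHom.id S _) _ hsurj hnil,
    Algebra.FormallySmooth.comp_liftOfSurjective _ _ hsurj hnil⟩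

end Criterion

section Criterion'

variable {R : Type*} [CommRing R]
variable {S : Type*} [CommRing S] [Algebra R S] {P C : Type*} [CommRing P] [Algebra R P]
  [CommRing C] [Algebra R C]

/-- If the base change to `S` of the first order thickening `P ⧸ I² → C` of a presentation has a
section, then `S ⊗ C` is formally smooth over `S`. -/
theorem formallySmooth_of_section [Algebra.FormallySmooth R P] (f₀ : P →ₐ[R] C)
    (s : S ⊗[R] C →ₐ[S] S ⊗[R] (P ⧸ RingHom.ker f₀.toRingHom ^ 2))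
    (hs : (Algebra.TensorProduct.map (AlgHom.id S S) f₀.kerSquareLift).comp s = AlgHom.id S _) :
    Algebra.FormallySmooth S (S ⊗[R] C) := by
  obtain ⟨f, hf⟩ : ∃ f : S ⊗[R] P →ₐ[S] S ⊗[R] C,
    f = Algebra.TensorProduct.map (AlgHom.id S S) f₀ := ⟨_, rfl⟩
  obtain ⟨K, hK⟩ : ∃ K : Ideal (S ⊗[R] P), K = RingHom.ker f.toRingHom := ⟨_, rfl⟩
  have hle : RingHom.ker f₀.toRingHom ≤
      K.comap (Algebra.TensorProduct.includeRight : P →ₐ[R] S ⊗[R] P) := by
    intro a ha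
    rw [Ideal.mem_comap, hK]
    change f (1 ⊗ₜ a) = 0
    have : f₀ a = 0 := ha
    rw [hf, Algebra.TensorProduct.map_tmul, this, tmul_zero]
  let θ₀ : P ⧸ RingHom.ker f₀.toRingHom ^ 2 →ₐ[R] (S ⊗[R] P) ⧸ K ^ 2 :=
    Ideal.Quotient.liftₐ _ (((Ideal.Quotient.mkₐ S (K ^ 2)).restrictScalars R).comp
      Algebra.TensorProduct.includeRight) (by
      intro a ha
      have h1 : a ∈ (K ^ 2).comap (Algebra.TensorProduct.includeRight : P →ₐ[R] S ⊗[R] P) :=
        (Ideal.le_comap_pow _ 2) (Ideal.pow_right_mono hle 2 ha)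
      exact Ideal.Quotient.eq_zero_iff_mem.mpr h1)
  let θ : S ⊗[R] (P ⧸ RingHom.ker f₀.toRingHom ^ 2) →ₐ[S] (S ⊗[R] P) ⧸ K ^ 2 :=
    Algebra.TensorProduct.lift (Algebra.ofId S _) θ₀ (fun _ _ => Commute.all _ _)
  subst hK
  have hcomp : f.kerSquareLift.comp θ =
      Algebra.TensorProduct.map (AlgHom.id S S) f₀.kerSquareLift := by
    apply Algebra.TensorProduct.ext
    · ext
    · apply Ideal.Quotient.algHom_ext
      ext a
      have h1 : θ (1 ⊗ₜ Ideal.Quotient.mk _ a) = Ideal.Quotient.mk _ (1 ⊗ₜ a) := by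
        simp only [θ, Algebra.TensorProduct.lift_tmul, map_one, one_mul]
        rfl
      change f.kerSquareLift (θ (1 ⊗ₜ Ideal.Quotient.mk _ a)) =
        Algebra.TensorProduct.map (AlgHom.id S S) f₀.kerSquareLift (1 ⊗ₜ Ideal.Quotient.mk _ a)
      rw [h1, Algebra.TensorProduct.map_tmul, AlgHom.kerSquareLift_mk, AlgHom.kerSquareLift_mk, hf,
        Algebra.TensorProduct.map_tmul]
  exact Algebra.FormallySmooth.of_split f (θ.comp s) (by
    rw [← AlgHom.comp_assoc, hcomp, hs])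

end Criterion'

theorem dmap_natural {Q C : Type*} [CommRing Q] [Algebra R Q] [CommRing C] [Algebra R C]
    (π : Q →ₐ[R] C) {S₁ S₂ : Type*} [CommRing S₁] [CommRing S₂] [Algebra R S₁] [Algebra R S₂]
    (φ : S₁ →ₐ[R] S₂) (z : S₁ ⊗[R] Q) :
    dmap C φ (Algebra.TensorProduct.map (AlgHom.id S₁ S₁) π z) =
      Algebra.TensorProduct.map (AlgHom.id S₂ S₂) π (dmap Q φ z) := by
  induction z using TensorProduct.induction_on with
  | zero => simp
  | tmul t c => simp [dmap]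
  | add x y hx hy => rw [map_add, map_add, map_add, map_add, hx, hy]

theorem exists_formallySmooth (C : Type*) [CommRing C] [Algebra R C]
    (h : AlgPathSystem R T L γ Tr) [Algebra.FinitePresentation R C]
    (hL : Algebra.FormallySmooth L (L ⊗[R] C)) (i₀ : ι) :
    ∃ i φ₀, Tr i₀ i φ₀ ∧ ∀ j φ, Tr i j φ → Algebra.FormallySmooth (T j) (T j ⊗[R] C) := by
  classical
  obtain ⟨n, f₀, hf₀, -⟩ := Algebra.FinitePresentation.out (R := R) (A := C)
  haveI : Algebra.FiniteType R C := inferInstance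
  obtain ⟨s, hs⟩ := (Algebra.FiniteType.out : (⊤ : Subalgebra R C).FG)
  have hπ : Function.Surjective f₀.kerSquareLift := fun c => by
    obtain ⟨p, rfl⟩ := hf₀ c
    exact ⟨Ideal.Quotient.mk _ p, rfl⟩
  have hsq : RingHom.ker f₀.kerSquareLift.toRingHom ^ 2 = ⊥ := by
    rw [AlgHom.ker_kerSquareLift, Ideal.cotangentIdeal_square]
  obtain ⟨sL, hsL⟩ := exists_section_of_formallySmooth (S := L) f₀.kerSquareLift hπ hsq
  obtain ⟨i₁, _, ⟨φ₁, hφ₁, rfl⟩, ρ₁, hρ₁⟩ := (h.rTensor _).exists_algHom C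
    ((sL.restrictScalars R).comp Algebra.TensorProduct.includeRight) i₀
  have hy : ∀ c : C, dmap C (γ i₁) (Algebra.TensorProduct.map (AlgHom.id (T i₁) (T i₁))
      f₀.kerSquareLift (ρ₁ c) - 1 ⊗ₜ c) = 0 := by
    intro c
    rw [map_sub, dmap_natural]
    have h1 : dmap _ (γ i₁) (ρ₁ c) = sL (1 ⊗ₜ c) := congr($hρ₁ c)
    rw [h1]
    have h2 := congr($hsL (1 ⊗ₜ c))
    simp only [AlgHom.comp_apply, AlgHom.id_apply] at h2
    rw [h2]
    simp [dmap]
  obtain ⟨i, φ₂, hφ₂, hi⟩ := h.kill_finset_tensor C i₁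
    (s.image fun c => Algebra.TensorProduct.map (AlgHom.id (T i₁) (T i₁))
      f₀.kerSquareLift (ρ₁ c) - 1 ⊗ₜ c) (by
      intro y hy'
      obtain ⟨c, -, rfl⟩ := Finset.mem_image.mp hy'
      exact hy c)
  refine ⟨i, φ₂.comp φ₁, h.trans hφ₁ hφ₂, fun j φ hφ => ?_⟩
  have hρj : ((Algebra.TensorProduct.map (AlgHom.id (T j) (T j))
      f₀.kerSquareLift).restrictScalars R).comp ((dmap _ (φ.comp φ₂)).comp ρ₁) =
      Algebra.TensorProduct.includeRight := by
    refine AlgHom.ext_of_adjoin_eq_top hs fun c hc => ?_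
    have h1 := hi _ (Finset.mem_image_of_mem _ hc)
    rw [map_sub, sub_eq_zero] at h1
    have h2 := congrArg (dmap C φ) h1
    rw [← AlgHom.comp_apply, ← AlgHom.comp_apply, dmap_comp] at h2
    simp only [AlgHom.comp_apply, AlgHom.restrictScalars_apply]
    rw [← dmap_natural, h2]
    simp [dmap]
  refine formallySmooth_of_section f₀
    (Algebra.TensorProduct.lift (Algebra.ofId (T j) _) ((dmap _ (φ.comp φ₂)).comp ρ₁)
      (fun _ _ => Commute.all _ _)) ?_
  apply Algebra.TensorProduct.ext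
  · ext
  · ext c
    have := congr($hρj c)
    simp only [AlgHom.comp_apply, AlgHom.restrictScalars_apply,
      Algebra.TensorProduct.includeRight_apply] at this
    simp only [AlgHom.comp_apply, AlgHom.restrictScalars_apply,
      Algebra.TensorProduct.includeRight_apply, Algebra.TensorProduct.lift_tmul, map_one, one_mul,
      AlgHom.id_apply]
    exact this

theorem exists_smooth (C : Type*) [CommRing C] [Algebra R C]
    (h : AlgPathSystem R T L γ Tr) [Algebra.FinitePresentation R C]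
    (hL : Algebra.Smooth L (L ⊗[R] C)) (i₀ : ι) :
    ∃ i φ₀, Tr i₀ i φ₀ ∧ ∀ j φ, Tr i j φ → Algebra.Smooth (T j) (T j ⊗[R] C) := by
  obtain ⟨i, φ₀, hφ₀, hi⟩ := h.exists_formallySmooth C hL.1 i₀
  exact ⟨i, φ₀, hφ₀, fun j φ hφ => ⟨hi j φ hφ, inferInstance⟩⟩

theorem exists_etale (C : Type*) [CommRing C] [Algebra R C]
    (h : AlgPathSystem R T L γ Tr) [Algebra.FinitePresentation R C]
    (hL : Algebra.Etale L (L ⊗[R] C)) (i₀ : ι) :
    ∃ i φ₀, Tr i₀ i φ₀ ∧ ∀ j φ, Tr i j φ → Algebra.Etale (T j) (T j ⊗[R] C) := by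
  haveI : Algebra.FiniteType R C := inferInstance
  have hL' := Algebra.FormallyEtale.iff_formallyUnramified_and_formallySmooth.mp hL.1
  obtain ⟨i₁, φ₁, hφ₁, hi₁⟩ := h.exists_formallySmooth C hL'.2 i₀
  obtain ⟨i₂, φ₂, hφ₂, hi₂⟩ := h.exists_formallyUnramified C hL'.1 i₁
  refine ⟨i₂, φ₂.comp φ₁, h.trans hφ₁ hφ₂, fun j φ hφ => ⟨?_, inferInstance⟩⟩
  exact Algebra.FormallyEtale.iff_formallyUnramified_and_formallySmooth.mpr
    ⟨hi₂ j φ hφ, hi₁ j (φ.comp φ₂) (h.trans hφ₂ hφ)⟩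

end AlgPathSystem

end Groth.Agent.Lib.Helper48
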