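import Mathlib

/-!
# Finiteness of integral closures under localization (helper48)

Lemmas used for the N-1 / N-2 (Japanese) / Nagata rows S9391–S9400.
-/

namespace Groth.Agent.Lib.Helper48

/-- Finiteness of the integral closure passes to a localization of the base:
if `S = M⁻¹R` and the integral closure of `R` in `L` is a finite `R`-module, then the integral
closure of `S` in `L` is a finite `S`-module. -/
theorem finite_integralClosure_of_isLocalization {R : Type*} [CommRing R] (M : Submonoid R)
    (S : Type*) [CommRing S] [Algebra R S] [IsLocalization M S]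
    (L : Type*) [CommRing L] [Algebra R L] [Algebra S L] [IsScalarTower R S L]
    (h : Module.Finite R (integralClosure R L)) : Module.Finite S (integralClosure S L) := by
  have hfg : (Subalgebra.toSubmodule (integralClosure R L)).FG := Module.Finite.iff_fg.mp h
  obtain ⟨t, ht⟩ := hfg
  have key : Subalgebra.toSubmodule (integralClosure S L) =
      Submodule.span S ((Subalgebra.toSubmodule (integralClosure R L) : Submodule R L) : Set L) := by
    apply le_antisymm
    · intro x hx
      have hx' : IsIntegral S x := hx
      obtain ⟨m, hm⟩ := IsIntegral.exists_multiple_integral_of_isLocalization M x hx'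
      have h1 : (m • x : L) ∈ Submodule.span S
          ((Subalgebra.toSubmodule (integralClosure R L) : Submodule R L) : Set L) :=
        Submodule.subset_span hm
      have h2 : x = (IsLocalization.mk' S (1 : R) m) • (m • x : L) := by
        rw [Submonoid.smul_def, ← algebraMap_smul S (m : R) x, smul_smul,
          IsLocalization.mk'_spec, map_one, one_smul]
      rw [h2]
      exact Submodule.smul_mem _ _ h1
    · rw [Submodule.span_le]
      intro x hx
      have hx' : IsIntegral R x := hx
      exact hx'.tower_top
  have hfgS : (Subalgebra.toSubmodule (integralClosure S L)).FG := by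
    rw [key, ← ht, Submodule.span_span_of_tower]
    exact ⟨t, rfl⟩
  exact Module.Finite.iff_fg.mpr hfgS

/-- Finiteness of integral closure is invariant under `R`-algebra isomorphism of the overring. -/
theorem finite_integralClosure_of_algEquiv {R : Type*} [CommRing R] {K K' : Type*} [CommRing K]
    [CommRing K'] [Algebra R K] [Algebra R K'] (e : K ≃ₐ[R] K')
    (h : Module.Finite R (integralClosure R K)) : Module.Finite R (integralClosure R K') :=
  Module.Finite.equiv (e.mapIntegralClosure).toLinearEquiv

end Groth.Agent.Lib.Helper48

namespace Groth.Agent.Lib.Helper48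

/-- If `S = M⁻¹R` is a domain (`R` a domain) then `M` consists of nonzero divisors. -/
theorem le_nonZeroDivisors_of_isLocalization_of_nontrivial {R : Type*} [CommRing R] [IsDomain R]
    (M : Submonoid R) (S : Type*) [CommRing S] [Nontrivial S] [Algebra R S] [IsLocalization M S] :
    M ≤ nonZeroDivisors R := by
  intro m hm
  rw [mem_nonZeroDivisors_iff_ne_zero]
  rintro rfl
  have h := IsLocalization.map_units S (⟨0, hm⟩ : M)
  simp at h

/-- A fraction field of a localization `S = M⁻¹R` of a domain `R` (with `S ≠ 0`) is a fraction field
of `R`. -/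
theorem isFractionRing_of_isLocalization_of_isFractionRing {R : Type*} [CommRing R] [IsDomain R]
    (M : Submonoid R) (S : Type*) [CommRing S] [IsDomain S] [Algebra R S] [IsLocalization M S]
    (K : Type*) [Field K] [Algebra R K] [Algebra S K] [IsScalarTower R S K] [IsFractionRing S K] :
    IsFractionRing R K := by
  have hM : M ≤ nonZeroDivisors R := le_nonZeroDivisors_of_isLocalization_of_nontrivial M S
  have inj1 : Function.Injective (algebraMap R S) := IsLocalization.injective S hM
  have inj2 : Function.Injective (algebraMap S K) := IsFractionRing.injective S K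
  have inj : Function.Injective (algebraMap R K) := by
    rw [IsScalarTower.algebraMap_eq R S K]
    exact inj2.comp inj1
  haveI : FaithfulSMul R K := (faithfulSMul_iff_algebraMap_injective R K).mpr inj
  have hmk : ∀ (r : R) (m : M), algebraMap S K (IsLocalization.mk' S r m) =
      algebraMap R K r / algebraMap R K m := by
    intro r m
    have hm0 : algebraMap R K m ≠ 0 := by
      intro h0
      have := inj (h0.trans (map_zero _).symm)
      exact (mem_nonZeroDivisors_iff_ne_zero.mp (hM m.2)) this
    rw [eq_div_iff hm0, IsScalarTower.algebraMap_apply R S K (m : R), ← map_mul,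
      IsLocalization.mk'_spec, ← IsScalarTower.algebraMap_apply]
  refine IsFractionRing.of_field R K (fun z => ?_)
  obtain ⟨a, b, hb, rfl⟩ := IsFractionRing.div_surjective (A := S) z
  obtain ⟨r₁, m₁, rfl⟩ := IsLocalization.exists_mk'_eq M a
  obtain ⟨r₂, m₂, rfl⟩ := IsLocalization.exists_mk'_eq M b
  refine ⟨r₁ * m₂, r₂ * m₁, ?_⟩
  rw [hmk, hmk, map_mul, map_mul]
  have hm1 : algebraMap R K m₁ ≠ 0 := fun h0 =>
    (mem_nonZeroDivisors_iff_ne_zero.mp (hM m₁.2)) (inj (h0.trans (map_zero _).symm))
  have hm2 : algebraMap R K m₂ ≠ 0 := fun h0 =>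
    (mem_nonZeroDivisors_iff_ne_zero.mp (hM m₂.2)) (inj (h0.trans (map_zero _).symm))
  by_cases hr2 : algebraMap R K r₂ = 0
  · simp [hr2]
  · field_simp

end Groth.Agent.Lib.Helper48

namespace Groth.Agent.Lib.Helper48

/-- Finiteness of the integral closure can be checked on a finite cover by principal opens:
if `f i` generate the unit ideal of `R` and the integral closure of each `R[1/f i]` in `L` is a finite
module, then the integral closure of `R` in `L` is a finite `R`-module. -/
theorem finite_integralClosure_of_span_eq_top {R : Type*} [CommRing R] {ι : Type*} [Finite ι]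
    (f : ι → R) (hf : Ideal.span (Set.range f) = ⊤) (Rf : ι → Type*) [∀ i, CommRing (Rf i)]
    [∀ i, Algebra R (Rf i)] [∀ i, IsLocalization.Away (f i) (Rf i)] (L : Type*) [CommRing L]
    [Algebra R L] [∀ i, Algebra (Rf i) L] [∀ i, IsScalarTower R (Rf i) L]
    (H : ∀ i, Module.Finite (Rf i) (integralClosure (Rf i) L)) :
    Module.Finite R (integralClosure R L) := by
  classical
  -- finite generating sets of the integral closures of the localizations
  have hfg : ∀ i, (Subalgebra.toSubmodule (integralClosure (Rf i) L)).FG := fun i =>
    Module.Finite.iff_fg.mp (H i)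
  choose t ht using hfg
  -- clear denominators
  have hmul : ∀ i, ∀ c : L, c ∈ t i → ∃ n : ℕ, IsIntegral R ((f i) ^ n • c) := by
    intro i c hc
    have hc' : IsIntegral (Rf i) c := by
      have : c ∈ Subalgebra.toSubmodule (integralClosure (Rf i) L) := by
        rw [← ht i]; exact Submodule.subset_span hc
      exact this
    obtain ⟨⟨_, n, rfl⟩, hm⟩ :=
      IsIntegral.exists_multiple_integral_of_isLocalization (Submonoid.powers (f i)) c hc'
    exact ⟨n, hm⟩
  choose! n hn using hmul
  let T : ι → Set L := fun i => (fun c => (f i) ^ (n i c) • c) '' (t i : Set L)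
  let P : Submodule R L := Submodule.span R (⋃ i, T i)
  have hPfg : P.FG := Submodule.fg_span (Set.finite_iUnion fun i => (t i).finite_toSet.image _)
  have hTP : ∀ i, T i ⊆ P := fun i => (Set.subset_iUnion T i).trans Submodule.subset_span
  have hP_le : P ≤ Subalgebra.toSubmodule (integralClosure R L) := by
    rw [Submodule.span_le]
    intro y hy
    obtain ⟨i, hy⟩ := Set.mem_iUnion.mp hy
    obtain ⟨c, hc, rfl⟩ := hy
    exact hn i c hc
  -- every element of the localized span has a multiple in `P`
  have hspan : ∀ i, ∀ y ∈ Submodule.span (Rf i) (t i : Set L), ∃ k : ℕ, (f i) ^ k • y ∈ P := by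
    intro i y hy
    induction hy using Submodule.span_induction with
    | mem c hc => exact ⟨n i c, hTP i ⟨c, hc, rfl⟩⟩
    | zero => exact ⟨0, by simp⟩
    | add y z _ _ hy hz =>
      obtain ⟨k₁, h₁⟩ := hy
      obtain ⟨k₂, h₂⟩ := hz
      refine ⟨k₁ + k₂, ?_⟩
      rw [smul_add]
      refine P.add_mem ?_ ?_
      · rw [pow_add, mul_comm, mul_smul]; exact P.smul_mem _ h₁
      · rw [pow_add, mul_smul]; exact P.smul_mem _ h₂
    | smul a y _ hy =>
      obtain ⟨k, hk⟩ := hy
      obtain ⟨r, s, rfl⟩ := IsLocalization.exists_mk'_eq (Submonoid.powers (f i)) a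
      obtain ⟨m, hm⟩ := s.2
      refine ⟨k + m, ?_⟩
      have e1 : algebraMap R (Rf i) ((f i) ^ (k + m)) * IsLocalization.mk' (Rf i) r s =
          algebraMap R (Rf i) (r * (f i) ^ k) := by
        have hs : (s : R) = (f i) ^ m := hm.symm
        rw [pow_add, map_mul, mul_assoc, ← hs, IsLocalization.mk'_spec', ← map_mul, mul_comm]
      have : (f i) ^ (k + m) • (IsLocalization.mk' (Rf i) r s • y) = r • ((f i) ^ k • y) := by
        rw [← algebraMap_smul (Rf i) ((f i) ^ (k + m)), smul_smul, e1, algebraMap_smul, mul_smul]
      rw [this]
      exact P.smul_mem _ hk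
  have hle : Subalgebra.toSubmodule (integralClosure R L) ≤ P := by
    intro x hx
    have hx' : IsIntegral R x := hx
    let J : Ideal R := P.comap (LinearMap.toSpanSingleton R L x)
    have hJ : J = ⊤ := by
      by_contra hne
      obtain ⟨m, hm, hJm⟩ := Ideal.exists_le_maximal J hne
      have : Ideal.span (Set.range f) ≤ m := by
        rw [Ideal.span_le]
        rintro _ ⟨i, rfl⟩
        have hxi : x ∈ Submodule.span (Rf i) (t i : Set L) := by
          rw [ht i]
          exact (hx'.tower_top : IsIntegral (Rf i) x)
        obtain ⟨k, hk⟩ := hspan i x hxi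
        have hmem : (f i) ^ k ∈ J := by
          show LinearMap.toSpanSingleton R L x ((f i) ^ k) ∈ P
          simpa using hk
        exact hm.isPrime.mem_of_pow_mem k (hJm hmem)
      rw [hf] at this
      exact hm.ne_top (top_le_iff.mp this)
    have h1 : (1 : R) ∈ J := by rw [hJ]; trivial
    have : LinearMap.toSpanSingleton R L x 1 ∈ P := h1
    simpa using this
  have heq : Subalgebra.toSubmodule (integralClosure R L) = P := le_antisymm hle hP_le
  exact Module.Finite.iff_fg.mpr (heq ▸ hPfg)

end Groth.Agent.Lib.Helper48
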