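import Mathlib
import Groth.Agent.S9392
import Groth.Agent.S9394
import Groth.Agent.S9399
import Groth.Agent.S9400

/-!
# Nagata / universally Japanese / N-2 are affine-local (helper48)

Ring-level transport lemmas (`isN2_of_ringEquiv`, `isNagata_of_isLocalization`,
`isNagata_of_ringEquiv`, `isUniversallyJapanese_of_finiteType`,
`isUniversallyJapanese_of_ringEquiv`) and the scheme-level affine communication statements.
-/

universe u

namespace Groth.Agent.Lib.Helper48

open AlgebraicGeometry CategoryTheory

/-- A ring isomorphism exhibits the target as a localization at the trivial submonoid. -/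
theorem isLocalization_bot_of_ringEquiv {R S : Type*} [CommRing R] [CommRing S] (e : R ≃+* S) :
    letI := e.toRingHom.toAlgebra
    IsLocalization (⊥ : Submonoid R) S := by
  letI := e.toRingHom.toAlgebra
  haveI : IsLocalization (⊥ : Submonoid R) R := IsLocalization.self (by
    rintro x hx
    rw [Submonoid.mem_bot] at hx
    subst hx
    exact isUnit_one)
  exact IsLocalization.isLocalization_of_algEquiv ⊥
    ({ e with commutes' := fun _ => rfl } : R ≃ₐ[R] S)

/-- N-2 transports along ring isomorphisms. -/
theorem isN2_of_ringEquiv {R S : Type u} [CommRing R] [IsDomain R] [CommRing S] [IsDomain S]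
    (e : R ≃+* S) (h : CAlg.IsN2 R) : CAlg.IsN2 S := by
  letI := e.toRingHom.toAlgebra
  haveI : IsLocalization (⊥ : Submonoid R) S := isLocalization_bot_of_ringEquiv e
  exact Groth.Agent.S9392.result R ⊥ S h

/-- Nagata rings are stable under localization (any model of the localization). -/
theorem isNagata_of_isLocalization {A : Type u} [CommRing A] (M : Submonoid A) (S : Type u)
    [CommRing S] [Algebra A S] [IsLocalization M S] (hA : CAlg.IsNagata A) : CAlg.IsNagata S := by
  obtain ⟨hN, hp⟩ := hA
  refine ⟨IsLocalization.isNoetherianRing M _ hN, ?_⟩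
  intro q hq
  have hq' : (q.comap (algebraMap A S)).map (algebraMap A S) = q :=
    IsLocalization.map_under M _ q
  obtain ⟨p, hp'⟩ : ∃ p, p = q.comap (algebraMap A S) := ⟨_, rfl⟩
  haveI : p.IsPrime := hp' ▸ Ideal.IsPrime.comap _
  rw [← hp'] at hq'
  subst hq'
  exact Groth.Agent.S9392.result (A ⧸ p) (Algebra.algebraMapSubmonoid (A ⧸ p) M)
    (S ⧸ p.map (algebraMap A S)) (hp p)

/-- Nagata transports along ring isomorphisms. -/
theorem isNagata_of_ringEquiv {R S : Type u} [CommRing R] [CommRing S]
    (e : R ≃+* S) (h : CAlg.IsNagata R) : CAlg.IsNagata S := by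
  letI := e.toRingHom.toAlgebra
  haveI : IsLocalization (⊥ : Submonoid R) S := isLocalization_bot_of_ringEquiv e
  exact isNagata_of_isLocalization ⊥ S h

/-- A finite type algebra over a universally Japanese ring is universally Japanese. -/
theorem isUniversallyJapanese_of_finiteType {R S : Type u} [CommRing R] [CommRing S] [Algebra R S]
    [Algebra.FiniteType R S] (h : CAlg.IsUniversallyJapanese R) : CAlg.IsUniversallyJapanese S := by
  intro T _ _ _ hT
  letI : Algebra R T := ((algebraMap S T).comp (algebraMap R S)).toAlgebra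
  haveI : IsScalarTower R S T := IsScalarTower.of_algebraMap_eq' rfl
  exact h T (Algebra.FiniteType.trans (R := R) (S := S) (A := T) inferInstance hT)

/-- Universally Japanese transports along ring isomorphisms. -/
theorem isUniversallyJapanese_of_ringEquiv {R S : Type u} [CommRing R] [CommRing S]
    (e : R ≃+* S) (h : CAlg.IsUniversallyJapanese R) : CAlg.IsUniversallyJapanese S := by
  letI := e.toRingHom.toAlgebra
  haveI : Algebra.FiniteType R S :=
    Algebra.FiniteType.of_surjective (Algebra.ofId R S) e.surjective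
  exact isUniversallyJapanese_of_finiteType (R := R) h

theorem isNagata_affineOpen_of_cover (X : Scheme.{u}) {ι : Type*} (U : ι → X.Opens)
    (hU : iSup U = ⊤) (haff : ∀ i, IsAffineOpen (U i)) (hN : ∀ i, CAlg.IsNagata Γ(X, U i))
    (V : X.Opens) (hV : IsAffineOpen V) : CAlg.IsNagata Γ(X, V) := by
  refine of_affine_open_cover (P := fun W => CAlg.IsNagata Γ(X, W.1))
    (fun i => (⟨U i, haff i⟩ : X.affineOpens)) ?_ ⟨V, hV⟩ ?_ ?_ hN
  · simpa using hU
  · intro W f hW
    haveI := W.2.isLocalization_basicOpen f
    show CAlg.IsNagata Γ(X, X.basicOpen f)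
    exact isNagata_of_isLocalization (Submonoid.powers f) Γ(X, X.basicOpen f) hW
  · intro W s hs h
    refine Groth.Agent.S9400.result Γ(X, W.1) (ι := s) (fun f => f.1) (by simpa using hs)
      (fun f => ?_)
    haveI := W.2.isLocalization_basicOpen f.1
    exact isNagata_of_ringEquiv (IsLocalization.algEquiv (Submonoid.powers f.1)
      Γ(X, X.basicOpen f.1) (Localization.Away f.1)).toRingEquiv (h f)

theorem isUniversallyJapanese_affineOpen_of_cover (X : Scheme.{u}) {ι : Type*} (U : ι → X.Opens)
    (hU : iSup U = ⊤) (haff : ∀ i, IsAffineOpen (U i))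
    (hN : ∀ i, CAlg.IsUniversallyJapanese Γ(X, U i))
    (V : X.Opens) (hV : IsAffineOpen V) : CAlg.IsUniversallyJapanese Γ(X, V) := by
  refine of_affine_open_cover (P := fun W => CAlg.IsUniversallyJapanese Γ(X, W.1))
    (fun i => (⟨U i, haff i⟩ : X.affineOpens)) ?_ ⟨V, hV⟩ ?_ ?_ hN
  · simpa using hU
  · intro W f hW
    haveI := W.2.isLocalization_basicOpen f
    haveI : Algebra.FiniteType Γ(X, W.1) Γ(X, X.basicOpen f) :=
      IsLocalization.finiteType_of_monoid_fg (Submonoid.powers f) _
    show CAlg.IsUniversallyJapanese Γ(X, X.basicOpen f)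
    exact isUniversallyJapanese_of_finiteType (R := Γ(X, W.1)) hW
  · intro W s hs h
    refine Groth.Agent.S9399.result Γ(X, W.1) (ι := s) (fun f => f.1) (by simpa using hs)
      (fun f => ?_)
    haveI := W.2.isLocalization_basicOpen f.1
    exact isUniversallyJapanese_of_ringEquiv (IsLocalization.algEquiv (Submonoid.powers f.1)
      Γ(X, X.basicOpen f.1) (Localization.Away f.1)).toRingEquiv (h f)

theorem isN2_affineOpen_of_cover (X : Scheme.{u}) [IsIntegral X] {ι : Type*} (U : ι → X.Opens)
    [∀ i, Nonempty (U i)]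
    (hU : iSup U = ⊤) (haff : ∀ i, IsAffineOpen (U i)) (hN : ∀ i, CAlg.IsN2 Γ(X, U i))
    (V : X.Opens) [Nonempty V] (hV : IsAffineOpen V) : CAlg.IsN2 Γ(X, V) := by
  classical
  have key : ∀ [Nonempty (⟨V, hV⟩ : X.affineOpens).1], CAlg.IsN2 Γ(X, (⟨V, hV⟩ : X.affineOpens).1) := by
    refine of_affine_open_cover (P := fun W => ∀ [Nonempty W.1], CAlg.IsN2 Γ(X, W.1))
      (fun i => (⟨U i, haff i⟩ : X.affineOpens)) ?_ ⟨V, hV⟩ ?_ ?_ (fun i _ => hN i)
    · simpa using hU
    · intro W f hW hne
      haveI : Nonempty (X.basicOpen f) := hne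
      haveI : Nonempty W.1 := by
        obtain ⟨x⟩ := hne
        exact ⟨⟨x.1, X.basicOpen_le f x.2⟩⟩
      haveI := W.2.isLocalization_basicOpen f
      show CAlg.IsN2 Γ(X, X.basicOpen f)
      exact Groth.Agent.S9392.result Γ(X, W.1) (Submonoid.powers f) Γ(X, X.basicOpen f) hW
    · intro W s hs h hne
      have hne' : ∀ g : {f : s // f.1 ≠ 0}, Nonempty (X.basicOpen g.1.1) := by
        intro g
        by_contra hcon
        apply g.2
        rw [← basicOpen_eq_bot_iff]
        ext x
        simp only [TopologicalSpace.Opens.coe_bot, Set.mem_empty_iff_false, iff_false]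
        intro hx
        exact hcon ⟨⟨x, hx⟩⟩
      haveI := hne'
      haveI : ∀ g : {f : s // f.1 ≠ 0}, IsLocalization.Away (g.1.1) Γ(X, X.basicOpen g.1.1) :=
        fun g => W.2.isLocalization_basicOpen g.1.1
      refine Groth.Agent.S9394.result Γ(X, W.1) (ι := {f : s // f.1 ≠ 0}) (fun g => g.1.1) ?_
        (fun g => Γ(X, X.basicOpen g.1.1)) (fun g => ?_)
      · rw [eq_top_iff, ← hs, Ideal.span_le]
        intro f hf
        by_cases h0 : f = 0
        · rw [h0]; exact Ideal.zero_mem _
        · exact Ideal.subset_span ⟨⟨⟨f, hf⟩, h0⟩, rfl⟩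
      · exact @h g.1 (hne' g)
  exact key

end Groth.Agent.Lib.Helper48
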