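import Mathlib

/-! Helper lemmas for universal first order thickenings (helper48). -/

namespace Groth.Agent.Lib.Helper48

open TensorProduct

/-- If `P → S` is surjective with kernel `J` and `1 ⊗ x = 0` in `S ⊗[P] N` then `x ∈ J • ⊤`. -/
theorem mem_ker_smul_top_of_one_tmul_eq_zero {P S N : Type*} [CommRing P] [CommRing S]
    [Algebra P S] [AddCommGroup N] [Module P N]
    (h : Function.Surjective (algebraMap P S)) (x : N) (hx : (1 : S) ⊗ₜ[P] x = 0) :
    x ∈ (RingHom.ker (algebraMap P S) • ⊤ : Submodule P N) := by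
  set J : Ideal P := RingHom.ker (algebraMap P S) with hJ
  let e₁ : (P ⧸ J) ≃ₗ[P] S :=
    (Ideal.quotientKerAlgEquivOfSurjective (f := Algebra.ofId P S) h).toLinearEquiv
  have he₁ : e₁ 1 = 1 := map_one (Ideal.quotientKerAlgEquivOfSurjective (f := Algebra.ofId P S) h)
  let e : S ⊗[P] N ≃ₗ[P] N ⧸ (J • ⊤ : Submodule P N) :=
    (TensorProduct.congr e₁.symm (LinearEquiv.refl P N)) ≪≫ₗ
      TensorProduct.quotTensorEquivQuotSMul N J
  have h1 : e ((1 : S) ⊗ₜ[P] x) = Submodule.Quotient.mk x := by
    have : e₁.symm 1 = 1 := by rw [LinearEquiv.symm_apply_eq, he₁]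
    simp only [e, LinearEquiv.trans_apply, TensorProduct.congr_tmul, this,
      LinearEquiv.refl_apply]
    exact TensorProduct.quotTensorEquivQuotSMul_mk_one_tmul J x
  rw [hx, map_zero] at h1
  exact (Submodule.Quotient.mk_eq_zero _).mp h1.symm

/-- For a formally unramified `R`-algebra `S` presented as a quotient of `P`, every differential
of `P` is congruent modulo `J Ω` to `d g` for some `g ∈ J = ker (P → S)`. -/
theorem exists_mem_ker_D_sub_mem_smul_top (R P S : Type*) [CommRing R] [CommRing P] [CommRing S]
    [Algebra R P] [Algebra P S] [Algebra R S] [IsScalarTower R P S]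
    [Algebra.FormallyUnramified R S]
    (h : Function.Surjective (algebraMap P S)) (ω : Ω[P⁄R]) :
    ∃ g ∈ RingHom.ker (algebraMap P S),
      KaehlerDifferential.D R P g - ω ∈
        (RingHom.ker (algebraMap P S) • ⊤ : Submodule P (Ω[P⁄R])) := by
  have hmem : (1 : S) ⊗ₜ[P] ω ∈ LinearMap.range (KaehlerDifferential.kerCotangentToTensor R P S) := by
    rw [KaehlerDifferential.range_kerCotangentToTensor R P S h]
    simp only [Submodule.restrictScalars_mem, LinearMap.mem_ker]
    exact Subsingleton.elim _ _
  obtain ⟨c, hc⟩ := hmem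
  obtain ⟨g, rfl⟩ := Ideal.toCotangent_surjective _ c
  refine ⟨g.1, g.2, ?_⟩
  apply mem_ker_smul_top_of_one_tmul_eq_zero h
  rw [TensorProduct.tmul_sub, ← hc, KaehlerDifferential.kerCotangentToTensor_toCotangent, sub_self]

/-- A derivation into a module killed by `J` takes equal values on elements whose universal
differentials agree modulo `J Ω`. -/
theorem derivation_eq_of_D_sub_mem_smul_top {R P M : Type*} [CommRing R] [CommRing P]
    [Algebra R P] [AddCommGroup M] [Module P M] [Module R M] [IsScalarTower R P M]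
    (J : Ideal P) (hJM : ∀ j ∈ J, ∀ m : M, j • m = 0) (D : Derivation R P M) (x y : P)
    (hxy : KaehlerDifferential.D R P x - KaehlerDifferential.D R P y ∈
      (J • ⊤ : Submodule P (Ω[P⁄R]))) : D x = D y := by
  have h1 : D.liftKaehlerDifferential (KaehlerDifferential.D R P x - KaehlerDifferential.D R P y)
      = 0 := by
    refine Submodule.smul_induction_on hxy (fun j hj n _ => ?_) (fun a b ha hb => ?_)
    · rw [map_smul, hJM j hj]
    · rw [map_add, ha, hb, add_zero]
  rw [map_sub, Derivation.liftKaehlerDifferential_comp_D, Derivation.liftKaehlerDifferential_comp_D,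
    sub_eq_zero] at h1
  exact h1

end Groth.Agent.Lib.Helper48
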