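import Mathlib
import Groth.Agent.Lib.Helper48.Thickening

/-! Unramified algebras descend to finitely generated `ℤ`-algebras, up to a quotient (helper48). -/

namespace Groth.Agent.Lib.Helper48

/-- A quotient `S₀` of `R₀[x₁..xₙ]` is formally unramified as soon as the kernel contains
polynomials `f₁..fₙ` with `∂fₖ/∂xₗ ≡ δₖₗ` modulo the kernel. -/
theorem formallyUnramified_of_pderiv {R₀ S₀ : Type*} [CommRing R₀] [CommRing S₀] [Algebra R₀ S₀]
    {n : ℕ} (π : MvPolynomial (Fin n) R₀ →ₐ[R₀] S₀) (hπ : Function.Surjective π)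
    (f : Fin n → MvPolynomial (Fin n) R₀)
    (hf : ∀ k, π (f k) = 0)
    (he : ∀ k l, π (MvPolynomial.pderiv l (f k)) = if k = l then 1 else 0) :
    Algebra.FormallyUnramified R₀ S₀ := by
  constructor
  letI : Algebra (MvPolynomial (Fin n) R₀) S₀ := π.toRingHom.toAlgebra
  haveI : IsScalarTower R₀ (MvPolynomial (Fin n) R₀) S₀ :=
    IsScalarTower.of_algebraMap_eq fun r => (π.commutes r).symm
  have hπ' : ∀ p, algebraMap (MvPolynomial (Fin n) R₀) S₀ p = π p := fun p => rfl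
  have hD : ∀ p : MvPolynomial (Fin n) R₀,
      KaehlerDifferential.D R₀ S₀ (π p) =
        ∑ l, π (MvPolynomial.pderiv l p) •
          KaehlerDifferential.D R₀ S₀ (π (MvPolynomial.X l)) := by
    intro p
    have h1 := (KaehlerDifferential.mvPolynomialBasis R₀ (Fin n)).sum_repr
      (KaehlerDifferential.D R₀ (MvPolynomial (Fin n) R₀) p)
    have h2 := congrArg (KaehlerDifferential.map R₀ R₀ (MvPolynomial (Fin n) R₀) S₀) h1
    simp only [map_sum, map_smul, KaehlerDifferential.mvPolynomialBasis_repr_apply,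
      KaehlerDifferential.mvPolynomialBasis_apply, KaehlerDifferential.map_D, hπ'] at h2
    rw [← h2]
    refine Finset.sum_congr rfl fun l _ => ?_
    rw [← hπ' (MvPolynomial.pderiv l p), algebraMap_smul]
  have hX : ∀ k, KaehlerDifferential.D R₀ S₀ (π (MvPolynomial.X k)) = 0 := by
    intro k
    have h1 := hD (f k)
    rw [hf k, map_zero] at h1
    simp only [he] at h1
    rw [Finset.sum_eq_single k] at h1
    · rw [if_pos rfl, one_smul] at h1
      exact h1.symm
    · intro l _ hlk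
      rw [if_neg (Ne.symm hlk), zero_smul]
    · intro hk
      exact absurd (Finset.mem_univ k) hk
  have hall : ∀ x : S₀, KaehlerDifferential.D R₀ S₀ x = 0 := by
    intro x
    obtain ⟨p, rfl⟩ := hπ x
    rw [hD]
    simp only [hX, smul_zero, Finset.sum_const_zero]
  have hbot : (⊤ : Submodule S₀ (Ω[S₀⁄R₀])) = ⊥ := by
    rw [← KaehlerDifferential.span_range_derivation, Submodule.span_eq_bot]
    rintro _ ⟨x, rfl⟩
    exact hall x
  exact ⟨fun x y => by
    have hx : x ∈ (⊤ : Submodule S₀ (Ω[S₀⁄R₀])) := Submodule.mem_top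
    have hy : y ∈ (⊤ : Submodule S₀ (Ω[S₀⁄R₀])) := Submodule.mem_top
    rw [hbot, Submodule.mem_bot] at hx hy
    rw [hx, hy]⟩

/-- For a formally unramified quotient `S` of `R[x₁..xₙ]` there are `f₁..fₙ` in the kernel with
`∂fₖ/∂xₗ ≡ δₖₗ` modulo the kernel. -/
theorem exists_pderiv_of_formallyUnramified {R S : Type*} [CommRing R] [CommRing S] [Algebra R S]
    [Algebra.FormallyUnramified R S] {n : ℕ} (φ : MvPolynomial (Fin n) R →ₐ[R] S)
    (hφ : Function.Surjective φ) :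
    ∃ f : Fin n → MvPolynomial (Fin n) R, (∀ k, φ (f k) = 0) ∧
      ∀ k l, φ (MvPolynomial.pderiv l (f k)) = if k = l then 1 else 0 := by
  classical
  letI : Algebra (MvPolynomial (Fin n) R) S := φ.toRingHom.toAlgebra
  haveI : IsScalarTower R (MvPolynomial (Fin n) R) S :=
    IsScalarTower.of_algebraMap_eq fun r => (φ.commutes r).symm
  have hφ' : ∀ p, algebraMap (MvPolynomial (Fin n) R) S p = φ p := fun p => rfl
  have key := fun k : Fin n => exists_mem_ker_D_sub_mem_smul_top R (MvPolynomial (Fin n) R) S hφ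
    (KaehlerDifferential.D R (MvPolynomial (Fin n) R) (MvPolynomial.X k))
  choose f hf hf' using key
  refine ⟨f, fun k => hf k, fun k l => ?_⟩
  -- apply the linear form `∂/∂x_l`
  have h1 : ∀ ω ∈ (RingHom.ker (algebraMap (MvPolynomial (Fin n) R) S) • ⊤ :
      Submodule (MvPolynomial (Fin n) R) (Ω[MvPolynomial (Fin n) R⁄R])),
      φ ((MvPolynomial.pderiv l).liftKaehlerDifferential ω) = 0 := by
    intro ω hω
    refine Submodule.smul_induction_on hω (fun j hj ω' _ => ?_) (fun a b ha hb => ?_)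
    · rw [map_smul, smul_eq_mul, map_mul]
      have : φ j = 0 := hj
      rw [this, zero_mul]
    · rw [map_add, map_add, ha, hb, add_zero]
  have h2 := h1 _ (hf' k)
  rw [map_sub, Derivation.liftKaehlerDifferential_comp_D, Derivation.liftKaehlerDifferential_comp_D,
    map_sub, sub_eq_zero, MvPolynomial.pderiv_X] at h2
  rw [h2, Pi.single_apply]
  by_cases hkl : k = l
  · subst hkl; simp
  · simp [hkl]

open TensorProduct

universe u

/-- Finitely many polynomials over `R` are defined over a finitely generated `ℤ`-algebra. -/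
theorem exists_finiteType_int_coeff_ring (R : Type u) [CommRing R] {n m : ℕ}
    (f : Fin m → MvPolynomial (Fin n) R) :
    ∃ (R₀ : Type u) (_ : CommRing R₀) (_ : Algebra.FiniteType ℤ R₀) (_ : Algebra R₀ R)
      (f₀ : Fin m → MvPolynomial (Fin n) R₀),
      ∀ k, MvPolynomial.map (algebraMap R₀ R) (f₀ k) = f k := by
  classical
  obtain ⟨s, hsdef⟩ : ∃ s : Set R, s = ⋃ k, ((f k).coeffs : Set R) := ⟨_, rfl⟩
  have hs : s.Finite := by
    rw [hsdef]; exact Set.finite_iUnion fun k => (f k).coeffs.finite_toSet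
  have hft : Algebra.FiniteType ℤ (Algebra.adjoin ℤ s) := Algebra.FiniteType.adjoin_of_finite hs
  have hf₀ : ∀ k, ∃ p : MvPolynomial (Fin n) (Algebra.adjoin ℤ s),
      MvPolynomial.map (algebraMap (Algebra.adjoin ℤ s) R) p = f k := by
    intro k
    refine MvPolynomial.mem_range_map_iff_coeffs_subset.mpr fun c hc => ?_
    refine ⟨⟨c, ?_⟩, rfl⟩
    refine Algebra.subset_adjoin ?_
    rw [hsdef]
    exact Set.mem_iUnion.mpr ⟨k, hc⟩
  choose f₀ hf₀ using hf₀
  exact ⟨Algebra.adjoin ℤ s, inferInstance, hft, inferInstance, f₀, hf₀⟩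

/-- Surjectivity of a base-change comparison map from generators. -/
theorem lift_surjective_of_adjoin_eq_top (R₀ R S S₀ : Type*) [CommRing R₀] [CommRing R]
    [CommRing S] [CommRing S₀] [Algebra R₀ R] [Algebra R S] [Algebra R₀ S] [IsScalarTower R₀ R S]
    [Algebra R₀ S₀] (ψ₀ : S₀ →ₐ[R₀] S) (hgen : Algebra.adjoin R (Set.range ψ₀) = ⊤) :
    Function.Surjective (Algebra.TensorProduct.lift (Algebra.ofId R S) ψ₀
      (fun _ _ => Commute.all _ _) : R ⊗[R₀] S₀ →ₐ[R] S) := by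
  rw [← AlgHom.range_eq_top, eq_top_iff, ← hgen, Algebra.adjoin_le_iff]
  rintro _ ⟨x, rfl⟩
  rw [SetLike.mem_coe, AlgHom.mem_range]
  exact ⟨(1 : R) ⊗ₜ[R₀] x, by rw [Algebra.TensorProduct.lift_tmul, map_one, one_mul]⟩

/-- An unramified algebra is a quotient of the base change of an unramified algebra over a
finitely generated `ℤ`-algebra. -/
theorem exists_unramified_model (R : Type u) [CommRing R] (S : Type u)
    [CommRing S] [Algebra R S] [Algebra.Unramified R S] :
    ∃ (R₀ : Type u) (_ : CommRing R₀) (_ : Algebra.FiniteType ℤ R₀) (S₀ : Type u) (_ : CommRing S₀)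
      (_ : Algebra R₀ S₀) (_ : Algebra.Unramified R₀ S₀) (_ : Algebra R₀ R)
      (ψ : R ⊗[R₀] S₀ →ₐ[R] S), Function.Surjective ψ := by
  classical
  obtain ⟨n, φ, hφ⟩ := Algebra.FiniteType.iff_quotient_mvPolynomial''.mp
    (inferInstance : Algebra.FiniteType R S)
  obtain ⟨f, hf, he⟩ := exists_pderiv_of_formallyUnramified φ hφ
  obtain ⟨R₀, _, hft, _, f₀, hf₀⟩ := exists_finiteType_int_coeff_ring R f
  letI : Algebra R₀ S := Algebra.compHom S (algebraMap R₀ R)
  haveI : IsScalarTower R₀ R S := IsScalarTower.of_algebraMap_eq fun _ => rfl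
  -- the ideal of relations
  obtain ⟨J₀, hJ₀⟩ : ∃ J₀ : Ideal (MvPolynomial (Fin n) R₀), J₀ = Ideal.span (Set.range f₀ ∪
      Set.range (fun kl : Fin n × Fin n =>
        MvPolynomial.pderiv kl.2 (f₀ kl.1) - (if kl.1 = kl.2 then 1 else 0))) := ⟨_, rfl⟩
  have hfJ : ∀ k, f₀ k ∈ J₀ := fun k => by
    rw [hJ₀]; exact Ideal.subset_span (Or.inl ⟨k, rfl⟩)
  have heJ : ∀ k l, MvPolynomial.pderiv l (f₀ k) - (if k = l then 1 else 0) ∈ J₀ := fun k l => by
    rw [hJ₀]; exact Ideal.subset_span (Or.inr ⟨(k, l), rfl⟩)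
  -- the map from the polynomial ring over `R₀` to `S`
  obtain ⟨φ₀, hφ₀def⟩ : ∃ φ₀ : MvPolynomial (Fin n) R₀ →ₐ[R₀] S,
      φ₀ = MvPolynomial.aeval (fun l => φ (MvPolynomial.X l)) := ⟨_, rfl⟩
  have hφ₀ : ∀ p₀ : MvPolynomial (Fin n) R₀, φ₀ p₀ = φ (MvPolynomial.map (algebraMap R₀ R) p₀) := by
    intro p₀
    conv_rhs => rw [MvPolynomial.aeval_unique φ]
    rw [MvPolynomial.aeval_map_algebraMap, hφ₀def]
    rfl
  have hkill : ∀ a ∈ J₀, φ₀ a = 0 := by
    intro a ha
    have hle : J₀ ≤ RingHom.ker φ₀.toRingHom := by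
      rw [hJ₀, Ideal.span_le]
      rintro _ (⟨k, rfl⟩ | ⟨⟨k, l⟩, rfl⟩)
      · change φ₀ (f₀ k) = 0
        rw [hφ₀, hf₀, hf]
      · change φ₀ _ = 0
        rw [hφ₀]
        simp only [map_sub, ← MvPolynomial.pderiv_map, hf₀, he]
        split_ifs <;> simp
    exact hle ha
  -- abstract the quotient
  obtain ⟨S₀, _, _, π, hπ, hπJ, ψ₀, hψ₀⟩ : ∃ (S₀ : Type u) (_ : CommRing S₀) (_ : Algebra R₀ S₀)
      (π : MvPolynomial (Fin n) R₀ →ₐ[R₀] S₀), Function.Surjective π ∧ (∀ a ∈ J₀, π a = 0) ∧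
      ∃ ψ₀ : S₀ →ₐ[R₀] S, ∀ p, ψ₀ (π p) = φ₀ p :=
    ⟨MvPolynomial (Fin n) R₀ ⧸ J₀, inferInstance, inferInstance, Ideal.Quotient.mkₐ R₀ J₀,
      Ideal.Quotient.mkₐ_surjective R₀ J₀,
      fun a ha => Ideal.Quotient.eq_zero_iff_mem.mpr ha,
      Ideal.Quotient.liftₐ J₀ φ₀ hkill, fun p => rfl⟩
  have hunr : Algebra.FormallyUnramified R₀ S₀ := by
    refine formallyUnramified_of_pderiv π hπ f₀ (fun k => hπJ _ (hfJ k)) (fun k l => ?_)
    have := hπJ _ (heJ k l)
    rw [map_sub, sub_eq_zero] at this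
    rw [this]
    split_ifs <;> simp
  have hft' : Algebra.FiniteType R₀ S₀ := Algebra.FiniteType.of_surjective π hπ
  refine ⟨R₀, _, hft, S₀, _, _, { formallyUnramified := hunr, finiteType := hft' }, _,
    Algebra.TensorProduct.lift (Algebra.ofId R S) ψ₀ (fun _ _ => Commute.all _ _),
    lift_surjective_of_adjoin_eq_top R₀ R S S₀ ψ₀ ?_⟩
  rw [eq_top_iff]
  have h1 : (⊤ : Subalgebra R S) = φ.range := ((AlgHom.range_eq_top φ).mpr hφ).symm
  rw [h1, MvPolynomial.aeval_unique φ, ← Algebra.adjoin_range_eq_range_aeval, Algebra.adjoin_le_iff]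
  rintro _ ⟨l, rfl⟩
  refine Algebra.subset_adjoin ⟨π (MvPolynomial.X l), ?_⟩
  rw [hψ₀, hφ₀def, MvPolynomial.aeval_X]
  rfl

end Groth.Agent.Lib.Helper48
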