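import Mathlib

/-!
# N-2 from purely inseparable extensions (helper48)

* `exists_purelyInseparable_separable`: a finite normal extension `M/K` has an intermediate field `P`
  with `P/K` purely inseparable and `M/P` separable (the fixed field of `Gal(M/K)`).
* `finite_integralClosure_of_isSeparable_tower`: finiteness of the integral closure passes up a
  finite separable extension (Noetherian base).
* `finite_integralClosure_of_algHom_injective`: finiteness of integral closure passes to subrings.
* `finite_integralClosure_of_forall_purelyInseparable`: Stacks 0AE0-style criterion.
-/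

universe u

namespace Groth.Agent.Lib.Helper48

theorem exists_purelyInseparable_separable (K M : Type*) [Field K] [Field M] [Algebra K M]
    [FiniteDimensional K M] [Normal K M] :
    ∃ P : IntermediateField K M, IsPurelyInseparable K P ∧ Algebra.IsSeparable P M := by
  classical
  refine ⟨IntermediateField.fixedField (⊤ : Subgroup Gal(M/K)), ?_, ?_⟩
  · rw [isPurelyInseparable_iff_natSepDegree_eq_one]
    intro x
    have h1 : minpoly K x = minpoly K (x : M) :=
      (minpoly.algebraMap_eq (algebraMap (IntermediateField.fixedField (⊤ : Subgroup Gal(M/K))) M).injective x).symm
    rw [h1, Polynomial.natSepDegree_eq_of_splits _ (Normal.splits inferInstance (x : M))]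
    have hx : IsAlgebraic K (x : M) := Algebra.IsAlgebraic.isAlgebraic _
    have h2 : ((minpoly K (x : M)).aroots M).toFinset = {(x : M)} := by
      ext y
      simp only [Multiset.mem_toFinset, Finset.mem_singleton, Polynomial.mem_aroots]
      constructor
      · rintro ⟨-, hy⟩
        obtain ⟨σ, hσ⟩ := minpoly.exists_algEquiv_of_root' hx hy
        rw [← hσ]
        exact (IntermediateField.mem_fixedField_iff _ _).1 x.2 σ (Subgroup.mem_top σ)
      · rintro rfl
        exact ⟨minpoly.ne_zero hx.isIntegral, minpoly.aeval K _⟩
    rw [h2, Finset.card_singleton]
  · haveI : IsGalois (IntermediateField.fixedField (⊤ : Subgroup Gal(M/K))) M :=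
      IsGalois.of_fixed_field M (⊤ : Subgroup Gal(M/K))
    infer_instance

theorem finite_integralClosure_of_isSeparable_tower (A K P M : Type*) [CommRing A] [IsDomain A]
    [IsNoetherianRing A] [Field K] [Algebra A K] [IsFractionRing A K]
    [Field P] [Algebra A P] [Algebra K P] [IsScalarTower A K P] [FiniteDimensional K P]
    [Field M] [Algebra A M] [Algebra P M] [IsScalarTower A P M] [FiniteDimensional P M]
    [Algebra.IsSeparable P M]
    (h : Module.Finite A (integralClosure A P)) : Module.Finite A (integralClosure A M) := by
  have hfr : IsFractionRing (integralClosure A P) P :=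
    integralClosure.isFractionRing_of_finite_extension K P
  have hic : IsIntegrallyClosed (integralClosure A P) :=
    integralClosure.isIntegrallyClosedOfFiniteExtension K
  have hnoe : IsNoetherianRing (integralClosure A P) :=
    Algebra.FiniteType.isNoetherianRing A _
  have hfin : Module.Finite (integralClosure A P) (integralClosure (integralClosure A P) M) :=
    IsIntegralClosure.finite (integralClosure A P) P M _
  have hfinA : Module.Finite A (integralClosure (integralClosure A P) M) :=
    Module.Finite.trans (integralClosure A P) _
  have hN : IsNoetherian A (integralClosure (integralClosure A P) M) :=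
    isNoetherian_of_isNoetherianRing_of_finite A _
  let f : integralClosure A M →ₗ[A] integralClosure (integralClosure A P) M :=
    { toFun := fun x => ⟨x.1, IsIntegral.tower_top x.2⟩
      map_add' := fun x y => rfl
      map_smul' := fun a x => rfl }
  exact Module.Finite.of_injective f (fun x y hxy => Subtype.ext (congrArg (fun z : integralClosure (integralClosure A P) M => (z : M)) hxy))

theorem finite_integralClosure_of_algHom_injective (A L M : Type*) [CommRing A]
    [IsNoetherianRing A] [CommRing L] [CommRing M] [Algebra A L] [Algebra A M] (φ : L →ₐ[A] M)
    (hφ : Function.Injective φ) (h : Module.Finite A (integralClosure A M)) :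
    Module.Finite A (integralClosure A L) := by
  have hN : IsNoetherian A (integralClosure A M) :=
    isNoetherian_of_isNoetherianRing_of_finite A _
  let f : integralClosure A L →ₗ[A] integralClosure A M :=
    { toFun := fun x => ⟨φ x.1, x.2.map φ⟩
      map_add' := fun x y => Subtype.ext (map_add φ _ _)
      map_smul' := fun a x => Subtype.ext (map_smul φ _ _) }
  refine Module.Finite.of_injective f (fun x y hxy => Subtype.ext (hφ ?_))
  exact congrArg (fun z : integralClosure A M => (z : M)) hxy

theorem finite_integralClosure_of_forall_purelyInseparable (A K : Type u) [CommRing A] [IsDomain A]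
    [IsNoetherianRing A] [Field K] [Algebra A K] [IsFractionRing A K]
    (h : ∀ (K' : Type u) [Field K'] [Algebra A K'] [Algebra K K'] [IsScalarTower A K K'],
      FiniteDimensional K K' → IsPurelyInseparable K K' → Module.Finite A (integralClosure A K'))
    (L : Type u) [Field L] [Algebra A L] [Algebra K L] [IsScalarTower A K L]
    [FiniteDimensional K L] : Module.Finite A (integralClosure A L) := by
  obtain ⟨M, hM⟩ : ∃ M : IntermediateField K (AlgebraicClosure L),
    M = IntermediateField.normalClosure K L (AlgebraicClosure L) := ⟨_, rfl⟩
  haveI : Normal K M := by rw [hM]; infer_instance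
  haveI : FiniteDimensional K M := by rw [hM]; infer_instance
  obtain ⟨P, hP1, hP2⟩ := exists_purelyInseparable_separable K M
  have h1 : Module.Finite A (integralClosure A P) := h P inferInstance hP1
  haveI : IsScalarTower A P M := IsScalarTower.of_algebraMap_eq (fun a => rfl)
  have h2 : Module.Finite A (integralClosure A M) :=
    finite_integralClosure_of_isSeparable_tower A K P M h1
  have hle : ∀ x : L, algebraMap L (AlgebraicClosure L) x ∈ M := by
    intro x
    rw [hM]
    exact (IsScalarTower.toAlgHom K L (AlgebraicClosure L)).fieldRange_le_normalClosure ⟨x, rfl⟩
  let φ : L →ₐ[K] M := (IsScalarTower.toAlgHom K L (AlgebraicClosure L)).codRestrict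
    M.toSubalgebra hle
  exact finite_integralClosure_of_algHom_injective A L M (φ.restrictScalars A)
    (φ.toRingHom.injective) h2

end Groth.Agent.Lib.Helper48
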