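import Mathlib
import Groth.Prelude
import Groth.Agent.Lib.Helper48.PureInsepN2
import Groth.Agent.Lib.Helper48.NagataLocal

/-!
# Tate's lemma (helper48)

`finite_integralClosure_tate_core` / `isN2_of_complete_principal` (Stacks 032P): a Noetherian normal
domain `R`, complete with respect to a principal prime ideal `xR` with `R/xR` N-2, is N-2.
-/

set_option autoImplicit false
set_option linter.style.haveILetI false
set_option linter.unusedSectionVars false

universe u

namespace Groth.Agent.Lib.Helper48

open Submodule in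
/-- A finite module over an `I`-adically precomplete ring is `I`-adically precomplete
(copied from helper3's `CompleteFinite`). -/
theorem isPrecomplete_of_finite' {R : Type*} [CommRing R] (I : Ideal R) [IsPrecomplete I R]
    (M : Type*) [AddCommGroup M] [Module R M] [Module.Finite R M] : IsPrecomplete I M := by
  rw [← AdicCompletion.of_surjective_iff]
  intro y
  obtain ⟨t, rfl⟩ := AdicCompletion.ofTensorProduct_surjective_of_finite I M y
  induction t using TensorProduct.induction_on with
  | zero => exact ⟨0, by simp⟩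
  | tmul r x =>
    obtain ⟨r, rfl⟩ := AdicCompletion.of_surjective I R r
    refine ⟨r • x, ?_⟩
    rw [AdicCompletion.ofTensorProduct_tmul, map_smul]
    have h1 : AdicCompletion.of I R r = r • (1 : AdicCompletion I R) := by
      rw [← Algebra.algebraMap_eq_smul_one, AdicCompletion.algebraMap_apply,
        Algebra.algebraMap_self, RingHom.id_apply]
    rw [h1, smul_assoc, one_smul]
  | add a b ha hb =>
    obtain ⟨a', ha'⟩ := ha
    obtain ⟨b', hb'⟩ := hb
    exact ⟨a' + b', by rw [map_add, ha', hb', map_add]⟩

/-- Complete Nakayama: over an `I`-adically precomplete ring, an `I`-adically separated module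
which is generated modulo `I` by a finitely generated submodule is finite. -/
theorem finite_of_isPrecomplete_of_isHausdorff {R : Type*} [CommRing R] (I : Ideal R)
    [IsPrecomplete I R] {M : Type*} [AddCommGroup M] [Module R M] [IsHausdorff I M]
    (T : Submodule R M) (hT : T.FG)
    (h : ∀ m : M, ∃ t ∈ T, m - t ∈ I • (⊤ : Submodule R M)) : Module.Finite R M := by
  obtain ⟨n, s, hs⟩ := Submodule.fg_iff_exists_fin_generating_family.mp hT
  haveI : IsPrecomplete I (Fin n → R) := isPrecomplete_of_finite' I (Fin n → R)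
  let f : (Fin n → R) →ₗ[R] M := Fintype.linearCombination R s
  have hf : Function.Surjective f := by
    apply surjective_of_mkQ_comp_surjective (I := I)
    intro z
    obtain ⟨m, rfl⟩ := Submodule.mkQ_surjective _ z
    obtain ⟨t, ht, hmt⟩ := h m
    have ht' : t ∈ LinearMap.range f := by
      rw [Fintype.range_linearCombination, hs]; exact ht
    obtain ⟨c, rfl⟩ := ht'
    refine ⟨c, ?_⟩
    rw [LinearMap.comp_apply, eq_comm]
    exact (Submodule.Quotient.eq _).mpr hmt
  exact Module.Finite.of_surjective f hf


/-- If `A` is a Noetherian N-2 domain and `B` is a domain integral over `A` (injectively) of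
finite rank as an `A`-module, then `B` is a finite `A`-module. -/
theorem finite_of_isN2_of_rank_lt_aleph0 {A B : Type u} [CommRing A] [IsDomain A]
    [IsNoetherianRing A] (hA : CAlg.IsN2 A) [CommRing B] [IsDomain B] [Algebra A B]
    [Algebra.IsIntegral A B] [FaithfulSMul A B] (h : Module.rank A B < Cardinal.aleph0) :
    Module.Finite A B := by
  letI : Algebra (FractionRing A) (FractionRing B) := FractionRing.liftAlgebra A (FractionRing B)
  haveI : IsScalarTower A (FractionRing A) (FractionRing B) :=
    FractionRing.isScalarTower_liftAlgebra A (FractionRing B)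
  have hrk : Module.rank (FractionRing A) (FractionRing B) = Module.rank A B :=
    Algebra.IsAlgebraic.rank_fractionRing A B
  haveI : FiniteDimensional (FractionRing A) (FractionRing B) := by
    rw [FiniteDimensional, ← Module.rank_lt_aleph0_iff, hrk]
    exact h
  haveI hfin : Module.Finite A (integralClosure A (FractionRing B)) :=
    hA (FractionRing B) inferInstance
  haveI : IsNoetherian A (integralClosure A (FractionRing B)) :=
    isNoetherian_of_isNoetherianRing_of_finite A _
  let f : B →ₗ[A] integralClosure A (FractionRing B) :=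
    { toFun := fun b => ⟨algebraMap B (FractionRing B) b,
        (Algebra.IsIntegral.isIntegral (R := A) b).map (IsScalarTower.toAlgHom A B (FractionRing B))⟩
      map_add' := fun _ _ => Subtype.ext (map_add _ _ _)
      map_smul' := fun a b => Subtype.ext (by
        rw [RingHom.id_apply]
        change algebraMap B (FractionRing B) (a • b) = a • algebraMap B (FractionRing B) b
        rw [Algebra.smul_def, Algebra.smul_def, map_mul, ← IsScalarTower.algebraMap_apply]) }
  refine Module.Finite.of_injective f (fun b b' hbb' => ?_)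
  have := congrArg (fun z : integralClosure A (FractionRing B) => (z : FractionRing B)) hbb'
  exact IsFractionRing.injective B (FractionRing B) this


/-- If `S = T + y S` with `T` a finitely generated `R`-submodule, then for every `n` there is a
finitely generated `R`-submodule `T'` with `S = T' + y ^ n S`. -/
theorem exists_fg_add_pow_mul {R S : Type*} [CommRing R] [CommRing S] [Algebra R S] (y : S)
    (T : Submodule R S) (hT : T.FG) (h : ∀ s : S, ∃ t ∈ T, ∃ s', s = t + y * s') (n : ℕ) :
    ∃ T' : Submodule R S, T'.FG ∧ ∀ s : S, ∃ t ∈ T', ∃ s', s = t + y ^ n * s' := by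
  induction n with
  | zero =>
    exact ⟨⊥, Submodule.fg_bot, fun s => ⟨0, Submodule.zero_mem _, s, by simp⟩⟩
  | succ n ih =>
    obtain ⟨Tn, hTn, hn⟩ := ih
    refine ⟨T ⊔ Tn.map (LinearMap.mulLeft R y), hT.sup (hTn.map _), fun s => ?_⟩
    obtain ⟨t, ht, s', rfl⟩ := h s
    obtain ⟨t', ht', s'', rfl⟩ := hn s'
    refine ⟨t + y * t', Submodule.add_mem_sup ht (Submodule.mem_map_of_mem (f := LinearMap.mulLeft R y) ht'), s'', ?_⟩
    ring

/-- Lifting generators: if `S ⧸ 𝔮` is a finite `R`-module then there is a finitely generated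
`R`-submodule `T` of `S` with `S = T + 𝔮`. -/
theorem exists_fg_forall_sub_mem_ideal {R S : Type*} [CommRing R] [CommRing S] [Algebra R S]
    (𝔮 : Ideal S) [Module.Finite R (S ⧸ 𝔮)] :
    ∃ T : Submodule R S, T.FG ∧ ∀ s : S, ∃ t ∈ T, s - t ∈ 𝔮 := by
  classical
  obtain ⟨G, hG⟩ := (Module.Finite.fg_top : (⊤ : Submodule R (S ⧸ 𝔮)).FG)
  have hlift : ∀ g : S ⧸ 𝔮, ∃ s : S, Ideal.Quotient.mk 𝔮 s = g := Ideal.Quotient.mk_surjective
  choose lift hlift using hlift
  let f : S →ₗ[R] S ⧸ 𝔮 := (Ideal.Quotient.mkₐ R 𝔮).toLinearMap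
  refine ⟨Submodule.span R (lift '' (G : Set (S ⧸ 𝔮))), Submodule.fg_span (G.finite_toSet.image _),
    fun s => ?_⟩
  have hmap : (Submodule.span R (lift '' (G : Set (S ⧸ 𝔮)))).map f = ⊤ := by
    rw [Submodule.map_span, ← hG]
    congr 1
    ext g
    constructor
    · rintro ⟨_, ⟨g', hg', rfl⟩, rfl⟩
      change Ideal.Quotient.mk 𝔮 (lift g') ∈ _
      rw [hlift]; exact hg'
    · intro hg
      exact ⟨lift g, ⟨g, hg, rfl⟩, hlift g⟩
  have hs : f s ∈ (Submodule.span R (lift '' (G : Set (S ⧸ 𝔮)))).map f := by
    rw [hmap]; exact Submodule.mem_top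
  obtain ⟨t, ht, hts⟩ := hs
  refine ⟨t, ht, ?_⟩
  have : Ideal.Quotient.mk 𝔮 t = Ideal.Quotient.mk 𝔮 s := hts
  rw [← Ideal.Quotient.eq, this]


/-- Lifting linear independence modulo `x`: if `R` is `x`-adically separated, `x` is regular on `S`,
and `𝔮` is an ideal of `S` lying over `xR`, then a family of `S` whose image in `S ⧸ 𝔮` is linearly
independent over `R ⧸ xR` is linearly independent over `R`. -/
theorem linearIndependent_of_quotient_span_singleton {R S : Type*} [CommRing R] [CommRing S]
    [Algebra R S] (x : R) [IsHausdorff (Ideal.span ({x} : Set R)) R]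
    (hreg : ∀ s : S, x • s = 0 → s = 0)
    (𝔮 : Ideal S) [𝔮.LiesOver (Ideal.span ({x} : Set R))] {m : ℕ} (b : Fin m → S)
    (hb : LinearIndependent (R ⧸ Ideal.span ({x} : Set R))
      (fun i => Ideal.Quotient.mk 𝔮 (b i))) :
    LinearIndependent R b := by
  classical
  rw [Fintype.linearIndependent_iff] at hb ⊢
  have key : ∀ (n : ℕ) (g : Fin m → R), ∑ i, g i • b i = 0 →
      ∀ i, g i ∈ (Ideal.span ({x} : Set R)) ^ n := by
    intro n
    induction n with
    | zero => intro g _ i; simp
    | succ n ih =>
      intro g hg i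
      have h1 : ∑ i, (Ideal.Quotient.mk (Ideal.span ({x} : Set R)) (g i)) •
          (Ideal.Quotient.mk 𝔮 (b i)) = 0 := by
        have := congrArg (Ideal.Quotient.mk 𝔮) hg
        rw [map_sum, map_zero] at this
        rw [← this]
        refine Finset.sum_congr rfl (fun i _ => ?_)
        rw [Algebra.smul_def, Algebra.smul_def, Ideal.Quotient.algebraMap_mk_of_liesOver, map_mul]
      have h2 := hb _ h1
      have h3 : ∀ j, ∃ c : R, g j = x * c := by
        intro j
        have := h2 j
        rw [Ideal.Quotient.eq_zero_iff_mem, Ideal.mem_span_singleton'] at this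
        obtain ⟨c, hc⟩ := this
        exact ⟨c, by rw [← hc, mul_comm]⟩
      choose c hc using h3
      have h4 : ∑ i, c i • b i = 0 := by
        apply hreg
        rw [Finset.smul_sum, ← hg]
        refine Finset.sum_congr rfl (fun i _ => ?_)
        rw [hc i, mul_smul]
      have h5 := ih c h4 i
      rw [hc i, pow_succ']
      exact Ideal.mul_mem_mul (Ideal.mem_span_singleton_self x) h5
  intro g hg i
  apply IsHausdorff.haus' (I := Ideal.span ({x} : Set R)) (g i)
  intro n
  rw [SModEq.zero, smul_eq_mul, Ideal.mul_top]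
  exact key n g hg i


/-- Core of Tate's lemma, in a field `L` all of whose `R`-integral elements have `q`-th power in
`R`, containing a `q`-th root `y` of `x`, and of finite rank over `R`. -/
theorem finite_integralClosure_tate_core {R : Type u} [CommRing R] [IsDomain R]
    [IsNoetherianRing R] (x : R) (hx0 : x ≠ 0) [hxp : (Ideal.span ({x} : Set R)).IsPrime]
    (h2 : CAlg.IsN2 (R ⧸ Ideal.span ({x} : Set R)))
    [IsAdicComplete (Ideal.span ({x} : Set R)) R]
    (L : Type u) [Field L] [Algebra R L] (hinj : Function.Injective (algebraMap R L))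
    (q : ℕ) (hq : 0 < q)
    (hN : ∀ z : L, IsIntegral R z → ∃ r : R, algebraMap R L r = z ^ q)
    (y : L) (hy : y ^ q = algebraMap R L x)
    (n : ℕ) (hrank : ∀ (m : ℕ) (s : Fin m → L), LinearIndependent R s → m ≤ n) :
    Module.Finite R (integralClosure R L) := by
  classical
  have hx0' : algebraMap R L x ≠ 0 := fun h => hx0 (hinj (by rw [h, map_zero]))
  have hy0 : y ≠ 0 := by
    rintro rfl
    rw [zero_pow hq.ne'] at hy
    exact hx0' hy.symm
  have hyint : IsIntegral R y := IsIntegral.of_pow hq (hy ▸ isIntegral_algebraMap)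
  obtain ⟨yS, hyS⟩ : ∃ yS : integralClosure R L, (yS : L) = y := ⟨⟨y, hyint⟩, rfl⟩
  obtain ⟨𝔮, h𝔮⟩ : ∃ 𝔮 : Ideal (integralClosure R L), 𝔮 = Ideal.span {yS} := ⟨_, rfl⟩
  -- membership in `𝔮` is detected by the norm `s ↦ s ^ q`
  have B1 : ∀ (s : integralClosure R L) (r : R), algebraMap R L r = (s : L) ^ q →
      (s ∈ 𝔮 ↔ r ∈ Ideal.span ({x} : Set R)) := by
    intro s r hr
    rw [h𝔮, Ideal.mem_span_singleton', Ideal.mem_span_singleton']
    constructor
    · rintro ⟨t, rfl⟩
      obtain ⟨r', hr'⟩ := hN t.1 t.2
      refine ⟨r', hinj ?_⟩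
      rw [hr, map_mul, hr']
      change (t : L) ^ q * algebraMap R L x = ((t : L) * (yS : L)) ^ q
      rw [mul_pow, hyS, hy]
    · rintro ⟨r', rfl⟩
      have ht : ((s : L) / y) ^ q = algebraMap R L r' := by
        rw [div_pow, ← hr, hy, map_mul, mul_div_assoc, div_self hx0', mul_one]
      have htint : IsIntegral R ((s : L) / y) :=
        IsIntegral.of_pow hq (ht ▸ isIntegral_algebraMap)
      refine ⟨⟨(s : L) / y, htint⟩, Subtype.ext ?_⟩
      change (s : L) / y * (yS : L) = s
      rw [hyS]; exact div_mul_cancel₀ _ hy0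
  haveI h𝔮prime : 𝔮.IsPrime := by
    rw [Ideal.isPrime_iff]
    constructor
    · intro htop
      have h1 : (1 : integralClosure R L) ∈ 𝔮 := htop ▸ Submodule.mem_top
      have := (B1 1 1 (by simp)).mp h1
      exact hxp.ne_top ((Ideal.eq_top_iff_one _).mpr this)
    · intro a b hab
      obtain ⟨ra, hra⟩ := hN a.1 a.2
      obtain ⟨rb, hrb⟩ := hN b.1 b.2
      have hab' : algebraMap R L (ra * rb) = ((a * b : integralClosure R L) : L) ^ q := by
        rw [map_mul, hra, hrb, ← mul_pow]; rfl
      rcases hxp.mem_or_mem ((B1 _ _ hab').mp hab) with h | h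
      · exact Or.inl ((B1 a ra hra).mpr h)
      · exact Or.inr ((B1 b rb hrb).mpr h)
  haveI h𝔮over : 𝔮.LiesOver (Ideal.span ({x} : Set R)) := by
    refine ⟨?_⟩
    ext r
    rw [Ideal.under_def, Ideal.mem_comap]
    have hr : algebraMap R L (r ^ q) =
        ((algebraMap R (integralClosure R L) r : integralClosure R L) : L) ^ q := by
      rw [map_pow]; rfl
    rw [B1 _ _ hr]
    exact ⟨fun h => Ideal.pow_mem_of_mem _ h q hq, fun h => hxp.mem_of_pow_mem q h⟩
  -- rank bound
  have hreg : ∀ s : integralClosure R L, x • s = 0 → s = 0 := by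
    intro s hs
    have h1 := congrArg (fun z : integralClosure R L => (z : L)) hs
    have h2 : algebraMap R L x * (s : L) = 0 := by
      rw [← Algebra.smul_def]; exact h1
    rcases mul_eq_zero.mp h2 with h | h
    · exact absurd h hx0'
    · exact Subtype.ext h
  have hrk : Module.rank (R ⧸ Ideal.span ({x} : Set R)) (integralClosure R L ⧸ 𝔮) ≤ n := by
    apply rank_le
    intro s hs
    have hb : LinearIndependent (R ⧸ Ideal.span ({x} : Set R))
        (fun i : Fin s.card => ((s.equivFin.symm i : s) : integralClosure R L ⧸ 𝔮)) :=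
      hs.comp _ s.equivFin.symm.injective
    have hlift : ∀ g : integralClosure R L ⧸ 𝔮, ∃ c : integralClosure R L,
        Ideal.Quotient.mk 𝔮 c = g := Ideal.Quotient.mk_surjective
    choose lift hlift using hlift
    have hb' : LinearIndependent (R ⧸ Ideal.span ({x} : Set R))
        (fun i : Fin s.card => Ideal.Quotient.mk 𝔮 (lift ((s.equivFin.symm i : s)))) := by
      simpa only [hlift] using hb
    have hc := linearIndependent_of_quotient_span_singleton x hreg 𝔮 _ hb'
    have hc' : LinearIndependent R
        (fun i : Fin s.card => ((lift ((s.equivFin.symm i : s)) : integralClosure R L) : L)) :=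
      hc.map' (integralClosure R L).val.toLinearMap
        (LinearMap.ker_eq_bot.mpr Subtype.val_injective)
    exact hrank _ _ hc'
  haveI : Module.Finite (R ⧸ Ideal.span ({x} : Set R)) (integralClosure R L ⧸ 𝔮) :=
    finite_of_isN2_of_rank_lt_aleph0 h2 (lt_of_le_of_lt hrk (Cardinal.natCast_lt_aleph0))
  haveI : Module.Finite R (integralClosure R L ⧸ 𝔮) :=
    Module.Finite.trans (R ⧸ Ideal.span ({x} : Set R)) _
  -- lift generators and filter
  obtain ⟨T, hT, hTs⟩ := exists_fg_forall_sub_mem_ideal (R := R) 𝔮
  have hTs' : ∀ s : integralClosure R L, ∃ t ∈ T, ∃ s', s = t + yS * s' := by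
    intro s
    obtain ⟨t, ht, hst⟩ := hTs s
    rw [h𝔮, Ideal.mem_span_singleton'] at hst
    obtain ⟨a, ha⟩ := hst
    exact ⟨t, ht, a, by rw [mul_comm, ha]; ring⟩
  obtain ⟨T', hT', hT's⟩ := exists_fg_add_pow_mul yS T hT hTs' q
  have hyq : yS ^ q = algebraMap R (integralClosure R L) x := by
    apply Subtype.ext
    change (yS : L) ^ q = algebraMap R L x
    rw [hyS, hy]
  haveI : IsHausdorff (Ideal.span ({x} : Set R)) (integralClosure R L) := by
    refine ⟨fun s hs => ?_⟩
    obtain ⟨r, hr⟩ := hN s.1 s.2
    have hr0 : r = 0 := by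
      apply IsHausdorff.haus' (I := Ideal.span ({x} : Set R)) r
      intro k
      rw [SModEq.zero, smul_eq_mul, Ideal.mul_top]
      have hk := hs k
      rw [SModEq.zero, Ideal.span_singleton_pow, Submodule.ideal_span_singleton_smul] at hk
      obtain ⟨t, -, rfl⟩ := (Submodule.mem_smul_pointwise_iff_exists _ _ _).mp hk
      obtain ⟨r', hr'⟩ := hN t.1 t.2
      have hrr' : r = (x ^ k) ^ q * r' := by
        apply hinj
        rw [hr, map_mul, hr', map_pow]
        have hsm : ((x ^ k • t : integralClosure R L) : L) = algebraMap R L (x ^ k) * (t : L) := by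
          rw [← Algebra.smul_def]; rfl
        rw [hsm, mul_pow]
      rw [hrr', Ideal.span_singleton_pow, Ideal.mem_span_singleton]
      exact Dvd.dvd.mul_right (dvd_pow_self _ hq.ne') _
    rw [hr0, map_zero] at hr
    exact Subtype.ext (pow_eq_zero_iff hq.ne' |>.mp hr.symm)
  refine finite_of_isPrecomplete_of_isHausdorff (Ideal.span ({x} : Set R)) T' hT' (fun s => ?_)
  obtain ⟨t, ht, s', rfl⟩ := hT's s
  refine ⟨t, ht, ?_⟩
  rw [add_sub_cancel_left, hyq, ← Algebra.smul_def]
  exact Submodule.smul_mem_smul (Ideal.mem_span_singleton_self x) Submodule.mem_top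

/-- Tate's lemma for a purely inseparable finite extension. -/
theorem finite_integralClosure_tate_purelyInseparable {R : Type u} [CommRing R] [IsDomain R]
    [IsNoetherianRing R] [IsIntegrallyClosed R] (x : R) (hx0 : x ≠ 0)
    [hxp : (Ideal.span ({x} : Set R)).IsPrime]
    (h2 : CAlg.IsN2 (R ⧸ Ideal.span ({x} : Set R)))
    [IsAdicComplete (Ideal.span ({x} : Set R)) R]
    (K : Type u) [Field K] [Algebra R K] [IsFractionRing R K]
    (K' : Type u) [Field K'] [Algebra R K'] [Algebra K K'] [IsScalarTower R K K']
    [FiniteDimensional K K'] [IsPurelyInseparable K K'] :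
    Module.Finite R (integralClosure R K') := by
  classical
  obtain ⟨p, hp⟩ : ∃ p, p = ringExpChar K := ⟨_, rfl⟩
  haveI : ExpChar K p := hp ▸ ringExpChar.expChar K
  obtain ⟨e, he⟩ : ∃ e, e = IsPurelyInseparable.exponent K K' := ⟨_, rfl⟩
  have hexp : ∀ a : K', a ^ p ^ e ∈ (algebraMap K K').range := fun a =>
    he ▸ IsPurelyInseparable.exponent_def' K p a
  have hq : 0 < p ^ e := expChar_pow_pos K p e
  haveI : ExpChar (AlgebraicClosure K') p :=
    expChar_of_injective_algebraMap (algebraMap K (AlgebraicClosure K')).injective p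
  obtain ⟨y, hy⟩ : ∃ y : AlgebraicClosure K', y ^ (p ^ e) = algebraMap R (AlgebraicClosure K') x :=
    IsAlgClosed.exists_pow_nat_eq _ hq
  obtain ⟨F, hF⟩ : ∃ F : Subfield (AlgebraicClosure K'), F = Subfield.comap
      (iterateFrobenius (AlgebraicClosure K') p e) (algebraMap K (AlgebraicClosure K')).fieldRange :=
    ⟨_, rfl⟩
  have hFmem : ∀ z : AlgebraicClosure K', z ∈ F ↔
      ∃ k : K, algebraMap K (AlgebraicClosure K') k = z ^ p ^ e := by
    intro z
    rw [hF, Subfield.mem_comap, iterateFrobenius_def, RingHom.mem_fieldRange]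
  have hadj : ∀ z ∈ IntermediateField.adjoin K' ({y} : Set (AlgebraicClosure K')), z ∈ F := by
    intro z hz
    have hz' : z ∈ Subfield.closure
        (Set.range (algebraMap K' (AlgebraicClosure K')) ∪ ({y} : Set (AlgebraicClosure K'))) := hz
    refine Subfield.closure_le.mpr ?_ hz'
    rintro w (⟨a, rfl⟩ | hw)
    · obtain ⟨k, hk⟩ := hexp a
      exact (hFmem _).mpr ⟨k, by rw [← map_pow, ← hk, ← IsScalarTower.algebraMap_apply]⟩
    · rw [Set.mem_singleton_iff] at hw
      subst hw
      exact (hFmem _).mpr ⟨algebraMap R K x, by rw [hy, ← IsScalarTower.algebraMap_apply]⟩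
  obtain ⟨L', hL'⟩ : ∃ L' : IntermediateField K' (AlgebraicClosure K'),
      L' = IntermediateField.adjoin K' ({y} : Set (AlgebraicClosure K')) := ⟨_, rfl⟩
  have hyL' : y ∈ L' := hL' ▸ IntermediateField.mem_adjoin_simple_self K' y
  haveI : FiniteDimensional K' L' := by
    rw [hL']
    exact IntermediateField.adjoin.finiteDimensional (Algebra.IsIntegral.isIntegral y)
  haveI : IsScalarTower R K L' := IsScalarTower.of_algebraMap_eq (fun r => Subtype.ext
    (IsScalarTower.algebraMap_apply R K (AlgebraicClosure K') r))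
  haveI : IsScalarTower K K' L' := IsScalarTower.of_algebraMap_eq (fun r => Subtype.ext
    (IsScalarTower.algebraMap_apply K K' (AlgebraicClosure K') r))
  haveI : IsScalarTower R K' L' := IsScalarTower.of_algebraMap_eq (fun r => Subtype.ext
    (IsScalarTower.algebraMap_apply R K' (AlgebraicClosure K') r))
  haveI : FiniteDimensional K L' := FiniteDimensional.trans K K' L'
  have hinjKL : Function.Injective (algebraMap K L') := (algebraMap K L').injective
  have hinj : Function.Injective (algebraMap R L') := by
    rw [IsScalarTower.algebraMap_eq R K L']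
    exact hinjKL.comp (IsFractionRing.injective R K)
  have hN : ∀ z : L', IsIntegral R z → ∃ r : R, algebraMap R L' r = z ^ (p ^ e) := by
    intro z hz
    have hzF : (z : AlgebraicClosure K') ∈ F := hadj _ (hL' ▸ z.2)
    obtain ⟨k, hk⟩ := (hFmem _).mp hzF
    have hk' : algebraMap K L' k = z ^ (p ^ e) := Subtype.ext hk
    have hkint : IsIntegral R k := by
      rw [← isIntegral_algebraMap_iff (B := L') hinjKL, hk']
      exact hz.pow _
    obtain ⟨r, hr⟩ := IsIntegrallyClosed.isIntegral_iff.mp hkint
    exact ⟨r, by rw [IsScalarTower.algebraMap_apply R K L', hr, hk']⟩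
  have hrank : ∀ (m : ℕ) (s : Fin m → L'), LinearIndependent R s → m ≤ Module.finrank K L' := by
    intro m s hs
    have hs' : LinearIndependent K s := hs.localization K (nonZeroDivisors R)
    simpa using hs'.fintype_card_le_finrank
  have hfin : Module.Finite R (integralClosure R L') :=
    finite_integralClosure_tate_core x hx0 h2 L' hinj (p ^ e) hq hN ⟨y, hyL'⟩
      (Subtype.ext hy) _ hrank
  exact finite_integralClosure_of_algHom_injective R K' L' (IsScalarTower.toAlgHom R K' L')
    (algebraMap K' L').injective hfin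

/-- **Tate's lemma** (Stacks 032P): a Noetherian normal domain `R`, complete with respect to a
principal prime ideal `xR` such that `R/xR` is N-2, is N-2. -/
theorem isN2_of_complete_principal {R : Type u} [CommRing R] [IsDomain R] [IsNoetherianRing R]
    [IsIntegrallyClosed R] (x : R) [hxp : (Ideal.span ({x} : Set R)).IsPrime]
    (h2 : CAlg.IsN2 (R ⧸ Ideal.span ({x} : Set R)))
    [IsAdicComplete (Ideal.span ({x} : Set R)) R] : CAlg.IsN2 R := by
  by_cases hx0 : x = 0
  · subst hx0
    have hbot : Ideal.span ({(0 : R)} : Set R) = ⊥ := by simp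
    exact isN2_of_ringEquiv ((Ideal.quotEquivOfEq hbot).trans (RingEquiv.quotientBot R)) h2
  · intro L _ _ _ _ hfd
    haveI := hfd
    exact finite_integralClosure_of_forall_purelyInseparable R (FractionRing R)
      (fun K' _ _ _ _ hfd' hpi => by
        haveI := hfd'
        haveI := hpi
        exact finite_integralClosure_tate_purelyInseparable x hx0 h2 (FractionRing R) K') L


end Groth.Agent.Lib.Helper48
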