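import Mathlib
import Groth.Prelude
import Groth.Agent.Lib.Helper81.CohenRing
import Groth.Agent.Lib.Helper81.CohenLift
import Groth.Agent.S0579
import Groth.Agent.Lib.Helper90.PSIdeal
import Groth.Agent.Lib.Helper55.KrullDimIntegral
import Groth.Agent.Lib.Helper48.Tate

/-!
# Complete Noetherian local domains are finite over power series rings (helper48)

`exists_finite_injective_mvPowerSeries_of_complete_local_domain` (Stacks 032D): a complete
Noetherian local domain is finite over an injectively mapped power series ring over a field or a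
Cohen ring. Ingredients: `exists_coefficient_ring_of_domain`, `ringKrullDim_mvPowerSeries_le`,
`finite_quotient_of_residue_surjective`, `finite_quotient_sop`, `exists_finite_injective_eval`,
`exists_sop`.
-/

set_option autoImplicit false
set_option linter.style.haveILetI false
set_option linter.unusedSectionVars false

universe u

namespace Groth.Agent.Lib.Helper48

open IsLocalRing Groth.Agent.Lib.Helper81.CohenRing Groth.Agent.Lib.Helper81.CohenLift

/-- Krull dimension bound for multivariate power series: `dim C⟦X_1,…,X_n⟧ ≤ dim C + n`. -/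
theorem ringKrullDim_mvPowerSeries_le (C : Type*) [CommRing C] [IsNoetherianRing C] (n : ℕ) :
    ringKrullDim (MvPowerSeries (Fin n) C) ≤ ringKrullDim C + n := by
  classical
  obtain ⟨s, hs⟩ : ∃ s : Finset (MvPowerSeries (Fin n) C),
      s = Finset.univ.image (MvPowerSeries.X : Fin n → MvPowerSeries (Fin n) C) := ⟨_, rfl⟩
  have hscoe : (s : Set (MvPowerSeries (Fin n) C)) =
      Set.range (MvPowerSeries.X : Fin n → MvPowerSeries (Fin n) C) := by
    rw [hs, Finset.coe_image, Finset.coe_univ, Set.image_univ]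
  have hsj : (s : Set (MvPowerSeries (Fin n) C)) ⊆ Ring.jacobson (MvPowerSeries (Fin n) C) := by
    intro f hf
    rw [hscoe] at hf
    obtain ⟨i, rfl⟩ := hf
    rw [← Ideal.jacobson_bot]
    change _ ∈ Ideal.jacobson ⊥
    rw [Ideal.mem_jacobson_bot]
    intro y
    rw [MvPowerSeries.isUnit_iff_constantCoeff, map_add, map_mul, MvPowerSeries.constantCoeff_X,
      zero_mul, zero_add, map_one]
    exact isUnit_one
  have h1 := ringKrullDim_le_ringKrullDim_quotient_add_card s hsj
  have hker : Ideal.span (s : Set (MvPowerSeries (Fin n) C)) =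
      RingHom.ker (MvPowerSeries.constantCoeff (σ := Fin n) (R := C)) := by
    ext f
    rw [hscoe, Groth.Agent.Lib.Helper90.PSIdeal.mem_span_X_iff, RingHom.mem_ker]
  have hsurj : Function.Surjective (MvPowerSeries.constantCoeff (σ := Fin n) (R := C)) :=
    fun c => ⟨MvPowerSeries.C c, MvPowerSeries.constantCoeff_C c⟩
  have e : (MvPowerSeries (Fin n) C ⧸ Ideal.span (s : Set (MvPowerSeries (Fin n) C))) ≃+* C :=
    (Ideal.quotEquivOfEq hker).trans (RingHom.quotientKerEquivOfSurjective hsurj)
  rw [ringKrullDim_eq_of_ringEquiv e] at h1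
  refine h1.trans ?_
  gcongr
  rw [hs]
  exact_mod_cast Finset.card_image_le.trans (by simp)

/-- If `C → R` induces a surjection onto the residue field of the Noetherian local ring `R` and the
maximal ideal of `R` is the only prime containing `I`, then `R ⧸ I` is a finite `C`-module. -/
theorem finite_quotient_of_residue_surjective {C R : Type*} [CommRing C] [CommRing R]
    [IsLocalRing R] [IsNoetherianRing R] [Algebra C R]
    (hsurj : Function.Surjective ((residue R).comp (algebraMap C R)))
    (I : Ideal R) (hI : ∀ p : Ideal R, p.IsPrime → I ≤ p → p = maximalIdeal R) (hI' : I ≠ ⊤) :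
    Module.Finite C (R ⧸ I) := by
  haveI : Nontrivial (R ⧸ I) := Ideal.Quotient.nontrivial_iff.mpr hI'
  haveI : IsLocalRing (R ⧸ I) :=
    IsLocalRing.of_surjective' (Ideal.Quotient.mk I) Ideal.Quotient.mk_surjective
  have hcomap : ∀ P : Ideal (R ⧸ I), P.IsPrime → P.comap (Ideal.Quotient.mk I) = maximalIdeal R := by
    intro P hP
    refine hI _ (hP.comap _) ?_
    intro a ha
    rw [Ideal.mem_comap, Ideal.Quotient.eq_zero_iff_mem.mpr ha]
    exact P.zero_mem
  haveI : Ring.KrullDimLE 0 (R ⧸ I) := by
    rw [Ring.krullDimLE_zero_iff]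
    intro P hP
    have h2 : P = maximalIdeal (R ⧸ I) :=
      Ideal.comap_injective_of_surjective _ Ideal.Quotient.mk_surjective
        ((hcomap P hP).trans (hcomap _ (maximalIdeal.isMaximal _).isPrime).symm)
    rw [h2]
    exact maximalIdeal.isMaximal _
  haveI : IsArtinianRing (R ⧸ I) := isArtinianRing_iff_isNoetherianRing_krullDimLE_zero.mpr
    ⟨inferInstance, inferInstance⟩
  have hjac : Ring.jacobson (R ⧸ I) = maximalIdeal (R ⧸ I) := by
    rw [← Ideal.jacobson_bot]
    exact IsLocalRing.jacobson_eq_maximalIdeal ⊥ bot_ne_top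
  haveI : Module.Finite C ((R ⧸ I) ⧸ Ring.jacobson (R ⧸ I)) := by
    refine Module.Finite.of_surjective (Algebra.linearMap C _) ?_
    intro z
    obtain ⟨z', rfl⟩ := Ideal.Quotient.mk_surjective z
    obtain ⟨r, rfl⟩ := Ideal.Quotient.mk_surjective z'
    obtain ⟨c, hc⟩ := hsurj (residue R r)
    refine ⟨c, ?_⟩
    rw [Algebra.linearMap_apply, IsScalarTower.algebraMap_apply C (R ⧸ I) _,
      IsScalarTower.algebraMap_apply C R (R ⧸ I)]
    change Ideal.Quotient.mk _ (Ideal.Quotient.mk I (algebraMap C R c)) = _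
    rw [Ideal.Quotient.eq, hjac, ← map_sub]
    have h3 : algebraMap C R c - r ∈ maximalIdeal R := by
      rw [← Ideal.Quotient.eq]
      exact hc
    have h4 := hcomap _ (maximalIdeal.isMaximal (R ⧸ I)).isPrime
    rw [← h4] at h3
    exact h3
  exact IsSemiprimaryRing.finite_of_isNoetherian C (R ⧸ I) (R ⧸ I)

/-- A complete local domain has an injective coefficient ring: a field or a Cohen ring `C` with an
injective ring map `C → R` inducing a surjection onto the residue field. -/
theorem exists_coefficient_ring_of_domain (R : Type u) [CommRing R] [IsDomain R] [IsLocalRing R]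
    [IsAdicComplete (maximalIdeal R) R] :
    ∃ (C : Type u) (_ : CommRing C) (v : C →+* R), (IsField C ∨ CAlg.IsCohenRing C) ∧
      Function.Injective v ∧ Function.Surjective ((residue R).comp v) := by
  classical
  obtain ⟨q, hq⟩ := CharP.exists (ResidueField R)
  rcases CharP.char_is_prime_or_zero (ResidueField R) q with hprime | rfl
  · haveI : Fact q.Prime := ⟨hprime⟩
    obtain ⟨Λ, _, _, hdom, hdvr, hcomp, hm, ⟨e⟩⟩ := exists_cohenRing q (ResidueField R)
    haveI := hdom
    haveI := hdvr
    haveI := hcomp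
    let u : Λ →+* R ⧸ maximalIdeal R := (e : ResidueField Λ →+* ResidueField R).comp (residue Λ)
    have hqI : (q : R) ∈ maximalIdeal R := by
      rw [← IsLocalRing.residue_eq_zero_iff, map_natCast]
      exact CharP.cast_eq_zero _ q
    obtain ⟨v, hv⟩ := exists_lift_complete hprime hm (maximalIdeal R) hqI u
    have hvu : ∀ a : Λ, residue R (v a) = e (residue Λ a) := fun a => by
      have := congrArg (fun f : Λ →+* R ⧸ maximalIdeal R => f a) hv
      exact this
    by_cases hq0 : (q : R) = 0
    · -- characteristic `q`: factor through the residue field of `Λ`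
      have hker : ∀ a ∈ maximalIdeal Λ, v a = 0 := by
        intro a ha
        rw [hm, Ideal.mem_span_singleton'] at ha
        obtain ⟨b, rfl⟩ := ha
        rw [map_mul, map_natCast, hq0, mul_zero]
      refine ⟨Λ ⧸ maximalIdeal Λ, inferInstance, Ideal.Quotient.lift (maximalIdeal Λ) v hker,
        Or.inl ((Ideal.Quotient.maximal_ideal_iff_isField_quotient _).mp (maximalIdeal.isMaximal Λ)),
        ?_, ?_⟩
      · apply RingHom.lift_injective_of_ker_le_ideal
        refine IsLocalRing.le_maximalIdeal ?_
        rw [Ne, Ideal.eq_top_iff_one, RingHom.mem_ker, map_one]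
        exact one_ne_zero
      · intro z
        obtain ⟨z', hz'⟩ := e.surjective z
        obtain ⟨a, rfl⟩ := IsLocalRing.residue_surjective z'
        refine ⟨Ideal.Quotient.mk (maximalIdeal Λ) a, ?_⟩
        rw [RingHom.comp_apply, Ideal.Quotient.lift_mk, hvu, hz']
    · -- characteristic zero: `v` is injective
      refine ⟨Λ, inferInstance, v, Or.inr ⟨hdom, hdvr, hcomp, q, hprime, hm⟩, ?_, ?_⟩
      · rw [injective_iff_map_eq_zero]
        intro a ha
        by_contra ha0
        have hirr : Irreducible (q : Λ) :=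
          (IsDiscreteValuationRing.irreducible_iff_uniformizer _).mpr hm
        obtain ⟨n, w, hw⟩ := IsDiscreteValuationRing.eq_unit_mul_pow_irreducible ha0 hirr
        rw [hw, map_mul, map_pow, map_natCast] at ha
        have hwu : IsUnit (v (w : Λ)) := (w.isUnit).map v
        rcases mul_eq_zero.mp ha with h | h
        · exact hwu.ne_zero h
        · exact hq0 (pow_eq_zero_iff (M₀ := R) (a := (q : R)) (fun hn => by subst hn; simp at h) |>.mp h)
      · intro z
        obtain ⟨z', hz'⟩ := e.surjective z
        obtain ⟨a, rfl⟩ := IsLocalRing.residue_surjective z'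
        exact ⟨a, by rw [RingHom.comp_apply, hvu, hz']⟩
  · haveI : CharZero (ResidueField R) := CharP.charP_to_charZero _
    obtain ⟨s, hs⟩ := Groth.Agent.S0579.result R
    refine ⟨ResidueField R, inferInstance, s, Or.inl (Field.toIsField _), RingHom.injective _, ?_⟩
    rw [hs]
    exact Function.surjective_id

/-- Step 1: modulo a system of parameters, a complete local ring is finite over its coefficient
ring. -/
theorem finite_quotient_sop {C R : Type*} [CommRing C] [CommRing R] [IsLocalRing R]
    [IsNoetherianRing R] [Algebra C R]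
    (hsurj : Function.Surjective ((residue R).comp (algebraMap C R)))
    (J : Ideal C) [IsPrecomplete J C] (hJ : J.map (algebraMap C R) ≤ maximalIdeal R)
    (𝔞 : Ideal R) (h𝔞 : 𝔞 ≤ maximalIdeal R)
    (hprim : ∀ p : Ideal R, p.IsPrime → J.map (algebraMap C R) ⊔ 𝔞 ≤ p → p = maximalIdeal R) :
    Module.Finite C (R ⧸ 𝔞) := by
  have h𝔞top : 𝔞 ≠ ⊤ := fun h => (maximalIdeal.isMaximal R).ne_top (top_le_iff.mp (h ▸ h𝔞))
  haveI : Nontrivial (R ⧸ 𝔞) := Ideal.Quotient.nontrivial_iff.mpr h𝔞top
  haveI : IsLocalRing (R ⧸ 𝔞) :=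
    IsLocalRing.of_surjective' (Ideal.Quotient.mk 𝔞) Ideal.Quotient.mk_surjective
  have hloc : ∀ r : R, r ∈ maximalIdeal R → Ideal.Quotient.mk 𝔞 r ∈ maximalIdeal (R ⧸ 𝔞) := by
    intro r hr
    rw [mem_maximalIdeal, mem_nonunits_iff]
    intro hu
    obtain ⟨w, hw⟩ := hu.exists_right_inv
    obtain ⟨s, rfl⟩ := Ideal.Quotient.mk_surjective w
    rw [← map_mul, ← map_one (Ideal.Quotient.mk 𝔞), Ideal.Quotient.eq] at hw
    have h1 : r * s ∈ maximalIdeal R := Ideal.mul_mem_right _ _ hr
    have h2 : (1 : R) ∈ maximalIdeal R := by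
      have := Ideal.sub_mem _ h1 (h𝔞 hw)
      rwa [sub_sub_cancel] at this
    exact (maximalIdeal.isMaximal R).ne_top ((Ideal.eq_top_iff_one _).mpr h2)
  -- the ideal `J (R/𝔞)`
  have hJ' : J.map (algebraMap C (R ⧸ 𝔞)) ≤ maximalIdeal (R ⧸ 𝔞) := by
    rw [Ideal.map_le_iff_le_comap]
    intro c hc
    rw [Ideal.mem_comap, IsScalarTower.algebraMap_apply C R (R ⧸ 𝔞)]
    exact hloc _ (hJ (Ideal.mem_map_of_mem _ hc))
  haveI : IsHausdorff J (R ⧸ 𝔞) := IsHausdorff.of_map (S := R ⧸ 𝔞) hJ'
  have hsurj' : Function.Surjective ((residue (R ⧸ 𝔞)).comp (algebraMap C (R ⧸ 𝔞))) := by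
    intro z
    obtain ⟨z', rfl⟩ := residue_surjective z
    obtain ⟨r, rfl⟩ := Ideal.Quotient.mk_surjective z'
    obtain ⟨c, hc⟩ := hsurj (residue R r)
    refine ⟨c, ?_⟩
    rw [RingHom.comp_apply, IsScalarTower.algebraMap_apply C R (R ⧸ 𝔞)]
    change residue _ (Ideal.Quotient.mk 𝔞 (algebraMap C R c)) = residue _ (Ideal.Quotient.mk 𝔞 r)
    rw [← sub_eq_zero, ← map_sub, ← map_sub, residue_eq_zero_iff]
    apply hloc
    rw [← residue_eq_zero_iff, map_sub, sub_eq_zero]
    exact hc
  haveI : Module.Finite C ((R ⧸ 𝔞) ⧸ J.map (algebraMap C (R ⧸ 𝔞))) := by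
    refine finite_quotient_of_residue_surjective hsurj' _ ?_ ?_
    · intro P hP hle
      have h1 : P.comap (Ideal.Quotient.mk 𝔞) = maximalIdeal R := by
        refine hprim _ (hP.comap _) (sup_le ?_ ?_)
        · rw [Ideal.map_le_iff_le_comap]
          intro c hc
          rw [Ideal.mem_comap, Ideal.mem_comap]
          apply hle
          have : Ideal.Quotient.mk 𝔞 (algebraMap C R c) = algebraMap C (R ⧸ 𝔞) c :=
            (IsScalarTower.algebraMap_apply C R (R ⧸ 𝔞) c).symm
          rw [this]
          exact Ideal.mem_map_of_mem _ hc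
        · intro a ha
          rw [Ideal.mem_comap, Ideal.Quotient.eq_zero_iff_mem.mpr ha]
          exact P.zero_mem
      have h2 : (maximalIdeal (R ⧸ 𝔞)).comap (Ideal.Quotient.mk 𝔞) = maximalIdeal R := by
        refine (maximalIdeal.isMaximal R).eq_of_le ?_ (fun r hr => hloc r hr) |>.symm
        exact (Ideal.comap_ne_top _ (maximalIdeal.isMaximal _).ne_top)
      exact Ideal.comap_injective_of_surjective _ Ideal.Quotient.mk_surjective (h1.trans h2.symm)
    · exact fun h => (maximalIdeal.isMaximal (R ⧸ 𝔞)).ne_top (top_le_iff.mp (h ▸ hJ'))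
  obtain ⟨T, hT, hTs⟩ := exists_fg_forall_sub_mem_ideal (R := C) (J.map (algebraMap C (R ⧸ 𝔞)))
  refine finite_of_isPrecomplete_of_isHausdorff J T hT (fun m => ?_)
  obtain ⟨t, ht, hmt⟩ := hTs m
  refine ⟨t, ht, ?_⟩
  rw [Ideal.smul_top_eq_map]
  exact hmt

/-- Step 2: evaluation of power series at a system of parameters is finite and injective. -/
theorem exists_finite_injective_eval {C R : Type u} [CommRing C] [IsDomain C] [IsNoetherianRing C]
    [CommRing R] [IsDomain R] [IsLocalRing R] [IsNoetherianRing R]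
    [IsAdicComplete (maximalIdeal R) R] [Algebra C R]
    (hsurj : Function.Surjective ((residue R).comp (algebraMap C R)))
    (J : Ideal C) [IsPrecomplete J C] (hJ : J.map (algebraMap C R) ≤ maximalIdeal R)
    (n : ℕ) (x : Fin n → R) (hx : ∀ i, x i ∈ maximalIdeal R)
    (hprim : ∀ p : Ideal R, p.IsPrime →
      J.map (algebraMap C R) ⊔ Ideal.span (Set.range x) ≤ p → p = maximalIdeal R)
    (hdim : ringKrullDim C + n ≤ ringKrullDim R) :
    ∃ φ : MvPowerSeries (Fin n) C →ₐ[C] R, Function.Injective φ ∧ φ.toRingHom.Finite := by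
  classical
  obtain ⟨φ, hφ1, -⟩ := Groth.Agent.Lib.Helper90.PSUniv.exists_eval (B := C) (maximalIdeal R) x hx
  have hX : ∀ i, φ (MvPowerSeries.X i) = x i := by
    intro i
    have := hφ1 (MvPolynomial.X i)
    rwa [MvPolynomial.coe_X, MvPolynomial.aeval_X] at this
  have hxle : Ideal.span (Set.range x) ≤ maximalIdeal R := by
    rw [Ideal.span_le]; rintro _ ⟨i, rfl⟩; exact hx i
  haveI hfinC : Module.Finite C (R ⧸ Ideal.span (Set.range x)) :=
    finite_quotient_sop hsurj J hJ _ hxle hprim
  -- `R` as a module over the power series ring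
  letI : Algebra (MvPowerSeries (Fin n) C) R := φ.toRingHom.toAlgebra
  haveI : IsScalarTower C (MvPowerSeries (Fin n) C) R :=
    IsScalarTower.of_algebraMap_eq (fun c => (φ.commutes c).symm)
  have hmapX : (Ideal.span (Set.range (MvPowerSeries.X : Fin n → MvPowerSeries (Fin n) C))).map
      (algebraMap (MvPowerSeries (Fin n) C) R) = Ideal.span (Set.range x) := by
    rw [Ideal.map_span, ← Set.range_comp]
    congr 2
    ext i
    exact hX i
  haveI : IsHausdorff (Ideal.span (Set.range (MvPowerSeries.X : Fin n → MvPowerSeries (Fin n) C)))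
      R := IsHausdorff.of_map (S := R) (J := maximalIdeal R) (hmapX.le.trans hxle)
  obtain ⟨T, hT, hTs⟩ := exists_fg_forall_sub_mem_ideal (R := C) (Ideal.span (Set.range x))
  obtain ⟨G, hG⟩ := hT
  have hfinP : Module.Finite (MvPowerSeries (Fin n) C) R := by
    refine finite_of_isPrecomplete_of_isHausdorff
      (Ideal.span (Set.range (MvPowerSeries.X : Fin n → MvPowerSeries (Fin n) C)))
      (Submodule.span (MvPowerSeries (Fin n) C) (G : Set R)) (Submodule.fg_span G.finite_toSet)
      (fun r => ?_)
    obtain ⟨t, ht, hrt⟩ := hTs r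
    refine ⟨t, ?_, ?_⟩
    · rw [← hG] at ht
      exact Submodule.span_le_restrictScalars C (MvPowerSeries (Fin n) C) (G : Set R) ht
    · rw [Ideal.smul_top_eq_map, hmapX]
      exact hrt
  refine ⟨φ, ?_, hfinP⟩
  -- injectivity by dimension
  rw [injective_iff_map_eq_zero]
  intro r hr
  by_contra hr0
  have hrnzd : r ∈ nonZeroDivisors (MvPowerSeries (Fin n) C) := mem_nonZeroDivisors_of_ne_zero hr0
  have h1 := ringKrullDim_quotient_succ_le_of_nonZeroDivisor hrnzd
  obtain ⟨ψ, hψ⟩ : ∃ ψ : (MvPowerSeries (Fin n) C ⧸ Ideal.span {r}) →+* R,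
      ψ.comp (Ideal.Quotient.mk _) = φ.toRingHom := by
    refine ⟨Ideal.Quotient.lift _ φ.toRingHom ?_, ?_⟩
    · intro a ha
      rw [Ideal.mem_span_singleton'] at ha
      obtain ⟨b, rfl⟩ := ha
      change φ (b * r) = 0
      rw [map_mul, hr, mul_zero]
    · ext a
      simp
  have hψint : ψ.IsIntegral := by
    have h2 : (ψ.comp (Ideal.Quotient.mk _)).IsIntegral := by
      rw [hψ]
      exact RingHom.Finite.to_isIntegral hfinP
    exact RingHom.IsIntegral.tower_top _ _ h2
  have h3 : ringKrullDim R ≤ ringKrullDim (MvPowerSeries (Fin n) C ⧸ Ideal.span {r}) := by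
    letI := ψ.toAlgebra
    haveI : Algebra.IsIntegral (MvPowerSeries (Fin n) C ⧸ Ideal.span {r}) R := ⟨hψint⟩
    exact Groth.Agent.Lib.Helper55.ringKrullDim_le_of_isIntegral _ R
  have h4 := ringKrullDim_mvPowerSeries_le C n
  have h5 : ringKrullDim R + 1 ≤ ringKrullDim R :=
    (add_le_add_left h3 1).trans (h1.trans (h4.trans hdim))
  have hne_top : ringKrullDim R ≠ ⊤ := ringKrullDim_ne_top
  have hne_bot : ringKrullDim R ≠ ⊥ := ringKrullDim_ne_bot
  obtain ⟨d, hd⟩ := WithBot.ne_bot_iff_exists.mp hne_bot
  rw [← hd] at h5 hne_top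
  have hdtop : d ≠ ⊤ := fun h => hne_top (by rw [h]; rfl)
  obtain ⟨k, hk⟩ := ENat.ne_top_iff_exists.mp hdtop
  rw [← hk] at h5
  have h6 : (k : ℕ) + 1 ≤ k := by exact_mod_cast h5
  omega

/-- Existence of a system of parameters as a family indexed by `Fin (dim R)`. -/
theorem exists_sop (R : Type*) [CommRing R] [IsLocalRing R] [IsNoetherianRing R] :
    ∃ (n : ℕ) (x : Fin n → R), (n : WithBot ℕ∞) = ringKrullDim R ∧
      (∀ i, x i ∈ maximalIdeal R) ∧
      ∀ p : Ideal R, p.IsPrime → Ideal.span (Set.range x) ≤ p → p = maximalIdeal R := by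
  classical
  obtain ⟨s, hs1, hs2⟩ := Ideal.exists_finset_card_eq_height_of_isNoetherianRing (maximalIdeal R)
  have hrange : Set.range (fun i : Fin s.card => ((s.equivFin.symm i : s) : R)) = (s : Set R) := by
    ext r
    constructor
    · rintro ⟨i, rfl⟩; exact (s.equivFin.symm i).2
    · intro hr; exact ⟨s.equivFin ⟨r, hr⟩, by simp⟩
  refine ⟨s.card, fun i => ((s.equivFin.symm i : s) : R), ?_, ?_, ?_⟩
  · rw [← IsLocalRing.maximalIdeal_height_eq_ringKrullDim, ← hs2]; rfl
  · intro i
    exact hs1.1.2 (Ideal.subset_span (s.equivFin.symm i).2)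
  · intro p hp hle
    rw [hrange] at hle
    exact le_antisymm (le_maximalIdeal hp.ne_top) (hs1.2 ⟨hp, hle⟩ (le_maximalIdeal hp.ne_top))

/-- **Cohen structure theorem for complete local domains** (Stacks 032D): a complete Noetherian
local domain is finite over an injectively mapped power series ring over a field or a Cohen ring,
with the same residue field. -/
theorem exists_finite_injective_mvPowerSeries_of_complete_local_domain (R : Type u) [CommRing R]
    [IsDomain R] [IsLocalRing R] [IsNoetherianRing R] [IsAdicComplete (maximalIdeal R) R] :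
    ∃ (Λ : Type u) (_ : CommRing Λ) (n : ℕ) (f : MvPowerSeries (Fin n) Λ →+* R),
      (IsField Λ ∨ CAlg.IsCohenRing Λ) ∧ Function.Injective f ∧ f.Finite ∧
      Function.Surjective ((residue R).comp f) := by
  classical
  obtain ⟨C, _, v, hC, hvinj, hvsurj⟩ := exists_coefficient_ring_of_domain R
  letI : Algebra C R := v.toAlgebra
  have hsurj : Function.Surjective ((residue R).comp (algebraMap C R)) := hvsurj
  have hfinal : ∀ (n : ℕ) (φ : MvPowerSeries (Fin n) C →ₐ[C] R),
      Function.Surjective ((residue R).comp φ.toRingHom) := by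
    intro n φ z
    obtain ⟨c, hc⟩ := hsurj z
    refine ⟨MvPowerSeries.C c, ?_⟩
    rw [← hc, RingHom.comp_apply, RingHom.comp_apply]
    congr 1
    have : (MvPowerSeries.C c : MvPowerSeries (Fin n) C) = algebraMap C _ c := rfl
    rw [this]
    exact φ.commutes c
  rcases hC with hfield | hcohen
  · -- field case
    haveI : IsDomain C := hfield.isDomain
    haveI : IsNoetherianRing C := by
      letI := hfield.toField
      infer_instance
    obtain ⟨n, x, hn, hx, hprim⟩ := exists_sop R
    have hdimC : ringKrullDim C = 0 := by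
      letI := hfield.toField
      exact ringKrullDim_eq_zero_of_field C
    obtain ⟨φ, hinj, hfin⟩ := exists_finite_injective_eval hsurj ⊥ (by rw [Ideal.map_bot]; exact bot_le)
      n x hx (fun p hp hle => hprim p hp (le_sup_right.trans hle))
      (by rw [hdimC, zero_add, hn])
    exact ⟨C, inferInstance, n, φ.toRingHom, Or.inl hfield, hinj, hfin, hfinal n φ⟩
  · -- Cohen ring case
    obtain ⟨hdom, hdvr, hcomp, q, hq, hm⟩ := hcohen
    haveI := hdom
    haveI := hdvr
    haveI := hcomp
    -- the kernel of `C → κ` is the maximal ideal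
    have hker : ∀ c ∈ maximalIdeal C, algebraMap C R c ∈ maximalIdeal R := by
      intro c hc
      by_contra hcu
      have hu : IsUnit (algebraMap C R c) := by
        rwa [mem_maximalIdeal, mem_nonunits_iff, not_not] at hcu
      -- then `c` would be a unit modulo ... use surjectivity to find an inverse mod `m`
      obtain ⟨w, hw⟩ := hu.exists_right_inv
      obtain ⟨d, hd⟩ := hsurj (residue R w)
      have h1 : residue R (algebraMap C R (c * d)) = 1 := by
        rw [map_mul, map_mul]
        change residue R (algebraMap C R c) * ((residue R).comp (algebraMap C R)) d = 1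
        rw [hd, ← map_mul, hw, map_one]
      have h2 : algebraMap C R (c * d - 1) ∈ maximalIdeal R := by
        rw [← residue_eq_zero_iff, map_sub, map_sub, h1, map_one, map_one, sub_self]
      have h3 : c * d ∈ maximalIdeal C := Ideal.mul_mem_right _ _ hc
      have h4 : IsUnit (c * d - 1) := by
        have : ¬ (c * d - 1) ∈ maximalIdeal C := by
          intro h5
          have := Ideal.sub_mem _ h3 h5
          rw [sub_sub_cancel] at this
          exact (maximalIdeal.isMaximal C).ne_top ((Ideal.eq_top_iff_one _).mpr this)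
        rwa [mem_maximalIdeal, mem_nonunits_iff, not_not] at this
      have h5 : IsUnit (algebraMap C R (c * d - 1)) := h4.map _
      rw [mem_maximalIdeal, mem_nonunits_iff] at h2
      exact h2 h5
    have hJ : (maximalIdeal C).map (algebraMap C R) ≤ maximalIdeal R := by
      rw [Ideal.map_le_iff_le_comap]
      exact fun c hc => hker c hc
    have hq0 : (q : C) ≠ 0 := by
      intro h
      rw [h, Ideal.span_singleton_eq_bot.mpr rfl] at hm
      exact IsDiscreteValuationRing.not_a_field C hm
    have hπ : algebraMap C R (q : C) ∈ maximalIdeal R :=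
      hker _ (hm ▸ Ideal.mem_span_singleton_self _)
    have hπ0 : algebraMap C R (q : C) ≠ 0 := fun h => hq0 (hvinj (by rw [map_zero]; exact h))
    obtain ⟨π, hπdef⟩ : ∃ π : R, π = algebraMap C R (q : C) := ⟨_, rfl⟩
    rw [← hπdef] at hπ hπ0
    have hπtop : Ideal.span ({π} : Set R) ≠ ⊤ := fun h =>
      (maximalIdeal.isMaximal R).ne_top (top_le_iff.mp (h ▸ (Ideal.span_singleton_le_iff_mem _).mpr hπ))
    haveI : Nontrivial (R ⧸ Ideal.span ({π} : Set R)) := Ideal.Quotient.nontrivial_iff.mpr hπtop
    haveI : IsLocalRing (R ⧸ Ideal.span ({π} : Set R)) :=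
      IsLocalRing.of_surjective' (Ideal.Quotient.mk _) Ideal.Quotient.mk_surjective
    have hdimR : ringKrullDim (R ⧸ Ideal.span ({π} : Set R)) + 1 = ringKrullDim R :=
      ringKrullDim_quotient_span_singleton_succ_eq_ringKrullDim_of_mem_nonZeroDivisors
        (mem_nonZeroDivisors_of_ne_zero hπ0) hπ
    obtain ⟨n, xbar, hn, hxbar, hprimbar⟩ := exists_sop (R ⧸ Ideal.span ({π} : Set R))
    have hlift : ∀ i, ∃ r : R, Ideal.Quotient.mk (Ideal.span ({π} : Set R)) r = xbar i :=
      fun i => Ideal.Quotient.mk_surjective _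
    choose x hxlift using hlift
    have hxmem : ∀ i, x i ∈ maximalIdeal R := by
      intro i
      by_contra h
      have hu : IsUnit (x i) := by rwa [mem_maximalIdeal, mem_nonunits_iff, not_not] at h
      have hu' := hu.map (Ideal.Quotient.mk (Ideal.span ({π} : Set R)))
      rw [hxlift] at hu'
      exact (mem_nonunits_iff.mp (hxbar i)) hu'
    have hprim : ∀ p : Ideal R, p.IsPrime →
        (maximalIdeal C).map (algebraMap C R) ⊔ Ideal.span (Set.range x) ≤ p →
        p = maximalIdeal R := by
      intro p hp hle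
      have hπp : π ∈ p := by
        rw [hπdef]
        exact hle (Ideal.mem_sup_left (Ideal.mem_map_of_mem _
          (hm ▸ Ideal.mem_span_singleton_self _)))
      have hkerle : RingHom.ker (Ideal.Quotient.mk (Ideal.span ({π} : Set R))) ≤ p := by
        rw [Ideal.mk_ker]
        exact (Ideal.span_singleton_le_iff_mem _).mpr hπp
      have hpbar : (p.map (Ideal.Quotient.mk (Ideal.span ({π} : Set R)))).IsPrime :=
        Ideal.map_isPrime_of_surjective Ideal.Quotient.mk_surjective hkerle
      have hle' : Ideal.span (Set.range xbar) ≤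
          p.map (Ideal.Quotient.mk (Ideal.span ({π} : Set R))) := by
        rw [Ideal.span_le]
        rintro _ ⟨i, rfl⟩
        rw [← hxlift i]
        exact Ideal.mem_map_of_mem _ (hle (Ideal.mem_sup_right (Ideal.subset_span ⟨i, rfl⟩)))
      have h1 := hprimbar _ hpbar hle'
      have h2 : (p.map (Ideal.Quotient.mk (Ideal.span ({π} : Set R)))).comap
          (Ideal.Quotient.mk (Ideal.span ({π} : Set R))) = p := by
        rw [Ideal.comap_map_of_surjective _ Ideal.Quotient.mk_surjective, ← RingHom.ker_eq_comap_bot]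
        exact sup_eq_left.mpr hkerle
      have h3 : p.IsMaximal := by
        rw [← h2, h1]
        exact Ideal.comap_isMaximal_of_surjective _ Ideal.Quotient.mk_surjective
      exact IsLocalRing.eq_maximalIdeal h3
    have hdim : ringKrullDim C + n ≤ ringKrullDim R := by
      rw [IsDiscreteValuationRing.ringKrullDim_eq_one, hn, add_comm, hdimR]
    obtain ⟨φ, hinj, hfin⟩ := exists_finite_injective_eval hsurj (maximalIdeal C) hJ
      n x hxmem hprim hdim
    exact ⟨C, inferInstance, n, φ.toRingHom, Or.inr ⟨hdom, hdvr, hcomp, q, hq, hm⟩, hinj, hfin,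
      hfinal n φ⟩

end Groth.Agent.Lib.Helper48
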