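import Mathlib
import Groth.Agent.Lib.Helper48.NagataLocal
import Groth.Agent.Lib.Helper48.PureInsepN2

/-!
# Integral closure of a Nagata ring in a reduced finite type algebra (helper48)

* `linearIndependent_adjoin_of_algebraicIndependent`, `finiteDimensional_algebraicClosure_of_essFiniteType`:
  the algebraic closure of `K` in a finitely generated field extension is finite over `K`.
* `finite_integralClosure_of_isN2_of_finiteType_domain`: N-2 domain `A ⊆ S` domain of finite type.
* `finite_integralClosure_quotient_of_isNagata`, `finite_integralClosure_of_isNagata_of_isReduced`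
  (Stacks 03GH, finite type case).
-/

universe u

namespace Groth.Agent.Lib.Helper48

open IntermediateField IntermediateField.algebraAdjoinAdjoin

/-- Elements of the algebraic closure of `K` in `F` that are `K`-linearly independent stay linearly
independent over the subalgebra generated by an algebraically independent family. -/
theorem linearIndependent_adjoin_of_algebraicIndependent {K F : Type*} [Field K] [Field F]
    [Algebra K F] {ι : Type*} (x : ι → F) (hx : AlgebraicIndependent K x)
    {σ : Type*} [Fintype σ] (v : σ → algebraicClosure K F) (hv : LinearIndependent K v) :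
    LinearIndependent (Algebra.adjoin K (Set.range x)) (fun i => ((v i : algebraicClosure K F) : F)) := by
  classical
  have hx' : AlgebraicIndependent (algebraicClosure K F) x := hx.algebraicClosure
  rw [Fintype.linearIndependent_iff]
  intro g hg
  have hmem : ∀ i, ∃ P : MvPolynomial ι K, MvPolynomial.aeval x P = (g i : F) := by
    intro i
    have h1 : ((g i : Algebra.adjoin K (Set.range x)) : F) ∈ (MvPolynomial.aeval (R := K) x).range := by
      rw [← Algebra.adjoin_range_eq_range_aeval]
      exact (g i).2
    exact h1
  choose P hP using hmem
  obtain ⟨Q, hQ⟩ : ∃ Q : MvPolynomial ι (algebraicClosure K F),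
      Q = ∑ i, MvPolynomial.C (v i) * MvPolynomial.map (algebraMap K (algebraicClosure K F)) (P i) :=
    ⟨_, rfl⟩
  have hQ0 : MvPolynomial.aeval x Q = 0 := by
    rw [hQ, map_sum, ← hg]
    refine Finset.sum_congr rfl (fun i _ => ?_)
    rw [map_mul, MvPolynomial.aeval_C, MvPolynomial.aeval_map_algebraMap, hP, mul_comm]
    rfl
  have hQz : Q = 0 := by
    have := hx'
    rw [AlgebraicIndependent] at this
    exact this (by rw [hQ0, map_zero])
  have hcoeff : ∀ m, ∀ i, MvPolynomial.coeff m (P i) = 0 := by
    intro m
    rw [Fintype.linearIndependent_iff] at hv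
    apply hv
    have := congrArg (MvPolynomial.coeff m) hQz
    rw [hQ, MvPolynomial.coeff_sum, MvPolynomial.coeff_zero] at this
    rw [← this]
    refine Finset.sum_congr rfl (fun i _ => ?_)
    rw [MvPolynomial.coeff_C_mul, MvPolynomial.coeff_map, Algebra.smul_def, mul_comm]
  intro i
  have hPi : P i = 0 := by
    ext m
    rw [hcoeff m i, MvPolynomial.coeff_zero]
  apply Subtype.ext
  rw [← hP, hPi, map_zero]
  rfl

/-- The algebraic closure of `K` in a finitely generated field extension `F` is finite over `K`. -/
theorem finiteDimensional_algebraicClosure_of_essFiniteType (K F : Type*) [Field K] [Field F]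
    [Algebra K F] [Algebra.EssFiniteType K F] :
    FiniteDimensional K (algebraicClosure K F) := by
  classical
  obtain ⟨s, hs⟩ := IntermediateField.fg_top K F
  have : Algebra.IsAlgebraic (Algebra.adjoin K (s : Set F)) F := by
    rw [← isAlgebraic_adjoin_iff_top, hs, Algebra.isAlgebraic_iff_isIntegral]
    exact Algebra.isIntegral_of_surjective topEquiv.surjective
  obtain ⟨t, hts, ht⟩ := exists_isTranscendenceBasis_subset (R := K) (s : Set F)
  lift t to Finset F using s.finite_toSet.subset hts
  have halg : Algebra.IsAlgebraic (IntermediateField.adjoin K (t : Set F)) F := by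
    convert! ht.isAlgebraic_field <;> simp
  haveI : Algebra.EssFiniteType (IntermediateField.adjoin K (t : Set F)) F :=
    Algebra.EssFiniteType.of_comp K _ F
  haveI : Module.Finite (IntermediateField.adjoin K (t : Set F)) F :=
    Algebra.finite_of_essFiniteType_of_isAlgebraic
  have hbound : ∀ u : Finset (algebraicClosure K F),
      LinearIndependent K (fun i : u => (i : algebraicClosure K F)) →
      u.card ≤ Module.finrank (IntermediateField.adjoin K (t : Set F)) F := by
    intro u hu
    have h1 := linearIndependent_adjoin_of_algebraicIndependent (Subtype.val : t → F) ht.1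
      (fun i : u => (i : algebraicClosure K F)) hu
    have hrange : Set.range (Subtype.val : t → F) = (t : Set F) := by simp
    rw [hrange] at h1
    have h2 : LinearIndependent (IntermediateField.adjoin K (t : Set F))
        (fun i : u => ((i : algebraicClosure K F) : F)) :=
      (LinearIndependent.iff_fractionRing (R := Algebra.adjoin K (t : Set F))
        (K := IntermediateField.adjoin K (t : Set F))).mp h1
    have := h2.fintype_card_le_finrank
    simpa using this
  have hr := rank_le hbound
  exact Module.rank_lt_aleph0_iff.mp (lt_of_le_of_lt hr (Cardinal.natCast_lt_aleph0))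

/-- For an N-2 Noetherian domain `A` and a domain `S` of finite type over `A` containing `A`, the
integral closure of `A` in `S` is a finite `A`-module. -/
theorem finite_integralClosure_of_isN2_of_finiteType_domain {A S : Type u} [CommRing A] [IsDomain A]
    [IsNoetherianRing A] (hA : CAlg.IsN2 A) [CommRing S] [IsDomain S] [Algebra A S]
    [Algebra.FiniteType A S] (hinj : Function.Injective (algebraMap A S)) :
    Module.Finite A (integralClosure A S) := by
  have hinjAF : Function.Injective (algebraMap A (FractionRing S)) := by
    rw [IsScalarTower.algebraMap_eq A S (FractionRing S)]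
    exact (IsFractionRing.injective S (FractionRing S)).comp hinj
  letI : Algebra (FractionRing A) (FractionRing S) :=
    (IsFractionRing.lift (g := algebraMap A (FractionRing S)) hinjAF).toAlgebra
  haveI : IsScalarTower A (FractionRing A) (FractionRing S) :=
    IsScalarTower.of_algebraMap_eq (fun x => (IsFractionRing.lift_algebraMap hinjAF x).symm)
  haveI : Algebra.EssFiniteType S (FractionRing S) :=
    Algebra.EssFiniteType.of_isLocalization _ (nonZeroDivisors S)
  haveI : Algebra.EssFiniteType A (FractionRing S) := Algebra.EssFiniteType.comp A S _
  haveI : Algebra.EssFiniteType (FractionRing A) (FractionRing S) :=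
    Algebra.EssFiniteType.of_comp A _ _
  haveI : FiniteDimensional (FractionRing A) (algebraicClosure (FractionRing A) (FractionRing S)) :=
    finiteDimensional_algebraicClosure_of_essFiniteType _ _
  have hfin : Module.Finite A
      (integralClosure A (algebraicClosure (FractionRing A) (FractionRing S))) :=
    hA (algebraicClosure (FractionRing A) (FractionRing S)) inferInstance
  haveI : IsNoetherian A (integralClosure A (algebraicClosure (FractionRing A) (FractionRing S))) :=
    isNoetherian_of_isNoetherianRing_of_finite A _
  have hmem : ∀ x : integralClosure A S,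
      algebraMap S (FractionRing S) x.1 ∈ algebraicClosure (FractionRing A) (FractionRing S) := by
    intro x
    rw [mem_algebraicClosure_iff]
    have h1 : IsIntegral A (algebraMap S (FractionRing S) x.1) :=
      x.2.map (IsScalarTower.toAlgHom A S (FractionRing S))
    exact (h1.tower_top (A := FractionRing A)).isAlgebraic
  have hint : ∀ x : integralClosure A S,
      IsIntegral A (⟨algebraMap S (FractionRing S) x.1, hmem x⟩ :
        algebraicClosure (FractionRing A) (FractionRing S)) := by
    intro x
    have h1 : IsIntegral A (algebraMap S (FractionRing S) x.1) :=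
      x.2.map (IsScalarTower.toAlgHom A S (FractionRing S))
    exact (isIntegral_algHom_iff
      ((algebraicClosure (FractionRing A) (FractionRing S)).val.restrictScalars A)
      Subtype.val_injective).mp h1
  let f : integralClosure A S →ₗ[A]
      integralClosure A (algebraicClosure (FractionRing A) (FractionRing S)) :=
    { toFun := fun x => ⟨⟨algebraMap S (FractionRing S) x.1, hmem x⟩, hint x⟩
      map_add' := fun x y => by
        apply Subtype.ext; apply Subtype.ext
        exact map_add (algebraMap S (FractionRing S)) _ _
      map_smul' := fun a x => by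
        apply Subtype.ext; apply Subtype.ext
        show algebraMap S (FractionRing S) (a • x.1) = a • algebraMap S (FractionRing S) x.1
        rw [Algebra.smul_def, Algebra.smul_def, map_mul,
          ← IsScalarTower.algebraMap_apply A S (FractionRing S)] }
  refine Module.Finite.of_injective f (fun x y hxy => Subtype.ext ?_)
  have h2 := congrArg (fun z : integralClosure A (algebraicClosure (FractionRing A) (FractionRing S)) =>
    ((z : algebraicClosure (FractionRing A) (FractionRing S)) : FractionRing S)) hxy
  exact IsFractionRing.injective S (FractionRing S) h2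

/-- Integral closure of a Nagata ring in a quotient domain of a finite type algebra. -/
theorem finite_integralClosure_quotient_of_isNagata (R : Type u) [CommRing R] (hR : CAlg.IsNagata R)
    (S : Type u) [CommRing S] [Algebra R S] [Algebra.FiniteType R S] (q : Ideal S) [q.IsPrime] :
    Module.Finite R (integralClosure R (S ⧸ q)) := by
  haveI : IsNoetherianRing R := hR.1
  obtain ⟨p, hp⟩ : ∃ p : Ideal R, p = q.comap (algebraMap R S) := ⟨_, rfl⟩
  haveI : p.IsPrime := hp ▸ Ideal.IsPrime.comap _
  subst hp
  have hN2 : CAlg.IsN2 (R ⧸ q.comap (algebraMap R S)) := hR.2 _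
  haveI : Algebra.FiniteType (R ⧸ q.comap (algebraMap R S)) (S ⧸ q) :=
    Algebra.FiniteType.of_restrictScalars_finiteType R _ _
  have hinj : Function.Injective (algebraMap (R ⧸ q.comap (algebraMap R S)) (S ⧸ q)) :=
    Ideal.algebraMap_quotient_injective
  have h1 : Module.Finite (R ⧸ q.comap (algebraMap R S))
      (integralClosure (R ⧸ q.comap (algebraMap R S)) (S ⧸ q)) :=
    finite_integralClosure_of_isN2_of_finiteType_domain hN2 hinj
  have h2 : Module.Finite R (integralClosure (R ⧸ q.comap (algebraMap R S)) (S ⧸ q)) :=
    Module.Finite.trans (R ⧸ q.comap (algebraMap R S)) _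
  haveI : IsNoetherian R (integralClosure (R ⧸ q.comap (algebraMap R S)) (S ⧸ q)) :=
    isNoetherian_of_isNoetherianRing_of_finite R _
  let f : integralClosure R (S ⧸ q) →ₗ[R]
      integralClosure (R ⧸ q.comap (algebraMap R S)) (S ⧸ q) :=
    { toFun := fun x => ⟨x.1, IsIntegral.tower_top x.2⟩
      map_add' := fun x y => rfl
      map_smul' := fun a x => rfl }
  exact Module.Finite.of_injective f (fun x y hxy => Subtype.ext
    (congrArg (fun z : integralClosure (R ⧸ q.comap (algebraMap R S)) (S ⧸ q) => (z : S ⧸ q)) hxy))

/-- Stacks 03GH (finite type case): the integral closure of a Nagata ring in a reduced algebra of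
finite type is a finite module. -/
theorem finite_integralClosure_of_isNagata_of_isReduced (R : Type u) [CommRing R]
    (hR : CAlg.IsNagata R) (S : Type u) [CommRing S] [IsReduced S] [Algebra R S]
    [Algebra.FiniteType R S] : Module.Finite R (integralClosure R S) := by
  classical
  haveI : IsNoetherianRing R := hR.1
  haveI : IsNoetherianRing S := Algebra.FiniteType.isNoetherianRing R S
  have hfin : (minimalPrimes S).Finite := minimalPrimes.finite_of_isNoetherianRing S
  haveI : Fintype (minimalPrimes S) := hfin.fintype
  haveI hprime : ∀ q : minimalPrimes S, q.1.IsPrime := fun q => q.2.1.1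
  haveI hq : ∀ q : minimalPrimes S, Module.Finite R (integralClosure R (S ⧸ q.1)) :=
    fun q => finite_integralClosure_quotient_of_isNagata R hR S q.1
  haveI : IsNoetherian R (∀ q : minimalPrimes S, integralClosure R (S ⧸ q.1)) :=
    isNoetherian_of_isNoetherianRing_of_finite R _
  let f : integralClosure R S →ₗ[R] ∀ q : minimalPrimes S, integralClosure R (S ⧸ q.1) :=
    { toFun := fun x q => ⟨Ideal.Quotient.mk q.1 x.1, x.2.map (Ideal.Quotient.mkₐ R q.1)⟩
      map_add' := fun x y => rfl
      map_smul' := fun a x => rfl }
  refine Module.Finite.of_injective f (fun x y hxy => Subtype.ext ?_)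
  have h1 : ∀ q : minimalPrimes S, x.1 - y.1 ∈ q.1 := by
    intro q
    have := congrArg (fun g : ∀ q : minimalPrimes S, integralClosure R (S ⧸ q.1) =>
      ((g q : integralClosure R (S ⧸ q.1)) : S ⧸ q.1)) hxy
    exact Ideal.Quotient.eq.mp this
  have h2 : x.1 - y.1 ∈ sInf (minimalPrimes S) := by
    rw [Ideal.mem_sInf]
    intro q hq
    exact h1 ⟨q, hq⟩
  have h3 : sInf (minimalPrimes S) = ⊥ := by
    rw [minimalPrimes, Ideal.sInf_minimalPrimes]
    exact nilradical_eq_zero S
  rw [h3, Ideal.mem_bot, sub_eq_zero] at h2
  exact h2

end Groth.Agent.Lib.Helper48
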