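import Mathlib
import Groth.Agent.Lib.Helper48.NagataReduced

universe u

namespace Groth.Agent.Lib.Helper48

open AlgebraicGeometry CategoryTheory

/-- If `B` maps jointly injectively to finitely many reduced finite type algebras over a Nagata ring
`A`, then the integral closure of `A` in `B` is a finite `A`-module. -/
theorem finite_integralClosure_of_jointly_injective {A B : Type u} [CommRing A] [CommRing B]
    (φ : A →+* B) (hA : CAlg.IsNagata A) {ι : Type*} [Finite ι] (Bj : ι → Type u)
    [∀ j, CommRing (Bj j)] [∀ j, IsReduced (Bj j)] (ρ : ∀ j, B →+* Bj j)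
    (hft : ∀ j, ((ρ j).comp φ).FiniteType) (hinj : ∀ x y : B, (∀ j, ρ j x = ρ j y) → x = y) :
    letI := φ.toAlgebra
    Module.Finite A (integralClosure A B) := by
  classical
  letI := φ.toAlgebra
  haveI := Fintype.ofFinite ι
  haveI : IsNoetherianRing A := hA.1
  letI : ∀ j, Algebra A (Bj j) := fun j => ((ρ j).comp φ).toAlgebra
  haveI : ∀ j, Algebra.FiniteType A (Bj j) := fun j => hft j
  haveI hfin : ∀ j, Module.Finite A (integralClosure A (Bj j)) := fun j =>
    finite_integralClosure_of_isNagata_of_isReduced A hA (Bj j)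
  haveI : IsNoetherian A (∀ j, integralClosure A (Bj j)) :=
    isNoetherian_of_isNoetherianRing_of_finite A _
  let ρ' : ∀ j, B →ₐ[A] Bj j := fun j => { ρ j with commutes' := fun a => rfl }
  let f : integralClosure A B →ₗ[A] ∀ j, integralClosure A (Bj j) :=
    { toFun := fun x j => ⟨ρ' j x.1, x.2.map (ρ' j)⟩
      map_add' := fun x y => by
        funext j; apply Subtype.ext
        exact map_add (ρ' j) _ _
      map_smul' := fun a x => by
        funext j; apply Subtype.ext
        exact map_smul (ρ' j) _ _ }
  refine Module.Finite.of_injective f (fun x y hxy => Subtype.ext (hinj _ _ (fun j => ?_)))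
  exact congrArg (fun g : ∀ j, integralClosure A (Bj j) => ((g j : integralClosure A (Bj j)) : Bj j)) hxy

/-- Finiteness of the relative normalization can be checked on integral closures over affine
opens. -/
theorem isFinite_fromNormalization_of_finite {X S : Scheme.{u}} (f : X ⟶ S) [QuasiCompact f]
    [QuasiSeparated f]
    (h : ∀ (U : S.Opens) (_ : IsAffineOpen U),
      letI := (f.app U).hom.toAlgebra
      Module.Finite Γ(S, U) (integralClosure Γ(S, U) Γ(X, f ⁻¹ᵁ U))) :
    IsFinite f.fromNormalization := by
  refine { toIsAffineHom := inferInstance, finite_app := fun U hU => ?_ }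
  letI := (f.app U).hom.toAlgebra
  have h1 : (algebraMap Γ(S, U) (integralClosure Γ(S, U) Γ(X, f ⁻¹ᵁ U))).Finite := h U hU
  let i := f.normalizationObjIso hU
  have h3 : (f.fromNormalization.app U).hom =
      (i.symm.commRingCatIsoToRingEquiv.toRingHom).comp (algebraMap Γ(S, U) _) :=
    congrArg CommRingCat.Hom.hom (f.fromNormalization_app hU)
  rw [h3]
  exact (RingHom.Finite.of_surjective _ i.symm.commRingCatIsoToRingEquiv.surjective).comp h1

/-- Stacks 03GR (finite type case): for `f : X ⟶ S` of finite type with `X` reduced and `S` Nagata,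
the normalization of `S` in `X` is finite over `S`. -/
theorem isFinite_fromNormalization_of_finiteType_nagata {X S : Scheme.{u}} (f : X ⟶ S)
    [LocallyOfFiniteType f] [QuasiCompact f] [QuasiSeparated f] [IsReduced X]
    (hS : ∀ U : S.affineOpens, CAlg.IsNagata Γ(S, U)) : IsFinite f.fromNormalization := by
  refine isFinite_fromNormalization_of_finite f (fun U hU => ?_)
  have hc : IsCompact (f ⁻¹ᵁ U : Set X) :=
    QuasiCompact.isCompact_preimage (f := f) _ U.isOpen hU.isCompact
  obtain ⟨s, hs, hUs⟩ := (isCompact_iff_finite_and_eq_biUnion_affineOpens).mp hc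
  haveI : Finite s := hs
  have hle : ∀ W : s, W.1.1 ≤ f ⁻¹ᵁ U := fun W => by
    rw [hUs]; exact le_iSup₂ (f := fun (i : X.affineOpens) (_ : i ∈ s) => (i : X.Opens)) W.1 W.2
  refine finite_integralClosure_of_jointly_injective (f.app U).hom (hS ⟨U, hU⟩) (ι := s)
    (fun W => Γ(X, W.1.1)) (fun W => (X.presheaf.map (homOfLE (hle W)).op).hom)
    (fun W => ?_) (fun x y hxy => ?_)
  · have := f.finiteType_appLE hU W.1.2 (hle W)
    rw [Scheme.Hom.appLE, CommRingCat.hom_comp] at this
    exact this
  · refine X.sheaf.eq_of_locally_eq' (fun W : s => W.1.1) (f ⁻¹ᵁ U) (fun W => homOfLE (hle W)) ?_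
      x y hxy
    rw [hUs]
    refine iSup₂_le (fun i hi => ?_)
    exact le_iSup (fun W : s => W.1.1) ⟨i, hi⟩

end Groth.Agent.Lib.Helper48
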