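import Mathlib
import Groth.Agent.Lib.Helper48.NagataNormalization

/-!
# Finiteness of relative normalization over a Nagata base, general case (helper48)

Stacks 03GR: `isFinite_fromNormalization_of_nagata`. Ingredients: integral closure of a Nagata ring in
a field essentially of finite type over it is finite; sections of a reduced scheme are determined by
their values at generic points of irreducible components.
-/

universe u

namespace Groth.Agent.Lib.Helper48

open AlgebraicGeometry CategoryTheory IntermediateField

/-- For an N-2 Noetherian domain `A` and a field `F` containing `A` which is essentially of finite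
type over `A`, the integral closure of `A` in `F` is a finite `A`-module. -/
theorem finite_integralClosure_of_isN2_of_essFiniteType_field {A F : Type u} [CommRing A]
    [IsDomain A] [IsNoetherianRing A] (hA : CAlg.IsN2 A) [Field F] [Algebra A F]
    [Algebra.EssFiniteType A F] (hinj : Function.Injective (algebraMap A F)) :
    Module.Finite A (integralClosure A F) := by
  letI : Algebra (FractionRing A) F :=
    (IsFractionRing.lift (g := algebraMap A F) hinj).toAlgebra
  haveI : IsScalarTower A (FractionRing A) F :=
    IsScalarTower.of_algebraMap_eq (fun x => (IsFractionRing.lift_algebraMap hinj x).symm)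
  haveI : Algebra.EssFiniteType (FractionRing A) F := Algebra.EssFiniteType.of_comp A _ _
  haveI : FiniteDimensional (FractionRing A) (algebraicClosure (FractionRing A) F) :=
    finiteDimensional_algebraicClosure_of_essFiniteType _ _
  have hfin : Module.Finite A (integralClosure A (algebraicClosure (FractionRing A) F)) :=
    hA (algebraicClosure (FractionRing A) F) inferInstance
  haveI : IsNoetherian A (integralClosure A (algebraicClosure (FractionRing A) F)) :=
    isNoetherian_of_isNoetherianRing_of_finite A _
  have hmem : ∀ x : integralClosure A F, x.1 ∈ algebraicClosure (FractionRing A) F := by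
    intro x
    rw [mem_algebraicClosure_iff]
    exact (x.2.tower_top (A := FractionRing A)).isAlgebraic
  have hint : ∀ x : integralClosure A F,
      IsIntegral A (⟨x.1, hmem x⟩ : algebraicClosure (FractionRing A) F) := by
    intro x
    exact (isIntegral_algHom_iff
      ((algebraicClosure (FractionRing A) F).val.restrictScalars A)
      Subtype.val_injective).mp x.2
  let f : integralClosure A F →ₗ[A] integralClosure A (algebraicClosure (FractionRing A) F) :=
    { toFun := fun x => ⟨⟨x.1, hmem x⟩, hint x⟩
      map_add' := fun x y => rfl
      map_smul' := fun a x => rfl }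
  refine Module.Finite.of_injective f (fun x y hxy => Subtype.ext ?_)
  exact congrArg (fun z : integralClosure A (algebraicClosure (FractionRing A) F) =>
    ((z : algebraicClosure (FractionRing A) F) : F)) hxy

/-- For a Nagata ring `A` and a field `F` essentially of finite type over `A`, the integral closure
of `A` in `F` is a finite `A`-module. -/
theorem finite_integralClosure_of_isNagata_of_essFiniteType_field {A F : Type u} [CommRing A]
    (hA : CAlg.IsNagata A) [Field F] [Algebra A F] [Algebra.EssFiniteType A F] :
    Module.Finite A (integralClosure A F) := by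
  haveI : IsNoetherianRing A := hA.1
  obtain ⟨p, hp⟩ : ∃ p : Ideal A, p = RingHom.ker (algebraMap A F) := ⟨_, rfl⟩
  haveI : p.IsPrime := hp ▸ RingHom.ker_isPrime _
  have hN2 : CAlg.IsN2 (A ⧸ p) := hA.2 p
  letI : Algebra (A ⧸ p) F := (Ideal.Quotient.lift p (algebraMap A F) (fun a ha => by
    rw [hp] at ha; exact ha)).toAlgebra
  haveI : IsScalarTower A (A ⧸ p) F := IsScalarTower.of_algebraMap_eq (fun x => rfl)
  haveI : Algebra.EssFiniteType (A ⧸ p) F := Algebra.EssFiniteType.of_comp A _ _
  have hinj : Function.Injective (algebraMap (A ⧸ p) F) := by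
    rw [injective_iff_map_eq_zero]
    intro x hx
    obtain ⟨a, rfl⟩ := Ideal.Quotient.mk_surjective x
    rw [Ideal.Quotient.eq_zero_iff_mem, hp]
    exact hx
  have h1 : Module.Finite (A ⧸ p) (integralClosure (A ⧸ p) F) :=
    finite_integralClosure_of_isN2_of_essFiniteType_field hN2 hinj
  have h2 : Module.Finite A (integralClosure (A ⧸ p) F) := Module.Finite.trans (A ⧸ p) _
  haveI : IsNoetherian A (integralClosure (A ⧸ p) F) :=
    isNoetherian_of_isNoetherianRing_of_finite A _
  let f : integralClosure A F →ₗ[A] integralClosure (A ⧸ p) F :=
    { toFun := fun x => ⟨x.1, IsIntegral.tower_top x.2⟩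
      map_add' := fun x y => rfl
      map_smul' := fun a x => rfl }
  exact Module.Finite.of_injective f (fun x y hxy => Subtype.ext
    (congrArg (fun z : integralClosure (A ⧸ p) F => (z : F)) hxy))

/-- If `B` maps jointly injectively to finitely many rings in each of which `A` has a finite integral
closure, then the integral closure of the Noetherian ring `A` in `B` is a finite `A`-module. -/
theorem finite_integralClosure_of_jointly_injective' {A B : Type u} [CommRing A] [CommRing B]
    [IsNoetherianRing A] (φ : A →+* B) {ι : Type*} [Finite ι] (Bj : ι → Type u)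
    [∀ j, CommRing (Bj j)] (ρ : ∀ j, B →+* Bj j)
    (hfin : ∀ j, letI := ((ρ j).comp φ).toAlgebra; Module.Finite A (integralClosure A (Bj j)))
    (hinj : ∀ x y : B, (∀ j, ρ j x = ρ j y) → x = y) :
    letI := φ.toAlgebra
    Module.Finite A (integralClosure A B) := by
  classical
  letI := φ.toAlgebra
  haveI := Fintype.ofFinite ι
  letI : ∀ j, Algebra A (Bj j) := fun j => ((ρ j).comp φ).toAlgebra
  haveI hfin' : ∀ j, Module.Finite A (integralClosure A (Bj j)) := hfin
  haveI : IsNoetherian A (∀ j, integralClosure A (Bj j)) :=
    isNoetherian_of_isNoetherianRing_of_finite A _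
  let ρ' : ∀ j, B →ₐ[A] Bj j := fun j => { ρ j with commutes' := fun a => rfl }
  let f : integralClosure A B →ₗ[A] ∀ j, integralClosure A (Bj j) :=
    { toFun := fun x j => ⟨ρ' j x.1, x.2.map (ρ' j)⟩
      map_add' := fun x y => by
        funext j; apply Subtype.ext
        exact map_add (ρ' j) _ _
      map_smul' := fun a x => by
        funext j; apply Subtype.ext
        exact map_smul (ρ' j) _ _ }
  refine Module.Finite.of_injective f (fun x y hxy => Subtype.ext (hinj _ _ (fun j => ?_)))
  exact congrArg (fun g : ∀ j, integralClosure A (Bj j) => ((g j : integralClosure A (Bj j)) : Bj j)) hxy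

/-- Evaluation at a point of an affine open is essentially of finite type. -/
theorem essFiniteType_evaluation {S : Scheme.{u}} {U : S.Opens} (hU : IsAffineOpen U) (y : S)
    (hy : y ∈ U) : (S.evaluation U y hy).hom.EssFiniteType := by
  rw [← Scheme.germ_residue, CommRingCat.hom_comp]
  refine RingHom.EssFiniteType.comp ?_ ?_
  · letI := S.presheaf.algebra_section_stalk ⟨y, hy⟩
    haveI := hU.isLocalization_stalk ⟨y, hy⟩
    show (algebraMap Γ(S, U) (S.presheaf.stalk y)).EssFiniteType
    rw [RingHom.essFiniteType_algebraMap]
    exact Algebra.EssFiniteType.of_isLocalization _ (hU.primeIdealOf ⟨y, hy⟩).asIdeal.primeCompl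
  · exact (RingHom.FiniteType.of_surjective _ (S.residue_surjective y)).essFiniteType

/-- The generic points of irreducible components meeting a quasi-compact subset form a finite
set, when the irreducible components are locally finite. -/
theorem finite_genericPoints_inter {X : Scheme.{u}} (V : X.Opens) (hc : IsCompact (V : Set X))
    (hfin : LocallyFinite (fun Z : ↥(irreducibleComponents ↥X) => (Z : Set ↥X))) :
    Finite {x : X // x ∈ V ∧ closure {x} ∈ irreducibleComponents ↥X} := by
  have h1 := hfin.finite_nonempty_inter_compact hc
  haveI : Finite {i : ↥(irreducibleComponents ↥X) | ((i : Set X) ∩ (V : Set X)).Nonempty} := h1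
  let g : {x : X // x ∈ V ∧ closure {x} ∈ irreducibleComponents ↥X} →
      {i : ↥(irreducibleComponents ↥X) | ((i : Set X) ∩ (V : Set X)).Nonempty} :=
    fun x => ⟨⟨closure {x.1}, x.2.2⟩, ⟨x.1, subset_closure (Set.mem_singleton _), x.2.1⟩⟩
  refine Finite.of_injective g (fun x y hxy => Subtype.ext ?_)
  have h2 : closure ({x.1} : Set X) = closure {y.1} :=
    congrArg (fun i : {i : ↥(irreducibleComponents ↥X) | ((i : Set X) ∩ (V : Set X)).Nonempty} =>
      ((i : ↥(irreducibleComponents ↥X)) : Set X)) hxy
  exact (inseparable_iff_closure_eq.mpr h2).eq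

/-- On a reduced scheme, sections over an open `V` are determined by their values at the generic
points of irreducible components lying in `V`. -/
theorem eq_of_evaluation_eq_genericPoints {X : Scheme.{u}} [IsReduced X] (V : X.Opens)
    (b b' : Γ(X, V))
    (h : ∀ (x : X) (hx : x ∈ V), closure {x} ∈ irreducibleComponents ↥X →
      X.evaluation V x hx b = X.evaluation V x hx b') : b = b' := by
  rw [← sub_eq_zero, ← basicOpen_eq_bot_iff]
  ext y
  simp only [TopologicalSpace.Opens.coe_bot, Set.mem_empty_iff_false, iff_false]
  intro hy
  have hirr : IsIrreducible (irreducibleComponent y) := isIrreducible_irreducibleComponent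
  have hcl : IsClosed (irreducibleComponent y) := isClosed_irreducibleComponent
  have hgen : closure {hirr.genericPoint} = irreducibleComponent y := hirr.closure_genericPoint hcl
  have hspec : hirr.genericPoint ⤳ y := by
    rw [specializes_iff_mem_closure, hgen]
    exact mem_irreducibleComponent
  have hη : hirr.genericPoint ∈ X.basicOpen (b - b') :=
    hspec.mem_open (X.basicOpen (b - b')).isOpen hy
  have hηV : hirr.genericPoint ∈ V := X.basicOpen_le _ hη
  have h0 := h hirr.genericPoint hηV (hgen.symm ▸ irreducibleComponent_mem_irreducibleComponents y)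
  have h1 : X.evaluation V hirr.genericPoint hηV (b - b') = 0 := by
    rw [map_sub, h0, sub_self]
  rw [Scheme.evaluation_eq_zero_iff_notMem_basicOpen] at h1
  exact h1 hη

/-- Stacks 03GR: normalization of a Nagata scheme `S` in a reduced scheme `X` with locally finitely
many irreducible components whose generic residue fields are finitely generated over those of `S`
is finite over `S`. -/
theorem isFinite_fromNormalization_of_nagata {X S : Scheme.{u}} (f : X ⟶ S)
    [QuasiCompact f] [QuasiSeparated f] [IsReduced X]
    (hS : ∀ U : S.affineOpens, CAlg.IsNagata Γ(S, U))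
    (hfin : LocallyFinite (fun Z : ↥(irreducibleComponents ↥X) => (Z : Set ↥X)))
    (hres : ∀ x : X, closure {x} ∈ irreducibleComponents ↥X →
      (f.residueFieldMap x).hom.EssFiniteType) :
    IsFinite f.fromNormalization := by
  refine isFinite_fromNormalization_of_finite f (fun U hU => ?_)
  have hc : IsCompact (f ⁻¹ᵁ U : Set X) :=
    QuasiCompact.isCompact_preimage (f := f) _ U.isOpen hU.isCompact
  haveI : Finite {x : X // x ∈ f ⁻¹ᵁ U ∧ closure {x} ∈ irreducibleComponents ↥X} :=
    finite_genericPoints_inter _ hc hfin
  haveI : IsNoetherianRing Γ(S, U) := (hS ⟨U, hU⟩).1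
  refine finite_integralClosure_of_jointly_injective' (f.app U).hom
    (ι := {x : X // x ∈ f ⁻¹ᵁ U ∧ closure {x} ∈ irreducibleComponents ↥X})
    (fun x => X.residueField x.1) (fun x => (X.evaluation (f ⁻¹ᵁ U) x.1 x.2.1).hom)
    (fun x => ?_) (fun b b' hbb' => ?_)
  · letI := ((X.evaluation (f ⁻¹ᵁ U) x.1 x.2.1).hom.comp (f.app U).hom).toAlgebra
    have hess : ((X.evaluation (f ⁻¹ᵁ U) x.1 x.2.1).hom.comp (f.app U).hom).EssFiniteType := by
      have e := Scheme.evaluation_naturality f (V := U) x.1 x.2.1
      rw [← CommRingCat.hom_comp, ← e, CommRingCat.hom_comp]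
      exact (essFiniteType_evaluation hU (f x.1) x.2.1).comp (hres x.1 x.2.2)
    haveI : Algebra.EssFiniteType Γ(S, U) (X.residueField x.1) := hess
    exact finite_integralClosure_of_isNagata_of_essFiniteType_field (hS ⟨U, hU⟩)
  · exact eq_of_evaluation_eq_genericPoints _ b b' (fun x hx hxc => hbb' ⟨x, hx, hxc⟩)

end Groth.Agent.Lib.Helper48
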