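import Mathlib
import Groth.Agent.Lib.Helper48.NagataLocal
import Groth.Agent.S0574

universe u

namespace Groth.Agent.Lib.Helper48

/-- A field is N-2. -/
theorem isN2_of_isField {k : Type u} [CommRing k] [IsDomain k] (h : IsField k) : CAlg.IsN2 k := by
  intro L _ _ _ _ hL
  haveI : IsPrincipalIdealRing k := h.isPrincipalIdealRing
  have hsurj : Function.Surjective (algebraMap k (FractionRing k)) :=
    IsFractionRing.surjective_iff_isField.mpr h
  haveI : Module.Finite k (FractionRing k) :=
    Module.Finite.of_surjective (Algebra.linearMap k (FractionRing k)) hsurj
  haveI : Module.Finite k L := Module.Finite.trans (FractionRing k) L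
  haveI : IsNoetherian k L := isNoetherian_of_isNoetherianRing_of_finite k L
  exact Module.Finite.of_injective (integralClosure k L).val.toLinearMap Subtype.val_injective

/-- An integrally closed Noetherian domain of characteristic zero is N-2. -/
theorem isN2_of_isIntegrallyClosed_of_charZero {A : Type u} [CommRing A] [IsDomain A]
    [IsNoetherianRing A] [IsIntegrallyClosed A] [CharZero A] : CAlg.IsN2 A := by
  rw [← Groth.Agent.S0574.result A]
  show Module.Finite A (integralClosure A (FractionRing A))
  have h1 : integralClosure A (FractionRing A) = ⊥ :=
    (IsIntegrallyClosed.integralClosure_eq_bot_iff (FractionRing A)).mpr inferInstance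
  rw [h1]
  have e := Algebra.botEquivOfInjective (IsFractionRing.injective A (FractionRing A))
  exact Module.Finite.of_surjective e.symm.toLinearMap e.symm.surjective

/-- A Dedekind domain of characteristic zero is a Nagata ring. -/
theorem isNagata_of_isDedekindDomain_charZero (A : Type u) [CommRing A] [IsDedekindDomain A]
    [CharZero A] : CAlg.IsNagata A := by
  refine ⟨inferInstance, fun p hp => ?_⟩
  by_cases h0 : p = ⊥
  · subst h0
    exact isN2_of_ringEquiv (RingEquiv.quotientBot A).symm isN2_of_isIntegrallyClosed_of_charZero
  · haveI : p.IsMaximal := hp.isMaximal h0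
    exact isN2_of_isField ((Ideal.Quotient.maximal_ideal_iff_isField_quotient p).mp inferInstance)

end Groth.Agent.Lib.Helper48
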