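import Mathlib
import Groth.Agent.Lib.Helper48.NagataDedekind

universe u

namespace Groth.Agent.Lib.Helper48

open Polynomial

attribute [local instance] Polynomial.algebra

/-- `R'[X]` is finite over `R[X]` when `R'` is finite over `R`. -/
theorem finite_polynomial_of_finite (R R' : Type*) [CommRing R] [CommRing R'] [Algebra R R']
    [Module.Finite R R'] : Module.Finite R[X] R'[X] := by
  have h := Algebra.IsPushout.out (R := R) (S := R[X]) (R' := R') (S' := R'[X])
  exact Module.Finite.equiv h.equiv

/-- Clearing denominators: a polynomial over a subalgebra of the fraction field becomes a polynomial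
over `R` after multiplying by a nonzero constant. -/
theorem exists_smul_mem_range_map {R K : Type*} [CommRing R] [IsDomain R] [Field K] [Algebra R K]
    [IsFractionRing R K] (R' : Subalgebra R K) (p : R'[X]) :
    ∃ d : R, d ≠ 0 ∧ ∃ p₀ : R[X], p₀.map (algebraMap R R') = C (algebraMap R R' d) * p := by
  classical
  obtain ⟨b, hb⟩ := IsLocalization.exist_integer_multiples_of_finset (nonZeroDivisors R)
    (p.support.image fun n => ((p.coeff n : R') : K))
  refine ⟨b, nonZeroDivisors.ne_zero b.2, ?_⟩
  have hcoeff : ∀ n, ∃ r : R, algebraMap R R' r = algebraMap R R' b * p.coeff n := by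
    intro n
    by_cases hn : n ∈ p.support
    · obtain ⟨r, hr⟩ := hb ((p.coeff n : R') : K) (Finset.mem_image_of_mem _ hn)
      refine ⟨r, Subtype.ext ?_⟩
      rw [Algebra.smul_def] at hr
      simpa using hr
    · rw [Polynomial.notMem_support_iff.mp hn, mul_zero]
      exact ⟨0, map_zero _⟩
  choose r hr using hcoeff
  refine ⟨∑ n ∈ p.support, monomial n (r n), ?_⟩
  refine Polynomial.ext (fun n => ?_)
  rw [Polynomial.coeff_map, Polynomial.finsetSum_coeff, Polynomial.coeff_C_mul, map_sum]
  simp only [Polynomial.coeff_monomial]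
  by_cases hn : n ∈ p.support
  · rw [Finset.sum_eq_single n]
    · simp [hr]
    · intro m _ hmn
      simp [hmn]
    · intro h; exact absurd hn h
  · rw [Polynomial.notMem_support_iff.mp hn, mul_zero]
    apply Finset.sum_eq_zero
    intro m hm
    have : m ≠ n := fun h => hn (h ▸ hm)
    simp [this]

/-- `Frac(R'[X])` is also the fraction field of `R[X]`, for `R ⊆ R' ⊆ Frac R`. -/
theorem isFractionRing_polynomial_subalgebra {R K : Type*} [CommRing R] [IsDomain R] [Field K]
    [Algebra R K] [IsFractionRing R K] (R' : Subalgebra R K) :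
    IsFractionRing R[X] (FractionRing R'[X]) := by
  have hinjR : Function.Injective (algebraMap R R') := fun a b hab =>
    IsFractionRing.injective R K (congrArg Subtype.val hab)
  have hinj : Function.Injective (algebraMap R[X] (FractionRing R'[X])) := by
    rw [IsScalarTower.algebraMap_eq R[X] R'[X] (FractionRing R'[X])]
    exact (IsFractionRing.injective R'[X] _).comp (Polynomial.map_injective _ hinjR)
  haveI : FaithfulSMul R[X] (FractionRing R'[X]) :=
    (faithfulSMul_iff_algebraMap_injective _ _).mpr hinj
  refine IsFractionRing.of_field _ _ (fun z => ?_)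
  obtain ⟨a, b, hb, rfl⟩ := IsFractionRing.div_surjective (A := R'[X]) z
  obtain ⟨d₁, hd₁, a₀, ha₀⟩ := exists_smul_mem_range_map R' a
  obtain ⟨d₂, hd₂, b₀, hb₀⟩ := exists_smul_mem_range_map R' b
  refine ⟨a₀ * C d₂, b₀ * C d₁, ?_⟩
  have hb' : algebraMap R'[X] (FractionRing R'[X]) b ≠ 0 :=
    (map_ne_zero_iff _ (IsFractionRing.injective R'[X] _)).mpr (nonZeroDivisors.ne_zero hb)
  have hC : ∀ d : R, d ≠ 0 →
      algebraMap R'[X] (FractionRing R'[X]) (C (algebraMap R R' d)) ≠ 0 := by
    intro d hd
    rw [map_ne_zero_iff _ (IsFractionRing.injective R'[X] _), Ne, Polynomial.C_eq_zero,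
      map_eq_zero_iff _ hinjR]
    exact hd
  have e1 : algebraMap R[X] (FractionRing R'[X]) (a₀ * C d₂) =
      algebraMap R'[X] (FractionRing R'[X]) (C (algebraMap R R' d₁)) *
        algebraMap R'[X] (FractionRing R'[X]) a *
        algebraMap R'[X] (FractionRing R'[X]) (C (algebraMap R R' d₂)) := by
    rw [IsScalarTower.algebraMap_apply R[X] R'[X] (FractionRing R'[X]), Polynomial.algebraMap_def,
      Polynomial.coe_mapRingHom]
    rw [Polynomial.map_mul, ha₀, Polynomial.map_C, map_mul, map_mul]
  have e2 : algebraMap R[X] (FractionRing R'[X]) (b₀ * C d₁) =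
      algebraMap R'[X] (FractionRing R'[X]) (C (algebraMap R R' d₂)) *
        algebraMap R'[X] (FractionRing R'[X]) b *
        algebraMap R'[X] (FractionRing R'[X]) (C (algebraMap R R' d₁)) := by
    rw [IsScalarTower.algebraMap_apply R[X] R'[X] (FractionRing R'[X]), Polynomial.algebraMap_def,
      Polynomial.coe_mapRingHom]
    rw [Polynomial.map_mul, hb₀, Polynomial.map_C, map_mul, map_mul]
  rw [e1, e2, div_eq_div_iff hb' (mul_ne_zero (mul_ne_zero (hC d₂ hd₂) hb') (hC d₁ hd₁))]
  ring

/-- If `R` is an N-1 Noetherian domain then so is `R[X]`. -/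
theorem isN1_polynomial {R : Type u} [CommRing R] [IsDomain R] [IsNoetherianRing R]
    (h : CAlg.IsN1 R) : CAlg.IsN1 R[X] := by
  obtain ⟨R', hR'⟩ : ∃ R' : Subalgebra R (FractionRing R),
    R' = integralClosure R (FractionRing R) := ⟨_, rfl⟩
  haveI : Module.Finite R R' := hR' ▸ h
  haveI : IsIntegrallyClosed R' :=
    hR' ▸ integralClosure.isIntegrallyClosedOfFiniteExtension (FractionRing R)
  haveI hfin : Module.Finite R[X] R'[X] := finite_polynomial_of_finite R R'
  haveI : IsFractionRing R[X] (FractionRing R'[X]) := isFractionRing_polynomial_subalgebra R'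
  have key : Module.Finite R[X] (integralClosure R[X] (FractionRing R'[X])) := by
    obtain ⟨N, hN⟩ : ∃ N : Submodule R[X] (FractionRing R'[X]),
      N = LinearMap.range (IsScalarTower.toAlgHom R[X] R'[X] (FractionRing R'[X])).toLinearMap :=
      ⟨_, rfl⟩
    haveI : Module.Finite R[X] N := hN ▸ Module.Finite.range _
    haveI : IsNoetherian R[X] N := isNoetherian_of_isNoetherianRing_of_finite R[X] N
    have hmem : ∀ z : integralClosure R[X] (FractionRing R'[X]), z.1 ∈ N := by
      intro z
      have h1 : IsIntegral R'[X] z.1 := z.2.tower_top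
      obtain ⟨y, hy⟩ := IsIntegrallyClosed.isIntegral_iff.mp h1
      rw [hN]
      exact ⟨y, hy⟩
    let f : integralClosure R[X] (FractionRing R'[X]) →ₗ[R[X]] N :=
      LinearMap.codRestrict N (integralClosure R[X] (FractionRing R'[X])).val.toLinearMap hmem
    refine Module.Finite.of_injective f (fun x y hxy => Subtype.ext ?_)
    exact congrArg (fun z : N => (z : FractionRing R'[X])) hxy
  exact finite_integralClosure_of_algEquiv
    (FractionRing.algEquiv R[X] (FractionRing R'[X])).symm key

/-- `RingHom` form of `finite_polynomial_of_finite`. -/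
theorem finite_mapRingHom_of_finite (R R' : Type*) [CommRing R] [CommRing R'] [Algebra R R']
    [Module.Finite R R'] : (Polynomial.mapRingHom (algebraMap R R')).Finite :=
  finite_polynomial_of_finite R R'


end Groth.Agent.Lib.Helper48
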