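import Mathlib
import Groth.Agent.Lib.Helper48.PolynomialN1

/-!
# The polynomial ring over a Noetherian N-2 domain is N-2 (Stacks 0332)
-/

universe u

namespace Groth.Agent.Lib.Helper48

open Polynomial

/-- If `B` is an integrally closed domain, finite over a Noetherian ring `A`, then the integral
closure of `A` in `Frac B` is finite over `A`. -/
theorem finite_integralClosure_of_finite_of_isIntegrallyClosed (A B L : Type*) [CommRing A]
    [IsNoetherianRing A] [CommRing B] [IsDomain B] [IsIntegrallyClosed B] [Algebra A B]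
    [Module.Finite A B] [Field L] [Algebra B L] [IsFractionRing B L] [Algebra A L]
    [IsScalarTower A B L] : Module.Finite A (integralClosure A L) := by
  obtain ⟨N, hN⟩ : ∃ N : Submodule A L,
    N = LinearMap.range (IsScalarTower.toAlgHom A B L).toLinearMap := ⟨_, rfl⟩
  haveI : Module.Finite A N := hN ▸ Module.Finite.range _
  haveI : IsNoetherian A N := isNoetherian_of_isNoetherianRing_of_finite A N
  have hmem : ∀ z : integralClosure A L, z.1 ∈ N := by
    intro z
    have h1 : IsIntegral B z.1 := z.2.tower_top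
    obtain ⟨y, hy⟩ := IsIntegrallyClosed.isIntegral_iff.mp h1
    rw [hN]
    exact ⟨y, hy⟩
  let f : integralClosure A L →ₗ[A] N :=
    LinearMap.codRestrict N (integralClosure A L).val.toLinearMap hmem
  refine Module.Finite.of_injective f (fun x y hxy => Subtype.ext ?_)
  exact congrArg (fun z : N => (z : L)) hxy

/-- `X ↦ X ^ q` makes `R[X]` finite over itself, for `0 < q`. -/
theorem finite_expand (R : Type*) [CommRing R] (q : ℕ) (hq : 0 < q) :
    ((Polynomial.expand R q : R[X] →ₐ[R] R[X]) : R[X] →+* R[X]).Finite := by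
  obtain ⟨f, hf⟩ : ∃ f : R[X] →+* R[X], f = ((Polynomial.expand R q : R[X] →ₐ[R] R[X]) : R[X] →+* R[X]) :=
    ⟨_, rfl⟩
  rw [← hf]
  have hfC : ∀ a : R, f (C a) = C a := fun a => by rw [hf]; simp
  have hfX : f X = X ^ q := by rw [hf]; simp
  refine RingHom.IsIntegral.to_finite ?_ ?_
  · -- integral
    have hX : f.IsIntegralElem X := by
      refine ⟨X ^ q - C (X : R[X]), monic_X_pow_sub_C _ hq.ne', ?_⟩
      rw [eval₂_sub, eval₂_X_pow, eval₂_C, hfX, sub_self]
    have hXn : ∀ n : ℕ, f.IsIntegralElem (X ^ n) := by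
      intro n
      induction n with
      | zero => rw [pow_zero]; exact f.isIntegralElem_one
      | succ n ih => rw [pow_succ]; exact ih.mul f hX
    intro g
    induction g using Polynomial.induction_on' with
    | add g₁ g₂ h₁ h₂ => exact h₁.add f h₂
    | monomial n a =>
      rw [← C_mul_X_pow_eq_monomial]
      refine RingHom.IsIntegralElem.mul f ?_ (hXn n)
      rw [← hfC a]
      exact f.isIntegralElem_map
  · -- finite type
    have h1 : (f.comp (C : R →+* R[X])) = algebraMap R R[X] := by
      ext a
      simp [hfC, Polynomial.algebraMap_apply]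
    have h2 : (f.comp (C : R →+* R[X])).FiniteType := by
      rw [h1]
      exact RingHom.finiteType_algebraMap.mpr inferInstance
    exact RingHom.FiniteType.of_comp_finiteType h2

/-- If all coefficients of `f` become `p ^ e`-th powers in `R'`, then `f(X ^ (p ^ e))` is a
`p ^ e`-th power in `R'[X]`. -/
theorem exists_pow_eq_expand_map {R R' : Type*} [CommRing R] [CommRing R'] (i : R →+* R')
    (p : ℕ) [ExpChar R' p] (e : ℕ) (f : R[X])
    (hf : ∀ n, ∃ r' : R', r' ^ (p ^ e) = i (f.coeff n)) :
    ∃ h : R'[X], h ^ (p ^ e) = Polynomial.expand R' (p ^ e) (f.map i) := by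
  classical
  choose r hr using hf
  refine ⟨∑ n ∈ f.support, monomial n (r n), ?_⟩
  rw [← map_iterateFrobenius_expand, map_expand]
  congr 1
  ext n
  rw [coeff_map, coeff_map, finsetSum_coeff]
  simp only [coeff_monomial]
  by_cases hn : n ∈ f.support
  · rw [Finset.sum_eq_single n]
    · simp [iterateFrobenius_def, hr]
    · intro m _ hmn; simp [hmn]
    · intro h; exact absurd hn h
  · rw [Polynomial.notMem_support_iff.mp hn, map_zero, Finset.sum_eq_zero, map_zero]
    intro m hm
    have : m ≠ n := fun h => hn (h ▸ hm)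
    simp [this]

/-- Core of the N-2 property for polynomial rings: a finite extension `L` of `Frac R[X]` generated by
elements whose `p ^ e`-th powers are fractions of polynomials whose coefficients have `p ^ e`-th
roots in a finite integrally closed extension `R'` of `R`. -/
theorem finite_integralClosure_polynomial_of_roots
    {R : Type*} [CommRing R] [IsDomain R] [IsNoetherianRing R]
    (R' : Type*) [CommRing R'] [IsDomain R'] [IsIntegrallyClosed R'] [Algebra R R']
    [Module.Finite R R'] (hinj : Function.Injective (algebraMap R R'))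
    (p : ℕ) [ExpChar R p] (e : ℕ)
    (F : Type*) [Field F] [Algebra R[X] F] [IsFractionRing R[X] F]
    (L : Type*) [Field L] [Algebra F L] [Algebra R[X] L] [IsScalarTower R[X] F L]
    [FiniteDimensional F L]
    (s : Set L) (hs : IntermediateField.adjoin F s = ⊤)
    (hroots : ∀ y ∈ s, ∃ f g : R[X], g ≠ 0 ∧
      y ^ (p ^ e) * algebraMap R[X] L g = algebraMap R[X] L f ∧
      (∀ n, ∃ r' : R', r' ^ (p ^ e) = algebraMap R R' (f.coeff n)) ∧
      (∀ n, ∃ r' : R', r' ^ (p ^ e) = algebraMap R R' (g.coeff n))) :
    Module.Finite R[X] (integralClosure R[X] L) := by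
  have hq : 0 < p ^ e := expChar_pow_pos R p e
  haveI : ExpChar R' p := expChar_of_injective_algebraMap hinj p
  obtain ⟨φ, hφ⟩ : ∃ φ : R[X] →+* R'[X],
    φ = ((expand R' (p ^ e) : R'[X] →ₐ[R'] R'[X]) : R'[X] →+* R'[X]).comp
      (mapRingHom (algebraMap R R')) := ⟨_, rfl⟩
  have hφapp : ∀ f : R[X], φ f = expand R' (p ^ e) (f.map (algebraMap R R')) := by
    intro f; rw [hφ]; rfl
  have hφinj : Function.Injective φ := by
    rw [hφ]
    exact (expand_injective hq).comp (map_injective _ hinj)
  have hφfin : φ.Finite := by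
    rw [hφ]
    exact (finite_expand R' (p ^ e) hq).comp (finite_mapRingHom_of_finite R R')
  letI : Algebra R[X] R'[X] := φ.toAlgebra
  haveI : Module.Finite R[X] R'[X] := hφfin
  have hinjL' : Function.Injective (algebraMap R[X] (FractionRing R'[X])) := by
    rw [IsScalarTower.algebraMap_eq R[X] R'[X] (FractionRing R'[X])]
    exact (IsFractionRing.injective R'[X] (FractionRing R'[X])).comp hφinj
  letI : Algebra F (FractionRing R'[X]) :=
    (IsFractionRing.lift (g := algebraMap R[X] (FractionRing R'[X])) hinjL').toAlgebra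
  haveI : IsScalarTower R[X] F (FractionRing R'[X]) :=
    IsScalarTower.of_algebraMap_eq (fun x => (IsFractionRing.lift_algebraMap hinjL' x).symm)
  haveI : ExpChar (FractionRing R'[X]) p :=
    expChar_of_injective_ringHom (IsFractionRing.injective R'[X] (FractionRing R'[X])) p
  -- `q`-th roots in `L'`
  have hroot : ∀ f : R[X], (∀ n, ∃ r' : R', r' ^ (p ^ e) = algebraMap R R' (f.coeff n)) →
      ∃ b : FractionRing R'[X], b ^ (p ^ e) = algebraMap R[X] (FractionRing R'[X]) f := by
    intro f hf
    obtain ⟨h, hh⟩ := exists_pow_eq_expand_map (algebraMap R R') p e f hf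
    refine ⟨algebraMap R'[X] (FractionRing R'[X]) h, ?_⟩
    rw [← map_pow, hh, ← hφapp, IsScalarTower.algebraMap_apply R[X] R'[X] (FractionRing R'[X])]
    rfl
  have hsplit : ∀ y ∈ s, IsIntegral F y ∧
      ((minpoly F y).map (algebraMap F (FractionRing R'[X]))).Splits := by
    intro y hy
    have hyint : IsIntegral F y := Algebra.IsIntegral.isIntegral y
    refine ⟨hyint, ?_⟩
    obtain ⟨f, g, hg, hfg, hf, hg'⟩ := hroots y hy
    obtain ⟨bf, hbf⟩ := hroot f hf
    obtain ⟨bg, hbg⟩ := hroot g hg'
    have hgF : algebraMap R[X] F g ≠ 0 :=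
      (map_ne_zero_iff _ (IsFractionRing.injective R[X] F)).mpr hg
    obtain ⟨a, ha⟩ : ∃ a : F, a = algebraMap R[X] F f / algebraMap R[X] F g := ⟨_, rfl⟩
    have haL : algebraMap F L a = y ^ (p ^ e) := by
      rw [ha, map_div₀, ← IsScalarTower.algebraMap_apply, ← IsScalarTower.algebraMap_apply, ← hfg]
      rw [mul_div_assoc, div_self, mul_one]
      rw [IsScalarTower.algebraMap_apply R[X] F L]
      exact (map_ne_zero_iff _ (algebraMap F L).injective).mpr hgF
    have hgL' : algebraMap R[X] (FractionRing R'[X]) g ≠ 0 :=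
      (map_ne_zero_iff _ hinjL').mpr hg
    have haL' : algebraMap F (FractionRing R'[X]) a = (bf / bg) ^ (p ^ e) := by
      rw [ha, map_div₀, ← IsScalarTower.algebraMap_apply, ← IsScalarTower.algebraMap_apply,
        div_pow, hbf, hbg]
    have hdvd : minpoly F y ∣ X ^ (p ^ e) - C a := by
      apply minpoly.dvd
      rw [map_sub, map_pow, aeval_X, aeval_C, haL, sub_self]
    have hne : (X ^ (p ^ e) - C a : F[X]) ≠ 0 := (monic_X_pow_sub_C a hq.ne').ne_zero
    have hsp : ((X ^ (p ^ e) - C a : F[X]).map (algebraMap F (FractionRing R'[X]))).Splits := by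
      rw [Polynomial.map_sub, Polynomial.map_pow, map_X, map_C, haL', C_pow,
        ← sub_pow_expChar_pow]
      exact (Splits.X_sub_C _).pow _
    refine Splits.of_dvd hsp ?_ (Polynomial.map_dvd _ hdvd)
    exact (Polynomial.map_ne_zero_iff (algebraMap F (FractionRing R'[X])).injective).mpr hne
  obtain ⟨ψ⟩ := IntermediateField.nonempty_algHom_of_adjoin_splits hsplit hs
  exact finite_integralClosure_of_algHom_injective R[X] L (FractionRing R'[X])
    (ψ.restrictScalars R[X]) ψ.injective
    (finite_integralClosure_of_finite_of_isIntegrallyClosed R[X] R'[X] (FractionRing R'[X]))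

/-- If `R` is a Noetherian N-2 domain then so is `R[X]`. -/
theorem isN2_polynomial {R : Type u} [CommRing R] [IsDomain R] [IsNoetherianRing R]
    (hR : CAlg.IsN2 R) : CAlg.IsN2 R[X] := by
  intro L₀ _ _ _ _ hfd₀
  refine finite_integralClosure_of_forall_purelyInseparable R[X] (FractionRing R[X]) ?_ L₀
  intro L _ _ _ _ hfd hpi
  obtain ⟨p, hp⟩ : ∃ p, p = ringExpChar R := ⟨_, rfl⟩
  haveI : ExpChar R p := hp ▸ inferInstance
  have hinjF : Function.Injective (algebraMap R (FractionRing R[X])) := by
    rw [IsScalarTower.algebraMap_eq R R[X] (FractionRing R[X])]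
    exact (IsFractionRing.injective R[X] _).comp (Polynomial.C_injective)
  haveI : ExpChar (FractionRing R[X]) p := expChar_of_injective_algebraMap hinjF p
  obtain ⟨e, he⟩ : ∃ e, e = IsPurelyInseparable.exponent (FractionRing R[X]) L := ⟨_, rfl⟩
  have hq : 0 < p ^ e := expChar_pow_pos R p e
  have hpow : ∀ y : L, y ^ p ^ e ∈ (algebraMap (FractionRing R[X]) L).range := fun y =>
    he ▸ IsPurelyInseparable.exponent_def' (FractionRing R[X]) p y
  have hfg : ∀ y : L, ∃ f g : R[X], g ≠ 0 ∧
      y ^ (p ^ e) * algebraMap R[X] L g = algebraMap R[X] L f := by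
    intro y
    obtain ⟨a, ha⟩ := hpow y
    obtain ⟨f, g, hg, rfl⟩ := IsFractionRing.div_surjective (A := R[X]) a
    have hg0 : g ≠ 0 := nonZeroDivisors.ne_zero hg
    refine ⟨f, g, hg0, ?_⟩
    rw [← ha, map_div₀, ← IsScalarTower.algebraMap_apply, ← IsScalarTower.algebraMap_apply,
      div_mul_cancel₀]
    rw [IsScalarTower.algebraMap_apply R[X] (FractionRing R[X]) L]
    exact (map_ne_zero_iff _ (algebraMap (FractionRing R[X]) L).injective).mpr
      ((map_ne_zero_iff _ (IsFractionRing.injective R[X] _)).mpr hg0)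
  choose f g hg hfg using hfg
  obtain ⟨s, hs⟩ := IntermediateField.fg_of_noetherian (⊤ : IntermediateField (FractionRing R[X]) L)
  classical
  -- the finite set of coefficients
  obtain ⟨Cf, hCf⟩ : ∃ Cf : Finset R, Cf = s.biUnion (fun y => (f y).coeffs ∪ (g y).coeffs) :=
    ⟨_, rfl⟩
  -- roots in the algebraic closure of `Frac R`
  have hrt : ∀ c : R, ∃ z : AlgebraicClosure (FractionRing R),
      z ^ (p ^ e) = algebraMap R (AlgebraicClosure (FractionRing R)) c :=
    fun c => IsAlgClosed.exists_pow_nat_eq _ hq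
  choose ρ hρ using hrt
  obtain ⟨K', hK'⟩ : ∃ K' : IntermediateField (FractionRing R) (AlgebraicClosure (FractionRing R)),
    K' = IntermediateField.adjoin (FractionRing R)
      ((Cf.image ρ : Finset (AlgebraicClosure (FractionRing R))) :
        Set (AlgebraicClosure (FractionRing R))) := ⟨_, rfl⟩
  haveI : FiniteDimensional (FractionRing R) K' := by
    rw [hK']
    exact IntermediateField.finiteDimensional_adjoin
      (fun x _ => Algebra.IsIntegral.isIntegral x)
  haveI hfinR' : Module.Finite R (integralClosure R K') := hR K' inferInstance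
  haveI : IsIntegrallyClosed (integralClosure R K') :=
    integralClosure.isIntegrallyClosedOfFiniteExtension (FractionRing R)
  have hinjK' : Function.Injective (algebraMap R K') := by
    rw [IsScalarTower.algebraMap_eq R (FractionRing R) K']
    exact (algebraMap (FractionRing R) K').injective.comp (IsFractionRing.injective R _)
  have hinjR' : Function.Injective (algebraMap R (integralClosure R K')) := by
    intro a b hab
    exact hinjK' (congrArg Subtype.val hab)
  -- roots in `R'`
  have hC : ∀ c ∈ Cf, ∃ r' : integralClosure R K', r' ^ (p ^ e) = algebraMap R _ c := by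
    intro c hc
    have hmem : ρ c ∈ K' := by
      rw [hK']
      exact IntermediateField.subset_adjoin _ _ (Finset.mem_coe.mpr (Finset.mem_image_of_mem ρ hc))
    have hpowc : (⟨ρ c, hmem⟩ : K') ^ (p ^ e) = algebraMap R K' c := Subtype.ext (hρ c)
    have hint : IsIntegral R (⟨ρ c, hmem⟩ : K') := by
      refine ⟨X ^ (p ^ e) - C c, monic_X_pow_sub_C c hq.ne', ?_⟩
      rw [eval₂_sub, eval₂_X_pow, eval₂_C, hpowc, sub_self]
    exact ⟨⟨⟨ρ c, hmem⟩, hint⟩, Subtype.ext hpowc⟩
  have hcoeff : ∀ h : R[X], h.coeffs ⊆ Cf → ∀ n,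
      ∃ r' : integralClosure R K', r' ^ (p ^ e) = algebraMap R _ (h.coeff n) := by
    intro h hh n
    by_cases h0 : h.coeff n = 0
    · exact ⟨0, by rw [h0, map_zero, zero_pow hq.ne']⟩
    · exact hC _ (hh (coeff_mem_coeffs h0))
  refine finite_integralClosure_polynomial_of_roots (integralClosure R K') hinjR' p e
    (FractionRing R[X]) L (s : Set L) hs (fun y hy => ⟨f y, g y, hg y, hfg y, ?_, ?_⟩)
  · refine hcoeff _ ?_
    rw [hCf]
    exact (Finset.subset_union_left).trans (Finset.subset_biUnion_of_mem
      (fun y => (f y).coeffs ∪ (g y).coeffs) (Finset.mem_coe.mp hy))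
  · refine hcoeff _ ?_
    rw [hCf]
    exact (Finset.subset_union_right).trans (Finset.subset_biUnion_of_mem
      (fun y => (f y).coeffs ∪ (g y).coeffs) (Finset.mem_coe.mp hy))

end Groth.Agent.Lib.Helper48
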