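import Mathlib
import Groth.Agent.Lib.Helper48.PolynomialN2
import Groth.Agent.Lib.Helper48.NagataLocal
import Groth.Agent.Lib.Helper48.NagataNormalization2

/-!
# Finite type domains over a field are N-2 (Stacks 035B style), via Noether normalization
-/

universe u

namespace Groth.Agent.Lib.Helper48

open Polynomial

/-- Polynomial rings in finitely many variables over an N-2 Noetherian domain are N-2. -/
theorem isN2_mvPolynomial_fin {R : Type u} [CommRing R] [IsDomain R] [IsNoetherianRing R]
    (hR : CAlg.IsN2 R) (n : ℕ) : CAlg.IsN2 (MvPolynomial (Fin n) R) := by
  induction n with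
  | zero => exact isN2_of_ringEquiv (MvPolynomial.isEmptyRingEquiv R (Fin 0)).symm hR
  | succ n ih =>
    exact isN2_of_ringEquiv (MvPolynomial.finSuccEquiv R n).symm.toRingEquiv (isN2_polynomial ih)

/-- N-2 ascends along finite injective extensions of domains, in the form: if `P` is a Noetherian N-2
domain and `A` a domain finite over `P` (injectively), then the integral closure of `A` in any
field `L` essentially of finite type over `P` is a finite `A`-module. -/
theorem finite_integralClosure_of_finite_of_isN2 {P A L : Type u} [CommRing P] [IsDomain P]
    [IsNoetherianRing P] (hP : CAlg.IsN2 P) [CommRing A] [Algebra P A] [Algebra.IsIntegral P A]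
    [Field L] [Algebra A L] [Algebra P L] [IsScalarTower P A L] [Algebra.EssFiniteType P L]
    (hinj : Function.Injective (algebraMap P L)) : Module.Finite A (integralClosure A L) := by
  haveI hfin : Module.Finite P (integralClosure P L) :=
    finite_integralClosure_of_isN2_of_essFiniteType_field hP hinj
  haveI : IsNoetherian P (integralClosure P L) := isNoetherian_of_isNoetherianRing_of_finite P _
  have hmem : ∀ z : integralClosure A L, z.1 ∈ integralClosure P L := by
    intro z
    exact isIntegral_trans (A := A) z.1 z.2
  let f : integralClosure A L →ₗ[P] integralClosure P L :=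
    { toFun := fun z => ⟨z.1, hmem z⟩
      map_add' := fun _ _ => rfl
      map_smul' := fun c z => by
        apply Subtype.ext
        show ((c • z : integralClosure A L) : L) = c • (z : L)
        rw [Algebra.smul_def, Algebra.smul_def]
        rw [IsScalarTower.algebraMap_apply P A (integralClosure A L)]
        rw [IsScalarTower.algebraMap_apply P A L]
        rfl }
  haveI : Module.Finite P (integralClosure A L) :=
    Module.Finite.of_injective f (fun x y hxy => Subtype.ext (congrArg (fun z : integralClosure P L => (z : L)) hxy))
  exact Module.Finite.of_restrictScalars_finite P A _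

/-- Domains of finite type over a field are N-2 (Japanese). -/
theorem finite_integralClosure_of_finiteType_field (k A K L : Type u) [Field k] [CommRing A]
    [IsDomain A] [Algebra k A] [Algebra.FiniteType k A] [Field K] [Field L] [Algebra A K]
    [IsFractionRing A K] [Algebra K L] [FiniteDimensional K L] [Algebra A L] [IsScalarTower A K L] :
    Module.Finite A (integralClosure A L) := by
  obtain ⟨s, g, hginj, hgfin⟩ := exists_finite_inj_algHom_of_fg k A
  letI : Algebra (MvPolynomial (Fin s) k) A := g.toRingHom.toAlgebra
  haveI : Module.Finite (MvPolynomial (Fin s) k) A := hgfin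
  letI : Algebra (MvPolynomial (Fin s) k) L := ((algebraMap A L).comp g.toRingHom).toAlgebra
  haveI : IsScalarTower (MvPolynomial (Fin s) k) A L := .of_algebraMap_eq' rfl
  haveI : Algebra.EssFiniteType A K := Algebra.EssFiniteType.of_isLocalization K (nonZeroDivisors A)
  haveI : Algebra.EssFiniteType A L := Algebra.EssFiniteType.comp A K L
  haveI : Algebra.EssFiniteType (MvPolynomial (Fin s) k) L :=
    Algebra.EssFiniteType.comp (MvPolynomial (Fin s) k) A L
  have hinj : Function.Injective (algebraMap (MvPolynomial (Fin s) k) L) := by
    have h1 : Function.Injective (algebraMap A L) := by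
      rw [IsScalarTower.algebraMap_eq A K L]
      exact (algebraMap K L).injective.comp (IsFractionRing.injective A K)
    exact h1.comp hginj
  have hk : CAlg.IsN2 k := isN2_of_isField (Field.toIsField k)
  exact finite_integralClosure_of_finite_of_isN2 (isN2_mvPolynomial_fin hk s) hinj

end Groth.Agent.Lib.Helper48
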