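import Mathlib
import Groth.Prelude

/-!
# Descent of N-2 along finite extensions (helper48)

`isN2_of_finite_extension`: if `R ⊆ R'` is a finite injective extension of domains, `R` is Noetherian
and `R'` is N-2, then `R` is N-2.
-/

set_option autoImplicit false
set_option linter.style.haveILetI false
set_option linter.unusedSectionVars false

universe u

namespace Groth.Agent.Lib.Helper48

open TensorProduct in
/-- Descent of N-2 along a finite injective extension of domains `R ⊆ R'` (Stacks 032J-type):
if `R` is Noetherian and `R'` is N-2 then `R` is N-2. -/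
theorem isN2_of_finite_extension {R R' : Type u} [CommRing R] [IsDomain R] [IsNoetherianRing R]
    [CommRing R'] [IsDomain R'] [Algebra R R'] [Module.Finite R R'] [FaithfulSMul R R']
    (h : CAlg.IsN2 R') : CAlg.IsN2 R := by
  intro L _ _ _ _ hfd
  haveI := hfd
  haveI : FaithfulSMul R (FractionRing R') := by
    rw [faithfulSMul_iff_algebraMap_injective, IsScalarTower.algebraMap_eq R R' (FractionRing R')]
    exact (IsFractionRing.injective R' (FractionRing R')).comp
      (FaithfulSMul.algebraMap_injective R R')
  letI : Algebra (FractionRing R) (FractionRing R') := FractionRing.liftAlgebra R (FractionRing R')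
  haveI : IsScalarTower R (FractionRing R) (FractionRing R') :=
    FractionRing.isScalarTower_liftAlgebra R (FractionRing R')
  obtain ⟨m, hm⟩ := Ideal.exists_maximal (FractionRing R' ⊗[FractionRing R] L)
  letI : Field ((FractionRing R' ⊗[FractionRing R] L) ⧸ m) := Ideal.Quotient.field m
  haveI : IsScalarTower R' (FractionRing R') ((FractionRing R' ⊗[FractionRing R] L) ⧸ m) :=
    inferInstance
  haveI : IsScalarTower R R' ((FractionRing R' ⊗[FractionRing R] L) ⧸ m) :=
    inferInstance
  haveI : FiniteDimensional (FractionRing R') ((FractionRing R' ⊗[FractionRing R] L) ⧸ m) :=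
    Module.Finite.of_surjective (Ideal.Quotient.mkₐ (FractionRing R') m).toLinearMap
      (Ideal.Quotient.mkₐ_surjective (FractionRing R') m)
  have hfin' : Module.Finite R' (integralClosure R' ((FractionRing R' ⊗[FractionRing R] L) ⧸ m)) :=
    h _ inferInstance
  haveI : Module.Finite R (integralClosure R' ((FractionRing R' ⊗[FractionRing R] L) ⧸ m)) :=
    Module.Finite.trans R' _
  haveI : IsNoetherian R (integralClosure R' ((FractionRing R' ⊗[FractionRing R] L) ⧸ m)) :=
    isNoetherian_of_isNoetherianRing_of_finite R _
  obtain ⟨ψ, hψ⟩ : ∃ ψ : L →+* (FractionRing R' ⊗[FractionRing R] L) ⧸ m,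
      ψ = (Ideal.Quotient.mk m).comp
        (Algebra.TensorProduct.includeRight :
          L →ₐ[FractionRing R] FractionRing R' ⊗[FractionRing R] L).toRingHom := ⟨_, rfl⟩
  have hψalg : ∀ r : R, ψ (algebraMap R L r) = algebraMap R _ r := by
    intro r
    rw [hψ]
    change Ideal.Quotient.mk m ((1 : FractionRing R') ⊗ₜ[FractionRing R] (algebraMap R L r)) = _
    rw [IsScalarTower.algebraMap_apply R (FractionRing R) L, Algebra.algebraMap_eq_smul_one,
      ← TensorProduct.smul_tmul, ← Algebra.algebraMap_eq_smul_one,
      ← IsScalarTower.algebraMap_apply R (FractionRing R) (FractionRing R')]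
    rfl
  have hint : ∀ z : integralClosure R L, ψ z.1 ∈
      integralClosure R' ((FractionRing R' ⊗[FractionRing R] L) ⧸ m) := by
    intro z
    have h1 : IsIntegral R (ψ z.1) := by
      obtain ⟨P, hPm, hP⟩ := z.2
      refine ⟨P, hPm, ?_⟩
      have h2 : (algebraMap R ((FractionRing R' ⊗[FractionRing R] L) ⧸ m)) =
          ψ.comp (algebraMap R L) := RingHom.ext (fun r => (hψalg r).symm)
      rw [h2, ← Polynomial.hom_eval₂, hP, map_zero]
    exact h1.tower_top
  let f : integralClosure R L →ₗ[R]
      integralClosure R' ((FractionRing R' ⊗[FractionRing R] L) ⧸ m) :=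
    { toFun := fun z => ⟨ψ z.1, hint z⟩
      map_add' := fun _ _ => Subtype.ext (map_add ψ _ _)
      map_smul' := fun r z => Subtype.ext (by
        rw [RingHom.id_apply]
        change ψ ((r • z : integralClosure R L) : L) = r • ψ z.1
        rw [show ((r • z : integralClosure R L) : L) = algebraMap R L r * z.1 from by
          rw [← Algebra.smul_def]; rfl, map_mul, hψalg, ← Algebra.smul_def]) }
  refine Module.Finite.of_injective f (fun z z' hzz' => Subtype.ext (ψ.injective ?_))
  exact congrArg (fun w : integralClosure R' ((FractionRing R' ⊗[FractionRing R] L) ⧸ m) =>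
    (w : (FractionRing R' ⊗[FractionRing R] L) ⧸ m)) hzz'

end Groth.Agent.Lib.Helper48
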