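import Mathlib
import Groth.Prelude

/-!
# Power series over a Noetherian normal domain are normal (helper48)

`isIntegrallyClosed_powerSeries` (Stacks 0BI0), via almost integrality inside Laurent series.
-/

set_option autoImplicit false
set_option linter.style.haveILetI false
set_option linter.unusedSectionVars false

universe u

namespace Groth.Agent.Lib.Helper48

section PowerSeriesNormal

variable (R : Type*) [CommRing R] (K : Type*) [Field K] [Algebra R K]

/-- The embedding `R⟦X⟧ → K⸨X⸩`. -/
noncomputable def psIota : PowerSeries R →+* LaurentSeries K :=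
  (HahnSeries.ofPowerSeries ℤ K).comp (PowerSeries.map (algebraMap R K))

variable {R K}

theorem psIota_coeff (a : PowerSeries R) (i : ℤ) :
    (psIota R K a).coeff i =
      if i < 0 then 0 else algebraMap R K (PowerSeries.coeff i.natAbs a) := by
  change ((PowerSeries.map (algebraMap R K) a : PowerSeries K) : LaurentSeries K).coeff i = _
  rw [PowerSeries.coeff_coe, PowerSeries.coeff_map]

theorem psIota_coeff_mem (a : PowerSeries R) (i : ℤ) :
    (psIota R K a).coeff i ∈ (algebraMap R K).range := by
  rw [psIota_coeff]
  split_ifs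
  · exact ⟨0, map_zero _⟩
  · exact ⟨_, rfl⟩

theorem psIota_coeff_neg (a : PowerSeries R) (i : ℤ) (hi : i < 0) :
    (psIota R K a).coeff i = 0 := by
  have := psIota_coeff (K := K) a i
  rw [if_pos hi] at this
  exact this

theorem psIota_apply (a : PowerSeries R) : psIota R K a =
    HahnSeries.ofPowerSeries ℤ K (PowerSeries.map (algebraMap R K) a) := rfl

theorem psIota_injective [FaithfulSMul R K] : Function.Injective (psIota R K) := by
  intro a b hab
  rw [psIota_apply, psIota_apply] at hab
  exact PowerSeries.map_injective _ (FaithfulSMul.algebraMap_injective R K)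
    (HahnSeries.ofPowerSeries_injective hab)

theorem mem_range_psIota_iff (v : LaurentSeries K) :
    v ∈ (psIota R K).range ↔
      ∀ i : ℤ, (i < 0 → v.coeff i = 0) ∧ v.coeff i ∈ (algebraMap R K).range := by
  constructor
  · rintro ⟨a, rfl⟩ i
    exact ⟨psIota_coeff_neg a i, psIota_coeff_mem a i⟩
  · intro h
    have h' : ∀ n : ℕ, ∃ c : R, algebraMap R K c = v.coeff (n : ℤ) := fun n => (h n).2
    choose c hc using h'
    refine ⟨PowerSeries.mk c, ?_⟩
    ext i
    rw [psIota_coeff]
    split_ifs with hi
    · exact ((h i).1 hi).symm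
    · rw [PowerSeries.coeff_mk, hc]
      congr 1
      omega

theorem psIota_order_nonneg (a : PowerSeries R) : 0 ≤ (psIota R K a).order := by
  by_cases h : psIota R K a = 0
  · rw [h, HahnSeries.order_zero]
  · exact (HahnSeries.le_order_iff_forall h).mpr (fun j hj => psIota_coeff_neg a j hj)

theorem psIota_leadingCoeff_mem (a : PowerSeries R) :
    (psIota R K a).leadingCoeff ∈ (algebraMap R K).range := by
  rw [HahnSeries.leadingCoeff_eq]
  exact psIota_coeff_mem a _


section Normal

variable [IsDomain R] [IsNoetherianRing R] [IsIntegrallyClosed R] [IsFractionRing R K]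

theorem psIota_ne_zero {a : PowerSeries R} (ha : a ≠ 0) : psIota R K a ≠ 0 := by
  intro h
  exact ha (psIota_injective (K := K) (by rw [h, map_zero]))

theorem leadingCoeff_pow' (u : LaurentSeries K) (n : ℕ) :
    (u ^ n).leadingCoeff = u.leadingCoeff ^ n := by
  induction n with
  | zero => simp
  | succ n ih => rw [pow_succ, HahnSeries.leadingCoeff_mul, ih, pow_succ]

/-- A nonzero Laurent series almost integral over `R⟦X⟧` has nonnegative order and leading
coefficient in `R`. -/
theorem order_nonneg_and_leadingCoeff_mem (u : LaurentSeries K) (hu : u ≠ 0)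
    (h : PowerSeries R) (hh : h ≠ 0) (H : ∀ n : ℕ, psIota R K h * u ^ n ∈ (psIota R K).range) :
    0 ≤ u.order ∧ u.leadingCoeff ∈ (algebraMap R K).range := by
  have hh' : psIota R K h ≠ 0 := psIota_ne_zero hh
  constructor
  · by_contra hneg
    rw [not_le] at hneg
    obtain ⟨a, ha⟩ := H ((psIota R K h).order.toNat + 1)
    have h1 : 0 ≤ (psIota R K h * u ^ ((psIota R K h).order.toNat + 1)).order := by
      rw [← ha]; exact psIota_order_nonneg a
    rw [HahnSeries.order_mul hh' (pow_ne_zero _ hu), HahnSeries.order_pow, nsmul_eq_mul] at h1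
    have h2 : 0 ≤ (psIota R K h).order := psIota_order_nonneg h
    have h3 : (((psIota R K h).order.toNat + 1 : ℕ) : ℤ) = (psIota R K h).order + 1 := by
      push_cast
      rw [Int.toNat_of_nonneg h2]
    rw [h3] at h1
    nlinarith
  · obtain ⟨b, hb⟩ := psIota_leadingCoeff_mem (K := K) h
    have hb0 : b ≠ 0 := by
      rintro rfl
      rw [map_zero] at hb
      exact hh' (HahnSeries.leadingCoeff_eq_zero.mp hb.symm)
    have hai : IsAlmostIntegral R u.leadingCoeff := by
      refine ⟨b, mem_nonZeroDivisors_of_ne_zero hb0, fun n => ?_⟩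
      obtain ⟨a, ha⟩ := H n
      rw [Algebra.smul_def, hb, ← leadingCoeff_pow', ← HahnSeries.leadingCoeff_mul, ← ha]
      exact psIota_leadingCoeff_mem a
    exact IsIntegrallyClosed.isIntegral_iff.mp hai.isIntegral

/-- The almost integral Laurent series over `R⟦X⟧` are closed under subtracting power series. -/
theorem almostIntegral_sub_psIota (w : LaurentSeries K) (h : PowerSeries R) (hh : h ≠ 0)
    (H : ∀ n : ℕ, psIota R K h * w ^ n ∈ (psIota R K).range) (f : PowerSeries R) :
    ∀ n : ℕ, psIota R K h * (w - psIota R K f) ^ n ∈ (psIota R K).range := by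
  intro n
  rw [sub_eq_add_neg, add_pow, Finset.mul_sum]
  refine Subring.sum_mem _ (fun m _ => ?_)
  have : psIota R K h * (w ^ m * (-psIota R K f) ^ (n - m) * (n.choose m : LaurentSeries K)) =
      (psIota R K h * w ^ m) * ((-psIota R K f) ^ (n - m) * (n.choose m : LaurentSeries K)) := by
    ring
  rw [this]
  have hf : psIota R K f ∈ (psIota R K).range := ⟨f, rfl⟩
  exact Subring.mul_mem _ (H m) (Subring.mul_mem _ (Subring.pow_mem _ (Subring.neg_mem _ hf) _)
    (natCast_mem _ _))

/-- A Laurent series over `K` almost integral over `R⟦X⟧` is a power series over `R`. -/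
theorem mem_range_psIota_of_almostIntegral (w : LaurentSeries K) (h : PowerSeries R) (hh : h ≠ 0)
    (H : ∀ n : ℕ, psIota R K h * w ^ n ∈ (psIota R K).range) : w ∈ (psIota R K).range := by
  have key : ∀ N : ℕ, ∃ f : PowerSeries R, ∀ i : ℤ, i < N → (w - psIota R K f).coeff i = 0 := by
    intro N
    induction N with
    | zero =>
      refine ⟨0, fun i hi => ?_⟩
      rw [map_zero, sub_zero]
      by_cases hw : w = 0
      · rw [hw, HahnSeries.coeff_zero]
      · exact HahnSeries.coeff_eq_zero_of_lt_order
          (lt_of_lt_of_le (by simpa using hi) (order_nonneg_and_leadingCoeff_mem w hw h hh H).1)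
    | succ N ih =>
      obtain ⟨f, hf⟩ := ih
      obtain ⟨u, hu⟩ : ∃ u, u = w - psIota R K f := ⟨_, rfl⟩
      have Hu : ∀ n : ℕ, psIota R K h * u ^ n ∈ (psIota R K).range := by
        rw [hu]; exact almostIntegral_sub_psIota w h hh H f
      have hc : u.coeff (N : ℤ) ∈ (algebraMap R K).range := by
        by_cases hc0 : u.coeff (N : ℤ) = 0
        · rw [hc0]; exact ⟨0, map_zero _⟩
        · have hu0 : u ≠ 0 := HahnSeries.ne_zero_of_coeff_ne_zero hc0
          have h1 : u.order ≤ N := HahnSeries.order_le_of_coeff_ne_zero hc0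
          have h2 : (N : ℤ) ≤ u.order :=
            (HahnSeries.le_order_iff_forall hu0).mpr (fun j hj => hu ▸ hf j hj)
          have h3 : u.order = N := le_antisymm h1 h2
          have := (order_nonneg_and_leadingCoeff_mem u hu0 h hh Hu).2
          rwa [HahnSeries.leadingCoeff_eq, h3] at this
      obtain ⟨r, hr⟩ := hc
      refine ⟨f + PowerSeries.monomial N r, fun i hi => ?_⟩
      rw [map_add, ← sub_sub, ← hu, HahnSeries.coeff_sub, psIota_coeff]
      split_ifs with hi0
      · rw [sub_zero, hu]
        exact hf i (lt_of_lt_of_le hi0 (Int.natCast_nonneg N))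
      · rw [PowerSeries.coeff_monomial]
        rw [not_lt] at hi0
        by_cases hiN : i = N
        · subst hiN
          rw [Int.natAbs_natCast, if_pos rfl, hr, sub_self]
        · have hi' : i < N := by
            have : i < (N : ℤ) + 1 := by exact_mod_cast hi
            omega
          rw [if_neg (by omega), map_zero, sub_zero, hu]
          exact hf i hi'
  rw [mem_range_psIota_iff]
  intro i
  obtain ⟨f, hf⟩ := key (i + 1).toNat
  have hi : i < ((i + 1).toNat : ℤ) := by omega
  have h1 := hf i hi
  rw [HahnSeries.coeff_sub, sub_eq_zero] at h1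
  rw [h1]
  exact ⟨psIota_coeff_neg f i, psIota_coeff_mem f i⟩

end Normal
end PowerSeriesNormal

/-- The power series ring over a Noetherian integrally closed domain is integrally closed
(Stacks 0BI0). -/
theorem isIntegrallyClosed_powerSeries (R : Type*) [CommRing R] [IsDomain R] [IsNoetherianRing R]
    [IsIntegrallyClosed R] : IsIntegrallyClosed (PowerSeries R) := by
  rw [isIntegrallyClosed_iff (FractionRing (PowerSeries R))]
  intro w hw
  obtain ⟨r, hr, hr'⟩ := hw.isAlmostIntegral
  have hr0 : r ≠ 0 := nonZeroDivisors.ne_zero hr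
  have hinj : Function.Injective (psIota R (FractionRing R)) := psIota_injective
  obtain ⟨j, hj⟩ : ∃ j : FractionRing (PowerSeries R) →+* LaurentSeries (FractionRing R),
      ∀ a, j (algebraMap _ _ a) = psIota R (FractionRing R) a :=
    ⟨IsFractionRing.lift hinj, fun a => IsFractionRing.lift_algebraMap hinj a⟩
  have H : ∀ n : ℕ, psIota R (FractionRing R) r * (j w) ^ n ∈
      (psIota R (FractionRing R)).range := by
    intro n
    obtain ⟨a, ha⟩ := hr' n
    refine ⟨a, ?_⟩
    rw [← hj a, ha, Algebra.smul_def, map_mul, map_pow, hj]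
  obtain ⟨f, hf⟩ := mem_range_psIota_of_almostIntegral (j w) r hr0 H
  exact ⟨f, j.injective (by rw [hj, hf])⟩

end Groth.Agent.Lib.Helper48
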