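import Mathlib
import Groth.Prelude
import Groth.Agent.Lib.Helper48.Tate
import Groth.Agent.Lib.Helper48.PowerSeriesNormal
import Groth.Agent.Lib.Helper48.N2FiniteExtension
import Groth.Agent.Lib.Helper48.FieldJapanese

/-!
# Power series over N-2 domains are N-2 (helper48)

`isN2_powerSeries` (Stacks 0332-type): if `R` is a Noetherian N-2 domain then so is `R⟦X⟧`; also
ascent of N-2 along finite extensions and finiteness of `R'⟦X⟧` over `R⟦X⟧`.
-/

set_option autoImplicit false
set_option linter.style.haveILetI false
set_option linter.unusedSectionVars false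

universe u

namespace Groth.Agent.Lib.Helper48

/-- Ascent of N-2 along finite injective extensions of domains. -/
theorem isN2_of_finite_of_isN2 {P A : Type u} [CommRing P] [IsDomain P] [IsNoetherianRing P]
    (hP : CAlg.IsN2 P) [CommRing A] [IsDomain A] [Algebra P A] [Module.Finite P A]
    [FaithfulSMul P A] : CAlg.IsN2 A := by
  intro L _ _ _ _ hfd
  haveI := hfd
  letI : Algebra P L := ((algebraMap A L).comp (algebraMap P A)).toAlgebra
  haveI : IsScalarTower P A L := IsScalarTower.of_algebraMap_eq' rfl
  haveI : Algebra.EssFiniteType A (FractionRing A) :=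
    Algebra.EssFiniteType.of_isLocalization (FractionRing A) (nonZeroDivisors A)
  haveI : Algebra.EssFiniteType A L := Algebra.EssFiniteType.comp A (FractionRing A) L
  haveI : Algebra.EssFiniteType P L := Algebra.EssFiniteType.comp P A L
  have hinjAL : Function.Injective (algebraMap A L) := by
    rw [IsScalarTower.algebraMap_eq A (FractionRing A) L]
    exact (algebraMap (FractionRing A) L).injective.comp (IsFractionRing.injective A _)
  exact finite_integralClosure_of_finite_of_isN2 hP
    (hinjAL.comp (FaithfulSMul.algebraMap_injective P A))

/-- If `R'` is a finite `R`-module then `R'⟦X⟧` is a finite `R⟦X⟧`-module. -/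
theorem finite_powerSeries_of_finite (R R' : Type*) [CommRing R] [CommRing R'] [Algebra R R']
    [Module.Finite R R'] : Module.Finite (PowerSeries R) (PowerSeries R') := by
  classical
  obtain ⟨m, e, he⟩ := Module.Finite.exists_fin (R := R) (M := R')
  refine ⟨⟨Finset.univ.image (fun i => PowerSeries.C (e i)), ?_⟩⟩
  rw [eq_top_iff]
  intro f _
  have hc : ∀ n : ℕ, ∃ r : Fin m → R, ∑ i, r i • e i = PowerSeries.coeff n f := by
    intro n
    have : PowerSeries.coeff n f ∈ Submodule.span R (Set.range e) := he ▸ Submodule.mem_top
    exact (Submodule.mem_span_range_iff_exists_fun R).mp this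
  choose r hr using hc
  have hf : f = ∑ i, (PowerSeries.mk (fun n => r n i)) • (PowerSeries.C (e i) : PowerSeries R') := by
    ext n
    rw [map_sum, ← hr n]
    refine Finset.sum_congr rfl (fun i _ => ?_)
    have h1 : (PowerSeries.mk (fun n => r n i)) • (PowerSeries.C (e i) : PowerSeries R') =
        PowerSeries.map (algebraMap R R') (PowerSeries.mk fun n => r n i) * PowerSeries.C (e i) :=
      Algebra.smul_def _ _
    rw [h1, PowerSeries.coeff_mul_C, PowerSeries.coeff_map, PowerSeries.coeff_mk,
      Algebra.smul_def]
  rw [hf]
  refine Submodule.sum_mem _ (fun i _ => Submodule.smul_mem _ _ (Submodule.subset_span ?_))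
  exact Finset.mem_coe.mpr (Finset.mem_image_of_mem _ (Finset.mem_univ i))

/-- Power series over a Noetherian normal N-2 domain are N-2 (Tate's lemma with `x = X`). -/
theorem isN2_powerSeries_of_normal {R : Type u} [CommRing R] [IsDomain R] [IsNoetherianRing R]
    [IsIntegrallyClosed R] (h : CAlg.IsN2 R) : CAlg.IsN2 (PowerSeries R) := by
  haveI : IsIntegrallyClosed (PowerSeries R) := isIntegrallyClosed_powerSeries R
  haveI : (Ideal.span ({PowerSeries.X} : Set (PowerSeries R))).IsPrime :=
    PowerSeries.span_X_isPrime
  have hker : Ideal.span ({PowerSeries.X} : Set (PowerSeries R)) =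
      RingHom.ker (PowerSeries.constantCoeff (R := R)) := by
    ext φ
    rw [RingHom.mem_ker, Ideal.mem_span_singleton, PowerSeries.X_dvd_iff]
  have hsurj : Function.Surjective (PowerSeries.constantCoeff (R := R)) := fun r =>
    ⟨PowerSeries.C r, PowerSeries.constantCoeff_C r⟩
  obtain ⟨e⟩ : Nonempty ((PowerSeries R ⧸ Ideal.span ({PowerSeries.X} : Set (PowerSeries R))) ≃+* R) :=
    ⟨(Ideal.quotEquivOfEq hker).trans (RingHom.quotientKerEquivOfSurjective hsurj)⟩
  exact isN2_of_complete_principal PowerSeries.X (isN2_of_ringEquiv e.symm h)

/-- Power series over a Noetherian N-2 domain are N-2 (Stacks 0332-type). -/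
theorem isN2_powerSeries {R : Type u} [CommRing R] [IsDomain R] [IsNoetherianRing R]
    (h : CAlg.IsN2 R) : CAlg.IsN2 (PowerSeries R) := by
  haveI hfin : Module.Finite R (integralClosure R (FractionRing R)) :=
    h (FractionRing R) inferInstance
  haveI : IsNoetherianRing (integralClosure R (FractionRing R)) := IsNoetherianRing.of_finite R _
  haveI : IsIntegrallyClosed (integralClosure R (FractionRing R)) :=
    integralClosure.isIntegrallyClosedOfFiniteExtension (FractionRing R)
  have hinj : Function.Injective (algebraMap R (integralClosure R (FractionRing R))) := by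
    intro a b hab
    have := congrArg (fun z : integralClosure R (FractionRing R) => (z : FractionRing R)) hab
    exact IsFractionRing.injective R (FractionRing R) this
  haveI : FaithfulSMul R (integralClosure R (FractionRing R)) :=
    (faithfulSMul_iff_algebraMap_injective _ _).mpr hinj
  have h' : CAlg.IsN2 (integralClosure R (FractionRing R)) := isN2_of_finite_of_isN2 h
  have h'' := isN2_powerSeries_of_normal h'
  haveI := finite_powerSeries_of_finite R (integralClosure R (FractionRing R))
  haveI : FaithfulSMul (PowerSeries R) (PowerSeries (integralClosure R (FractionRing R))) :=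
    (faithfulSMul_iff_algebraMap_injective _ _).mpr (PowerSeries.map_injective _ hinj)
  exact isN2_of_finite_extension h''

end Groth.Agent.Lib.Helper48
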