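import Mathlib
import Groth.Prelude
import Groth.Agent.Lib.Helper48.PowerSeriesN2

/-!
# Multivariate power series over N-2 domains are N-2 (helper48)
-/

set_option autoImplicit false
set_option linter.style.haveILetI false
set_option linter.unusedSectionVars false

universe u

namespace Groth.Agent.Lib.Helper48

theorem isDomain_mvPowerSeries_fin {A : Type*} [CommRing A] [IsDomain A] (n : ℕ) :
    IsDomain (MvPowerSeries (Fin n) A) := NoZeroDivisors.to_isDomain _

attribute [local instance] isDomain_mvPowerSeries_fin

/-- If `A` is a Noetherian N-2 domain then so is `A⟦T_1, …, T_n⟧`. -/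
theorem isN2_mvPowerSeries_fin {A : Type u} [CommRing A] [IsDomain A] [IsNoetherianRing A]
    (hA : CAlg.IsN2 A) (n : ℕ) : CAlg.IsN2 (MvPowerSeries (Fin n) A) := by
  induction n with
  | zero =>
    exact isN2_of_ringEquiv (MvPowerSeries.isEmptyEquiv (σ := Fin 0) (R := A)).symm.toRingEquiv hA
  | succ n ih =>
    exact isN2_of_ringEquiv (MvPowerSeries.finSuccEquiv A n).symm.toRingEquiv (isN2_powerSeries ih)

end Groth.Agent.Lib.Helper48
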