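import Mathlib

/-!
# Local-generic criterion for finiteness of a module / of an integral closure (EGA IV 6.13, Stacks 0331)

Elementary proof via the ascending chain of colon ideals `(N n : N (n+1))`, `N n = (B₀ : f ^ n)`.
-/

universe u

namespace Groth.Agent.Lib.Helper48

/-- From finiteness of a localized module, extract a finitely generated submodule which contains a
multiple (by an element of the submonoid) of every element. -/
theorem exists_fg_forall_exists_smul_mem {A : Type*} [CommRing A] (S : Submonoid A)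
    {M : Type*} [AddCommGroup M] [Module A M]
    (Aₛ : Type*) [CommRing Aₛ] [Algebra A Aₛ] [IsLocalization S Aₛ]
    {Mₛ : Type*} [AddCommGroup Mₛ] [Module A Mₛ] [Module Aₛ Mₛ] [IsScalarTower A Aₛ Mₛ]
    (g : M →ₗ[A] Mₛ) [IsLocalizedModule S g] [Module.Finite Aₛ Mₛ] :
    ∃ N : Submodule A M, N.FG ∧ ∀ x : M, ∃ s ∈ S, s • x ∈ N := by
  classical
  obtain ⟨T, hT⟩ := (inferInstance : Module.Finite Aₛ Mₛ).fg_top
  have hsurj : ∀ t : Mₛ, ∃ m : M, ∃ s : S, s • t = g m := fun t => by
    obtain ⟨⟨m, s⟩, h⟩ := IsLocalizedModule.surj S g t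
    exact ⟨m, s, h⟩
  choose m s hms using hsurj
  refine ⟨Submodule.span A (T.image m : Set M), Submodule.fg_span (Finset.finite_toSet _), ?_⟩
  have htop : (Submodule.span A (T.image m : Set M)).localized' Aₛ S g = ⊤ := by
    rw [Submodule.localized'_span, eq_top_iff, ← hT, Submodule.span_le]
    intro t ht
    have h1 : g (m t) ∈ Submodule.span Aₛ (g '' (T.image m : Set M)) :=
      Submodule.subset_span ⟨m t, Finset.mem_coe.mpr (Finset.mem_image_of_mem m ht), rfl⟩
    have hu : IsUnit (algebraMap A Aₛ (s t)) := IsLocalization.map_units Aₛ (s t)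
    have h2 : t = (↑hu.unit⁻¹ : Aₛ) • g (m t) := by
      rw [← hms t, Submonoid.smul_def, ← algebraMap_smul Aₛ ((s t : A)) t, smul_smul]
      simp
    rw [h2]
    exact Submodule.smul_mem _ _ h1
  intro x
  have hx : g x ∈ (Submodule.span A (T.image m : Set M)).localized' Aₛ S g := by
    rw [htop]; trivial
  obtain ⟨n, hn, c, hc⟩ := (Submodule.mem_localized' Aₛ S g _ _).mp hx
  rw [IsLocalizedModule.mk'_eq_iff] at hc
  have hc' : g n = g ((c : A) • x) := by rw [hc, map_smul]; rfl
  obtain ⟨d, hd⟩ := IsLocalizedModule.exists_of_eq (S := S) hc'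
  refine ⟨(d : A) * (c : A), S.mul_mem d.2 c.2, ?_⟩
  have : ((d : A) * (c : A)) • x = (d : A) • n := by
    rw [Submonoid.smul_def, Submonoid.smul_def] at hd
    rw [hd, mul_smul]
  rw [this]
  exact Submodule.smul_mem _ _ hn

/-- Local–generic criterion for finiteness: a module `M` over a Noetherian ring on which `f` acts
injectively is finite as soon as it is "finite after inverting `f`" and "finite at every maximal
ideal". -/
theorem finite_of_away_of_forall_maximal {A : Type*} [CommRing A] [IsNoetherianRing A]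
    {M : Type*} [AddCommGroup M] [Module A M] (f : A)
    (hf : ∀ x : M, f • x = 0 → x = 0)
    (B₀ : Submodule A M) (hB₀ : B₀.FG) (hB₀f : ∀ x : M, ∃ n : ℕ, f ^ n • x ∈ B₀)
    (hloc : ∀ (m : Ideal A) [m.IsMaximal],
      ∃ N : Submodule A M, N.FG ∧ ∀ x : M, ∃ s : A, s ∉ m ∧ s • x ∈ N) :
    Module.Finite A M := by
  classical
  have hfn : ∀ (n : ℕ) (x : M), f ^ n • x = 0 → x = 0 := by
    intro n
    induction n with
    | zero => intro x hx; simpa using hx
    | succ n ih =>
      intro x hx
      rw [pow_succ, mul_smul] at hx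
      exact hf x (ih _ hx)
  -- the chain `N n = (B₀ : f ^ n)`
  obtain ⟨N, hN⟩ : ∃ N : ℕ → Submodule A M,
      ∀ n, N n = B₀.comap ((f ^ n) • (LinearMap.id : M →ₗ[A] M)) := ⟨_, fun _ => rfl⟩
  have hmem : ∀ n x, x ∈ N n ↔ f ^ n • x ∈ B₀ := by
    intro n x
    rw [hN]
    simp
  haveI : IsNoetherian A B₀ := isNoetherian_of_fg_of_noetherian B₀ hB₀
  have hNfg : ∀ n, (N n).FG := by
    intro n
    let φ : N n →ₗ[A] B₀ :=
      { toFun := fun x => ⟨f ^ n • x.1, (hmem n x.1).mp x.2⟩
        map_add' := fun x y => Subtype.ext (smul_add _ _ _)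
        map_smul' := fun c x => Subtype.ext (smul_comm _ _ _) }
    have hφ : Function.Injective φ := by
      intro x y hxy
      have h1 : f ^ n • x.1 = f ^ n • y.1 := congrArg Subtype.val hxy
      have h2 : f ^ n • (x.1 - y.1) = 0 := by rw [smul_sub, h1, sub_self]
      exact Subtype.ext (sub_eq_zero.mp (hfn n _ h2))
    haveI : Module.Finite A (N n) := Module.Finite.of_injective φ hφ
    exact Module.Finite.iff_fg.mp inferInstance
  have hNmono : Monotone N := by
    refine monotone_nat_of_le_succ (fun n x hx => ?_)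
    rw [hmem] at hx ⊢
    rw [pow_succ', mul_smul]
    exact B₀.smul_mem f hx
  have hNtop : ∀ x : M, ∃ n, x ∈ N n := fun x => by
    obtain ⟨n, hn⟩ := hB₀f x
    exact ⟨n, (hmem n x).mpr hn⟩
  -- any f.g. submodule is inside some `N n`
  have hfgle : ∀ P : Submodule A M, P.FG → ∃ n, P ≤ N n := by
    intro P hP
    obtain ⟨T, rfl⟩ := hP
    choose n hn using hNtop
    refine ⟨T.sup n, Submodule.span_le.mpr (fun x hx => ?_)⟩
    exact hNmono (Finset.le_sup (Finset.mem_coe.mp hx)) (hn x)
  -- the ascending chain of colon ideals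
  obtain ⟨I, hI⟩ : ∃ I : ℕ → Ideal A, ∀ n, I n = (N n).colon (N (n + 1) : Set M) :=
    ⟨_, fun _ => rfl⟩
  have hImem : ∀ n s, s ∈ I n ↔ ∀ x ∈ N (n + 1), s • x ∈ N n := by
    intro n s
    rw [hI, Submodule.mem_colon]
    rfl
  have hImono : Monotone I := by
    refine monotone_nat_of_le_succ (fun n s hs => ?_)
    rw [hImem] at hs ⊢
    intro x hx
    have h1 : f • x ∈ N (n + 1) := by
      rw [hmem] at hx ⊢
      rwa [pow_succ, mul_smul] at hx
    have h2 := hs _ h1
    rw [hmem] at h2 ⊢
    rw [pow_succ, mul_smul, smul_comm f s x]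
    exact h2
  obtain ⟨n₀, hn₀⟩ := monotone_stabilizes_iff_noetherian.mpr (inferInstance : IsNoetherian A A)
    ⟨I, hImono⟩
  have hItop : I n₀ = ⊤ := by
    by_contra hne
    obtain ⟨m, hm, hIm⟩ := Ideal.exists_le_maximal _ hne
    obtain ⟨P, hPfg, hP⟩ := hloc m
    obtain ⟨n₁, hn₁⟩ := hfgle P hPfg
    obtain ⟨k, hk⟩ : ∃ k, k = max n₀ n₁ := ⟨_, rfl⟩
    obtain ⟨T, hT⟩ := hNfg (k + 1)
    choose s hsm hsP using hP
    have hprod : (∏ y ∈ T, s y) ∉ m := by
      intro h
      obtain ⟨y, _, hy⟩ := (hm.isPrime.prod_mem_iff).mp h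
      exact hsm y hy
    have hmemI : (∏ y ∈ T, s y) ∈ I k := by
      rw [hImem]
      intro x hx
      rw [← hT] at hx
      induction hx using Submodule.span_induction with
      | mem y hy =>
        have hy' : y ∈ T := Finset.mem_coe.mp hy
        rw [← Finset.mul_prod_erase T s hy', mul_comm, mul_smul]
        refine Submodule.smul_mem _ _ ?_
        exact hNmono (le_max_right n₀ n₁ |>.trans hk.ge) (hn₁ (hsP y))
      | zero => rw [smul_zero]; exact Submodule.zero_mem _
      | add x y _ _ hx hy => rw [smul_add]; exact Submodule.add_mem _ hx hy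
      | smul c x _ hx => rw [smul_comm]; exact Submodule.smul_mem _ _ hx
    have : I n₀ = I k := hn₀ k (hk ▸ le_max_left n₀ n₁)
    exact hprod (hIm (this ▸ hmemI))
  -- the chain stabilises
  have hstab : ∀ n, n₀ ≤ n → N n = N n₀ := by
    intro n hn
    induction n, hn using Nat.le_induction with
    | base => rfl
    | succ n hn ih =>
      refine le_antisymm ?_ (hNmono (hn.trans n.le_succ))
      rw [← ih]
      intro x hx
      have h1 : (1 : A) ∈ I n := by
        have : I n₀ = I n := hn₀ n hn
        rw [← this, hItop]; trivial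
      have := (hImem n 1).mp h1 x hx
      rwa [one_smul] at this
  have htop : N n₀ = ⊤ := by
    rw [eq_top_iff]
    intro x _
    obtain ⟨n, hn⟩ := hNtop x
    rcases le_total n₀ n with h | h
    · rw [← hstab n h]; exact hn
    · exact hNmono h hn
  exact ⟨htop ▸ hNfg n₀⟩

/-- EGA IV 6.13-type criterion: the integral closure `A'` of a Noetherian domain in a finite
extension of its fraction field is finite iff it is so generically and at each prime. -/
theorem finite_integralClosure_iff_local_and_generic (A : Type u) [CommRing A] [IsDomain A]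
    [IsNoetherianRing A] (K' : Type u) [Field K'] [Algebra A K'] [Algebra (FractionRing A) K']
    [IsScalarTower A (FractionRing A) K'] :
    Module.Finite A (integralClosure A K') ↔
      ((∃ f : A, f ≠ 0 ∧ Module.Finite (Localization.Away f)
          (LocalizedModule (Submonoid.powers f) (integralClosure A K'))) ∧
        ∀ (p : Ideal A) [p.IsPrime], Module.Finite (Localization.AtPrime p)
          (LocalizedModule p.primeCompl (integralClosure A K'))) := by
  constructor
  · intro h
    exact ⟨⟨1, one_ne_zero, inferInstance⟩, fun p _ => inferInstance⟩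
  · rintro ⟨⟨f, hf0, hfin⟩, hloc⟩
    have hinj : Function.Injective (algebraMap A K') := by
      rw [IsScalarTower.algebraMap_eq A (FractionRing A) K']
      exact (algebraMap (FractionRing A) K').injective.comp (IsFractionRing.injective A _)
    obtain ⟨B₀, hB₀, hB₀f⟩ := exists_fg_forall_exists_smul_mem (Submonoid.powers f)
      (Localization.Away f) (LocalizedModule.mkLinearMap (Submonoid.powers f) (integralClosure A K'))
    refine finite_of_away_of_forall_maximal f ?_ B₀ hB₀ ?_ ?_
    · intro x hx
      have h1 : algebraMap A K' f * (x : K') = 0 := by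
        have := congrArg (fun z : integralClosure A K' => (z : K')) hx
        simpa [Algebra.smul_def] using this
      rcases mul_eq_zero.mp h1 with h | h
      · exact absurd ((map_eq_zero_iff _ hinj).mp h) hf0
      · exact Subtype.ext h
    · intro x
      obtain ⟨s, ⟨n, rfl⟩, hs⟩ := hB₀f x
      exact ⟨n, hs⟩
    · intro m hm
      haveI := hloc m
      obtain ⟨N, hN, hNs⟩ := exists_fg_forall_exists_smul_mem m.primeCompl
        (Localization.AtPrime m) (LocalizedModule.mkLinearMap m.primeCompl (integralClosure A K'))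
      exact ⟨N, hN, fun x => by
        obtain ⟨s, hs, hx⟩ := hNs x
        exact ⟨s, hs, hx⟩⟩

end Groth.Agent.Lib.Helper48
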