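import Mathlib
import Groth.Agent.Lib.Helper48.LocalFinite
import Groth.Agent.Lib.Helper48.Japanese
import Groth.Agent.S9391

/-!
# The N-1 criterion (Stacks 0331): N-1 iff generically normal and N-1 at maximal ideals
-/

universe u

namespace Groth.Agent.Lib.Helper48

/-- The integral closure of a localization `S = T⁻¹R` in `K'` is the localization (as a module) of
the integral closure of `R` in `K ≃ K'`. -/
theorem exists_isLocalizedModule_integralClosure {R : Type*} [CommRing R] (T : Submonoid R)
    (S : Type*) [CommRing S] [Algebra R S] [IsLocalization T S]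
    {K K' : Type*} [CommRing K] [CommRing K'] [Algebra R K] [Algebra R K'] [Algebra S K']
    [IsScalarTower R S K'] (e : K ≃ₐ[R] K') :
    ∃ g : integralClosure R K →ₗ[R] integralClosure S K',
      (∀ x, (g x : K') = e x) ∧ IsLocalizedModule T g := by
  have hint : ∀ x : integralClosure R K, e (x : K) ∈ integralClosure S K' := fun x =>
    (x.2.map e.toAlgHom).tower_top
  let g : integralClosure R K →ₗ[R] integralClosure S K' :=
    { toFun := fun x => ⟨e x, hint x⟩
      map_add' := fun x y => Subtype.ext (map_add e _ _)
      map_smul' := fun c x => Subtype.ext (by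
        show e ((c • x : integralClosure R K) : K) = c • e (x : K)
        rw [← map_smul]; rfl) }
  refine ⟨g, fun _ => rfl, ?_⟩
  haveI := isLocalizedModule_id T (integralClosure S K') S
  refine ⟨fun s => IsLocalizedModule.map_units (S := T)
    (LinearMap.id : integralClosure S K' →ₗ[R] integralClosure S K') s, ?_, ?_⟩
  · intro y
    obtain ⟨t, ht⟩ := IsIntegral.exists_multiple_integral_of_isLocalization T (y : K') y.2
    have h1 : IsIntegral R (e.symm (t • (y : K'))) := ht.map e.symm.toAlgHom
    refine ⟨(⟨e.symm (t • (y : K')), h1⟩, t), Subtype.ext ?_⟩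
    show ((t • y : integralClosure S K') : K') = e (e.symm (t • (y : K')))
    rw [e.apply_symm_apply]
    rfl
  · intro x y hxy
    refine ⟨1, ?_⟩
    have h1 : e (x : K) = e (y : K) := congrArg (fun z : integralClosure S K' => (z : K')) hxy
    rw [Subtype.ext (e.injective h1)]

/-- For a localization `S = T⁻¹R` of a domain with finite integral closure (in its fraction field),
the integral closure of `R` in `Frac R` is "finite up to `T`". -/
theorem exists_fg_of_isN1_localization {R : Type u} [CommRing R] [IsDomain R] (T : Submonoid R)
    (S : Type u) [CommRing S] [IsDomain S] [Algebra R S] [IsLocalization T S]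
    (h : CAlg.IsN1 S) :
    ∃ N : Submodule R (integralClosure R (FractionRing R)), N.FG ∧
      ∀ x : integralClosure R (FractionRing R), ∃ s ∈ T, s • x ∈ N := by
  haveI : IsFractionRing R (FractionRing S) :=
    isFractionRing_of_isLocalization_of_isFractionRing T S (FractionRing S)
  obtain ⟨g, -, hg⟩ := exists_isLocalizedModule_integralClosure T S
    (FractionRing.algEquiv R (FractionRing S))
  haveI : Module.Finite S (integralClosure S (FractionRing S)) := h
  exact exists_fg_forall_exists_smul_mem T S g

/-- Integrally closed domains are N-1. -/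
theorem isN1_of_integrallyClosed {S : Type u} [CommRing S] [IsDomain S] [IsIntegrallyClosed S] :
    CAlg.IsN1 S := by
  unfold CAlg.IsN1
  refine Module.Finite.of_surjective
    (Algebra.linearMap S (integralClosure S (FractionRing S))) (fun y => ?_)
  obtain ⟨a, ha⟩ := IsIntegrallyClosed.isIntegral_iff.mp y.2
  exact ⟨a, Subtype.ext ha⟩

/-- Stacks 0331: N-1 criterion. -/
theorem isN1_iff_exists_normal_localization (R : Type u) [CommRing R] [IsDomain R]
    [IsNoetherianRing R] :
    CAlg.IsN1 R ↔ ((∃ f : R, f ≠ 0 ∧ IsIntegrallyClosed (Localization.Away f)) ∧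
      ∀ (m : Ideal R) [m.IsMaximal], CAlg.IsN1 (Localization.AtPrime m)) := by
  constructor
  · intro h
    refine ⟨?_, fun m _ => Groth.Agent.S9391.result R m.primeCompl (Localization.AtPrime m) h⟩
    have h' : Module.Finite R (integralClosure R (FractionRing R)) := h
    obtain ⟨G, hG⟩ := h'.fg_top
    classical
    obtain ⟨b, hb⟩ := IsLocalization.exist_integer_multiples_of_finset (nonZeroDivisors R)
      (G.image fun x : integralClosure R (FractionRing R) => (x : FractionRing R))
    have hb0 : (b : R) ≠ 0 := nonZeroDivisors.ne_zero b.2
    -- `b` multiplies the integral closure into `R`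
    have hbM : ∀ x : integralClosure R (FractionRing R),
        ∃ a : R, algebraMap R (FractionRing R) a = (b : R) • (x : FractionRing R) := by
      intro x
      have hx : x ∈ Submodule.span R (G : Set (integralClosure R (FractionRing R))) := by
        rw [hG]; trivial
      induction hx using Submodule.span_induction with
      | mem x hx =>
        obtain ⟨a, ha⟩ := hb (x : FractionRing R) (Finset.mem_image_of_mem _ (Finset.mem_coe.mp hx))
        exact ⟨a, ha⟩
      | zero => exact ⟨0, by simp⟩
      | add x y _ _ hx hy =>
        obtain ⟨a, ha⟩ := hx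
        obtain ⟨c, hc⟩ := hy
        exact ⟨a + c, by rw [map_add, ha, hc]; simp [smul_add]⟩
      | smul r x _ hx =>
        obtain ⟨a, ha⟩ := hx
        refine ⟨r * a, ?_⟩
        rw [map_mul, ha]
        show algebraMap R (FractionRing R) r * ((b : R) • (x : FractionRing R)) =
          (b : R) • ((r • x : integralClosure R (FractionRing R)) : FractionRing R)
        rw [Algebra.smul_def, Algebra.smul_def]
        show _ = _ * (r • (x : FractionRing R))
        rw [Algebra.smul_def]
        ring
    refine ⟨b, hb0, ?_⟩
    haveI : IsDomain (Localization.Away (b : R)) :=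
      IsLocalization.isDomain_localization
        (Submonoid.powers_le.mpr b.2)
    haveI hfr : IsFractionRing R (FractionRing (Localization.Away (b : R))) :=
      isFractionRing_of_isLocalization_of_isFractionRing (Submonoid.powers (b : R))
        (Localization.Away (b : R)) (FractionRing (Localization.Away (b : R)))
    refine (isIntegrallyClosed_iff (FractionRing (Localization.Away (b : R)))).mpr (fun {z} hz => ?_)
    obtain ⟨e, he⟩ : ∃ e : FractionRing R ≃ₐ[R] FractionRing (Localization.Away (b : R)),
      e = FractionRing.algEquiv R _ := ⟨_, rfl⟩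
    obtain ⟨⟨t, ht⟩, htz⟩ := IsIntegral.exists_multiple_integral_of_isLocalization
      (Submonoid.powers (b : R)) z hz
    have h1 : IsIntegral R (e.symm (t • z)) := htz.map e.symm.toAlgHom
    obtain ⟨a, ha⟩ := hbM ⟨_, h1⟩
    -- `b * t * z = a` in the fraction field
    have h2 : algebraMap R (FractionRing (Localization.Away (b : R))) a =
        algebraMap R _ ((b : R) * t) * z := by
      have := congrArg e ha
      rw [AlgEquiv.commutes] at this
      rw [this, map_smul]
      show (b : R) • e (e.symm (t • z)) = _
      rw [e.apply_symm_apply, Algebra.smul_def, Algebra.smul_def, map_mul, mul_assoc]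
    have hbt : (b : R) * t ∈ Submonoid.powers (b : R) :=
      (Submonoid.powers (b : R)).mul_mem (Submonoid.mem_powers _) ht
    refine ⟨IsLocalization.mk' (Localization.Away (b : R)) a ⟨(b : R) * t, hbt⟩, ?_⟩
    have hu : algebraMap R (FractionRing (Localization.Away (b : R))) ((b : R) * t) ≠ 0 := by
      rw [Ne, map_eq_zero_iff _ (IsFractionRing.injective R _)]
      exact mul_ne_zero hb0 (by
        obtain ⟨n, rfl⟩ := ht
        exact pow_ne_zero _ hb0)
    apply mul_left_cancel₀ hu
    rw [← h2, IsScalarTower.algebraMap_apply R (Localization.Away (b : R))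
        (FractionRing (Localization.Away (b : R))) ((b : R) * t), ← map_mul,
      IsScalarTower.algebraMap_apply R (Localization.Away (b : R))
        (FractionRing (Localization.Away (b : R))) a]
    refine congrArg _ ?_
    rw [mul_comm]
    exact IsLocalization.mk'_spec _ a ⟨(b : R) * t, hbt⟩
  · rintro ⟨⟨f, hf0, hfic⟩, hloc⟩
    unfold CAlg.IsN1
    have hpow : Submonoid.powers f ≤ nonZeroDivisors R :=
      Submonoid.powers_le.mpr (mem_nonZeroDivisors_of_ne_zero hf0)
    haveI : IsDomain (Localization.Away f) := IsLocalization.isDomain_localization hpow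
    obtain ⟨B₀, hB₀, hB₀f⟩ := exists_fg_of_isN1_localization (Submonoid.powers f)
      (Localization.Away f) isN1_of_integrallyClosed
    refine finite_of_away_of_forall_maximal f ?_ B₀ hB₀ ?_ ?_
    · intro x hx
      have h1 : algebraMap R (FractionRing R) f * (x : FractionRing R) = 0 := by
        have := congrArg (fun z : integralClosure R (FractionRing R) => (z : FractionRing R)) hx
        simpa [Algebra.smul_def] using this
      rcases mul_eq_zero.mp h1 with h | h
      · exact absurd ((map_eq_zero_iff _ (IsFractionRing.injective R _)).mp h) hf0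
      · exact Subtype.ext h
    · intro x
      obtain ⟨s, ⟨n, rfl⟩, hs⟩ := hB₀f x
      exact ⟨n, hs⟩
    · intro m hm
      obtain ⟨N, hN, hNs⟩ := exists_fg_of_isN1_localization m.primeCompl
        (Localization.AtPrime m) (hloc m)
      exact ⟨N, hN, fun x => by
        obtain ⟨s, hs, hx⟩ := hNs x
        exact ⟨s, hs, hx⟩⟩

end Groth.Agent.Lib.Helper48
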