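import Mathlib
import Groth.Prelude
import Groth.Agent.Lib.Helper44.AdicQuot
import Groth.Agent.Lib.Helper48.CompleteLocalDomain
import Groth.Agent.Lib.Helper48.MvPowerSeriesN2
import Groth.Agent.Lib.Helper48.N1Criterion
import Groth.Agent.S0574

/-!
# Complete Noetherian local rings are Nagata (helper48)

`isNagata_of_complete_local` (Stacks 032W), `isN2_of_complete_local_domain`,
`isN2_of_isCohenRing`, `charZero_of_isCohenRing`.
-/

set_option autoImplicit false
set_option linter.style.haveILetI false
set_option linter.unusedSectionVars false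

universe u

namespace Groth.Agent.Lib.Helper48

open IsLocalRing

/-- A Cohen ring has characteristic zero. -/
theorem charZero_of_isCohenRing {Λ : Type u} [CommRing Λ] (h : CAlg.IsCohenRing Λ) :
    CharZero Λ := by
  obtain ⟨hdom, hdvr, -, q, hq, hm⟩ := h
  haveI := hdom
  haveI := hdvr
  have hq0 : (q : Λ) ≠ 0 := by
    intro h
    rw [h, Ideal.span_singleton_eq_bot.mpr rfl] at hm
    exact IsDiscreteValuationRing.not_a_field Λ hm
  have hqm : (q : Λ) ∈ maximalIdeal Λ := hm ▸ Ideal.mem_span_singleton_self _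
  obtain ⟨ℓ, hℓ⟩ := CharP.exists Λ
  rcases CharP.char_is_prime_or_zero Λ ℓ with hprime | rfl
  · exfalso
    by_cases hqℓ : q = ℓ
    · subst hqℓ
      exact hq0 (CharP.cast_eq_zero Λ q)
    · have hcop : Nat.Coprime q ℓ := (Nat.coprime_primes hq hprime).mpr hqℓ
      have h1 : IsUnit (q : Λ) := by
        have hb := Int.isCoprime_iff_gcd_eq_one.mpr (by exact_mod_cast hcop : Int.gcd q ℓ = 1)
        obtain ⟨a, b, hab⟩ := hb
        have h2 := congrArg (Int.cast : ℤ → Λ) hab
        push_cast at h2
        rw [CharP.cast_eq_zero Λ ℓ, mul_zero, add_zero] at h2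
        exact IsUnit.of_mul_eq_one _ (by rw [mul_comm]; exact h2)
      rw [mem_maximalIdeal, mem_nonunits_iff] at hqm
      exact hqm h1
  · exact CharP.charP_to_charZero Λ

/-- A Cohen ring is N-2. -/
theorem isN2_of_isCohenRing {Λ : Type u} [CommRing Λ] [IsDomain Λ] (h : CAlg.IsCohenRing Λ) :
    CAlg.IsN2 Λ := by
  haveI := charZero_of_isCohenRing h
  obtain ⟨hdom, hdvr, -, -⟩ := h
  haveI := hdvr
  haveI : IsNoetherianRing Λ := inferInstance
  haveI : IsIntegrallyClosed Λ := inferInstance
  exact (Groth.Agent.S0574.result Λ).mp isN1_of_integrallyClosed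

/-- A complete Noetherian local domain is N-2. -/
theorem isN2_of_complete_local_domain (D : Type u) [CommRing D] [IsDomain D] [IsLocalRing D]
    [IsNoetherianRing D] [IsAdicComplete (maximalIdeal D) D] : CAlg.IsN2 D := by
  obtain ⟨Λ, _, n, f, hΛ, hinj, hfin, -⟩ :=
    exists_finite_injective_mvPowerSeries_of_complete_local_domain D
  have hΛprops : ∃ (_ : IsDomain Λ) (_ : IsNoetherianRing Λ), CAlg.IsN2 Λ := by
    rcases hΛ with hf | hc
    · haveI := hf.isDomain
      have hN : IsNoetherianRing Λ := by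
        letI := hf.toField
        infer_instance
      exact ⟨inferInstance, hN, isN2_of_isField hf⟩
    · have hc' := hc
      obtain ⟨hdom, hdvr, -, -⟩ := hc
      haveI := hdom
      haveI := hdvr
      exact ⟨hdom, inferInstance, isN2_of_isCohenRing hc'⟩
  obtain ⟨hdom, hnoeth, hN2⟩ := hΛprops
  haveI := hdom
  haveI := hnoeth
  haveI : IsDomain (MvPowerSeries (Fin n) Λ) := isDomain_mvPowerSeries_fin n
  have hP : CAlg.IsN2 (MvPowerSeries (Fin n) Λ) := isN2_mvPowerSeries_fin hN2 n
  letI : Algebra (MvPowerSeries (Fin n) Λ) D := f.toAlgebra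
  haveI : Module.Finite (MvPowerSeries (Fin n) Λ) D := hfin
  haveI : FaithfulSMul (MvPowerSeries (Fin n) Λ) D :=
    (faithfulSMul_iff_algebraMap_injective _ _).mpr hinj
  exact isN2_of_finite_of_isN2 hP

/-- **A complete Noetherian local ring is a Nagata ring** (Stacks 032W). -/
theorem isNagata_of_complete_local (R : Type u) [CommRing R] [IsLocalRing R] [IsNoetherianRing R]
    [IsAdicComplete (maximalIdeal R) R] : CAlg.IsNagata R := by
  refine ⟨inferInstance, fun p hp => ?_⟩
  haveI := hp
  haveI : IsLocalRing (R ⧸ p) :=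
    IsLocalRing.of_surjective' (Ideal.Quotient.mk p) Ideal.Quotient.mk_surjective
  have hmax : (maximalIdeal R).map (algebraMap R (R ⧸ p)) = maximalIdeal (R ⧸ p) := by
    have hsurj : Function.Surjective (algebraMap R (R ⧸ p)) := Ideal.Quotient.mk_surjective
    rcases Ideal.map_eq_top_or_isMaximal_of_surjective _ hsurj (maximalIdeal.isMaximal R) with h | h
    · exfalso
      have h1 := Ideal.comap_map_of_surjective _ hsurj (maximalIdeal R)
      rw [h, Ideal.comap_top, ← RingHom.ker_eq_comap_bot] at h1
      have h2 : RingHom.ker (algebraMap R (R ⧸ p)) ≤ maximalIdeal R := by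
        rw [Ideal.Quotient.algebraMap_eq, Ideal.mk_ker]
        exact le_maximalIdeal hp.ne_top
      rw [sup_eq_left.mpr h2] at h1
      exact (maximalIdeal.isMaximal R).ne_top h1.symm
    · exact IsLocalRing.eq_maximalIdeal h
  haveI : IsAdicComplete (maximalIdeal (R ⧸ p)) (R ⧸ p) :=
    hmax ▸ Groth.Agent.Lib.Helper44.isAdicComplete_quotient_ring (maximalIdeal R) p
  exact isN2_of_complete_local_domain (R ⧸ p)

end Groth.Agent.Lib.Helper48
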