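import Mathlib
import Groth.Prelude
import Groth.Agent.S0543
import Groth.Agent.Lib.Helper48.CompleteLocalNagata

/-!
# Analytically unramified local domains are N-1 (helper48)

`isN1_of_faithfullyFlat_of_isReduced`: N-1 descends along a faithfully flat Noetherian reduced
extension all of whose minimal quotients are N-1. `isN1_of_isReduced_adicCompletion`: a Noetherian
local domain with reduced completion is N-1.
-/

set_option autoImplicit false
set_option linter.style.haveILetI false
set_option linter.unusedSectionVars false

universe u

namespace Groth.Agent.Lib.Helper48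

open TensorProduct IsLocalRing

/-- For a flat algebra `Ĉ` over a domain `B` and a minimal prime `q` of `Ĉ`, the map `B → Ĉ ⧸ q` is
injective. -/
theorem algebraMap_quotient_minimalPrime_injective {B C : Type*} [CommRing B] [IsDomain B]
    [CommRing C] [Algebra B C] [Module.Flat B C] (q : Ideal C) (hq : q ∈ minimalPrimes C) :
    Function.Injective (algebraMap B (C ⧸ q)) := by
  rw [injective_iff_map_eq_zero]
  intro b hb
  by_contra hb0
  have hreg : IsSMulRegular C b :=
    Module.Flat.isSMulRegular_of_nonZeroDivisors (mem_nonZeroDivisors_of_ne_zero hb0)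
  have hnzd : algebraMap B C b ∈ nonZeroDivisors C := by
    rw [mem_nonZeroDivisors_iff_right]
    intro c hc
    apply hreg
    change b • c = b • 0
    rw [smul_zero, Algebra.smul_def, mul_comm]
    exact hc
  have hmem : algebraMap B C b ∈ q := by
    rw [IsScalarTower.algebraMap_apply B C (C ⧸ q)] at hb
    exact Ideal.Quotient.eq_zero_iff_mem.mp hb
  exact Set.disjoint_left.mp (Ideal.disjoint_nonZeroDivisors_of_mem_minimalPrimes hq) hmem hnzd

/-- For an injective map of domains `B → D`, the integral closure of `B` in its fraction field maps
`B`-linearly and unitally to the integral closure of `D` in its fraction field, compatibly with the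
inclusions into the fraction fields. -/
theorem exists_linearMap_integralClosure_fractionRing {B D : Type*} [CommRing B] [IsDomain B]
    [CommRing D] [IsDomain D] [Algebra B D] (hinj : Function.Injective (algebraMap B D)) :
    ∃ φ : integralClosure B (FractionRing B) →ₗ[B] integralClosure D (FractionRing D),
      φ 1 = 1 := by
  have hinjL : Function.Injective (algebraMap B (FractionRing D)) := by
    rw [IsScalarTower.algebraMap_eq B D (FractionRing D)]
    exact (IsFractionRing.injective D (FractionRing D)).comp hinj
  letI : Algebra (FractionRing B) (FractionRing D) := (IsFractionRing.lift hinjL).toAlgebra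
  haveI : IsScalarTower B (FractionRing B) (FractionRing D) :=
    IsScalarTower.of_algebraMap_eq (fun b => (IsFractionRing.lift_algebraMap hinjL b).symm)
  have hint : ∀ z : integralClosure B (FractionRing B),
      algebraMap (FractionRing B) (FractionRing D) z.1 ∈ integralClosure D (FractionRing D) := by
    intro z
    have h1 : IsIntegral B (algebraMap (FractionRing B) (FractionRing D) z.1) :=
      z.2.map (IsScalarTower.toAlgHom B (FractionRing B) (FractionRing D))
    exact h1.tower_top
  refine ⟨{ toFun := fun z => ⟨algebraMap (FractionRing B) (FractionRing D) z.1, hint z⟩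
            map_add' := fun _ _ => Subtype.ext (map_add _ _ _)
            map_smul' := fun b z => Subtype.ext ?_ }, Subtype.ext (map_one _)⟩
  rw [RingHom.id_apply]
  change algebraMap (FractionRing B) (FractionRing D) ((b • z : integralClosure B (FractionRing B)) : FractionRing B) =
    b • algebraMap (FractionRing B) (FractionRing D) z.1
  rw [show ((b • z : integralClosure B (FractionRing B)) : FractionRing B) = b • z.1 from rfl,
    Algebra.smul_def, map_mul, ← IsScalarTower.algebraMap_apply, Algebra.smul_def]

/-- **N-1 descends along a faithfully flat reduced Noetherian extension whose minimal quotients are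
N-1.** -/
theorem isN1_of_faithfullyFlat_of_isReduced {B C : Type u} [CommRing B] [IsDomain B]
    [CommRing C] [Algebra B C] [Module.FaithfullyFlat B C] [IsNoetherianRing C] [IsReduced C]
    (h : ∀ (q : Ideal C) [q.IsPrime], q ∈ minimalPrimes C → CAlg.IsN1 (C ⧸ q)) :
    CAlg.IsN1 B := by
  classical
  have hfin : (minimalPrimes C).Finite := minimalPrimes.finite_of_isNoetherianRing C
  haveI : Fintype (minimalPrimes C) := hfin.fintype
  haveI hprime : ∀ q : minimalPrimes C, q.1.IsPrime := fun q => q.2.1.1
  have hN1 : ∀ q : minimalPrimes C, Module.Finite (C ⧸ q.1)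
      (integralClosure (C ⧸ q.1) (FractionRing (C ⧸ q.1))) := fun q => h q.1 q.2
  haveI hfinC : ∀ q : minimalPrimes C, Module.Finite C
      (integralClosure (C ⧸ q.1) (FractionRing (C ⧸ q.1))) := fun q => by
    haveI := hN1 q
    exact Module.Finite.trans (C ⧸ q.1) _
  have hφ : ∀ q : minimalPrimes C, ∃ φ : integralClosure B (FractionRing B) →ₗ[B]
      integralClosure (C ⧸ q.1) (FractionRing (C ⧸ q.1)), φ 1 = 1 := fun q =>
    exists_linearMap_integralClosure_fractionRing
      (algebraMap_quotient_minimalPrime_injective q.1 q.2)
  choose φ hφ1 using hφ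
  -- the comparison map
  obtain ⟨Φ, hΦ⟩ : ∃ Φ : C ⊗[B] integralClosure B (FractionRing B) →ₗ[C]
      ∀ q : minimalPrimes C, integralClosure (C ⧸ q.1) (FractionRing (C ⧸ q.1)),
      ∀ (c : C) (z : integralClosure B (FractionRing B)) (q : minimalPrimes C),
        Φ (c ⊗ₜ z) q = c • φ q z :=
    ⟨LinearMap.pi (fun q => (φ q).liftBaseChange C), fun c z q => rfl⟩
  -- torsion-freeness of the tensor product over `B`
  have htf : ∀ (d : B), d ≠ 0 → ∀ z : C ⊗[B] integralClosure B (FractionRing B),
      d • z = 0 → z = 0 := by
    intro d hd z hz
    have hinj : Function.Injective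
        (LinearMap.lsmul B (integralClosure B (FractionRing B)) d) := by
      intro x y hxy
      have h1 : d • x = d • y := hxy
      have h2 := congrArg (fun w : integralClosure B (FractionRing B) => (w : FractionRing B)) h1
      apply Subtype.ext
      have h3 : algebraMap B (FractionRing B) d * (x : FractionRing B) =
          algebraMap B (FractionRing B) d * (y : FractionRing B) := by
        rw [← Algebra.smul_def, ← Algebra.smul_def]; exact h2
      exact mul_left_cancel₀ (fun h0 => hd (IsFractionRing.injective B (FractionRing B)
        (by rw [h0, map_zero]))) h3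
    have hinj' := Module.Flat.lTensor_preserves_injective_linearMap (M := C) _ hinj
    apply hinj'
    rw [map_zero]
    have hsm : ∀ w : C ⊗[B] integralClosure B (FractionRing B),
        (LinearMap.lsmul B (integralClosure B (FractionRing B)) d).lTensor C w = d • w := by
      intro w
      induction w using TensorProduct.induction_on with
      | zero => simp
      | tmul c x => rw [LinearMap.lTensor_tmul, LinearMap.lsmul_apply, TensorProduct.tmul_smul]
      | add a b ha hb => rw [map_add, ha, hb, smul_add]
    rw [hsm, hz]
  have hΦinj : Function.Injective Φ := by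
    rw [injective_iff_map_eq_zero]
    intro z hz
    obtain ⟨S, hS⟩ := TensorProduct.exists_finset z
    obtain ⟨d, hd⟩ := IsLocalization.exist_integer_multiples (nonZeroDivisors B) S
      (fun i : C × integralClosure B (FractionRing B) => ((i.2 : FractionRing B)))
    choose! a ha using hd
    have hd0 : (d : B) ≠ 0 := nonZeroDivisors.ne_zero d.2
    apply htf d hd0
    -- `d • z = x ⊗ 1`
    obtain ⟨x, hx⟩ : ∃ x : C, x = ∑ i ∈ S, a i • i.1 := ⟨_, rfl⟩
    have hdz : (d : B) • z = x ⊗ₜ[B] (1 : integralClosure B (FractionRing B)) := by
      rw [hS, Finset.smul_sum, hx, TensorProduct.sum_tmul]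
      refine Finset.sum_congr rfl (fun i hi => ?_)
      have h1 : (d : B) • i.2 = a i • (1 : integralClosure B (FractionRing B)) := by
        apply Subtype.ext
        have := ha i hi
        change (d : B) • (i.2 : FractionRing B) = a i • (1 : FractionRing B)
        rw [← this, Algebra.smul_def, mul_one]
      rw [TensorProduct.smul_tmul', TensorProduct.smul_tmul, h1, ← TensorProduct.smul_tmul]
    rw [hdz]
    have hx0 : x = 0 := by
      have hxq : ∀ q : minimalPrimes C, x ∈ q.1 := by
        intro q
        have h1 : Φ ((d : B) • z) q = 0 := by
          rw [← algebraMap_smul C (d : B) z, map_smul, hz, smul_zero]; rfl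
        rw [hdz, hΦ, hφ1] at h1
        have h2 := congrArg (fun w : integralClosure (C ⧸ q.1) (FractionRing (C ⧸ q.1)) =>
          (w : FractionRing (C ⧸ q.1))) h1
        have h3 : algebraMap C (FractionRing (C ⧸ q.1)) x = 0 := by
          have : ((x • (1 : integralClosure (C ⧸ q.1) (FractionRing (C ⧸ q.1))) :
              integralClosure (C ⧸ q.1) (FractionRing (C ⧸ q.1))) : FractionRing (C ⧸ q.1)) =
              x • (1 : FractionRing (C ⧸ q.1)) := rfl
          rw [Algebra.algebraMap_eq_smul_one, ← this]
          exact h2
        rw [IsScalarTower.algebraMap_apply C (C ⧸ q.1) (FractionRing (C ⧸ q.1))] at h3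
        have h4 := (map_eq_zero_iff _ (IsFractionRing.injective (C ⧸ q.1)
          (FractionRing (C ⧸ q.1)))).mp h3
        exact Ideal.Quotient.eq_zero_iff_mem.mp h4
      have h5 : x ∈ sInf (minimalPrimes C) := by
        rw [Ideal.mem_sInf]
        intro q hq
        exact hxq ⟨q, hq⟩
      have h6 : sInf (minimalPrimes C) = ⊥ := by
        have h7 : sInf (minimalPrimes C) = (⊥ : Ideal C).radical := Ideal.sInf_minimalPrimes
        rw [h7]
        exact nilradical_eq_zero C
      rw [h6] at h5
      exact h5
    rw [hx0, TensorProduct.zero_tmul]
  haveI : IsNoetherian C (∀ q : minimalPrimes C,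
      integralClosure (C ⧸ q.1) (FractionRing (C ⧸ q.1))) :=
    isNoetherian_of_isNoetherianRing_of_finite C _
  haveI : Module.Finite C (C ⊗[B] integralClosure B (FractionRing B)) :=
    Module.Finite.of_injective Φ hΦinj
  exact Module.Finite.of_finite_tensorProduct_of_faithfullyFlat C

/-- N-2 implies N-1. -/
theorem isN1_of_isN2 {D : Type u} [CommRing D] [IsDomain D] (h : CAlg.IsN2 D) : CAlg.IsN1 D :=
  h (FractionRing D) inferInstance

/-- **An analytically unramified Noetherian local domain is N-1** (Stacks 0BI2-type). -/
theorem isN1_of_isReduced_adicCompletion {R : Type u} [CommRing R] [IsDomain R] [IsLocalRing R]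
    [IsNoetherianRing R] [IsReduced (AdicCompletion (maximalIdeal R) R)] : CAlg.IsN1 R := by
  haveI : IsNoetherianRing (AdicCompletion (maximalIdeal R) R) :=
    Groth.Agent.S0543.result R (maximalIdeal R)
  haveI : Module.FaithfullyFlat R (AdicCompletion (maximalIdeal R) R) :=
    Module.FaithfullyFlat.of_flat_of_isLocalHom
  have hNag : CAlg.IsNagata (AdicCompletion (maximalIdeal R) R) :=
    isNagata_of_complete_local _
  exact isN1_of_faithfullyFlat_of_isReduced (C := AdicCompletion (maximalIdeal R) R)
    (fun q _ _ => isN1_of_isN2 (hNag.2 q))

end Groth.Agent.Lib.Helper48
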