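import Mathlib
import Groth.Agent.Lib.Helper48.N1Criterion
import Groth.Agent.Lib.Helper48.NagataNormalization2
import Groth.Agent.Lib.Helper48.FieldJapanese
import Groth.Agent.Lib.Helper48.NagataLocal
import Groth.Agent.Lib.Helper48.PureInsepN2

/-!
# EGA IV 7.7-type local/generic criterion for Nagata rings
-/

universe u

namespace Groth.Agent.Lib.Helper48

/-- A finite extension of the fraction field of a domain `B` is the fraction field of some finite
`B`-subalgebra. -/
theorem exists_finite_subalgebra_isFractionRing (B K K' : Type*) [CommRing B] [IsDomain B]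
    [Field K] [Algebra B K] [IsFractionRing B K] [Field K'] [Algebra B K'] [Algebra K K']
    [IsScalarTower B K K'] [FiniteDimensional K K'] :
    ∃ B' : Subalgebra B K', Module.Finite B B' ∧ IsFractionRing B' K' := by
  classical
  have hinj : Function.Injective (algebraMap B K') := by
    rw [IsScalarTower.algebraMap_eq B K K']
    exact (algebraMap K K').injective.comp (IsFractionRing.injective B K)
  haveI : Algebra.IsAlgebraic B K' :=
    (IsFractionRing.comap_isAlgebraic_iff (A := B) (K := K) (C := K')).mpr inferInstance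
  obtain ⟨b⟩ : Nonempty (Module.Basis (Fin (Module.finrank K K')) K K') := ⟨Module.finBasis K K'⟩
  have hd : ∀ i, ∃ d : B, d ≠ 0 ∧ IsIntegral B (d • b i) := fun i =>
    (Algebra.IsAlgebraic.isAlgebraic (b i)).exists_integral_multiple
  choose d hd0 hdint using hd
  obtain ⟨B', hB'⟩ : ∃ B' : Subalgebra B K',
    B' = Algebra.adjoin B (Set.range fun i => d i • b i) := ⟨_, rfl⟩
  have hfg : B'.toSubmodule.FG := by
    rw [hB']
    refine fg_adjoin_of_finite (Set.finite_range _) ?_
    rintro _ ⟨i, rfl⟩
    exact hdint i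
  refine ⟨B', Module.Finite.iff_fg.mpr hfg, ?_⟩
  haveI : FaithfulSMul B' K' :=
    (faithfulSMul_iff_algebraMap_injective _ _).mpr Subtype.val_injective
  refine IsFractionRing.of_field B' K' (fun z => ?_)
  -- write `z = Σ kᵢ bᵢ`, `kᵢ/dᵢ = aᵢ / c`
  obtain ⟨c, hc⟩ := IsLocalization.exist_integer_multiples_of_finset (nonZeroDivisors B)
    (Finset.univ.image fun i => b.repr z i / algebraMap B K (d i))
  have hc0 : (c : B) ≠ 0 := nonZeroDivisors.ne_zero c.2
  have ha : ∀ i, ∃ a : B, algebraMap B K a = (c : B) • (b.repr z i / algebraMap B K (d i)) :=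
    fun i => hc _ (Finset.mem_image_of_mem _ (Finset.mem_univ i))
  choose a ha using ha
  have hmem : ∀ i, d i • b i ∈ B' := fun i => by
    rw [hB']; exact Algebra.subset_adjoin ⟨i, rfl⟩
  have hsum : (∑ i, a i • (d i • b i)) ∈ B' :=
    Subalgebra.sum_mem _ (fun i _ => Subalgebra.smul_mem _ (hmem i) _)
  refine ⟨⟨_, hsum⟩, ⟨algebraMap B K' c, Subalgebra.algebraMap_mem _ _⟩, ?_⟩
  have hcK' : algebraMap B K' c ≠ 0 := (map_ne_zero_iff _ hinj).mpr hc0
  show z = (∑ i, a i • (d i • b i)) / algebraMap B K' c
  rw [eq_div_iff hcK']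
  conv_lhs => rw [← b.sum_repr z]
  rw [Finset.sum_mul]
  refine Finset.sum_congr rfl (fun i _ => ?_)
  have hdK : algebraMap B K (d i) ≠ 0 :=
    (map_ne_zero_iff _ (IsFractionRing.injective B K)).mpr (hd0 i)
  have h1 : algebraMap B K (a i) * algebraMap B K (d i) = algebraMap B K c * b.repr z i := by
    rw [ha i, Algebra.smul_def, mul_assoc, div_mul_cancel₀ _ hdK]
  rw [← algebraMap_smul K (a i) (d i • b i), ← algebraMap_smul K (d i) (b i), smul_smul, h1,
    mul_smul, algebraMap_smul, Algebra.smul_def (c : B), mul_comm]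

/-- If `R_f` is integrally closed, any element of `Frac R` integral over `R` is multiplied into `R`
by a power of `f`. -/
theorem exists_pow_mul_eq_of_integrallyClosed_away {R : Type*} [CommRing R] [IsDomain R]
    {K : Type*} [Field K] [Algebra R K] [IsFractionRing R K] (f : R) (hf : f ≠ 0)
    [IsIntegrallyClosed (Localization.Away f)] (x : K) (hx : IsIntegral R x) :
    ∃ (n : ℕ) (a : R), algebraMap R K a = algebraMap R K f ^ n * x := by
  have hpow : Submonoid.powers f ≤ nonZeroDivisors R :=
    Submonoid.powers_le.mpr (mem_nonZeroDivisors_of_ne_zero hf)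
  haveI : IsDomain (Localization.Away f) := IsLocalization.isDomain_localization hpow
  haveI : IsFractionRing R (FractionRing (Localization.Away f)) :=
    isFractionRing_of_isLocalization_of_isFractionRing (Submonoid.powers f)
      (Localization.Away f) (FractionRing (Localization.Away f))
  obtain ⟨e⟩ : Nonempty (K ≃ₐ[R] FractionRing (Localization.Away f)) :=
    ⟨IsLocalization.algEquiv (nonZeroDivisors R) K _⟩
  have h1 : IsIntegral (Localization.Away f) (e x) := (hx.map e.toAlgHom).tower_top
  obtain ⟨y, hy⟩ := IsIntegrallyClosed.isIntegral_iff.mp h1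
  obtain ⟨⟨a, ⟨_, n, rfl⟩⟩, hya⟩ := IsLocalization.surj (Submonoid.powers f) y
  refine ⟨n, a, e.injective ?_⟩
  rw [e.commutes, map_mul, map_pow, e.commutes, ← hy,
    IsScalarTower.algebraMap_apply R (Localization.Away f) _ a, ← hya, map_mul,
    ← IsScalarTower.algebraMap_apply, map_pow, mul_comm]

/-- Generic finiteness of the integral closure from a finite subalgebra which is normal away from a
nonzero element. -/
theorem exists_fg_of_subalgebra_integrallyClosed_away {B : Type*} [CommRing B] [IsDomain B]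
    {K' : Type*} [Field K'] [Algebra B K'] (B' : Subalgebra B K') [Module.Finite B B']
    [IsFractionRing B' K'] (f' : B') (hf' : f' ≠ 0) [IsIntegrallyClosed (Localization.Away f')] :
    ∃ f : B, f ≠ 0 ∧ ∃ B₀ : Submodule B (integralClosure B K'), B₀.FG ∧
      ∀ x : integralClosure B K', ∃ n : ℕ, f ^ n • x ∈ B₀ := by
  have hint : ∀ b : B', IsIntegral B (b : K') := fun b =>
    (Algebra.IsIntegral.isIntegral (R := B) b).map B'.val
  -- a nonzero multiple of `f'` in `B`
  have hI : (Ideal.span ({f'} : Set B')).comap (algebraMap B B') ≠ ⊥ :=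
    Ideal.comap_ne_bot_of_integral_mem hf' (Ideal.mem_span_singleton_self f')
      (Algebra.IsIntegral.isIntegral f')
  obtain ⟨f, hfI, hf0⟩ := Submodule.exists_mem_ne_zero_of_ne_bot hI
  obtain ⟨g, hg⟩ := Ideal.mem_span_singleton'.mp (Ideal.mem_comap.mp hfI)
  refine ⟨f, hf0, ?_⟩
  -- `B₀ = B'` inside the integral closure
  let ι : B' →ₗ[B] integralClosure B K' :=
    { toFun := fun b => ⟨(b : K'), hint b⟩
      map_add' := fun _ _ => rfl
      map_smul' := fun _ _ => rfl }
  refine ⟨LinearMap.range ι, ?_, fun x => ?_⟩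
  · rw [LinearMap.range_eq_map]
    exact Submodule.FG.map _ (Module.Finite.fg_top)
  · have hx' : IsIntegral B' (x : K') := x.2.tower_top
    obtain ⟨n, a, ha⟩ := exists_pow_mul_eq_of_integrallyClosed_away f' hf' (x : K') hx'
    refine ⟨n, ⟨g ^ n * a, Subtype.ext ?_⟩⟩
    show ((g ^ n * a : B') : K') = ((f ^ n • x : integralClosure B K') : K')
    have h1 : ((f ^ n • x : integralClosure B K') : K') = algebraMap B K' f ^ n * (x : K') := by
      show f ^ n • (x : K') = _
      rw [Algebra.smul_def, map_pow]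
    have h2 : algebraMap B K' f = (g : K') * (f' : K') := by
      have := congrArg (fun b : B' => (b : K')) hg
      simpa using this.symm
    have h3 : (a : K') = (f' : K') ^ n * (x : K') := ha
    rw [h1, h2]
    push_cast
    rw [h3]
    ring

/-- If a localization `D = T⁻¹B` of a domain is N-2, the integral closure of `B` in a field `K'`
essentially of finite type over `B` is "finite up to `T`". -/
theorem exists_fg_of_isN2_isLocalization {B : Type u} [CommRing B] [IsDomain B] (T : Submonoid B)
    (D : Type u) [CommRing D] [IsDomain D] [IsNoetherianRing D] [Algebra B D] [IsLocalization T D]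
    (hD : CAlg.IsN2 D) (K' : Type u) [Field K'] [Algebra B K'] [Algebra.EssFiniteType B K']
    (hinj : Function.Injective (algebraMap B K')) (hT : (0 : B) ∉ T) :
    ∃ N : Submodule B (integralClosure B K'), N.FG ∧
      ∀ x : integralClosure B K', ∃ s ∈ T, s • x ∈ N := by
  have hT0 : ∀ y : T, (y : B) ≠ 0 := fun y h0 => hT (h0 ▸ y.2)
  have hunits : ∀ y : T, IsUnit (algebraMap B K' y) := fun y =>
    IsUnit.mk0 _ ((map_ne_zero_iff _ hinj).mpr (hT0 y))
  letI : Algebra D K' := (IsLocalization.lift (M := T) hunits).toAlgebra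
  haveI : IsScalarTower B D K' :=
    IsScalarTower.of_algebraMap_eq (fun x => (IsLocalization.lift_eq hunits x).symm)
  have hinjD : Function.Injective (algebraMap D K') := by
    refine (IsLocalization.lift_injective_iff hunits).mpr (fun x y => ?_)
    rw [hinj.eq_iff]
    refine ⟨fun hxy => ?_, fun hxy => by rw [hxy]⟩
    obtain ⟨c, hc⟩ := (IsLocalization.eq_iff_exists T _).mp hxy
    exact mul_left_cancel₀ (hT0 c) hc
  haveI : Algebra.EssFiniteType D K' := Algebra.EssFiniteType.of_comp B D K'
  haveI : Module.Finite D (integralClosure D K') :=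
    finite_integralClosure_of_isN2_of_essFiniteType_field hD hinjD
  obtain ⟨g, -, hg⟩ := exists_isLocalizedModule_integralClosure T D
    (AlgEquiv.refl : K' ≃ₐ[B] K')
  exact exists_fg_forall_exists_smul_mem T D g

/-- Local part of the Nagata criterion: if the quotient of `A_m` by the extension of `p` is N-2, the
integral closure of `A/p` in a finite extension `K'` of its fraction field is "finite at `m`". -/
theorem exists_fg_of_isN2_localization_quotient {A : Type u} [CommRing A] [IsNoetherianRing A]
    (p : Ideal A) [p.IsPrime] (K' : Type u) [Field K'] [Algebra (A ⧸ p) K']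
    [Algebra (FractionRing (A ⧸ p)) K'] [IsScalarTower (A ⧸ p) (FractionRing (A ⧸ p)) K']
    [FiniteDimensional (FractionRing (A ⧸ p)) K']
    (m : Ideal A) [m.IsMaximal] (hpm : p ≤ m)
    (h : ∀ (P : Ideal (Localization.AtPrime m)) [P.IsPrime],
      CAlg.IsN2 (Localization.AtPrime m ⧸ P)) :
    ∃ N : Submodule (A ⧸ p) (integralClosure (A ⧸ p) K'), N.FG ∧
      ∀ x : integralClosure (A ⧸ p) K', ∃ a : A, a ∉ m ∧ (Ideal.Quotient.mk p a) • x ∈ N := by
  have hinj : Function.Injective (algebraMap (A ⧸ p) K') := by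
    rw [IsScalarTower.algebraMap_eq (A ⧸ p) (FractionRing (A ⧸ p)) K']
    exact (algebraMap (FractionRing (A ⧸ p)) K').injective.comp (IsFractionRing.injective _ _)
  obtain ⟨P, hP⟩ : ∃ P : Ideal (Localization.AtPrime m),
    P = p.map (algebraMap A (Localization.AtPrime m)) := ⟨_, rfl⟩
  haveI hPprime : P.IsPrime := by
    rw [hP]
    exact IsLocalization.isPrime_of_isPrime_disjoint m.primeCompl (Localization.AtPrime m) p
      inferInstance (Set.disjoint_left.mpr fun a ha hap => ha (hpm hap))
  have hD : CAlg.IsN2 (Localization.AtPrime m ⧸ P) := h P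
  subst hP
  obtain ⟨T, hT⟩ : ∃ T : Submonoid (A ⧸ p), T = Algebra.algebraMapSubmonoid (A ⧸ p) m.primeCompl :=
    ⟨_, rfl⟩
  haveI : IsLocalization T
      (Localization.AtPrime m ⧸ p.map (algebraMap A (Localization.AtPrime m))) := by
    rw [hT]; infer_instance
  have hTm : ∀ s ∈ T, ∃ a : A, a ∉ m ∧ Ideal.Quotient.mk p a = s := by
    intro s hs
    rw [hT] at hs
    obtain ⟨a, ha, rfl⟩ := hs
    exact ⟨a, ha, rfl⟩
  have hT0 : (0 : A ⧸ p) ∉ T := by
    intro h0
    obtain ⟨a, ha, ha0⟩ := hTm 0 h0
    exact ha (hpm (Ideal.Quotient.eq_zero_iff_mem.mp ha0))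
  haveI : Algebra.EssFiniteType (A ⧸ p) (FractionRing (A ⧸ p)) :=
    Algebra.EssFiniteType.of_isLocalization _ (nonZeroDivisors (A ⧸ p))
  haveI : Algebra.EssFiniteType (A ⧸ p) K' :=
    Algebra.EssFiniteType.comp (A ⧸ p) (FractionRing (A ⧸ p)) K'
  obtain ⟨N, hN, hNs⟩ := exists_fg_of_isN2_isLocalization T
    (Localization.AtPrime m ⧸ p.map (algebraMap A (Localization.AtPrime m))) hD K' hinj hT0
  refine ⟨N, hN, fun x => ?_⟩
  obtain ⟨s, hs, hx⟩ := hNs x
  obtain ⟨a, ha, rfl⟩ := hTm s hs
  exact ⟨a, ha, hx⟩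

/-- EGA IV 7.7-type criterion for a Noetherian ring to be Nagata. -/
theorem isNagata_iff_localQuotients_N2_and_normalLocus_generic (A : Type u) [CommRing A]
    [IsNoetherianRing A] :
    CAlg.IsNagata A ↔
      ((∀ (m : Ideal A) [m.IsMaximal] (P : Ideal (Localization.AtPrime m)) [P.IsPrime],
          CAlg.IsN2 (Localization.AtPrime m ⧸ P)) ∧
        ∀ (p : Ideal A) [p.IsPrime] (K' : Type u) [Field K'] [Algebra (A ⧸ p) K']
          [Algebra (FractionRing (A ⧸ p)) K'] [IsScalarTower (A ⧸ p) (FractionRing (A ⧸ p)) K']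
          [FiniteDimensional (FractionRing (A ⧸ p)) K']
          [IsPurelyInseparable (FractionRing (A ⧸ p)) K']
          (B' : Subalgebra (A ⧸ p) K'), Module.Finite (A ⧸ p) B' → IsFractionRing B' K' →
            ∃ f : B', f ≠ 0 ∧ IsIntegrallyClosed (Localization.Away f)) := by
  constructor
  · intro hA
    refine ⟨fun m _ P _ =>
      (isNagata_of_isLocalization m.primeCompl (Localization.AtPrime m) hA).2 P, ?_⟩
    intro p _ K' _ _ _ _ _ _ B' hfin hfrac
    haveI := hfin
    haveI := hfrac
    have hB : CAlg.IsN2 (A ⧸ p) := hA.2 p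
    have hinj : Function.Injective (algebraMap (A ⧸ p) K') := by
      rw [IsScalarTower.algebraMap_eq (A ⧸ p) (FractionRing (A ⧸ p)) K']
      exact (algebraMap (FractionRing (A ⧸ p)) K').injective.comp (IsFractionRing.injective _ _)
    haveI : IsNoetherianRing B' := Algebra.FiniteType.isNoetherianRing (A ⧸ p) B'
    haveI : Algebra.EssFiniteType (A ⧸ p) (FractionRing (A ⧸ p)) :=
      Algebra.EssFiniteType.of_isLocalization _ (nonZeroDivisors (A ⧸ p))
    haveI : Algebra.EssFiniteType (A ⧸ p) K' :=
      Algebra.EssFiniteType.comp (A ⧸ p) (FractionRing (A ⧸ p)) K'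
    have hN1 : CAlg.IsN1 B' := by
      unfold CAlg.IsN1
      have h1 : Module.Finite B' (integralClosure B' K') :=
        finite_integralClosure_of_finite_of_isN2 (P := A ⧸ p) (A := B') (L := K') hB hinj
      exact finite_integralClosure_of_algEquiv (FractionRing.algEquiv B' K').symm h1
    exact ((isN1_iff_exists_normal_localization B').mp hN1).1
  · rintro ⟨h1, h2⟩
    refine ⟨inferInstance, fun p _ => ?_⟩
    intro L _ _ _ _ hL
    refine finite_integralClosure_of_forall_purelyInseparable (A ⧸ p) (FractionRing (A ⧸ p)) ?_ L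
    intro K' _ _ _ _ hfd hpi
    haveI := hfd
    haveI := hpi
    have hinj : Function.Injective (algebraMap (A ⧸ p) K') := by
      rw [IsScalarTower.algebraMap_eq (A ⧸ p) (FractionRing (A ⧸ p)) K']
      exact (algebraMap (FractionRing (A ⧸ p)) K').injective.comp (IsFractionRing.injective _ _)
    obtain ⟨B', hB'fin, hB'frac⟩ :=
      exists_finite_subalgebra_isFractionRing (A ⧸ p) (FractionRing (A ⧸ p)) K'
    obtain ⟨f', hf'0, hf'ic⟩ := h2 p K' B' hB'fin hB'frac
    haveI := hB'fin
    haveI := hB'frac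
    haveI := hf'ic
    obtain ⟨f, hf0, B₀, hB₀, hB₀f⟩ := exists_fg_of_subalgebra_integrallyClosed_away B' f' hf'0
    refine finite_of_away_of_forall_maximal f ?_ B₀ hB₀ hB₀f ?_
    · intro x hx
      have h1 : algebraMap (A ⧸ p) K' f * (x : K') = 0 := by
        have := congrArg (fun z : integralClosure (A ⧸ p) K' => (z : K')) hx
        simpa [Algebra.smul_def] using this
      rcases mul_eq_zero.mp h1 with h | h
      · exact absurd ((map_eq_zero_iff _ hinj).mp h) hf0
      · exact Subtype.ext h
    · intro q hq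
      haveI : (q.comap (Ideal.Quotient.mk p)).IsMaximal :=
        Ideal.comap_isMaximal_of_surjective _ Ideal.Quotient.mk_surjective
      have hpm : p ≤ q.comap (Ideal.Quotient.mk p) := fun a ha => by
        rw [Ideal.mem_comap, Ideal.Quotient.eq_zero_iff_mem.mpr ha]
        exact q.zero_mem
      obtain ⟨N, hN, hNs⟩ := exists_fg_of_isN2_localization_quotient p K'
        (q.comap (Ideal.Quotient.mk p)) hpm (fun P _ => h1 _ P)
      refine ⟨N, hN, fun x => ?_⟩
      obtain ⟨a, ha, hx⟩ := hNs x
      exact ⟨Ideal.Quotient.mk p a, fun h => ha (Ideal.mem_comap.mpr h), hx⟩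

end Groth.Agent.Lib.Helper48
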