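import Mathlib
import Groth.Agent.Lib.Helper48.AnalyticallyUnramified
import Groth.Agent.Lib.Helper48.NagataCriterion

/-!
# Finite algebras over Nagata rings, and finiteness of integral closures from reducedness of
`Frac(Â) ⊗ K'` (EGA 0_IV 23.1.7-type statements)
-/

universe u
open TensorProduct IsLocalRing

namespace Groth.Agent.Lib.Helper48

/-- A finite algebra over a Nagata ring is Nagata. -/
theorem isNagata_of_finite {R S : Type u} [CommRing R] [CommRing S] [Algebra R S]
    [Module.Finite R S] (hR : CAlg.IsNagata R) : CAlg.IsNagata S := by
  haveI := hR.1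
  haveI : IsNoetherianRing S := IsNoetherianRing.of_finite R S
  refine ⟨inferInstance, fun q hq => ?_⟩
  haveI := hq
  haveI : (q.comap (algebraMap R S)).IsPrime := Ideal.comap_isPrime _ _
  have hN2 := hR.2 (q.comap (algebraMap R S))
  haveI : IsNoetherianRing (R ⧸ q.comap (algebraMap R S)) := inferInstance
  haveI : Module.Finite R (S ⧸ q) := inferInstance
  haveI : Module.Finite (R ⧸ q.comap (algebraMap R S)) (S ⧸ q) :=
    Module.Finite.of_restrictScalars_finite R _ _
  haveI : FaithfulSMul (R ⧸ q.comap (algebraMap R S)) (S ⧸ q) :=
    (faithfulSMul_iff_algebraMap_injective _ _).mpr (Ideal.algebraMap_quotient_injective)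
  exact isN2_of_finite_of_isN2 hN2

/-- A domain `B` with a faithfully flat reduced extension `C` which is a finite algebra over a
Nagata ring is N-1. -/
theorem isN1_of_faithfullyFlat_of_finite_nagata {B C S : Type u} [CommRing B] [IsDomain B]
    [CommRing C] [Algebra B C] [Module.FaithfullyFlat B C] [IsReduced C]
    [CommRing S] [Algebra S C] [Module.Finite S C] (hS : CAlg.IsNagata S) : CAlg.IsN1 B := by
  have hC : CAlg.IsNagata C := isNagata_of_finite hS
  haveI := hC.1
  exact isN1_of_faithfullyFlat_of_isReduced (C := C) (fun q _ _ => isN1_of_isN2 (hC.2 q))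

/-- Transfer: if a finite `A`-subalgebra `B'` of `K'` with fraction field `K'` is N-1 then the
integral closure of `A` in `K'` is finite over `A`. -/
theorem finite_integralClosure_of_subalgebra_isN1 {A K' : Type u} [CommRing A]
    [IsNoetherianRing A] [Field K'] [Algebra A K'] (B' : Subalgebra A K') [Module.Finite A B']
    [IsFractionRing B' K'] (h : CAlg.IsN1 B') : Module.Finite A (integralClosure A K') := by
  obtain ⟨e⟩ : Nonempty (FractionRing B' ≃ₐ[B'] K') := ⟨FractionRing.algEquiv B' K'⟩
  haveI : Module.Finite B' (integralClosure B' (FractionRing B')) := h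
  haveI : Module.Finite A (integralClosure B' (FractionRing B')) := Module.Finite.trans B' _
  haveI : IsNoetherian A (integralClosure B' (FractionRing B')) :=
    isNoetherian_of_isNoetherianRing_of_finite A _
  have hmem : ∀ z : integralClosure A K', e.symm z.1 ∈ integralClosure B' (FractionRing B') := by
    intro z
    have h1 : IsIntegral B' z.1 := z.2.tower_top
    exact h1.map e.symm.toAlgHom
  let f : integralClosure A K' →ₗ[A] integralClosure B' (FractionRing B') :=
    { toFun := fun z => ⟨e.symm z.1, hmem z⟩
      map_add' := fun x y => Subtype.ext (map_add e.symm _ _)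
      map_smul' := fun c z => by
        apply Subtype.ext
        show e.symm ((c • z : integralClosure A K') : K') =
          ((RingHom.id A) c • (e.symm z.1) : FractionRing B')
        rw [RingHom.id_apply]
        have h1 : ((c • z : integralClosure A K') : K') = (algebraMap A B' c) • (z : K') := by
          rw [Algebra.smul_def]; rfl
        rw [h1, map_smul, algebraMap_smul] }
  exact Module.Finite.of_injective f (fun x y hxy => Subtype.ext (e.symm.injective
    (congrArg (fun z : integralClosure B' (FractionRing B') => (z : FractionRing B')) hxy)))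

/-- `B ⊗[A] S` is a finite `S`-module (for the right algebra structure) if `B` is finite over `A`. -/
theorem finite_tensor_right (A B S : Type*) [CommRing A] [CommRing B] [CommRing S] [Algebra A B]
    [Algebra A S] [Module.Finite A B] :
    letI : Algebra S (B ⊗[A] S) := Algebra.TensorProduct.rightAlgebra
    Module.Finite S (B ⊗[A] S) := by
  letI : Algebra S (B ⊗[A] S) := Algebra.TensorProduct.rightAlgebra
  refine Module.Finite.of_equiv_equiv (A₁ := S) (B₁ := S ⊗[A] B) (RingEquiv.refl S)
    (Algebra.TensorProduct.comm A S B).toRingEquiv ?_
  ext c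
  simp [Algebra.TensorProduct.algebraMap_apply, RingHom.algebraMap_toAlgebra]

/-- **EGA 0_IV 23.1.7 (i)-type statement.** Let `A` be a Noetherian local domain with reduced
completion `Â`, `R` the total ring of fractions of `Â`, `K'` a finite extension of `Frac A`. If
`R ⊗[A] K'` is reduced then the integral closure of `A` in `K'` is a finite `A`-module. -/
theorem finite_integralClosure_of_isReduced_tensor {A K' R : Type u}
    [CommRing A] [IsDomain A] [IsLocalRing A] [IsNoetherianRing A]
    [CommRing R] [Algebra (AdicCompletion (IsLocalRing.maximalIdeal A) A) R]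
    [IsFractionRing (AdicCompletion (IsLocalRing.maximalIdeal A) A) R] [Algebra A R]
    [IsScalarTower A (AdicCompletion (IsLocalRing.maximalIdeal A) A) R]
    [Field K'] [Algebra A K'] [Algebra (FractionRing A) K'] [IsScalarTower A (FractionRing A) K']
    [FiniteDimensional (FractionRing A) K'] (h : IsReduced (R ⊗[A] K')) :
    Module.Finite A (integralClosure A K') := by
  obtain ⟨B', hfin, hfrac⟩ := exists_finite_subalgebra_isFractionRing A (FractionRing A) K'
  haveI := hfin
  haveI := hfrac
  haveI : IsNoetherianRing (AdicCompletion (maximalIdeal A) A) :=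
    Groth.Agent.S0543.result A (maximalIdeal A)
  haveI : Module.FaithfullyFlat A (AdicCompletion (maximalIdeal A) A) :=
    Module.FaithfullyFlat.of_flat_of_isLocalHom
  have hNag : CAlg.IsNagata (AdicCompletion (maximalIdeal A) A) :=
    isNagata_of_complete_local _
  -- `K'` is flat over `A`
  haveI : Module.Flat A (FractionRing A) := IsLocalization.flat (FractionRing A) (nonZeroDivisors A)
  haveI : Module.Flat A K' := Module.Flat.trans A (FractionRing A) K'
  -- reducedness of `B' ⊗ Â`
  have hinj1 : Function.Injective (Algebra.TensorProduct.map B'.val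
      (AlgHom.id A (AdicCompletion (maximalIdeal A) A))) :=
    Module.Flat.rTensor_preserves_injective_linearMap _ Subtype.val_injective
  have hinj2 : Function.Injective (Algebra.TensorProduct.map (AlgHom.id A K')
      (IsScalarTower.toAlgHom A (AdicCompletion (maximalIdeal A) A) R)) :=
    Module.Flat.lTensor_preserves_injective_linearMap _
      (IsFractionRing.injective (AdicCompletion (maximalIdeal A) A) R)
  haveI : IsReduced (K' ⊗[A] R) :=
    isReduced_of_injective (Algebra.TensorProduct.comm A K' R) (AlgEquiv.injective _)
  haveI : IsReduced (K' ⊗[A] AdicCompletion (maximalIdeal A) A) :=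
    isReduced_of_injective _ hinj2
  haveI : IsReduced (B' ⊗[A] AdicCompletion (maximalIdeal A) A) :=
    isReduced_of_injective _ hinj1
  -- finiteness over `Â`
  letI : Algebra (AdicCompletion (maximalIdeal A) A) (B' ⊗[A] AdicCompletion (maximalIdeal A) A) :=
    Algebra.TensorProduct.rightAlgebra
  haveI : Module.Finite (AdicCompletion (maximalIdeal A) A)
      (B' ⊗[A] AdicCompletion (maximalIdeal A) A) := finite_tensor_right A B' _
  have hN1 : CAlg.IsN1 B' :=
    isN1_of_faithfullyFlat_of_finite_nagata (C := B' ⊗[A] AdicCompletion (maximalIdeal A) A) hNag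
  exact finite_integralClosure_of_subalgebra_isN1 B' hN1

end Groth.Agent.Lib.Helper48
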