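import Mathlib
import Groth.Agent.Lib.Helper48.AnalyticallyUnramified2

/-!
# Nagata rings from geometrically reduced (formal) fibres (EGA IV 7.6.4 / 7.7.2-type statements)
-/

universe u
open TensorProduct IsLocalRing

namespace Groth.Agent.Lib.Helper48

/-- If `A → S` is faithfully flat, `S` is a Nagata ring, and the fibre of `S` over a prime `p` of `A`
is geometrically reduced, then `A ⧸ p` is N-2. -/
theorem isN2_quotient_of_isGeometricallyReduced_fiber {A S : Type u} [CommRing A]
    [IsNoetherianRing A] [CommRing S] [Algebra A S] [Module.FaithfullyFlat A S]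
    (hS : CAlg.IsNagata S) (p : Ideal A) [p.IsPrime]
    (h : Algebra.IsGeometricallyReduced p.ResidueField (p.Fiber S)) : CAlg.IsN2 (A ⧸ p) := by
  intro L _ _ _ _ hfd
  haveI := hfd
  obtain ⟨B', hfin, hfrac⟩ :=
    exists_finite_subalgebra_isFractionRing (A ⧸ p) (FractionRing (A ⧸ p)) L
  haveI := hfin
  haveI := hfrac
  -- algebra structures over `A`
  letI : Algebra A L := ((algebraMap (A ⧸ p) L).comp (algebraMap A (A ⧸ p))).toAlgebra
  haveI : IsScalarTower A (A ⧸ p) L := IsScalarTower.of_algebraMap_eq' rfl
  haveI : Module.Finite A B' := Module.Finite.trans (A ⧸ p) B'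
  -- `L` as an algebra over the residue field
  obtain ⟨e⟩ : Nonempty (FractionRing (A ⧸ p) ≃ₐ[A ⧸ p] p.ResidueField) :=
    ⟨FractionRing.algEquiv (A ⧸ p) p.ResidueField⟩
  letI : Algebra p.ResidueField L :=
    ((algebraMap (FractionRing (A ⧸ p)) L).comp e.symm.toAlgHom.toRingHom).toAlgebra
  haveI : IsScalarTower (A ⧸ p) p.ResidueField L := IsScalarTower.of_algebraMap_eq (fun x => by
    show algebraMap (A ⧸ p) L x = algebraMap (FractionRing (A ⧸ p)) L (e.symm (algebraMap _ _ x))
    rw [e.symm.commutes, ← IsScalarTower.algebraMap_apply])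
  haveI : IsScalarTower A p.ResidueField L := IsScalarTower.of_algebraMap_eq (fun x => by
    rw [IsScalarTower.algebraMap_apply A (A ⧸ p) L, IsScalarTower.algebraMap_apply (A ⧸ p) p.ResidueField L,
      ← IsScalarTower.algebraMap_apply A (A ⧸ p) p.ResidueField])
  haveI : Algebra.IsAlgebraic (A ⧸ p) L :=
    (IsFractionRing.comap_isAlgebraic_iff (A := A ⧸ p) (K := FractionRing (A ⧸ p)) (C := L)).mpr
      inferInstance
  haveI : Algebra.IsAlgebraic p.ResidueField L :=
    (IsFractionRing.comap_isAlgebraic_iff (A := A ⧸ p) (K := p.ResidueField) (C := L)).mp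
      inferInstance
  haveI : IsReduced (L ⊗[p.ResidueField] (p.Fiber S)) := inferInstance
  haveI : IsReduced (L ⊗[A] S) :=
    isReduced_of_injective
      (Algebra.TensorProduct.cancelBaseChange A p.ResidueField p.ResidueField L S).symm
      (AlgEquiv.injective _)
  have hinj1 : Function.Injective (Algebra.TensorProduct.map (B'.val.restrictScalars A)
      (AlgHom.id A S)) :=
    Module.Flat.rTensor_preserves_injective_linearMap _ Subtype.val_injective
  haveI : IsReduced (B' ⊗[A] S) := isReduced_of_injective _ hinj1
  letI : Algebra S (B' ⊗[A] S) := Algebra.TensorProduct.rightAlgebra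
  haveI : Module.Finite S (B' ⊗[A] S) := finite_tensor_right A B' S
  have hN1 : CAlg.IsN1 B' := isN1_of_faithfullyFlat_of_finite_nagata (C := B' ⊗[A] S) hS
  exact finite_integralClosure_of_subalgebra_isN1 B' hN1


/-- If `A → S` is faithfully flat with geometrically reduced fibres, `A` is Noetherian and `S` is a
Nagata ring, then `A` is a Nagata ring. -/
theorem isNagata_of_faithfullyFlat_of_isGeometricallyReduced_fibers {A S : Type u} [CommRing A]
    [IsNoetherianRing A] [CommRing S] [Algebra A S] [Module.FaithfullyFlat A S]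
    (hS : CAlg.IsNagata S)
    (h : ∀ (p : Ideal A) [p.IsPrime], Algebra.IsGeometricallyReduced p.ResidueField (p.Fiber S)) :
    CAlg.IsNagata A :=
  ⟨inferInstance, fun p _ => isN2_quotient_of_isGeometricallyReduced_fiber hS p (h p)⟩

/-- A Noetherian local ring with geometrically reduced formal fibres is a Nagata ring. -/
theorem isNagata_of_hasGeomReducedFormalFibres (A : Type u) [CommRing A] [IsNoetherianRing A]
    [IsLocalRing A] (hA : EGA4.HasGeomReducedFormalFibres A) : CAlg.IsNagata A := by
  haveI : IsNoetherianRing (AdicCompletion (maximalIdeal A) A) :=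
    Groth.Agent.S0543.result A (maximalIdeal A)
  haveI : Module.FaithfullyFlat A (AdicCompletion (maximalIdeal A) A) :=
    Module.FaithfullyFlat.of_flat_of_isLocalHom
  have hNag : CAlg.IsNagata (AdicCompletion (maximalIdeal A) A) :=
    isNagata_of_complete_local _
  exact isNagata_of_faithfullyFlat_of_isGeometricallyReduced_fibers hNag (fun p _ => hA p)

end Groth.Agent.Lib.Helper48
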