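import Mathlib

/-!
# An abstract hypersurface criterion for reducedness (after Stacks 0330)

`S` a Noetherian domain, `T` a flat Noetherian `S`-algebra, `x ∈ S` nonzero with image in the
Jacobson radical of `T`. If for every associated prime `p` of `S/xS` the ring `S_p` is a DVR and
`T/pT` is reduced, then `T` is reduced.
-/

universe u
open TensorProduct IsLocalRing

namespace Groth.Agent.Lib.Helper48

/-- Flat base change of a regular element on `S/xS`. -/
theorem mem_span_of_mul_mem_span_of_isSMulRegular {S T : Type*} [CommRing S] [CommRing T]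
    [Algebra S T] [Module.Flat S T] (x u : S) (hu : IsSMulRegular (S ⧸ Ideal.span {x}) u) (t : T)
    (h : algebraMap S T u * t ∈ Ideal.span {algebraMap S T x}) :
    t ∈ Ideal.span {algebraMap S T x} := by
  obtain ⟨t', ht'⟩ := Ideal.mem_span_singleton'.mp h
  have hreg : IsSMulRegular (T ⊗[S] (S ⧸ Ideal.span {x})) u := hu.lTensor T
  have hx1 : x • (1 : S ⧸ Ideal.span {x}) = 0 := by
    rw [Algebra.smul_def, mul_one, Ideal.Quotient.algebraMap_eq, Ideal.Quotient.eq_zero_iff_mem]
    exact Ideal.mem_span_singleton_self x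
  have hz : u • (t ⊗ₜ[S] (1 : S ⧸ Ideal.span {x})) = 0 := by
    rw [TensorProduct.smul_tmul', Algebra.smul_def, ← ht', mul_comm, ← Algebra.smul_def,
      TensorProduct.smul_tmul, hx1, TensorProduct.tmul_zero]
  have hz0 : t ⊗ₜ[S] (1 : S ⧸ Ideal.span {x}) = 0 := by
    apply hreg
    show u • (t ⊗ₜ[S] (1 : S ⧸ Ideal.span {x})) = u • 0
    rw [hz, smul_zero]
  have h1 := congrArg (TensorProduct.tensorQuotEquivQuotSMul T (Ideal.span {x})) hz0
  rw [show (1 : S ⧸ Ideal.span {x}) = Ideal.Quotient.mk _ 1 from rfl,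
    TensorProduct.tensorQuotEquivQuotSMul_tmul_mk, map_zero, one_smul,
    Submodule.Quotient.mk_eq_zero] at h1
  refine Submodule.smul_induction_on h1 (fun r hr m _ => ?_) (fun a b ha hb => Ideal.add_mem _ ha hb)
  obtain ⟨c, rfl⟩ := Ideal.mem_span_singleton'.mp hr
  rw [Algebra.smul_def, map_mul, mul_assoc, mul_comm, mul_assoc]
  exact Ideal.mul_mem_right _ _ (Ideal.mem_span_singleton_self _)

/-- Consequences of `S_p` being a DVR, expressed in `S`. -/
theorem exists_uniformizer_of_isDiscreteValuationRing_atPrime {S : Type*} [CommRing S] [IsDomain S]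
    (p : Ideal S) [p.IsPrime] [IsDiscreteValuationRing (Localization.AtPrime p)] (x : S)
    (hx : x ≠ 0) :
    ∃ π ∈ p, π ≠ 0 ∧ (∀ r ∈ p, ∃ s ∉ p, ∃ b, s * r = π * b) ∧
      ∃ (e : ℕ), ∃ t ∉ p, ∃ c, t * π ^ e = c * x := by
  have hinj : Function.Injective (algebraMap S (Localization.AtPrime p)) :=
    IsLocalization.injective _ p.primeCompl_le_nonZeroDivisors
  obtain ⟨ϖ, hϖ⟩ := IsDiscreteValuationRing.exists_irreducible (Localization.AtPrime p)
  obtain ⟨a, s, rfl⟩ := IsLocalization.exists_mk'_eq p.primeCompl ϖ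
  have hassoc : Associated (IsLocalization.mk' (Localization.AtPrime p) a s)
      (algebraMap S (Localization.AtPrime p) a) := by
    refine ⟨(IsLocalization.map_units (Localization.AtPrime p) s).unit, ?_⟩
    rw [IsUnit.unit_spec, IsLocalization.mk'_spec]
  have hirr : Irreducible (algebraMap S (Localization.AtPrime p) a) := hassoc.irreducible hϖ
  have hap : a ∈ p := by
    rw [← IsLocalization.AtPrime.to_map_mem_maximal_iff (Localization.AtPrime p) p]
    exact (IsLocalRing.mem_maximalIdeal _).mpr hirr.not_isUnit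
  have ha0 : a ≠ 0 := by
    rintro rfl
    exact hirr.ne_zero (map_zero _)
  refine ⟨a, hap, ha0, fun r hr => ?_, ?_⟩
  · have h1 : algebraMap S (Localization.AtPrime p) r ∈ maximalIdeal (Localization.AtPrime p) :=
      (IsLocalization.AtPrime.to_map_mem_maximal_iff (Localization.AtPrime p) p r).mpr hr
    rw [hirr.maximalIdeal_eq, Ideal.mem_span_singleton'] at h1
    obtain ⟨c, hc⟩ := h1
    obtain ⟨b, t, rfl⟩ := IsLocalization.exists_mk'_eq p.primeCompl c
    refine ⟨t, t.2, b, hinj ?_⟩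
    rw [map_mul, map_mul, ← hc, mul_comm (IsLocalization.mk' _ b t), mul_comm, mul_assoc,
      IsLocalization.mk'_spec]
  · have hx' : algebraMap S (Localization.AtPrime p) x ≠ 0 := by
      rwa [Ne, map_eq_zero_iff _ hinj]
    obtain ⟨e, u, hu⟩ := IsDiscreteValuationRing.eq_unit_mul_pow_irreducible hx' hirr
    obtain ⟨b, t, hbt⟩ := IsLocalization.exists_mk'_eq p.primeCompl ((u⁻¹ : _ˣ) : Localization.AtPrime p)
    refine ⟨e, t, t.2, b, hinj ?_⟩
    have hb : algebraMap S (Localization.AtPrime p) b =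
        ((u⁻¹ : _ˣ) : Localization.AtPrime p) * algebraMap S (Localization.AtPrime p) t := by
      rw [← hbt, IsLocalization.mk'_spec]
    rw [map_mul, map_mul, map_pow, hu, ← mul_assoc, hb]
    congr 1
    rw [mul_comm _ (algebraMap S _ (t : S)), mul_assoc, Units.inv_mul, mul_one]

/-- nilpotent elements are divisible, up to a unit at `p`, by any power of the uniformizer. -/
theorem exists_mul_eq_pow_mul_of_isNilpotent {S T : Type*} [CommRing S] [IsDomain S]
    [CommRing T] [Algebra S T] [Module.Flat S T] (p : Ideal S) [p.IsPrime] (π : S) (hπ0 : π ≠ 0)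
    (hπ : ∀ r ∈ p, ∃ s ∉ p, ∃ b, s * r = π * b)
    (hred : ∀ w : T, IsNilpotent w → w ∈ p.map (algebraMap S T))
    (y : T) (hy : IsNilpotent y) (e : ℕ) :
    ∃ s ∉ p, ∃ w : T, algebraMap S T s * y = algebraMap S T π ^ e * w := by
  have hreg : IsSMulRegular T (algebraMap S T π) :=
    IsSMulRegular.of_flat (fun a b hab => mul_left_cancel₀ hπ0 hab)
  have hmap : ∀ w ∈ p.map (algebraMap S T), ∃ s ∉ p, ∃ w' : T,
      algebraMap S T s * w = algebraMap S T π * w' := by
    intro w hw
    refine Submodule.span_induction (p := fun w _ => ∃ s ∉ p, ∃ w' : T,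
      algebraMap S T s * w = algebraMap S T π * w') ?_ ?_ ?_ ?_ hw
    · rintro _ ⟨r, hr, rfl⟩
      obtain ⟨s, hs, b, hb⟩ := hπ r hr
      exact ⟨s, hs, algebraMap S T b, by rw [← map_mul, ← map_mul, hb]⟩
    · exact ⟨1, fun h => (Ideal.IsPrime.ne_top ‹_›) ((Ideal.eq_top_iff_one _).mpr h), 0, by simp⟩
    · rintro w1 w2 _ _ ⟨s1, hs1, w1', h1⟩ ⟨s2, hs2, w2', h2⟩
      refine ⟨s1 * s2, fun h => (Ideal.IsPrime.mem_or_mem ‹_› h).elim hs1 hs2,
        algebraMap S T s2 * w1' + algebraMap S T s1 * w2', ?_⟩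
      rw [map_mul, mul_add, mul_add]
      congr 1
      · rw [mul_comm (algebraMap S T s1), mul_assoc, h1]; ring
      · rw [mul_assoc, h2]; ring
    · rintro t w _ ⟨s, hs, w', h⟩
      exact ⟨s, hs, t * w', by rw [smul_eq_mul, mul_left_comm, h]; ring⟩
  induction e with
  | zero => exact ⟨1, fun h => (Ideal.IsPrime.ne_top ‹_›) ((Ideal.eq_top_iff_one _).mpr h), y, by simp⟩
  | succ e ih =>
    obtain ⟨s, hs, w, hw⟩ := ih
    -- `w` is nilpotent
    have hwnil : IsNilpotent w := by
      obtain ⟨n, hn⟩ := hy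
      refine ⟨n, ?_⟩
      have h1 : (algebraMap S T π ^ e) ^ n * w ^ n = 0 := by
        rw [← mul_pow, ← hw, mul_pow, hn, mul_zero]
      have hreg' : IsSMulRegular T ((algebraMap S T π ^ e) ^ n) := (hreg.pow e).pow n
      exact hreg' (by simpa using h1)
    obtain ⟨s', hs', w', hw'⟩ := hmap w (hred w hwnil)
    refine ⟨s' * s, fun h => (Ideal.IsPrime.mem_or_mem ‹_› h).elim hs' hs, w', ?_⟩
    rw [map_mul, mul_assoc, hw, mul_left_comm, hw', pow_succ]
    ring

/-- **Abstract hypersurface criterion for reducedness** (after Stacks 0330). -/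
theorem isReduced_of_flat_of_dvr_at_associatedPrimes {S T : Type*} [CommRing S] [IsDomain S]
    [IsNoetherianRing S] [CommRing T] [Algebra S T] [Module.Flat S T] [IsNoetherianRing T]
    (x : S) (hx0 : x ≠ 0) (hxJ : algebraMap S T x ∈ (⊥ : Ideal T).jacobson)
    (h : ∀ p ∈ associatedPrimes S (S ⧸ Ideal.span {x}), ∀ [p.IsPrime],
      IsDiscreteValuationRing (Localization.AtPrime p) ∧
        ∀ w : T, IsNilpotent w → w ∈ p.map (algebraMap S T)) : IsReduced T := by
  classical
  have hregx : IsSMulRegular T (algebraMap S T x) :=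
    IsSMulRegular.of_flat (fun a b hab => mul_left_cancel₀ hx0 hab)
  -- Step 2
  have step2 : ∀ y : T, IsNilpotent y → ∀ p ∈ associatedPrimes S (S ⧸ Ideal.span {x}),
      ∃ u ∉ p, algebraMap S T u * y ∈ Ideal.span {algebraMap S T x} := by
    intro y hy p hp
    haveI : p.IsPrime := hp.isPrime
    obtain ⟨hdvr, hred⟩ := h p hp
    haveI := hdvr
    obtain ⟨π, -, hπ0, hπ, e, t, ht, c, hc⟩ :=
      exists_uniformizer_of_isDiscreteValuationRing_atPrime p x hx0
    obtain ⟨s, hs, w, hw⟩ := exists_mul_eq_pow_mul_of_isNilpotent p π hπ0 hπ hred y hy e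
    refine ⟨t * s, fun h => (Ideal.IsPrime.mem_or_mem ‹_› h).elim ht hs, ?_⟩
    rw [map_mul, mul_assoc, hw, ← mul_assoc, ← map_pow, ← map_mul, hc, map_mul, mul_assoc,
      mul_left_comm]
    exact Ideal.mul_mem_right _ _ (Ideal.mem_span_singleton_self _)
  -- Step 3
  have step3 : ∀ y : T, IsNilpotent y → y ∈ Ideal.span {algebraMap S T x} := by
    intro y hy
    obtain ⟨J, hJ⟩ : ∃ J : Ideal S, ∀ r, r ∈ J ↔ algebraMap S T r * y ∈ Ideal.span {algebraMap S T x} :=
      ⟨((Ideal.span {algebraMap S T x}).colon ({y} : Set T)).comap (algebraMap S T), fun r => by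
        rw [Ideal.mem_comap, Submodule.mem_colon_singleton, smul_eq_mul]⟩
    have hfin : (associatedPrimes S (S ⧸ Ideal.span {x})).Finite := associatedPrimes.finite S _
    have hnot : ¬ ((J : Set S) ⊆ ⋃ p ∈ associatedPrimes S (S ⧸ Ideal.span {x}), (p : Set S)) := by
      intro hsub
      have hsub' : (J : Set S) ⊆ ⋃ p ∈ (↑hfin.toFinset : Set (Ideal S)), ((id p : Ideal S) : Set S) := by
        simpa using hsub
      obtain ⟨p, hp, hJp⟩ := (Ideal.subset_union_prime (s := hfin.toFinset) (f := id) ⊤ ⊤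
        (fun i hi _ _ => ((hfin.mem_toFinset).mp hi).isPrime)).mp hsub'
      have hp' := (hfin.mem_toFinset).mp hp
      obtain ⟨u, hu, huy⟩ := step2 y hy p hp'
      exact hu (hJp ((hJ u).mpr huy))
    obtain ⟨u, huJ, hu⟩ := Set.not_subset.mp hnot
    rw [biUnion_associatedPrimes_eq_compl_regular S (S ⧸ Ideal.span {x}), Set.mem_compl_iff,
      not_not] at hu
    exact mem_span_of_mul_mem_span_of_isSMulRegular x u hu y ((hJ u).mp huJ)
  -- Step 4
  have step4 : ∀ n : ℕ, ∀ y : T, IsNilpotent y → y ∈ Ideal.span {algebraMap S T x} ^ n := by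
    intro n
    induction n with
    | zero => intro y _; simp
    | succ n ih =>
      intro y hy
      obtain ⟨z, hz⟩ := Ideal.mem_span_singleton'.mp (step3 y hy)
      have hznil : IsNilpotent z := by
        obtain ⟨k, hk⟩ := hy
        refine ⟨k, ?_⟩
        have h1 : algebraMap S T x ^ k * z ^ k = 0 := by
          rw [← mul_pow, mul_comm, hz, hk]
        exact (hregx.pow k) (by simpa using h1)
      rw [pow_succ, ← hz]
      exact Ideal.mul_mem_mul (ih z hznil) (Ideal.mem_span_singleton_self _)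
  -- Step 5: Krull
  have hle : Ideal.span {algebraMap S T x} ≤ (⊥ : Ideal T).jacobson := by
    rw [Ideal.span_le, Set.singleton_subset_iff]; exact hxJ
  have hkrull := Ideal.iInf_pow_smul_eq_bot_of_le_jacobson (M := T) _ hle
  refine ⟨fun y hy => ?_⟩
  have hmem : y ∈ (⨅ i : ℕ, Ideal.span {algebraMap S T x} ^ i • ⊤ : Submodule T T) := by
    rw [Submodule.mem_iInf]
    intro i
    have := step4 i y hy
    rwa [smul_eq_mul, Ideal.mul_top]
  rw [hkrull] at hmem
  exact hmem

end Groth.Agent.Lib.Helper48
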