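import Mathlib
import Groth.Agent.Lib.Helper48.HypersurfaceReduced
import Groth.Agent.Lib.Helper64.CplQuot
import Groth.Agent.Lib.Helper29.SerreNormal
import Groth.Agent.Lib.Helper20.DepthOne
import Groth.Agent.S0543

universe u
open TensorProduct IsLocalRing

namespace Groth.Agent.Lib.Helper48

/-- A Noetherian local integrally closed domain of dimension `≤ 1` which is not a field is a DVR. -/
theorem isDiscreteValuationRing_of_isIntegrallyClosed_of_dim_le_one (S : Type u) [CommRing S]
    [IsLocalRing S] [IsNoetherianRing S] [IsDomain S] [IsIntegrallyClosed S]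
    (h : ringKrullDim S ≤ 1) (hne : maximalIdeal S ≠ ⊥) : IsDiscreteValuationRing S := by
  have h3 : IsIntegrallyClosed S ∧ ∀ P : Ideal S, P ≠ ⊥ → P.IsPrime → P = maximalIdeal S :=
    ⟨inferInstance, fun P hP0 hP =>
      Groth.Agent.Lib.Helper29.eq_maximalIdeal_of_ringKrullDim_le_one S h P hP0 hP⟩
  have hpid : IsPrincipalIdealRing S :=
    ((tfae_of_isNoetherianRing_of_isLocalRing_of_isDomain (R := S)).out 3 0).mp h3
  exact { toIsPrincipalIdealRing := hpid, toIsLocalRing := inferInstance, not_a_field' := hne }

/-- **Stacks 0330** (hypersurface criterion for analytic unramifiedness). -/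
theorem isReduced_adicCompletion_of_hypersurface {R : Type u} [CommRing R] [IsDomain R] [IsLocalRing R]
    [IsNoetherianRing R] (x : R) (hx : x ≠ 0) (hxm : x ∈ IsLocalRing.maximalIdeal R)
    (hemb : ∀ p ∈ associatedPrimes R (R ⧸ Ideal.span {x}), p ∈ (Ideal.span {x}).minimalPrimes)
    (hreg : ∀ p ∈ associatedPrimes R (R ⧸ Ideal.span {x}), ∀ (_ : p.IsPrime),
      IsRegularLocalRing (Localization.AtPrime p) ∧
        IsReduced (AdicCompletion ((IsLocalRing.maximalIdeal R).map (Ideal.Quotient.mk p)) (R ⧸ p))) :
    IsReduced (AdicCompletion (IsLocalRing.maximalIdeal R) R) := by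
  haveI : IsNoetherianRing (AdicCompletion (maximalIdeal R) R) :=
    Groth.Agent.S0543.result R (maximalIdeal R)
  refine isReduced_of_flat_of_dvr_at_associatedPrimes (S := R)
    (T := AdicCompletion (maximalIdeal R) R) x hx ?_ ?_
  · rw [IsLocalRing.jacobson_eq_maximalIdeal ⊥ bot_ne_top, IsLocalRing.mem_maximalIdeal,
      mem_nonunits_iff]
    intro hu
    have := (isUnit_map_iff (algebraMap R (AdicCompletion (maximalIdeal R) R)) x).mp hu
    exact (IsLocalRing.mem_maximalIdeal _).mp hxm this
  · intro p hp hpprime
    obtain ⟨hregp, hredp⟩ := hreg p hp hpprime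
    have hmin := hemb p hp
    have hxp : x ∈ p := hmin.1.2 (Ideal.mem_span_singleton_self x)
    refine ⟨?_, ?_⟩
    · -- DVR
      haveI := hregp
      have hht : p.height ≤ 1 := Ideal.height_le_one_of_isPrincipal_of_mem_minimalPrimes _ _ hmin
      have hdim : ringKrullDim (Localization.AtPrime p) ≤ 1 := by
        rw [IsLocalization.AtPrime.ringKrullDim_eq_height p]
        exact_mod_cast hht
      obtain ⟨-, hic⟩ :=
        Groth.Agent.Lib.Helper29.isDomain_and_isIntegrallyClosed_of_isRegularLocalRing_of_dim_le_one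
          (Localization.AtPrime p) hdim
      haveI := hic
      refine isDiscreteValuationRing_of_isIntegrallyClosed_of_dim_le_one _ hdim ?_
      intro hbot
      have h1 : algebraMap R (Localization.AtPrime p) x ∈ maximalIdeal (Localization.AtPrime p) :=
        (IsLocalization.AtPrime.to_map_mem_maximal_iff (Localization.AtPrime p) p x).mpr hxp
      rw [hbot, Ideal.mem_bot, map_eq_zero_iff _
        (IsLocalization.injective _ p.primeCompl_le_nonZeroDivisors)] at h1
      exact hx h1
    · -- reducedness of `R̂ / p R̂`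
      intro w hw
      haveI : Nontrivial (R ⧸ p) := Ideal.Quotient.nontrivial_iff.mpr hpprime.ne_top
      rw [← Groth.Agent.Lib.Helper64.maximalIdeal_quotient R p] at hredp
      haveI := hredp
      have h1 : IsNilpotent (Groth.Agent.Lib.Helper64.cplQuotMap R p w) := hw.map _
      have h2 : Groth.Agent.Lib.Helper64.cplQuotMap R p w = 0 := h1.eq_zero
      rw [← Groth.Agent.Lib.Helper64.ker_cplQuotMap R p]
      exact h2

end Groth.Agent.Lib.Helper48
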