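import Mathlib
import Groth.Agent.Lib.Helper48.HypersurfaceReduced2
import Groth.Agent.Lib.Helper48.AnalyticallyUnramified2
import Groth.Agent.Lib.Helper55.KrullDimIntegral

/-!
# Nagata local domains are analytically unramified (Stacks 0331)

Main result: for a Noetherian local Nagata ring `R` and a domain `D` finite over `R`, the ring
`D ⊗[R] R̂` is reduced (`isReduced_tensor_adicCompletion_of_isNagata`); in particular the completion
of a Nagata local domain is reduced.
-/

universe u
open TensorProduct IsLocalRing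
open scoped Pointwise

namespace Groth.Agent.Lib.Helper48

/-- In a Noetherian integrally closed domain, the localization at an associated prime of `D/xD`
(`x ≠ 0`) is a DVR. -/
theorem isDiscreteValuationRing_atPrime_of_mem_associatedPrimes {D : Type u} [CommRing D]
    [IsDomain D] [IsNoetherianRing D] [IsIntegrallyClosed D] (x : D) (hx : x ≠ 0) (p : Ideal D)
    [p.IsPrime] (hp : p ∈ associatedPrimes D (D ⧸ Ideal.span {x})) :
    IsDiscreteValuationRing (Localization.AtPrime p) := by
  have hxp : x ∈ p := by
    refine IsAssociatedPrime.annihilator_le hp ?_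
    rw [Submodule.mem_annihilator]
    intro n _
    obtain ⟨a, rfl⟩ := Ideal.Quotient.mk_surjective n
    rw [Algebra.smul_def, Ideal.Quotient.algebraMap_eq, ← map_mul, Ideal.Quotient.eq_zero_iff_mem]
    exact Ideal.mul_mem_right _ _ (Ideal.mem_span_singleton_self x)
  -- transfer to `QuotSMulTop`
  have heq : (Ideal.span {x} : Submodule D D) = x • (⊤ : Submodule D D) := by
    rw [← Submodule.ideal_span_singleton_smul, smul_eq_mul, Ideal.mul_top]
  have hp' : p ∈ associatedPrimes D (QuotSMulTop x D) := by
    rw [← LinearEquiv.AssociatedPrimes.eq (Submodule.quotEquivOfEq _ _ heq)]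
    exact hp
  have hdepth := Groth.Agent.Lib.Helper20.DepthOne.depth_eq_one_of_mem_associatedPrimes_quotSMulTop
    hx p hp' hxp
  haveI : IsIntegrallyClosed (Localization.AtPrime p) :=
    isIntegrallyClosed_of_isLocalization (Localization.AtPrime p) p.primeCompl
      p.primeCompl_le_nonZeroDivisors
  haveI : IsNoetherianRing (Localization.AtPrime p) :=
    IsLocalization.isNoetherianRing p.primeCompl _ inferInstance
  have hdim : ringKrullDim (Localization.AtPrime p) ≤ 1 :=
    Groth.Agent.Lib.Helper29.ringKrullDim_le_one_of_depth_le_one _ hdepth.le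
  refine isDiscreteValuationRing_of_isIntegrallyClosed_of_dim_le_one _ hdim ?_
  intro hbot
  have h1 : algebraMap D (Localization.AtPrime p) x ∈ maximalIdeal (Localization.AtPrime p) :=
    (IsLocalization.AtPrime.to_map_mem_maximal_iff (Localization.AtPrime p) p x).mpr hxp
  rw [hbot, Ideal.mem_bot, map_eq_zero_iff _
    (IsLocalization.injective _ p.primeCompl_le_nonZeroDivisors)] at h1
  exact hx h1

/-- If the maximal ideal of `R` kills the reduced `R`-algebra `D` then `D ⊗ R̂` is reduced
(indeed `D ⊗ R̂ = D`). -/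
theorem isReduced_tensor_adicCompletion_of_maximalIdeal_smul_eq_zero {R : Type u} [CommRing R]
    [IsLocalRing R] [IsNoetherianRing R] {D : Type u} [CommRing D] [Algebra R D] [IsReduced D]
    (h : ∀ a ∈ maximalIdeal R, algebraMap R D a = 0) :
    IsReduced (D ⊗[R] AdicCompletion (maximalIdeal R) R) := by
  haveI : Module.FaithfullyFlat R (AdicCompletion (maximalIdeal R) R) :=
    Module.FaithfullyFlat.of_flat_of_isLocalHom
  have fg : (maximalIdeal R).FG := (isNoetherianRing_iff_ideal_fg R).mp inferInstance _
  -- (i)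
  have h1 : ∀ β ∈ (maximalIdeal R).map (algebraMap R (AdicCompletion (maximalIdeal R) R)),
      ∀ d : D, d ⊗ₜ[R] β = 0 := by
    intro β hβ
    refine Submodule.span_induction (p := fun β _ => ∀ d : D, d ⊗ₜ[R] β = 0) ?_ ?_ ?_ ?_ hβ
    · rintro _ ⟨a, ha, rfl⟩ d
      rw [Algebra.algebraMap_eq_smul_one, ← TensorProduct.smul_tmul, Algebra.smul_def, h a ha,
        zero_mul, TensorProduct.zero_tmul]
    · intro d; exact TensorProduct.tmul_zero _ _
    · intro x y _ _ hx hy d
      rw [TensorProduct.tmul_add, hx, hy, add_zero]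
    · intro γ x _ hx d
      have : d ⊗ₜ[R] (γ • x) = ((1 : D) ⊗ₜ[R] γ) * (d ⊗ₜ[R] x) := by
        rw [Algebra.TensorProduct.tmul_mul_tmul, one_mul, smul_eq_mul]
      rw [this, hx, mul_zero]
  -- (ii)
  have h2 : ∀ α : AdicCompletion (maximalIdeal R) R, ∃ a : R,
      α - algebraMap R _ a ∈ (maximalIdeal R).map (algebraMap R (AdicCompletion (maximalIdeal R) R)) := by
    intro α
    obtain ⟨a, ha⟩ := Ideal.Quotient.mk_surjective (AdicCompletion.evalₐ (maximalIdeal R) 1 α)
    refine ⟨a, ?_⟩
    have hker := Groth.Agent.Lib.Helper18.ker_evalₐ_eq_map_pow (maximalIdeal R) fg 1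
    rw [show ∀ K : Ideal (AdicCompletion (maximalIdeal R) R), K ^ 1 = K from fun K => pow_one K] at hker
    rw [← hker, RingHom.mem_ker, map_sub]
    simp only [AlgHom.toRingHom_eq_coe, RingHom.coe_coe, AdicCompletion.algebraMap_apply,
      AdicCompletion.evalₐ_of, sub_eq_zero]
    exact ha.symm
  -- (iii)
  have h3 : ∀ z : D ⊗[R] AdicCompletion (maximalIdeal R) R, ∃ d : D, z = d ⊗ₜ[R] 1 := by
    intro z
    induction z using TensorProduct.induction_on with
    | zero => exact ⟨0, (TensorProduct.zero_tmul _ _).symm⟩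
    | tmul d α =>
      obtain ⟨a, ha⟩ := h2 α
      refine ⟨a • d, ?_⟩
      have : α = (α - algebraMap R _ a) + algebraMap R _ a := by ring
      rw [this, TensorProduct.tmul_add, h1 _ ha, zero_add, Algebra.algebraMap_eq_smul_one,
        TensorProduct.smul_tmul]
    | add x y hx hy =>
      obtain ⟨d1, rfl⟩ := hx
      obtain ⟨d2, rfl⟩ := hy
      exact ⟨d1 + d2, (TensorProduct.add_tmul _ _ _).symm⟩
  -- (iv)
  have h4 : Function.Injective (fun d : D => d ⊗ₜ[R] (1 : AdicCompletion (maximalIdeal R) R)) := by
    have hinj := Module.FaithfullyFlat.tensorProduct_mk_injective (A := R)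
      (B := AdicCompletion (maximalIdeal R) R) D
    intro d1 d2 hd
    apply hinj
    have := congrArg (TensorProduct.comm R D (AdicCompletion (maximalIdeal R) R)) hd
    simpa using this
  refine ⟨fun z hz => ?_⟩
  obtain ⟨d, rfl⟩ := h3 z
  obtain ⟨n, hn⟩ := hz
  rw [Algebra.TensorProduct.tmul_pow, one_pow] at hn
  have hd : d ^ n = 0 := h4 (by simpa using hn)
  have : d = 0 := (IsNilpotent.eq_zero ⟨n, hd⟩)
  rw [this, TensorProduct.zero_tmul]

/-- Dimension drops on passing to the quotient by a nonzero prime of a domain. -/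
theorem exists_ringKrullDim_quotient_le_of_ne_bot {D : Type*} [CommRing D] [IsDomain D]
    (p : Ideal D) [p.IsPrime] (x : D) (hx : x ≠ 0) (hxp : x ∈ p) (n : ℕ)
    (h : ringKrullDim D ≤ (n : ℕ)) : ∃ k : ℕ, n = k + 1 ∧ ringKrullDim (D ⧸ p) ≤ k := by
  have h1 : ringKrullDim (D ⧸ Ideal.span {x}) + 1 ≤ ringKrullDim D :=
    ringKrullDim_quotient_succ_le_of_nonZeroDivisor (mem_nonZeroDivisors_of_ne_zero hx)
  have hle : Ideal.span {x} ≤ p := by
    rw [Ideal.span_le, Set.singleton_subset_iff]; exact hxp
  have h2 : ringKrullDim (D ⧸ p) ≤ ringKrullDim (D ⧸ Ideal.span {x}) :=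
    ringKrullDim_le_of_surjective (Ideal.Quotient.factor hle) (Ideal.Quotient.factor_surjective hle)
  have h0 : 0 ≤ ringKrullDim (D ⧸ p) := ringKrullDim_nonneg_of_nontrivial
  have h3 : ringKrullDim (D ⧸ p) + 1 ≤ (n : ℕ) := (add_le_add_left h2 1).trans (h1.trans h)
  obtain ⟨k, hk⟩ := Groth.Agent.Lib.Helper85.exists_nat_eq_of_le h0
    (le_trans (le_add_of_nonneg_right zero_le_one) h3)
  rw [hk] at h3 ⊢
  have h4 : k + 1 ≤ n := by exact_mod_cast h3
  obtain ⟨m, rfl⟩ : ∃ m, n = m + 1 := ⟨n - 1, by omega⟩
  exact ⟨m, rfl, by exact_mod_cast Nat.le_of_succ_le_succ h4⟩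

/-- Inductive step in the normal case. -/
theorem isReduced_tensor_adicCompletion_step_normal {R : Type u} [CommRing R] [IsLocalRing R]
    [IsNoetherianRing R] (n : ℕ)
    (ih : ∀ k < n, ∀ (D : Type u) [CommRing D] [IsDomain D] [Algebra R D] [Module.Finite R D],
      ringKrullDim D ≤ k → IsReduced (D ⊗[R] AdicCompletion (maximalIdeal R) R))
    (D : Type u) [CommRing D] [IsDomain D] [IsIntegrallyClosed D] [Algebra R D] [Module.Finite R D]
    (hdim : ringKrullDim D ≤ n) : IsReduced (D ⊗[R] AdicCompletion (maximalIdeal R) R) := by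
  by_cases hcase : ∀ a ∈ maximalIdeal R, algebraMap R D a = 0
  · exact isReduced_tensor_adicCompletion_of_maximalIdeal_smul_eq_zero hcase
  push Not at hcase
  obtain ⟨a, ham, hx0⟩ := hcase
  haveI : IsNoetherianRing (AdicCompletion (maximalIdeal R) R) :=
    Groth.Agent.S0543.result R (maximalIdeal R)
  haveI : IsNoetherianRing D := IsNoetherianRing.of_finite R D
  -- `T` is Noetherian
  haveI hTN : IsNoetherianRing (D ⊗[R] AdicCompletion (maximalIdeal R) R) := by
    letI : Algebra (AdicCompletion (maximalIdeal R) R) (D ⊗[R] AdicCompletion (maximalIdeal R) R) :=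
      Algebra.TensorProduct.rightAlgebra
    haveI : Module.Finite (AdicCompletion (maximalIdeal R) R)
        (D ⊗[R] AdicCompletion (maximalIdeal R) R) := finite_tensor_right R D _
    exact IsNoetherianRing.of_finite (AdicCompletion (maximalIdeal R) R) _
  -- `x ∈ rad T`
  have hxJ : algebraMap D (D ⊗[R] AdicCompletion (maximalIdeal R) R) (algebraMap R D a) ∈
      (⊥ : Ideal (D ⊗[R] AdicCompletion (maximalIdeal R) R)).jacobson := by
    letI : Algebra (AdicCompletion (maximalIdeal R) R) (D ⊗[R] AdicCompletion (maximalIdeal R) R) :=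
      Algebra.TensorProduct.rightAlgebra
    haveI : Module.Finite (AdicCompletion (maximalIdeal R) R)
        (D ⊗[R] AdicCompletion (maximalIdeal R) R) := finite_tensor_right R D _
    have heq : algebraMap D (D ⊗[R] AdicCompletion (maximalIdeal R) R) (algebraMap R D a) =
        algebraMap (AdicCompletion (maximalIdeal R) R) (D ⊗[R] AdicCompletion (maximalIdeal R) R)
          (algebraMap R _ a) := by
      show algebraMap D D (algebraMap R D a) ⊗ₜ[R] (1 : AdicCompletion (maximalIdeal R) R) =
        (1 : D) ⊗ₜ[R] algebraMap R (AdicCompletion (maximalIdeal R) R) a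
      rw [Algebra.algebraMap_self, RingHom.id_apply, Algebra.algebraMap_eq_smul_one,
        Algebra.algebraMap_eq_smul_one (A := AdicCompletion (maximalIdeal R) R),
        TensorProduct.smul_tmul]
    rw [heq, Ideal.jacobson, Ideal.mem_sInf]
    rintro M ⟨-, hM⟩
    haveI := hM
    have hmax : (M.comap (algebraMap (AdicCompletion (maximalIdeal R) R)
        (D ⊗[R] AdicCompletion (maximalIdeal R) R))).IsMaximal :=
      Ideal.isMaximal_comap_of_isIntegral_of_isMaximal M
    have h1 := IsLocalRing.eq_maximalIdeal hmax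
    have h2 : algebraMap R (AdicCompletion (maximalIdeal R) R) a ∈
        maximalIdeal (AdicCompletion (maximalIdeal R) R) := by
      rw [IsLocalRing.mem_maximalIdeal, mem_nonunits_iff]
      intro hu
      exact (IsLocalRing.mem_maximalIdeal _).mp ham ((isUnit_map_iff _ a).mp hu)
    rw [← h1] at h2
    exact h2
  refine isReduced_of_flat_of_dvr_at_associatedPrimes (S := D)
    (T := D ⊗[R] AdicCompletion (maximalIdeal R) R) (algebraMap R D a) hx0 hxJ ?_
  intro p hp hpprime
  refine ⟨isDiscreteValuationRing_atPrime_of_mem_associatedPrimes _ hx0 p hp, ?_⟩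
  have hxp : algebraMap R D a ∈ p := by
    refine IsAssociatedPrime.annihilator_le hp ?_
    rw [Submodule.mem_annihilator]
    intro m _
    obtain ⟨b, rfl⟩ := Ideal.Quotient.mk_surjective m
    rw [Algebra.smul_def, Ideal.Quotient.algebraMap_eq, ← map_mul, Ideal.Quotient.eq_zero_iff_mem]
    exact Ideal.mul_mem_right _ _ (Ideal.mem_span_singleton_self _)
  obtain ⟨k, hk, hdimk⟩ := exists_ringKrullDim_quotient_le_of_ne_bot p _ hx0 hxp n hdim
  haveI : IsReduced ((D ⧸ p) ⊗[R] AdicCompletion (maximalIdeal R) R) :=
    ih k (by omega) (D ⧸ p) hdimk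
  intro w hw
  have h1 : IsNilpotent (Algebra.TensorProduct.map (Ideal.Quotient.mkₐ R p)
      (AlgHom.id R (AdicCompletion (maximalIdeal R) R)) w) := hw.map _
  have h2 := h1.eq_zero
  have hker := Algebra.TensorProduct.rTensor_ker (R := R) (C := AdicCompletion (maximalIdeal R) R)
    (Ideal.Quotient.mkₐ R p) (Ideal.Quotient.mkₐ_surjective R p)
  have h3 : w ∈ RingHom.ker (Algebra.TensorProduct.map (Ideal.Quotient.mkₐ R p)
      (AlgHom.id R (AdicCompletion (maximalIdeal R) R))) := h2
  rw [hker] at h3
  have hkp : RingHom.ker (Ideal.Quotient.mkₐ R p) = p := by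
    ext y
    rw [RingHom.mem_ker]
    exact Ideal.Quotient.eq_zero_iff_mem
  rw [hkp] at h3
  exact h3

/-- **Key lemma**: for a Noetherian local Nagata ring `R` and a domain `D` finite over `R`, the ring
`D ⊗[R] R̂` is reduced. -/
theorem isReduced_tensor_adicCompletion_of_isNagata {R : Type u} [CommRing R] [IsLocalRing R]
    (hR : CAlg.IsNagata R) (D : Type u) [CommRing D] [IsDomain D] [Algebra R D]
    [Module.Finite R D] : IsReduced (D ⊗[R] AdicCompletion (maximalIdeal R) R) := by
  haveI := hR.1
  have key : ∀ (n : ℕ) (D : Type u) [CommRing D] [IsDomain D] [Algebra R D] [Module.Finite R D],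
      ringKrullDim D ≤ n → IsReduced (D ⊗[R] AdicCompletion (maximalIdeal R) R) := by
    intro n
    induction n using Nat.strong_induction_on with
    | _ n ih =>
    intro D _ _ _ _ hdim
    have hD : CAlg.IsNagata D := isNagata_of_finite hR
    haveI : IsNoetherianRing D := hD.1
    have hN2 : CAlg.IsN2 D :=
      isN2_of_ringEquiv (RingEquiv.quotientBot D) (hD.2 (⊥ : Ideal D))
    haveI hN1 : Module.Finite D (integralClosure D (FractionRing D)) := isN1_of_isN2 hN2
    haveI : IsScalarTower R D (FractionRing D) := inferInstance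
    haveI : Module.Finite R (integralClosure D (FractionRing D)) := Module.Finite.trans D _
    haveI : IsIntegrallyClosed (integralClosure D (FractionRing D)) :=
      integralClosure.isIntegrallyClosedOfFiniteExtension (FractionRing D)
    have hdim' : ringKrullDim (integralClosure D (FractionRing D)) ≤ n :=
      (Groth.Agent.Lib.Helper55.ringKrullDim_le_of_isIntegral D _).trans hdim
    haveI := isReduced_tensor_adicCompletion_step_normal n ih
      (integralClosure D (FractionRing D)) hdim'
    have hinj : Function.Injective (Algebra.TensorProduct.map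
        (IsScalarTower.toAlgHom R D (integralClosure D (FractionRing D)))
        (AlgHom.id R (AdicCompletion (maximalIdeal R) R))) :=
      Module.Flat.rTensor_preserves_injective_linearMap _
        (FaithfulSMul.algebraMap_injective D (integralClosure D (FractionRing D)))
    exact isReduced_of_injective _ hinj
  have h1 : ringKrullDim D ≤ ringKrullDim R :=
    Groth.Agent.Lib.Helper55.ringKrullDim_le_of_isIntegral R D
  have h2 : ringKrullDim R < ⊤ := ringKrullDim_lt_top
  obtain ⟨n, hn⟩ : ∃ n : ℕ, ringKrullDim D ≤ n := by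
    have h3 : ringKrullDim D < ⊤ := lt_of_le_of_lt h1 h2
    have h0 : 0 ≤ ringKrullDim D := ringKrullDim_nonneg_of_nontrivial
    generalize ringKrullDim D = a at h0 h3
    induction a with
    | bot => simp at h0
    | coe a =>
      induction a with
      | top => simp at h3
      | coe k => exact ⟨k, le_rfl⟩
  exact key n D hn

/-- **Stacks 0331**: a Nagata local domain is analytically unramified. -/
theorem isReduced_adicCompletion_of_isNagata_local_domain (R : Type u) [CommRing R] [IsDomain R]
    [IsLocalRing R] (hR : CAlg.IsNagata R) :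
    IsReduced (AdicCompletion (IsLocalRing.maximalIdeal R) R) := by
  haveI := isReduced_tensor_adicCompletion_of_isNagata hR R
  exact isReduced_of_injective
    (Algebra.TensorProduct.lid R (AdicCompletion (maximalIdeal R) R)).symm (AlgEquiv.injective _)

end Groth.Agent.Lib.Helper48
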