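import Mathlib
import Groth.Prelude
import Groth.Agent.Lib.Helper48.FormalFibresNagata
import Groth.Agent.Lib.Helper48.NagataAnalyticallyUnramified
import Groth.Agent.Lib.Helper38.Delta

/-!
# Reduced local rings with geometrically normal formal fibres (EGA IV 7.6.1-type)

* `isReduced_of_flat_of_isReduced_tensor_quotient_minimalPrimes`: reducedness ascends along flat maps
  whose base changes to `A ⧸ p` (`p` minimal) are reduced.
* `isGeometricallyReduced_of_forall_finite`, `isGeometricallyReduced_of_isGeomNormal`.
* `isReduced_cpl_of_isNagata_of_isReduced`: reduced Nagata local rings are analytically unramified.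
-/

universe u
open TensorProduct IsLocalRing

namespace Groth.Agent.Lib.Helper48

/-- Reducedness ascends along a flat map whose base changes to the quotients by the minimal primes
of a reduced Noetherian base are reduced. -/
theorem isReduced_of_flat_of_isReduced_tensor_quotient_minimalPrimes {A B : Type*} [CommRing A]
    [IsNoetherianRing A] [IsReduced A] [CommRing B] [Algebra A B] [Module.Flat A B]
    (h : ∀ p ∈ minimalPrimes A, IsReduced ((A ⧸ p) ⊗[A] B)) : IsReduced B := by
  classical
  let ι := {p : Ideal A // p ∈ minimalPrimes A}
  haveI : Finite ι := (minimalPrimes.finite_of_isNoetherianRing A).to_subtype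
  haveI := Fintype.ofFinite ι
  let f : A →ₗ[A] (∀ i : ι, A ⧸ i.1) :=
    LinearMap.pi (fun i => (Ideal.Quotient.mkₐ A i.1).toLinearMap)
  have hf : Function.Injective f := by
    rw [← LinearMap.ker_eq_bot, LinearMap.ker_eq_bot']
    intro a ha
    have h1 : ∀ p ∈ minimalPrimes A, a ∈ p := by
      intro p hp
      have := congrFun ha ⟨p, hp⟩
      exact Ideal.Quotient.eq_zero_iff_mem.mp this
    have h2 : a ∈ sInf (minimalPrimes A) := by
      rw [Ideal.mem_sInf]; exact fun {p} hp => h1 p hp
    rw [minimalPrimes, Ideal.sInf_minimalPrimes] at h2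
    have h3 : IsNilpotent a := by
      obtain ⟨n, hn⟩ := h2
      exact ⟨n, hn⟩
    exact h3.eq_zero
  refine ⟨fun ξ hξ => ?_⟩
  have h1 : ∀ i : ι, (ξ ⊗ₜ[A] (1 : A ⧸ i.1) : B ⊗[A] (A ⧸ i.1)) = 0 := by
    intro i
    haveI := h i.1 i.2
    haveI : IsReduced (B ⊗[A] (A ⧸ i.1)) :=
      isReduced_of_injective (Algebra.TensorProduct.comm A B (A ⧸ i.1)) (AlgEquiv.injective _)
    have : IsNilpotent (ξ ⊗ₜ[A] (1 : A ⧸ i.1)) :=
      hξ.map (Algebra.TensorProduct.includeLeft : B →ₐ[A] B ⊗[A] (A ⧸ i.1))
    exact this.eq_zero
  have h2 : f.lTensor B (ξ ⊗ₜ 1) = 0 := by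
    apply (TensorProduct.piRight A A B (fun i : ι => A ⧸ i.1)).injective
    rw [map_zero]
    funext i
    rw [LinearMap.lTensor_tmul, TensorProduct.piRight_apply, TensorProduct.piRightHom_tmul]
    exact h1 i
  have h3 : (ξ ⊗ₜ[A] (1 : A)) = 0 :=
    (Module.Flat.lTensor_preserves_injective_linearMap f hf) (h2.trans (map_zero _).symm)
  have := congrArg (TensorProduct.rid A B) h3
  simpa using this

/-- A normal ring (all local rings are integrally closed domains) is reduced. -/
theorem isReduced_of_isNormalRing {R : Type u} [CommRing R] (h : EGA4.IsNormalRing R) :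
    IsReduced R := by
  refine ⟨fun x hx => ?_⟩
  refine eq_zero_of_localization x (fun J hJ => ?_)
  haveI := hJ
  haveI := (h J).1
  exact (hx.map (algebraMap R (Localization.AtPrime J))).eq_zero

/-- Geometric reducedness over a field may be tested on finite extensions (in the same universe). -/
theorem isGeometricallyReduced_of_forall_finite {k S : Type u} [Field k] [CommRing S] [Algebra k S]
    (h : ∀ (k' : Type u) [Field k'] [Algebra k k'], Module.Finite k k' → IsReduced (k' ⊗[k] S)) :
    Algebra.IsGeometricallyReduced k S := by
  rw [Algebra.isGeometricallyReduced_field_iff]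
  haveI : IsReduced (S ⊗[k] AlgebraicClosure k) := by
    refine IsReduced.tensorProduct_of_flat_of_forall_fg (fun B hB => ?_)
    haveI : Algebra.IsIntegral k B :=
      ⟨fun b => (isIntegral_algHom_iff B.val Subtype.val_injective).mp
        (Algebra.IsIntegral.isIntegral (b : AlgebraicClosure k))⟩
    haveI : Algebra.FiniteType k B := (Subalgebra.fg_iff_finiteType B).mp hB
    haveI : Module.Finite k B := Algebra.IsIntegral.finite
    letI : Field B := (Subalgebra.isField_of_algebraic B).toField
    haveI := h B inferInstance
    exact isReduced_of_injective (Algebra.TensorProduct.comm k S B) (AlgEquiv.injective _)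
  exact isReduced_of_injective (Algebra.TensorProduct.comm k (AlgebraicClosure k) S)
    (AlgEquiv.injective _)

/-- Geometrically normal implies geometrically reduced. -/
theorem isGeometricallyReduced_of_isGeomNormal {k S : Type u} [Field k] [CommRing S] [Algebra k S]
    (h : EGA4.IsGeomNormal k S) : Algebra.IsGeometricallyReduced k S :=
  isGeometricallyReduced_of_forall_finite (fun k' _ _ hfin => isReduced_of_isNormalRing (h k' hfin))

/-- Geometrically normal formal fibres are geometrically reduced. -/
theorem hasGeomReducedFormalFibres_of_hasGeomNormalFormalFibres {A : Type u} [CommRing A]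
    [IsLocalRing A] (h : EGA4.HasGeomNormalFormalFibres A) : EGA4.HasGeomReducedFormalFibres A :=
  fun p _ => isGeometricallyReduced_of_isGeomNormal (h p)

/-- **A reduced Nagata local ring is analytically unramified.** -/
theorem isReduced_cpl_of_isNagata_of_isReduced (A : Type u) [CommRing A] [IsLocalRing A]
    [IsReduced A] (hA : CAlg.IsNagata A) : IsReduced (AdicCompletion (maximalIdeal A) A) := by
  haveI := hA.1
  refine isReduced_of_flat_of_isReduced_tensor_quotient_minimalPrimes (A := A) (fun p hp => ?_)
  haveI : p.IsPrime := hp.1.1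
  exact isReduced_tensor_adicCompletion_of_isNagata hA (A ⧸ p)

/-- EGA IV 7.6.1-type: a reduced Noetherian local ring with geometrically normal formal fibres is
analytically unramified and has finite normalization. -/
theorem isReduced_cpl_and_finite_integralClosure_of_hasGeomNormalFormalFibres (A : Type u)
    [CommRing A] [IsNoetherianRing A] [IsLocalRing A] [IsReduced A]
    (hA : EGA4.HasGeomNormalFormalFibres A) :
    IsReduced (EGA4.Cpl A) ∧ Module.Finite A (integralClosure A (FractionRing A)) := by
  have hNag : CAlg.IsNagata A := isNagata_of_hasGeomReducedFormalFibres A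
    (hasGeomReducedFormalFibres_of_hasGeomNormalFormalFibres hA)
  exact ⟨isReduced_cpl_of_isNagata_of_isReduced A hNag,
    Groth.Agent.Lib.Helper38.finite_integralClosure_of_isNagata A hNag⟩

end Groth.Agent.Lib.Helper48
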