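import Mathlib
import Groth.Agent.Lib.Helper48.HypersurfaceReduced

/-!
# Variant of the abstract hypersurface criterion with elementwise uniformizer data
-/

universe u
open TensorProduct IsLocalRing

namespace Groth.Agent.Lib.Helper48

/-- **Abstract hypersurface criterion for reducedness** (after Stacks 0330), with the DVR condition
expressed elementwise. -/
theorem isReduced_of_flat_of_uniformizer_at_associatedPrimes {S T : Type*} [CommRing S] [IsDomain S]
    [IsNoetherianRing S] [CommRing T] [Algebra S T] [Module.Flat S T] [IsNoetherianRing T]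
    (x : S) (hx0 : x ≠ 0) (hxJ : algebraMap S T x ∈ (⊥ : Ideal T).jacobson)
    (h : ∀ p ∈ associatedPrimes S (S ⧸ Ideal.span {x}), ∀ [p.IsPrime],
      (∃ π : S, π ≠ 0 ∧ (∀ r ∈ p, ∃ s ∉ p, ∃ b, s * r = π * b) ∧
        ∃ (e : ℕ), ∃ t ∉ p, ∃ c, t * π ^ e = c * x) ∧
        ∀ w : T, IsNilpotent w → w ∈ p.map (algebraMap S T)) : IsReduced T := by
  classical
  have hregx : IsSMulRegular T (algebraMap S T x) :=
    IsSMulRegular.of_flat (fun a b hab => mul_left_cancel₀ hx0 hab)
  -- Step 2
  have step2 : ∀ y : T, IsNilpotent y → ∀ p ∈ associatedPrimes S (S ⧸ Ideal.span {x}),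
      ∃ u ∉ p, algebraMap S T u * y ∈ Ideal.span {algebraMap S T x} := by
    intro y hy p hp
    haveI : p.IsPrime := hp.isPrime
    obtain ⟨⟨π, hπ0, hπ, e, t, ht, c, hc⟩, hred⟩ := h p hp
    obtain ⟨s, hs, w, hw⟩ := exists_mul_eq_pow_mul_of_isNilpotent p π hπ0 hπ hred y hy e
    refine ⟨t * s, fun h => (Ideal.IsPrime.mem_or_mem ‹_› h).elim ht hs, ?_⟩
    rw [map_mul, mul_assoc, hw, ← mul_assoc, ← map_pow, ← map_mul, hc, map_mul, mul_assoc,
      mul_left_comm]
    exact Ideal.mul_mem_right _ _ (Ideal.mem_span_singleton_self _)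
  -- Step 3
  have step3 : ∀ y : T, IsNilpotent y → y ∈ Ideal.span {algebraMap S T x} := by
    intro y hy
    obtain ⟨J, hJ⟩ : ∃ J : Ideal S, ∀ r, r ∈ J ↔ algebraMap S T r * y ∈ Ideal.span {algebraMap S T x} :=
      ⟨((Ideal.span {algebraMap S T x}).colon ({y} : Set T)).comap (algebraMap S T), fun r => by
        rw [Ideal.mem_comap, Submodule.mem_colon_singleton, smul_eq_mul]⟩
    have hfin : (associatedPrimes S (S ⧸ Ideal.span {x})).Finite := associatedPrimes.finite S _
    have hnot : ¬ ((J : Set S) ⊆ ⋃ p ∈ associatedPrimes S (S ⧸ Ideal.span {x}), (p : Set S)) := by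
      intro hsub
      have hsub' : (J : Set S) ⊆ ⋃ p ∈ (↑hfin.toFinset : Set (Ideal S)), ((id p : Ideal S) : Set S) := by
        simpa using hsub
      obtain ⟨p, hp, hJp⟩ := (Ideal.subset_union_prime (s := hfin.toFinset) (f := id) ⊤ ⊤
        (fun i hi _ _ => ((hfin.mem_toFinset).mp hi).isPrime)).mp hsub'
      have hp' := (hfin.mem_toFinset).mp hp
      obtain ⟨u, hu, huy⟩ := step2 y hy p hp'
      exact hu (hJp ((hJ u).mpr huy))
    obtain ⟨u, huJ, hu⟩ := Set.not_subset.mp hnot
    rw [biUnion_associatedPrimes_eq_compl_regular S (S ⧸ Ideal.span {x}), Set.mem_compl_iff,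
      not_not] at hu
    exact mem_span_of_mul_mem_span_of_isSMulRegular x u hu y ((hJ u).mp huJ)
  -- Step 4
  have step4 : ∀ n : ℕ, ∀ y : T, IsNilpotent y → y ∈ Ideal.span {algebraMap S T x} ^ n := by
    intro n
    induction n with
    | zero => intro y _; simp
    | succ n ih =>
      intro y hy
      obtain ⟨z, hz⟩ := Ideal.mem_span_singleton'.mp (step3 y hy)
      have hznil : IsNilpotent z := by
        obtain ⟨k, hk⟩ := hy
        refine ⟨k, ?_⟩
        have h1 : algebraMap S T x ^ k * z ^ k = 0 := by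
          rw [← mul_pow, mul_comm, hz, hk]
        exact (hregx.pow k) (by simpa using h1)
      rw [pow_succ, ← hz]
      exact Ideal.mul_mem_mul (ih z hznil) (Ideal.mem_span_singleton_self _)
  -- Step 5: Krull
  have hle : Ideal.span {algebraMap S T x} ≤ (⊥ : Ideal T).jacobson := by
    rw [Ideal.span_le, Set.singleton_subset_iff]; exact hxJ
  have hkrull := Ideal.iInf_pow_smul_eq_bot_of_le_jacobson (M := T) _ hle
  refine ⟨fun y hy => ?_⟩
  have hmem : y ∈ (⨅ i : ℕ, Ideal.span {algebraMap S T x} ^ i • ⊤ : Submodule T T) := by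
    rw [Submodule.mem_iInf]
    intro i
    have := step4 i y hy
    rwa [smul_eq_mul, Ideal.mul_top]
  rw [hkrull] at hmem
  exact hmem

end Groth.Agent.Lib.Helper48
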