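import Mathlib
import Groth.Agent.Lib.Helper48.NagataNormalization2
import Groth.Agent.S9407

universe u

namespace Groth.Agent.Lib.Helper48

open TensorProduct

/-- Quotients of Nagata rings are Nagata. -/
theorem isNagata_quotient {S : Type u} [CommRing S] (hS : CAlg.IsNagata S) (I : Ideal S) :
    CAlg.IsNagata (S ⧸ I) := by
  haveI : IsNoetherianRing S := hS.1
  refine ⟨inferInstance, fun q hq => ?_⟩
  obtain ⟨J, hJ⟩ : ∃ J : Ideal S, J = q.comap (Ideal.Quotient.mk I) := ⟨_, rfl⟩
  have hq' : J.map (Ideal.Quotient.mk I) = q := by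
    rw [hJ]; exact Ideal.map_comap_of_surjective _ Ideal.Quotient.mk_surjective q
  haveI : J.IsPrime := hJ ▸ Ideal.IsPrime.comap _
  have hIJ : I ≤ J := by
    intro x hx
    rw [hJ, Ideal.mem_comap, Ideal.Quotient.eq_zero_iff_mem.mpr hx]
    exact Ideal.zero_mem _
  subst hq'
  exact isN2_of_ringEquiv (DoubleQuot.quotQuotEquivQuotOfLE hIJ).symm (hS.2 J)

/-- Stacks 03GH: the integral closure of a Nagata ring in a reduced Noetherian algebra essentially
of finite type is a finite module. -/
theorem finite_integralClosure_of_isNagata_of_isReduced_of_essFiniteType (R : Type u) [CommRing R]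
    (hR : CAlg.IsNagata R) (T : Type u) [CommRing T] [IsReduced T] [IsNoetherianRing T]
    [Algebra R T] [Algebra.EssFiniteType R T] : Module.Finite R (integralClosure R T) := by
  classical
  haveI : IsNoetherianRing R := hR.1
  have hfin : (minimalPrimes T).Finite := minimalPrimes.finite_of_isNoetherianRing T
  haveI : Finite (minimalPrimes T) := hfin
  haveI hprime : ∀ q : minimalPrimes T, q.1.IsPrime := fun q => q.2.1.1
  have key := finite_integralClosure_of_jointly_injective' (algebraMap R T)
    (ι := minimalPrimes T) (fun q => FractionRing (T ⧸ q.1))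
    (fun q => (algebraMap (T ⧸ q.1) (FractionRing (T ⧸ q.1))).comp (Ideal.Quotient.mk q.1))
    (fun q => ?_) (fun x y hxy => ?_)
  · rw [toAlgebra_algebraMap] at key
    exact key
  · have h1 : (algebraMap R T).EssFiniteType := RingHom.essFiniteType_algebraMap.mpr inferInstance
    have h2 : (Ideal.Quotient.mk q.1).EssFiniteType :=
      (RingHom.FiniteType.of_surjective _ Ideal.Quotient.mk_surjective).essFiniteType
    have h3 : (algebraMap (T ⧸ q.1) (FractionRing (T ⧸ q.1))).EssFiniteType :=
      RingHom.essFiniteType_algebraMap.mpr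
        (Algebra.EssFiniteType.of_isLocalization _ (nonZeroDivisors (T ⧸ q.1)))
    have h4 : (((algebraMap (T ⧸ q.1) (FractionRing (T ⧸ q.1))).comp (Ideal.Quotient.mk q.1)).comp
        (algebraMap R T)).EssFiniteType := h1.comp (h2.comp h3)
    letI : Algebra R (FractionRing (T ⧸ q.1)) :=
      (((algebraMap (T ⧸ q.1) (FractionRing (T ⧸ q.1))).comp (Ideal.Quotient.mk q.1)).comp
        (algebraMap R T)).toAlgebra
    haveI : Algebra.EssFiniteType R (FractionRing (T ⧸ q.1)) := h4
    exact finite_integralClosure_of_isNagata_of_essFiniteType_field hR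
  · have h1 : ∀ q : minimalPrimes T, x - y ∈ q.1 := by
      intro q
      have h2 := hxy q
      simp only [RingHom.comp_apply] at h2
      have h3 := IsFractionRing.injective (T ⧸ q.1) (FractionRing (T ⧸ q.1)) h2
      exact Ideal.Quotient.eq.mp h3
    have h2 : x - y ∈ sInf (minimalPrimes T) := by
      rw [Ideal.mem_sInf]
      intro q hq
      exact h1 ⟨q, hq⟩
    have h3 : sInf (minimalPrimes T) = ⊥ := by
      rw [minimalPrimes, Ideal.sInf_minimalPrimes]
      exact nilradical_eq_zero T
    rw [h3, Ideal.mem_bot, sub_eq_zero] at h2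
    exact h2

/-- A faithfully flat algebra with Noetherian total ring has Noetherian base. -/
theorem isNoetherianRing_of_faithfullyFlat' {R S : Type*} [CommRing R] [CommRing S] [Algebra R S]
    [Module.FaithfullyFlat R S] [IsNoetherianRing S] : IsNoetherianRing R := by
  rw [isNoetherianRing_iff, isNoetherian_iff'] at *
  have hmono : StrictMono (Ideal.map (algebraMap R S)) :=
    Monotone.strictMono_of_injective (fun _ _ h => Ideal.map_mono h)
      Ideal.map_injective_of_faithfullyFlat
  exact hmono.wellFoundedGT

/-- N-2 descends along smooth faithfully flat maps with Nagata target (domain case). -/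
theorem isN2_of_smooth_of_faithfullyFlat_of_isNagata (A : Type u) [CommRing A] [IsDomain A]
    (B : Type u) [CommRing B] [Algebra A B] [Algebra.Smooth A B] [Module.FaithfullyFlat A B]
    (hB : CAlg.IsNagata B) : CAlg.IsN2 A := by
  intro L _ _ _ _ hL
  haveI : IsNoetherianRing B := hB.1
  -- T = B ⊗[A] L is reduced, Noetherian and essentially of finite type over B
  haveI : Algebra.EssFiniteType A (FractionRing A) :=
    Algebra.EssFiniteType.of_isLocalization _ (nonZeroDivisors A)
  haveI : Algebra.EssFiniteType A L := Algebra.EssFiniteType.comp A (FractionRing A) L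
  haveI : IsReduced (L ⊗[A] B) := Groth.Agent.S9407.result L (L ⊗[A] B)
  haveI : Algebra.FiniteType L (L ⊗[A] B) := inferInstance
  haveI : IsNoetherianRing (L ⊗[A] B) := Algebra.FiniteType.isNoetherianRing L _
  let e : (B ⊗[A] L) ≃+* (L ⊗[A] B) := (Algebra.TensorProduct.comm A B L).toRingEquiv
  haveI : IsReduced (B ⊗[A] L) := isReduced_of_injective e.toRingHom e.injective
  haveI : IsNoetherianRing (B ⊗[A] L) := isNoetherianRing_of_ringEquiv _ e.symm
  have h1 : Module.Finite B (integralClosure B (B ⊗[A] L)) :=
    finite_integralClosure_of_isNagata_of_isReduced_of_essFiniteType B hB (B ⊗[A] L)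
  have hbij := TensorProduct.toIntegralClosure_bijective_of_smooth (R := A) (S := B) (B := L)
  haveI : Module.Finite B (B ⊗[A] integralClosure A L) :=
    Module.Finite.equiv
      (LinearEquiv.ofBijective (TensorProduct.toIntegralClosure A B L).toLinearMap hbij).symm
  exact Module.Finite.of_finite_tensorProduct_of_faithfullyFlat B

/-- The Nagata property descends along smooth ring maps that are surjective on spectra. -/
theorem isNagata_of_smooth_of_comap_surjective (R : Type u) [CommRing R] (S : Type u)
    [CommRing S] [Algebra R S] [Algebra.Smooth R S]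
    (hs : Function.Surjective (PrimeSpectrum.comap (algebraMap R S))) (hS : CAlg.IsNagata S) :
    CAlg.IsNagata R := by
  haveI : IsNoetherianRing S := hS.1
  haveI : Module.FaithfullyFlat R S := Module.FaithfullyFlat.of_comap_surjective hs
  have hRN : IsNoetherianRing R := isNoetherianRing_of_faithfullyFlat' (S := S)
  refine ⟨hRN, fun p hp => ?_⟩
  have hB : CAlg.IsNagata ((R ⧸ p) ⊗[R] S) :=
    isNagata_of_ringEquiv (Algebra.TensorProduct.quotIdealMapEquivQuotTensor S p).toRingEquiv
      (isNagata_quotient hS _)
  exact isN2_of_smooth_of_faithfullyFlat_of_isNagata (R ⧸ p) ((R ⧸ p) ⊗[R] S) hB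

end Groth.Agent.Lib.Helper48
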