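import Mathlib
import Groth.Agent.Lib.Helper48.HypersurfaceReduced3
import Groth.Agent.Lib.Helper48.NagataAnalyticallyUnramified
import Groth.Agent.Lib.Helper48.NagataSmoothDescent

/-!
# Monogenic birational extensions `R[x] ⊆ Frac R` of a normal Nagata domain (Stacks 0334, Step 6)

Main result: `isReduced_adicCompletion_atPrime_adjoin`: the local ring of `R[x]` at a prime containing
`x` is analytically unramified.
-/

universe u
open TensorProduct IsLocalRing Polynomial

namespace Groth.Agent.Lib.Helper48

/-- If `R` is integrally closed with fraction field `K`, `x ∈ K`, and `x * g(x) = r ∈ R` for a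
polynomial `g` over `R`, then `r ∈ xR`. -/
theorem exists_mul_eq_of_mul_aeval_eq {R K : Type*} [CommRing R] [IsDomain R] [Field K]
    [Algebra R K] [IsFractionRing R K] [IsIntegrallyClosed R] (x : K) :
    ∀ (n : ℕ) (g : R[X]), g.natDegree ≤ n → ∀ r : R, x * aeval x g = algebraMap R K r →
      ∃ c : R, algebraMap R K r = x * algebraMap R K c := by
  intro n
  induction n with
  | zero =>
    intro g hg r hr
    rw [Polynomial.eq_C_of_natDegree_le_zero hg, aeval_C] at hr
    exact ⟨_, hr.symm⟩
  | succ n ih =>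
    intro g hg r hr
    by_cases hdeg : g.natDegree ≤ n
    · exact ih g hdeg r hr
    have hdeg' : g.natDegree = n + 1 := by omega
    have hg0 : g ≠ 0 := by
      rintro rfl
      simp at hdeg'
    obtain ⟨P, hP⟩ : ∃ P : R[X], P = X * g - C r := ⟨_, rfl⟩
    have hPx : aeval x P = 0 := by
      rw [hP, map_sub, map_mul, aeval_X, aeval_C, hr, sub_self]
    have hdegXg : (C r).degree < (X * g).degree := by
      rw [degree_mul, degree_X, degree_eq_natDegree hg0, hdeg']
      refine lt_of_le_of_lt degree_C_le ?_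
      norm_cast
      omega
    have hlead : P.leadingCoeff = g.leadingCoeff := by
      rw [hP, leadingCoeff_sub_of_degree_lt hdegXg, leadingCoeff_mul, leadingCoeff_X, one_mul]
    have hint : IsIntegral R (g.leadingCoeff • x) := hlead ▸ isIntegral_leadingCoeff_smul P x hPx
    obtain ⟨b, hb⟩ := IsIntegrallyClosed.isIntegral_iff.mp hint
    obtain ⟨g', hg'⟩ : ∃ g' : R[X], g' = g.eraseLead + monomial n b := ⟨_, rfl⟩
    have hg'deg : g'.natDegree ≤ n := by
      rw [hg']
      refine (natDegree_add_le _ _).trans (max_le ?_ (natDegree_monomial_le b))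
      have := eraseLead_natDegree_le g
      omega
    have hgx : aeval x g' = aeval x g := by
      conv_rhs => rw [← eraseLead_add_monomial_natDegree_leadingCoeff g]
      rw [hg', map_add, map_add, aeval_monomial, aeval_monomial, hb, hdeg', pow_succ,
        Algebra.smul_def]
      ring
    exact ih g' hg'deg r (by rw [hgx]; exact hr)

/-- Uniformizer data at a prime `p` with `S_p` a DVR, uniform in the element `y`. -/
theorem exists_uniformizer_forall_of_isDiscreteValuationRing_atPrime {S : Type*} [CommRing S]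
    [IsDomain S] (p : Ideal S) [p.IsPrime] [IsDiscreteValuationRing (Localization.AtPrime p)] :
    ∃ π ∈ p, π ≠ 0 ∧ (∀ r ∈ p, ∃ s ∉ p, ∃ b, s * r = π * b) ∧
      ∀ y : S, y ≠ 0 → ∃ (e : ℕ), ∃ t ∉ p, ∃ c, t * π ^ e = c * y := by
  have hinj : Function.Injective (algebraMap S (Localization.AtPrime p)) :=
    IsLocalization.injective _ p.primeCompl_le_nonZeroDivisors
  obtain ⟨ϖ, hϖ⟩ := IsDiscreteValuationRing.exists_irreducible (Localization.AtPrime p)
  obtain ⟨a, s, rfl⟩ := IsLocalization.exists_mk'_eq p.primeCompl ϖ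
  have hassoc : Associated (IsLocalization.mk' (Localization.AtPrime p) a s)
      (algebraMap S (Localization.AtPrime p) a) := by
    refine ⟨(IsLocalization.map_units (Localization.AtPrime p) s).unit, ?_⟩
    rw [IsUnit.unit_spec, IsLocalization.mk'_spec]
  have hirr : Irreducible (algebraMap S (Localization.AtPrime p) a) := hassoc.irreducible hϖ
  have hap : a ∈ p := by
    rw [← IsLocalization.AtPrime.to_map_mem_maximal_iff (Localization.AtPrime p) p]
    exact (IsLocalRing.mem_maximalIdeal _).mpr hirr.not_isUnit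
  have ha0 : a ≠ 0 := by
    rintro rfl
    exact hirr.ne_zero (map_zero _)
  refine ⟨a, hap, ha0, fun r hr => ?_, fun x hx => ?_⟩
  · have h1 : algebraMap S (Localization.AtPrime p) r ∈ maximalIdeal (Localization.AtPrime p) :=
      (IsLocalization.AtPrime.to_map_mem_maximal_iff (Localization.AtPrime p) p r).mpr hr
    rw [hirr.maximalIdeal_eq, Ideal.mem_span_singleton'] at h1
    obtain ⟨c, hc⟩ := h1
    obtain ⟨b, t, rfl⟩ := IsLocalization.exists_mk'_eq p.primeCompl c
    refine ⟨t, t.2, b, hinj ?_⟩
    rw [map_mul, map_mul, ← hc, mul_comm (IsLocalization.mk' _ b t), mul_comm, mul_assoc,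
      IsLocalization.mk'_spec]
  · have hx' : algebraMap S (Localization.AtPrime p) x ≠ 0 := by
      rwa [Ne, map_eq_zero_iff _ hinj]
    obtain ⟨e, u, hu⟩ := IsDiscreteValuationRing.eq_unit_mul_pow_irreducible hx' hirr
    obtain ⟨b, t, hbt⟩ := IsLocalization.exists_mk'_eq p.primeCompl ((u⁻¹ : _ˣ) : Localization.AtPrime p)
    refine ⟨e, t, t.2, b, hinj ?_⟩
    have hb : algebraMap S (Localization.AtPrime p) b =
        ((u⁻¹ : _ˣ) : Localization.AtPrime p) * algebraMap S (Localization.AtPrime p) t := by
      rw [← hbt, IsLocalization.mk'_spec]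
    rw [map_mul, map_mul, map_pow, hu, ← mul_assoc, hb]
    congr 1
    rw [mul_comm _ (algebraMap S _ (t : S)), mul_assoc, Units.inv_mul, mul_one]

/-- Comparability of two elements at a prime `p` with `S_p` a DVR. -/
theorem exists_mul_eq_mul_or_of_isDiscreteValuationRing_atPrime {S : Type*} [CommRing S]
    [IsDomain S] (p : Ideal S) [p.IsPrime] [IsDiscreteValuationRing (Localization.AtPrime p)]
    (a b : S) : (∃ t ∉ p, ∃ r, t * b = r * a) ∨ (∃ t ∉ p, ∃ r ∈ p, t * a = r * b) := by
  have hinj : Function.Injective (algebraMap S (Localization.AtPrime p)) :=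
    IsLocalization.injective _ p.primeCompl_le_nonZeroDivisors
  obtain ⟨c, hc | hc⟩ := ValuationRing.cond (algebraMap S (Localization.AtPrime p) a)
    (algebraMap S (Localization.AtPrime p) b)
  · -- a * c = b
    obtain ⟨r, t, rfl⟩ := IsLocalization.exists_mk'_eq p.primeCompl c
    left
    refine ⟨t, t.2, r, hinj ?_⟩
    rw [map_mul, map_mul, ← hc, mul_comm, mul_assoc, IsLocalization.mk'_spec, mul_comm]
  · -- b * c = a
    obtain ⟨r, t, rfl⟩ := IsLocalization.exists_mk'_eq p.primeCompl c
    have h1 : (t : S) * a = r * b := by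
      apply hinj
      rw [map_mul, map_mul, ← hc, mul_comm, mul_assoc, IsLocalization.mk'_spec, mul_comm]
    by_cases hr : r ∈ p
    · exact Or.inr ⟨t, t.2, r, hr, h1⟩
    · exact Or.inl ⟨r, hr, t, h1.symm⟩

/-- If `S/q` is Nagata and `q ≤ m` are primes of the Noetherian ring `S`, then nilpotent elements
of the completion of `S_m` lie in the extension of `q`. -/
theorem mem_map_of_isNilpotent_completion_atPrime {S : Type u} [CommRing S] [IsNoetherianRing S]
    (m : Ideal S) [m.IsPrime] (q : Ideal S) [q.IsPrime] (hqm : q ≤ m)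
    (hNag : CAlg.IsNagata (S ⧸ q))
    (w : AdicCompletion (maximalIdeal (Localization.AtPrime m)) (Localization.AtPrime m))
    (hw : IsNilpotent w) :
    w ∈ q.map (algebraMap S (AdicCompletion (maximalIdeal (Localization.AtPrime m))
      (Localization.AtPrime m))) := by
  haveI : IsNoetherianRing (Localization.AtPrime m) :=
    IsLocalization.isNoetherianRing m.primeCompl _ inferInstance
  obtain ⟨q', hq'⟩ : ∃ q' : Ideal (Localization.AtPrime m),
    q' = q.map (algebraMap S (Localization.AtPrime m)) := ⟨_, rfl⟩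
  have hdisj : Disjoint (m.primeCompl : Set S) (q : Set S) := by
    rw [Set.disjoint_left]
    intro s hs hsq
    exact hs (hqm hsq)
  haveI hq'prime : q'.IsPrime :=
    hq' ▸ IsLocalization.isPrime_of_isPrime_disjoint m.primeCompl _ q inferInstance hdisj
  haveI : Nontrivial (Localization.AtPrime m ⧸ q') :=
    Ideal.Quotient.nontrivial_iff.mpr hq'prime.ne_top
  haveI : IsLocalRing (Localization.AtPrime m ⧸ q') :=
    IsLocalRing.of_surjective' (Ideal.Quotient.mk q') Ideal.Quotient.mk_surjective
  have hNag' : CAlg.IsNagata (Localization.AtPrime m ⧸ q') := by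
    subst hq'
    exact isNagata_of_isLocalization (Algebra.algebraMapSubmonoid (S ⧸ q) m.primeCompl) _ hNag
  haveI hred := isReduced_adicCompletion_of_isNagata_local_domain (Localization.AtPrime m ⧸ q') hNag'
  have h1 : IsNilpotent (Groth.Agent.Lib.Helper64.cplQuotMap (Localization.AtPrime m) q' w) :=
    hw.map _
  have h2 : Groth.Agent.Lib.Helper64.cplQuotMap (Localization.AtPrime m) q' w = 0 := h1.eq_zero
  have h3 : w ∈ q'.map (algebraMap (Localization.AtPrime m)
      (EGA4.Cpl (Localization.AtPrime m))) := by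
    rw [← Groth.Agent.Lib.Helper64.ker_cplQuotMap (Localization.AtPrime m) q']
    exact h2
  rw [hq', Ideal.map_map] at h3
  rw [IsScalarTower.algebraMap_eq S (Localization.AtPrime m)]
  exact h3

/-- A quotient of a Nagata ring by a surjection is Nagata. -/
theorem isNagata_of_surjective {A B : Type u} [CommRing A] [CommRing B] (f : A →+* B)
    (hf : Function.Surjective f) (hA : CAlg.IsNagata A) : CAlg.IsNagata B :=
  isNagata_of_ringEquiv (RingHom.quotientKerEquivOfSurjective hf) (isNagata_quotient hA _)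

section Monogenic

variable {R K : Type u} [CommRing R] [Field K] [Algebra R K] (x : K)

/-- The generator `x` as an element of `R[x]`. -/
def adjoinGen : Algebra.adjoin R {x} := ⟨x, Algebra.subset_adjoin rfl⟩

omit [Algebra R K] in
@[simp] theorem coe_adjoinGen [Algebra R K] : ((adjoinGen (R := R) x : Algebra.adjoin R {x}) : K) = x := rfl

/-- Every element of `R[x]` is congruent mod `x` to an element of `R`. -/
theorem exists_sub_mem_span_adjoinGen (s : Algebra.adjoin R {x}) :
    ∃ r : R, s - algebraMap R _ r ∈ Ideal.span {adjoinGen (R := R) x} := by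
  obtain ⟨s, hs⟩ := s
  rw [Algebra.adjoin_singleton_eq_range_aeval] at hs
  obtain ⟨g, rfl⟩ := hs
  refine ⟨g.coeff 0, Ideal.mem_span_singleton'.mpr ⟨⟨aeval x g.divX, ?_⟩, Subtype.ext ?_⟩⟩
  · rw [Algebra.adjoin_singleton_eq_range_aeval]; exact ⟨_, rfl⟩
  · show aeval x g.divX * x = aeval x g - algebraMap R K (g.coeff 0)
    conv_rhs => rw [← Polynomial.divX_mul_X_add g]
    simp

/-- `R ∩ x R[x] = R ∩ x R` for `R` integrally closed in its fraction field `K`. -/
theorem exists_mul_eq_of_mem_span_adjoinGen [IsDomain R] [IsFractionRing R K]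
    [IsIntegrallyClosed R] (r : R)
    (h : algebraMap R (Algebra.adjoin R {x}) r ∈ Ideal.span {adjoinGen (R := R) x}) :
    ∃ c : R, algebraMap R K r = x * algebraMap R K c := by
  obtain ⟨⟨s, hs⟩, hs'⟩ := Ideal.mem_span_singleton'.mp h
  rw [Algebra.adjoin_singleton_eq_range_aeval] at hs
  obtain ⟨g, rfl⟩ := hs
  have h1 := congrArg (fun z : Algebra.adjoin R {x} => (z : K)) hs'
  refine exists_mul_eq_of_mul_aeval_eq x g.natDegree g le_rfl r ?_
  rw [mul_comm]
  exact h1

/-- Associated primes of `R[x]/x R[x]` contract to associated primes of `R/bR`, where `x = b/a`. -/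
theorem comap_mem_associatedPrimes_of_mem_associatedPrimes_adjoin [IsDomain R]
    [IsFractionRing R K] [IsIntegrallyClosed R] [IsNoetherianRing R] (a b : R) (ha : a ≠ 0)
    (hab : algebraMap R K a * x = algebraMap R K b)
    (q : Ideal (Algebra.adjoin R {x}))
    (hq : q ∈ associatedPrimes (Algebra.adjoin R {x})
      (Algebra.adjoin R {x} ⧸ Ideal.span {adjoinGen (R := R) x})) :
    q.comap (algebraMap R (Algebra.adjoin R {x})) ∈ associatedPrimes R (R ⧸ Ideal.span {b}) := by
  haveI : Algebra.FiniteType R (Algebra.adjoin R {x}) :=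
    (Subalgebra.fg_iff_finiteType _).mp ⟨{x}, by simp⟩
  haveI : IsNoetherianRing (Algebra.adjoin R {x}) :=
    Algebra.FiniteType.isNoetherianRing R _
  haveI hqp : q.IsPrime := hq.isPrime
  obtain ⟨-, y, hy⟩ := (isAssociatedPrime_iff.mp hq)
  obtain ⟨y, rfl⟩ := Ideal.Quotient.mk_surjective y
  obtain ⟨r0, hr0⟩ := exists_sub_mem_span_adjoinGen x y
  have hinjK : Function.Injective (algebraMap R K) := IsFractionRing.injective R K
  have haK : algebraMap R K a ≠ 0 := (map_ne_zero_iff _ hinjK).mpr ha
  refine isAssociatedPrime_iff.mpr ⟨Ideal.comap_isPrime _ _, Ideal.Quotient.mk _ (a * r0), ?_⟩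
  ext r
  rw [Ideal.mem_comap, hy, Submodule.mem_colon_singleton, Submodule.mem_colon_singleton,
    Submodule.mem_bot, Submodule.mem_bot]
  -- left side: `r * y ∈ (x)`, iff `r * r0 ∈ (x)`
  have hL : algebraMap R (Algebra.adjoin R {x}) r •
      (Ideal.Quotient.mk (Ideal.span {adjoinGen (R := R) x}) y) = 0 ↔
      algebraMap R (Algebra.adjoin R {x}) (r * r0) ∈ Ideal.span {adjoinGen (R := R) x} := by
    show Ideal.Quotient.mk (Ideal.span {adjoinGen (R := R) x})
      (algebraMap R (Algebra.adjoin R {x}) r * y) = 0 ↔ _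
    rw [Ideal.Quotient.eq_zero_iff_mem]
    have h1 : algebraMap R (Algebra.adjoin R {x}) r * y - algebraMap R (Algebra.adjoin R {x}) (r * r0)
        ∈ Ideal.span {adjoinGen (R := R) x} := by
      rw [map_mul, ← mul_sub]
      exact Ideal.mul_mem_left _ _ hr0
    constructor
    · intro h; have := Ideal.sub_mem _ h h1; simpa using this
    · intro h; have := Ideal.add_mem _ h1 h; simpa using this
  rw [hL]
  have hR : r • (Ideal.Quotient.mk (Ideal.span {b}) (a * r0)) = 0 ↔
      ∃ c : R, r * (a * r0) = b * c := by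
    show Ideal.Quotient.mk (Ideal.span {b}) (r * (a * r0)) = 0 ↔ _
    rw [Ideal.Quotient.eq_zero_iff_mem, Ideal.mem_span_singleton']
    constructor
    · rintro ⟨c, hc⟩; exact ⟨c, by rw [← hc, mul_comm]⟩
    · rintro ⟨c, hc⟩; exact ⟨c, by rw [hc, mul_comm]⟩
  rw [hR]
  constructor
  · intro h
    obtain ⟨c, hc⟩ := exists_mul_eq_of_mem_span_adjoinGen x (r * r0) h
    refine ⟨c, hinjK ?_⟩
    rw [map_mul, map_mul, map_mul, ← hab]
    rw [map_mul] at hc
    linear_combination algebraMap R K a * hc
  · rintro ⟨c, hc⟩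
    refine Ideal.mem_span_singleton'.mpr ⟨algebraMap R _ c, Subtype.ext ?_⟩
    show algebraMap R K c * x = algebraMap R K (r * r0)
    apply mul_left_cancel₀ haK
    have := congrArg (algebraMap R K) hc
    rw [map_mul, map_mul, map_mul, ← hab] at this
    rw [map_mul]
    linear_combination -this

/-- Uniformizer data at an associated prime of `R[x]/xR[x]`, for `R` a Noetherian normal domain. -/
theorem exists_uniformizer_data_adjoin [IsDomain R] [IsFractionRing R K] [IsIntegrallyClosed R]
    [IsNoetherianRing R] (hx : x ≠ 0) (q : Ideal (Algebra.adjoin R {x})) [q.IsPrime]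
    (hq : q ∈ associatedPrimes (Algebra.adjoin R {x})
      (Algebra.adjoin R {x} ⧸ Ideal.span {adjoinGen (R := R) x})) :
    ∃ π : Algebra.adjoin R {x}, π ≠ 0 ∧ (∀ s ∈ q, ∃ u ∉ q, ∃ b, u * s = π * b) ∧
      ∃ (e : ℕ), ∃ t ∉ q, ∃ c, t * π ^ e = c * adjoinGen (R := R) x := by
  have hinjK : Function.Injective (algebraMap R K) := IsFractionRing.injective R K
  have hinjS : Function.Injective (algebraMap R (Algebra.adjoin R {x})) := fun r r' h =>
    hinjK (congrArg (fun z : Algebra.adjoin R {x} => (z : K)) h)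
  obtain ⟨b, a, ha, hxba⟩ := IsFractionRing.div_surjective (A := R) x
  have ha0 : a ≠ 0 := nonZeroDivisors.ne_zero ha
  have haK : algebraMap R K a ≠ 0 := (map_ne_zero_iff _ hinjK).mpr ha0
  have hab : algebraMap R K a * x = algebraMap R K b := by
    rw [← hxba]; exact mul_div_cancel₀ _ haK
  have hb0 : b ≠ 0 := by
    rintro rfl
    rw [map_zero, zero_div] at hxba
    exact hx hxba.symm
  obtain ⟨p, hpdef⟩ : ∃ p : Ideal R, p = q.comap (algebraMap R (Algebra.adjoin R {x})) := ⟨_, rfl⟩
  haveI hpp : p.IsPrime := hpdef ▸ Ideal.comap_isPrime _ _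
  have hp : p ∈ associatedPrimes R (R ⧸ Ideal.span {b}) :=
    hpdef ▸ comap_mem_associatedPrimes_of_mem_associatedPrimes_adjoin x a b ha0 hab q hq
  haveI : IsDiscreteValuationRing (Localization.AtPrime p) :=
    isDiscreteValuationRing_atPrime_of_mem_associatedPrimes b hb0 p hp
  have hpq : ∀ r : R, r ∈ p ↔ algebraMap R (Algebra.adjoin R {x}) r ∈ q := fun r => by
    rw [hpdef, Ideal.mem_comap]
  -- Claim X: `x ∈ R_p`
  obtain ⟨u0, hu0, r0, hr0⟩ : ∃ u0 ∉ p, ∃ r0 : R, algebraMap R K u0 * x = algebraMap R K r0 := by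
    rcases exists_mul_eq_mul_or_of_isDiscreteValuationRing_atPrime p a b with
      ⟨t, ht, r, htr⟩ | ⟨t, ht, r, hr, htr⟩
    · refine ⟨t, ht, r, ?_⟩
      apply mul_left_cancel₀ haK
      have := congrArg (algebraMap R K) htr
      rw [map_mul, map_mul, ← hab] at this
      linear_combination this
    · exfalso
      apply ht
      rw [hpq]
      have h1 : algebraMap R (Algebra.adjoin R {x}) t =
          algebraMap R (Algebra.adjoin R {x}) r * adjoinGen (R := R) x := by
        apply Subtype.ext
        show algebraMap R K t = algebraMap R K r * x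
        apply mul_left_cancel₀ haK
        have := congrArg (algebraMap R K) htr
        rw [map_mul, map_mul, ← hab] at this
        linear_combination this
      rw [h1]
      exact Ideal.mul_mem_right _ _ ((hpq r).mp hr)
  -- Claim Y
  have hY : ∀ s : Algebra.adjoin R {x}, ∃ u ∉ p, ∃ r : R,
      algebraMap R (Algebra.adjoin R {x}) u * s = algebraMap R (Algebra.adjoin R {x}) r := by
    rintro ⟨s, hs⟩
    induction hs using Algebra.adjoin_induction with
    | mem y hy =>
      rw [Set.mem_singleton_iff] at hy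
      subst hy
      exact ⟨u0, hu0, r0, Subtype.ext hr0⟩
    | algebraMap r => exact ⟨1, fun h => hpp.ne_top ((Ideal.eq_top_iff_one _).mpr h), r,
        by rw [map_one, one_mul]; rfl⟩
    | add y z hy hz ihy ihz =>
      obtain ⟨u1, hu1, r1, h1⟩ := ihy
      obtain ⟨u2, hu2, r2, h2⟩ := ihz
      refine ⟨u1 * u2, fun h => (hpp.mem_or_mem h).elim hu1 hu2, u2 * r1 + u1 * r2, ?_⟩
      have : (⟨y + z, Subalgebra.add_mem _ hy hz⟩ : Algebra.adjoin R {x}) = ⟨y, hy⟩ + ⟨z, hz⟩ := rfl
      rw [this, map_add, map_mul, map_mul, map_mul, ← h1, ← h2]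
      ring
    | mul y z hy hz ihy ihz =>
      obtain ⟨u1, hu1, r1, h1⟩ := ihy
      obtain ⟨u2, hu2, r2, h2⟩ := ihz
      refine ⟨u1 * u2, fun h => (hpp.mem_or_mem h).elim hu1 hu2, r1 * r2, ?_⟩
      have : (⟨y * z, Subalgebra.mul_mem _ hy hz⟩ : Algebra.adjoin R {x}) = ⟨y, hy⟩ * ⟨z, hz⟩ := rfl
      rw [this, map_mul, map_mul, ← h1, ← h2]
      ring
  obtain ⟨π, -, hπ0, hπ, hall⟩ := exists_uniformizer_forall_of_isDiscreteValuationRing_atPrime p
  refine ⟨algebraMap R _ π, (map_ne_zero_iff _ hinjS).mpr hπ0, fun s hs => ?_, ?_⟩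
  · obtain ⟨u1, hu1, r1, h1⟩ := hY s
    have hr1 : r1 ∈ p := by
      rw [hpq, ← h1]; exact Ideal.mul_mem_left _ _ hs
    obtain ⟨s', hs', b', hb'⟩ := hπ r1 hr1
    refine ⟨algebraMap R _ (s' * u1), fun h => (hpp.mem_or_mem ((hpq _).mpr h)).elim hs' hu1,
      algebraMap R _ b', ?_⟩
    rw [map_mul, mul_assoc, h1, ← map_mul, hb', map_mul]
  · have hr00 : r0 ≠ 0 := by
      rintro rfl
      rw [map_zero] at hr0
      rcases mul_eq_zero.mp hr0 with h | h
      · exact hu0 (by rw [(map_eq_zero_iff _ hinjK).mp h]; exact p.zero_mem)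
      · exact hx h
    obtain ⟨e, t, ht, c, hc⟩ := hall r0 hr00
    refine ⟨e, algebraMap R _ t, fun h => ht ((hpq t).mpr h), algebraMap R _ (c * u0), ?_⟩
    have h2 : algebraMap R (Algebra.adjoin R {x}) r0 =
        algebraMap R (Algebra.adjoin R {x}) u0 * adjoinGen (R := R) x := Subtype.ext hr0.symm
    rw [← map_pow, ← map_mul, hc, map_mul, h2, map_mul]
    ring

/-- **Analytic unramifiedness of `R[x]` at primes containing `x`** (`R` normal Nagata, `x ∈ Frac R`). -/
theorem isReduced_adicCompletion_atPrime_adjoin [IsDomain R] [IsFractionRing R K]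
    [IsIntegrallyClosed R] (hR : CAlg.IsNagata R) (hx : x ≠ 0)
    (m : Ideal (Algebra.adjoin R {x})) [m.IsPrime] (hxm : adjoinGen (R := R) x ∈ m) :
    IsReduced (AdicCompletion (maximalIdeal (Localization.AtPrime m)) (Localization.AtPrime m)) := by
  haveI := hR.1
  haveI : Algebra.FiniteType R (Algebra.adjoin R {x}) :=
    (Subalgebra.fg_iff_finiteType _).mp ⟨{x}, by simp⟩
  haveI : IsNoetherianRing (Algebra.adjoin R {x}) := Algebra.FiniteType.isNoetherianRing R _
  haveI : IsNoetherianRing (Localization.AtPrime m) :=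
    IsLocalization.isNoetherianRing m.primeCompl _ inferInstance
  haveI : IsNoetherianRing (AdicCompletion (maximalIdeal (Localization.AtPrime m))
      (Localization.AtPrime m)) := Groth.Agent.S0543.result _ _
  haveI : Module.Flat (Algebra.adjoin R {x}) (Localization.AtPrime m) :=
    IsLocalization.flat _ m.primeCompl
  haveI : Module.Flat (Algebra.adjoin R {x})
      (AdicCompletion (maximalIdeal (Localization.AtPrime m)) (Localization.AtPrime m)) :=
    Module.Flat.trans _ (Localization.AtPrime m) _
  have hx0 : adjoinGen (R := R) x ≠ 0 := fun h => hx (congrArg (fun z : Algebra.adjoin R {x} => (z : K)) h)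
  refine isReduced_of_flat_of_uniformizer_at_associatedPrimes (S := Algebra.adjoin R {x})
    (adjoinGen (R := R) x) hx0 ?_ ?_
  · rw [IsLocalRing.jacobson_eq_maximalIdeal ⊥ bot_ne_top, IsLocalRing.mem_maximalIdeal,
      mem_nonunits_iff]
    intro hu
    rw [IsScalarTower.algebraMap_apply (Algebra.adjoin R {x}) (Localization.AtPrime m)] at hu
    have h1 : IsUnit (algebraMap (Algebra.adjoin R {x}) (Localization.AtPrime m)
        (adjoinGen (R := R) x)) :=
      (isUnit_map_iff (algebraMap (Localization.AtPrime m) (AdicCompletion _ _)) _).mp hu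
    have h2 := (IsLocalization.AtPrime.isUnit_to_map_iff (Localization.AtPrime m) m _).mp h1
    exact h2 hxm
  · intro q hq hqprime
    refine ⟨exists_uniformizer_data_adjoin x hx q hq, fun w hw => ?_⟩
    by_cases hqm : q ≤ m
    · have hxq : adjoinGen (R := R) x ∈ q := by
        refine IsAssociatedPrime.annihilator_le hq ?_
        rw [Submodule.mem_annihilator]
        intro n _
        obtain ⟨a, rfl⟩ := Ideal.Quotient.mk_surjective n
        show Ideal.Quotient.mk _ (adjoinGen (R := R) x * a) = 0
        rw [Ideal.Quotient.eq_zero_iff_mem]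
        exact Ideal.mul_mem_right _ _ (Ideal.mem_span_singleton_self _)
      have hle : Ideal.span {adjoinGen (R := R) x} ≤ q := by
        rw [Ideal.span_le, Set.singleton_subset_iff]; exact hxq
      have hsurj : Function.Surjective ((Ideal.Quotient.mk q).comp
          (algebraMap R (Algebra.adjoin R {x}))) := by
        intro z
        obtain ⟨s, rfl⟩ := Ideal.Quotient.mk_surjective z
        obtain ⟨r, hr⟩ := exists_sub_mem_span_adjoinGen x s
        exact ⟨r, (Ideal.Quotient.eq.mpr (hle hr)).symm⟩
      have hNag := isNagata_of_surjective _ hsurj hR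
      exact mem_map_of_isNilpotent_completion_atPrime m q hqm hNag w hw
    · obtain ⟨s, hsq, hsm⟩ := Set.not_subset.mp hqm
      have hu : IsUnit (algebraMap (Algebra.adjoin R {x}) (AdicCompletion
          (maximalIdeal (Localization.AtPrime m)) (Localization.AtPrime m)) s) := by
        rw [IsScalarTower.algebraMap_apply (Algebra.adjoin R {x}) (Localization.AtPrime m)]
        exact (IsLocalization.map_units (Localization.AtPrime m) (⟨s, hsm⟩ : m.primeCompl)).map
          (algebraMap (Localization.AtPrime m) (AdicCompletion _ _))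
      rw [Ideal.eq_top_of_isUnit_mem _ (Ideal.mem_map_of_mem _ hsq) hu]
      trivial

end Monogenic

end Groth.Agent.Lib.Helper48
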