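import Mathlib
import Groth.Agent.Lib.Helper48.MonogenicBirational
import Groth.Agent.Lib.Helper48.N1Criterion
import Groth.Agent.Lib.Helper48.LocalFinite
import Groth.Agent.Lib.Helper48.AnalyticallyUnramified

/-!
# Monogenic birational extensions of a normal Nagata domain are N-1 (Stacks 0334, birational step)

Main result: `isN1_adjoin_singleton`: for a normal Nagata domain `R` with fraction field `K` and
`x ∈ K`, the ring `R[x]` is N-1.
-/

universe u
open TensorProduct IsLocalRing Polynomial

namespace Groth.Agent.Lib.Helper48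

/-- `IsN1` may be tested in any fraction field. -/
theorem isN1_iff_finite_integralClosure (S K : Type u) [CommRing S] [IsDomain S] [Field K]
    [Algebra S K] [IsFractionRing S K] :
    CAlg.IsN1 S ↔ Module.Finite S (integralClosure S K) := by
  unfold CAlg.IsN1
  let e : FractionRing S ≃ₐ[S] K := FractionRing.algEquiv S K
  exact ⟨fun h => Module.Finite.equiv (AlgEquiv.mapIntegralClosure e).toLinearEquiv,
    fun h => Module.Finite.equiv (AlgEquiv.mapIntegralClosure e).symm.toLinearEquiv⟩

/-- `K`-valued version of `exists_fg_of_isN1_localization` at a prime. -/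
theorem exists_finset_of_isN1_atPrime {A K : Type u} [CommRing A] [IsDomain A] [Field K]
    [Algebra A K] [IsFractionRing A K] (p : Ideal A) [p.IsPrime]
    (h : CAlg.IsN1 (Localization.AtPrime p)) :
    ∃ G : Finset K, (∀ g ∈ G, IsIntegral A g) ∧ ∀ z : K, IsIntegral A z →
      ∃ s ∉ p, algebraMap A K s * z ∈ Submodule.span A (G : Set K) := by
  classical
  haveI : IsDomain (Localization.AtPrime p) :=
    IsLocalization.isDomain_localization p.primeCompl_le_nonZeroDivisors
  obtain ⟨N, hN, hz⟩ := exists_fg_of_isN1_localization p.primeCompl (Localization.AtPrime p) h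
  obtain ⟨T, hT⟩ := hN
  let e : FractionRing A ≃ₐ[A] K := FractionRing.algEquiv A K
  let ℓ : integralClosure A (FractionRing A) →ₗ[A] K :=
    e.toLinearMap.comp (integralClosure A (FractionRing A)).val.toLinearMap
  refine ⟨T.image ℓ, ?_, ?_⟩
  · intro g hg
    obtain ⟨y, -, rfl⟩ := Finset.mem_image.mp hg
    exact y.2.map e.toAlgHom
  · intro z hzint
    have hz' : e.symm z ∈ integralClosure A (FractionRing A) := hzint.map e.symm.toAlgHom
    obtain ⟨s, hs, hsN⟩ := hz ⟨e.symm z, hz'⟩
    refine ⟨s, hs, ?_⟩
    have h1 : ℓ (s • ⟨e.symm z, hz'⟩) ∈ Submodule.map ℓ N := Submodule.mem_map_of_mem hsN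
    rw [← hT, Submodule.map_span] at h1
    have h2 : ℓ (s • ⟨e.symm z, hz'⟩) = algebraMap A K s * z := by
      rw [map_smul, Algebra.smul_def]
      congr 1
      exact e.apply_symm_apply z
    rw [h2] at h1
    simpa using h1

/-- For a maximal ideal `m` of a monogenic algebra `S = R[y]` there is a polynomial `f` over `R`
with `f(y) ∈ m` whose leading coefficient is not in `m`. -/
theorem exists_polynomial_aeval_mem_of_isMaximal {R S : Type*} [CommRing R] [CommRing S]
    [Algebra R S] (y : S) (hy : Algebra.adjoin R {y} = ⊤) (m : Ideal S) [m.IsMaximal] :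
    ∃ f : R[X], algebraMap R S f.leadingCoeff ∉ m ∧ aeval y f ∈ m := by
  classical
  set n : Ideal R := m.comap (algebraMap R S) with hn
  haveI : n.IsPrime := Ideal.comap_isPrime _ _
  let φ : (R ⧸ n)[X] →+* S ⧸ m :=
    Polynomial.eval₂RingHom (Ideal.quotientMap m (algebraMap R S) le_rfl) (Ideal.Quotient.mk m y)
  have hφ : ∀ g : R[X], φ (g.map (Ideal.Quotient.mk n)) = Ideal.Quotient.mk m (aeval y g) := by
    intro g
    show Polynomial.eval₂ _ _ (g.map _) = _
    rw [Polynomial.eval₂_map, aeval_def, Polynomial.hom_eval₂]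
    congr 1
  have hsurj : Function.Surjective φ := by
    intro z
    obtain ⟨s, rfl⟩ := Ideal.Quotient.mk_surjective z
    have hs : s ∈ Algebra.adjoin R {y} := hy ▸ Algebra.mem_top
    rw [Algebra.adjoin_singleton_eq_range_aeval] at hs
    obtain ⟨g, rfl⟩ := hs
    exact ⟨_, hφ g⟩
  have hninj : ¬ Function.Injective φ := by
    intro hinj
    have hfield : IsField (S ⧸ m) := (Ideal.Quotient.maximal_ideal_iff_isField_quotient m).mp ‹_›
    have : IsField (R ⧸ n)[X] :=
      (RingEquiv.ofBijective φ ⟨hinj, hsurj⟩).toMulEquiv.isField hfield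
    exact Polynomial.not_isField _ this
  rw [injective_iff_map_eq_zero] at hninj
  push Not at hninj
  obtain ⟨g, hg, hg0⟩ := hninj
  obtain ⟨f, hf, hfdeg⟩ := Polynomial.exists_degree_eq_of_mem_lifts
    ((Polynomial.mem_lifts _).mpr (Polynomial.map_surjective _ Ideal.Quotient.mk_surjective g))
  refine ⟨f, ?_, ?_⟩
  · intro hmem
    have h1 : f.leadingCoeff ∈ n := hmem
    have h2 : g.leadingCoeff = Ideal.Quotient.mk n f.leadingCoeff := by
      rw [← hf, Polynomial.leadingCoeff, Polynomial.coeff_map, Polynomial.leadingCoeff]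
      congr 2
      rw [hf]
      exact Polynomial.natDegree_eq_of_degree_eq hfdeg.symm
    rw [Ideal.Quotient.eq_zero_iff_mem.mpr h1] at h2
    exact hg0 (Polynomial.leadingCoeff_eq_zero.mp h2)
  · rw [← Ideal.Quotient.eq_zero_iff_mem, ← hφ f, hf, hg]

/-- Integrality over a smaller subalgebra implies integrality over a bigger one. -/
theorem isIntegral_of_subalgebra_le {R K : Type*} [CommRing R] [CommRing K] [Algebra R K]
    {S T : Subalgebra R K} (h : S ≤ T) {z : K} (hz : IsIntegral S z) : IsIntegral T z := by
  letI : Algebra S T := (Subalgebra.inclusion h).toRingHom.toAlgebra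
  haveI : IsScalarTower S T K := IsScalarTower.of_algebraMap_eq (fun _ => rfl)
  exact hz.tower_top

section

variable {R K : Type u} [CommRing R] [IsDomain R] [Field K] [Algebra R K] [IsFractionRing R K]


/-- If `x = b/a` and `z` is integral over `R[x]` (with `R` integrally closed) then `a^n z ∈ R` for some `n`. -/
theorem exists_pow_mul_eq_of_isIntegral_adjoin [IsIntegrallyClosed R] (a b : R) (ha : a ≠ 0) (x : K)
    (hab : algebraMap R K a * x = algebraMap R K b) (z : K)
    (hz : IsIntegral (Algebra.adjoin R {x}) z) :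
    ∃ (n : ℕ) (r : R), algebraMap R K a ^ n * z = algebraMap R K r := by
  have ha0 : algebraMap R K a ≠ 0 := by
    rwa [Ne, FaithfulSMul.algebraMap_eq_zero_iff]
  have hM : Submonoid.powers a ≤ nonZeroDivisors R := powers_le_nonZeroDivisors_of_noZeroDivisors ha
  set Ra : Subalgebra R K := Localization.subalgebra.ofField K (Submonoid.powers a) hM with hRa
  have hle : Algebra.adjoin R {x} ≤ Ra := by
    refine Algebra.adjoin_le ?_
    rintro _ rfl
    refine ⟨b, a, ⟨1, pow_one a⟩, ?_⟩
    rw [← hab]
    field_simp
  haveI : IsIntegrallyClosed Ra := isIntegrallyClosed_of_isLocalization Ra (Submonoid.powers a) hM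
  have hzR : IsIntegral Ra z := isIntegral_of_subalgebra_le hle hz
  obtain ⟨y, hy⟩ := (IsIntegrallyClosed.isIntegral_iff (K := K)).mp hzR
  obtain ⟨r, s, ⟨n, rfl⟩, hy2⟩ := y.2
  refine ⟨n, r, ?_⟩
  have hy' : (y : K) = z := hy
  rw [← hy', hy2, map_pow]
  field_simp


set_option synthInstance.maxHeartbeats 400000 in
set_option maxHeartbeats 1000000 in
/-- If `t = f(x)` with `f ∈ R[X]` of positive degree with leading coefficient `c`, then for any `z`
integral over `R[x]`, some `c^N z` is integral over `R[t]`. -/
theorem exists_pow_mul_isIntegral_adjoin_aeval (x : K) (f : R[X]) (hdeg : 0 < f.natDegree) (z : K)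
    (hz : IsIntegral (Algebra.adjoin R {x}) z) :
    ∃ N : ℕ, IsIntegral (Algebra.adjoin R {aeval x f})
      (algebraMap R K f.leadingCoeff ^ N * z) := by
  set t : K := aeval x f with ht
  set A0 : Subalgebra R K := Algebra.adjoin R {t} with hA0
  set c : R := f.leadingCoeff with hc
  have hc0 : c ≠ 0 := by
    rw [hc, Ne, Polynomial.leadingCoeff_eq_zero]
    rintro rfl
    simp at hdeg
  have hinjRA0 : Function.Injective (algebraMap R A0) := by
    intro r r' h
    have := congrArg (fun y : A0 => (y : K)) h
    exact FaithfulSMul.algebraMap_injective R K this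
  set c0 : A0 := algebraMap R A0 c with hc0def
  have hc00 : c0 ≠ 0 := fun h => hc0 (hinjRA0 (h.trans (map_zero _).symm))
  have hM : Submonoid.powers c0 ≤ nonZeroDivisors A0 :=
    powers_le_nonZeroDivisors_of_noZeroDivisors hc00
  set A1 : Subalgebra A0 K := Localization.subalgebra.ofField K (Submonoid.powers c0) hM with hA1
  -- `x` is integral over `A1`
  obtain ⟨p, hp⟩ : ∃ p : A0[X], p = f.map (algebraMap R A0) - C (adjoinGen (R := R) t) := ⟨_, rfl⟩
  have hpx : aeval x p = 0 := by
    rw [hp, map_sub, Polynomial.aeval_map_algebraMap, aeval_C]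
    exact sub_self _
  have hdegp : (C (adjoinGen (R := R) t)).degree < (f.map (algebraMap R A0)).degree := by
    rw [Polynomial.degree_map_eq_of_injective hinjRA0]
    refine lt_of_le_of_lt degree_C_le ?_
    rw [Polynomial.degree_eq_natDegree (fun h => by rw [h] at hdeg; simp at hdeg)]
    exact_mod_cast hdeg
  have hlead : p.leadingCoeff = c0 := by
    rw [hp, leadingCoeff_sub_of_degree_lt hdegp, Polynomial.leadingCoeff_map_of_injective hinjRA0]
  have h1 : IsIntegral A0 (c0 • x) := hlead ▸ isIntegral_leadingCoeff_smul p x hpx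
  have hunit : IsUnit (algebraMap A0 A1 c0) :=
    IsLocalization.map_units A1 (⟨c0, Submonoid.mem_powers c0⟩ : Submonoid.powers c0)
  obtain ⟨u, hu⟩ := hunit.exists_left_inv
  have hu' : (u : K) * algebraMap A0 K c0 = 1 := congrArg (fun y : A1 => (y : K)) hu
  have hxint : IsIntegral A1 x := by
    have h2 : x = algebraMap A1 K u * (c0 • x) := by
      rw [Algebra.smul_def, ← mul_assoc]
      show x = (u : K) * _ * x
      rw [hu', one_mul]
    rw [h2]
    exact isIntegral_algebraMap.mul (h1.tower_top : IsIntegral A1 (c0 • x))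
  have hSint : ∀ s ∈ Algebra.adjoin R {x}, IsIntegral A1 s := by
    intro s hs
    induction hs using Algebra.adjoin_induction with
    | mem y hy =>
      rw [Set.mem_singleton_iff] at hy
      rw [hy]; exact hxint
    | algebraMap r =>
      rw [IsScalarTower.algebraMap_apply R A1 K]
      exact isIntegral_algebraMap
    | add y y' _ _ hy hy' => exact hy.add hy'
    | mul y y' _ _ hy hy' => exact hy.mul hy'
  let B1 : Subalgebra A1 K := integralClosure A1 K
  let j : Algebra.adjoin R {x} →+* B1 :=
    { toFun := fun s => ⟨s.1, hSint s.1 s.2⟩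
      map_one' := rfl
      map_mul' := fun _ _ => rfl
      map_zero' := rfl
      map_add' := fun _ _ => rfl }
  letI : Algebra (Algebra.adjoin R {x}) B1 := j.toAlgebra
  haveI : IsScalarTower (Algebra.adjoin R {x}) B1 K := IsScalarTower.of_algebraMap_eq (fun _ => rfl)
  have hzB1 : IsIntegral B1 z := hz.tower_top
  have hzA1 : IsIntegral A1 z := isIntegral_trans (A := B1) z hzB1
  obtain ⟨⟨_, N, rfl⟩, hN⟩ :=
    IsIntegral.exists_multiple_integral_of_isLocalization (Submonoid.powers c0) z hzA1
  refine ⟨N, ?_⟩
  have h3 : algebraMap R K c ^ N * z = (c0 ^ N) • z := by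
    rw [Algebra.smul_def, map_pow]
    rfl
  rw [h3]
  exact hN


/-- The local ring of `R[t]` at a prime containing `t` is N-1 (`R` normal Nagata, `t ∈ Frac R`). -/
theorem isN1_atPrime_adjoin [IsIntegrallyClosed R] (hR : CAlg.IsNagata R) (t : K)
    (p : Ideal (Algebra.adjoin R {t})) [p.IsPrime] (htp : adjoinGen (R := R) t ∈ p) :
    CAlg.IsN1 (Localization.AtPrime p) := by
  haveI := hR.1
  haveI : Algebra.FiniteType R (Algebra.adjoin R {t}) :=
    (Subalgebra.fg_iff_finiteType _).mp ⟨{t}, by simp⟩
  haveI : IsNoetherianRing (Algebra.adjoin R {t}) := Algebra.FiniteType.isNoetherianRing R _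
  haveI : IsNoetherianRing (Localization.AtPrime p) :=
    IsLocalization.isNoetherianRing p.primeCompl _ inferInstance
  haveI : IsDomain (Localization.AtPrime p) :=
    IsLocalization.isDomain_localization p.primeCompl_le_nonZeroDivisors
  by_cases ht0 : t = 0
  · haveI : Algebra.IsIntegral R (Algebra.adjoin R {t}) := by
      have h1 : ∀ y ∈ ({t} : Set K), IsIntegral R y := by
        rintro _ rfl
        rw [ht0]; exact isIntegral_zero
      exact Algebra.IsIntegral.adjoin h1
    haveI : IsIntegrallyClosed (Algebra.adjoin R {t}) := by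
      rw [isIntegrallyClosed_iff K]
      intro z hz
      have hzR : IsIntegral R z := isIntegral_trans (A := Algebra.adjoin R {t}) z hz
      obtain ⟨r, hr⟩ := IsIntegrallyClosed.isIntegral_iff.mp hzR
      exact ⟨algebraMap R _ r, hr⟩
    haveI : IsIntegrallyClosed (Localization.AtPrime p) :=
      isIntegrallyClosed_of_isLocalization _ p.primeCompl p.primeCompl_le_nonZeroDivisors
    exact isN1_of_integrallyClosed
  · haveI := isReduced_adicCompletion_atPrime_adjoin t hR ht0 p htp
    exact isN1_of_isReduced_adicCompletion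

set_option synthInstance.maxHeartbeats 400000 in
set_option maxHeartbeats 2000000 in
/-- **Monogenic birational extensions of a normal Nagata domain are N-1** (Stacks 0334, birational
step). -/
theorem isN1_adjoin_singleton [IsIntegrallyClosed R] (hR : CAlg.IsNagata R) (x : K) :
    CAlg.IsN1 (Algebra.adjoin R {x}) := by
  classical
  haveI := hR.1
  haveI : Algebra.FiniteType R (Algebra.adjoin R {x}) :=
    (Subalgebra.fg_iff_finiteType _).mp ⟨{x}, by simp⟩
  haveI : IsNoetherianRing (Algebra.adjoin R {x}) := Algebra.FiniteType.isNoetherianRing R _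
  rw [isN1_iff_finite_integralClosure (Algebra.adjoin R {x}) K]
  obtain ⟨b, a, ha, hab⟩ := IsFractionRing.div_surjective (A := R) x
  have ha' : a ≠ 0 := nonZeroDivisors.ne_zero ha
  have ha0 : algebraMap R K a ≠ 0 := by
    rwa [Ne, FaithfulSMul.algebraMap_eq_zero_iff]
  have hab' : algebraMap R K a * x = algebraMap R K b := by
    rw [← hab]; field_simp
  refine finite_of_away_of_forall_maximal (A := Algebra.adjoin R {x})
    (M := integralClosure (Algebra.adjoin R {x}) K) (algebraMap R _ a) ?_
    (Submodule.span _ {1}) (Submodule.fg_span_singleton _) ?_ ?_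
  · intro z hz
    have h1 := congrArg (fun y : integralClosure (Algebra.adjoin R {x}) K => (y : K)) hz
    have h2 : algebraMap R K a * (z : K) = 0 := h1
    exact Subtype.ext ((mul_eq_zero.mp h2).resolve_left ha0)
  · intro z
    obtain ⟨n, r, hr⟩ := exists_pow_mul_eq_of_isIntegral_adjoin a b ha' x hab' z.1 z.2
    refine ⟨n, Submodule.mem_span_singleton.mpr ⟨algebraMap R _ r, Subtype.ext ?_⟩⟩
    show algebraMap R K r * 1 = algebraMap R K a ^ n * (z : K)
    rw [mul_one, hr]
  · intro m _
    have htop : Algebra.adjoin R {adjoinGen (R := R) x} = ⊤ := by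
      have h1 := Algebra.adjoin_adjoin_coe_preimage (R := R) (s := ({x} : Set K))
      have h2 : ((↑) ⁻¹' ({x} : Set K) : Set (Algebra.adjoin R {x})) = {adjoinGen (R := R) x} := by
        ext y
        simp [Subtype.ext_iff]
      rw [h2] at h1
      exact h1
    obtain ⟨f, hfc, hfm⟩ := exists_polynomial_aeval_mem_of_isMaximal (R := R)
      (adjoinGen (R := R) x) htop m
    set c : R := f.leadingCoeff with hc
    have hdeg : 0 < f.natDegree := by
      by_contra hd
      have hd' : f.natDegree ≤ 0 := by omega
      rw [Polynomial.eq_C_of_natDegree_le_zero hd', aeval_C] at hfm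
      apply hfc
      rw [hc, Polynomial.leadingCoeff, Nat.le_zero.mp hd']
      exact hfm
    set t : K := aeval x f with ht
    have htS : t ∈ Algebra.adjoin R {x} := by
      rw [Algebra.adjoin_singleton_eq_range_aeval]; exact ⟨f, rfl⟩
    have hle : Algebra.adjoin R {t} ≤ Algebra.adjoin R {x} :=
      Algebra.adjoin_le (Set.singleton_subset_iff.mpr htS)
    let ι : Algebra.adjoin R {t} →ₐ[R] Algebra.adjoin R {x} := Subalgebra.inclusion hle
    set mt : Ideal (Algebra.adjoin R {t}) := m.comap ι with hmt
    haveI : mt.IsPrime := Ideal.comap_isPrime ι m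
    have hgen : adjoinGen (R := R) t ∈ mt := by
      show ι (adjoinGen (R := R) t) ∈ m
      have : ι (adjoinGen (R := R) t) = aeval (adjoinGen (R := R) x) f := by
        apply Subtype.ext
        rw [Polynomial.aeval_subalgebra_coe]
        rfl
      rw [this]; exact hfm
    have hN1 : CAlg.IsN1 (Localization.AtPrime mt) := isN1_atPrime_adjoin hR t mt hgen
    obtain ⟨G, hGint, hG⟩ := exists_finset_of_isN1_atPrime (K := K) mt hN1
    have hfin : {y : integralClosure (Algebra.adjoin R {x}) K | (y : K) ∈ G}.Finite :=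
      G.finite_toSet.preimage (Subtype.val_injective.injOn)
    refine ⟨Submodule.span _ {y : integralClosure (Algebra.adjoin R {x}) K | (y : K) ∈ G},
      Submodule.fg_span hfin, ?_⟩
    intro z
    obtain ⟨N, hN⟩ := exists_pow_mul_isIntegral_adjoin_aeval x f hdeg z.1 z.2
    obtain ⟨s0, hs0, hmem⟩ := hG _ hN
    have key : ∀ w ∈ Submodule.span (Algebra.adjoin R {t}) (G : Set K),
        ∃ y ∈ Submodule.span (Algebra.adjoin R {x})
          {y : integralClosure (Algebra.adjoin R {x}) K | (y : K) ∈ G}, (y : K) = w := by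
      intro w hw
      induction hw using Submodule.span_induction with
      | mem g hg =>
        exact ⟨⟨g, isIntegral_of_subalgebra_le hle (hGint g hg)⟩,
          Submodule.subset_span (by exact hg), rfl⟩
      | zero => exact ⟨0, zero_mem _, rfl⟩
      | add w w' _ _ hw hw' =>
        obtain ⟨y, hy, rfl⟩ := hw
        obtain ⟨y', hy', rfl⟩ := hw'
        exact ⟨y + y', add_mem hy hy', rfl⟩
      | smul a0 w _ hw =>
        obtain ⟨y, hy, rfl⟩ := hw
        exact ⟨ι a0 • y, Submodule.smul_mem _ _ hy, rfl⟩
    obtain ⟨y, hyN, hy⟩ := key _ hmem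
    refine ⟨ι s0 * algebraMap R _ c ^ N, ?_, ?_⟩
    · intro hmem'
      rcases (Ideal.IsPrime.mem_or_mem inferInstance hmem') with h | h
      · exact hs0 h
      · exact hfc (Ideal.IsPrime.mem_of_pow_mem inferInstance _ h)
    · have : (ι s0 * algebraMap R _ c ^ N) • z = y := by
        apply Subtype.ext
        rw [hy]
        show ((s0 : K) * algebraMap R K c ^ N) * (z : K) = _
        rw [mul_assoc]
        rfl
      rw [this]
      exact hyN

end

end Groth.Agent.Lib.Helper48
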