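import Mathlib
import Groth.Agent.Lib.Helper48.NagataAnalyticallyUnramified

/-!
# A Noetherian local ring is Nagata iff its finite local domain extensions are analytically
unramified (Stacks 0BI2)
-/

universe u
open TensorProduct IsLocalRing

namespace Groth.Agent.Lib.Helper48

/-- For an integral algebra over a local ring, the extension of the maximal ideal lies in the
Jacobson radical. -/
theorem map_maximalIdeal_le_jacobson_bot (D B : Type*) [CommRing D] [IsLocalRing D] [CommRing B]
    [Algebra D B] [Algebra.IsIntegral D B] :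
    (maximalIdeal D).map (algebraMap D B) ≤ (⊥ : Ideal B).jacobson := by
  rw [Ideal.jacobson]
  refine le_sInf ?_
  rintro M ⟨-, hM⟩
  haveI := hM
  have hmax : (M.comap (algebraMap D B)).IsMaximal :=
    Ideal.isMaximal_comap_of_isIntegral_of_isMaximal M
  rw [Ideal.map_le_iff_le_comap, ← IsLocalRing.eq_maximalIdeal hmax]

/-- The subalgebra `D + 𝔪B` of `B`. -/
def localSubalgebra (D B : Type*) [CommRing D] [IsLocalRing D] [CommRing B] [Algebra D B] :
    Subalgebra D B :=
  (⊥ : Subalgebra D (B ⧸ (maximalIdeal D).map (algebraMap D B))).comap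
    (Ideal.Quotient.mkₐ D ((maximalIdeal D).map (algebraMap D B)))

theorem mem_localSubalgebra_iff {D B : Type*} [CommRing D] [IsLocalRing D] [CommRing B]
    [Algebra D B] (x : B) : x ∈ localSubalgebra D B ↔
      ∃ d : D, x - algebraMap D B d ∈ (maximalIdeal D).map (algebraMap D B) := by
  rw [localSubalgebra, Subalgebra.mem_comap, Algebra.mem_bot]
  constructor
  · rintro ⟨d, hd⟩
    refine ⟨d, ?_⟩
    rw [← Ideal.Quotient.eq]
    exact hd.symm
  · rintro ⟨d, hd⟩
    refine ⟨d, ?_⟩
    rw [← Ideal.Quotient.eq] at hd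
    exact hd.symm

theorem map_maximalIdeal_le_localSubalgebra {D B : Type*} [CommRing D] [IsLocalRing D] [CommRing B]
    [Algebra D B] (x : B) (hx : x ∈ (maximalIdeal D).map (algebraMap D B)) :
    x ∈ localSubalgebra D B :=
  (mem_localSubalgebra_iff x).mpr ⟨0, by simpa using hx⟩

/-- unit criterion in `D + 𝔪B` -/
theorem isUnit_localSubalgebra_of_sub_mem {D B : Type*} [CommRing D] [IsLocalRing D] [CommRing B]
    [Algebra D B] [Algebra.IsIntegral D B] (s : localSubalgebra D B) (d : D) (hd : IsUnit d)
    (hsd : (s : B) - algebraMap D B d ∈ (maximalIdeal D).map (algebraMap D B)) : IsUnit s := by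
  obtain ⟨d', hd'⟩ := hd.exists_right_inv
  -- `s` is a unit in `B`
  have hJ := map_maximalIdeal_le_jacobson_bot D B
  have h1 : IsUnit (((s : B) - algebraMap D B d) * algebraMap D B d' + 1) :=
    Ideal.mem_jacobson_bot.mp (hJ hsd) _
  have h2 : ((s : B) - algebraMap D B d) * algebraMap D B d' + 1 = (s : B) * algebraMap D B d' := by
    rw [sub_mul, ← map_mul, hd', map_one]; ring
  rw [h2] at h1
  obtain ⟨v, hv⟩ := h1.exists_right_inv
  -- inverse of `s` in `B` is `d' * v`
  have hinv : (s : B) * (algebraMap D B d' * v) = 1 := by rw [← mul_assoc, hv]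
  have hmem : algebraMap D B d' * v ∈ localSubalgebra D B := by
    rw [mem_localSubalgebra_iff]
    refine ⟨d', ?_⟩
    have : algebraMap D B d' * v - algebraMap D B d' =
        -(algebraMap D B d' * v * algebraMap D B d') * ((s : B) - algebraMap D B d) := by
      have h3 : algebraMap D B d * algebraMap D B d' = 1 := by rw [← map_mul, hd', map_one]
      linear_combination algebraMap D B d' * hv - algebraMap D B d' * v * h3
    rw [this]
    exact Ideal.mul_mem_left _ _ hsd
  exact IsUnit.of_mul_eq_one ⟨_, hmem⟩ (Subtype.ext hinv)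

/-- Elements of `𝔪B` are not units of `D + 𝔪B`. -/
theorem not_isUnit_localSubalgebra_of_mem {D B : Type*} [CommRing D] [IsLocalRing D] [CommRing B]
    [Nontrivial B] [Algebra D B] [Algebra.IsIntegral D B] (s : localSubalgebra D B)
    (hs : (s : B) ∈ (maximalIdeal D).map (algebraMap D B)) : ¬ IsUnit s := by
  intro hu
  have h1 : IsUnit (s : B) := hu.map (localSubalgebra D B).val
  have h2 : (s : B) ∈ (⊥ : Ideal B).jacobson := map_maximalIdeal_le_jacobson_bot D B hs
  have h3 : (⊥ : Ideal B).jacobson = ⊤ := Ideal.eq_top_of_isUnit_mem _ h2 h1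
  rw [Ideal.jacobson_eq_top_iff] at h3
  exact bot_ne_top h3

theorem isLocalRing_localSubalgebra (D B : Type*) [CommRing D] [IsLocalRing D] [CommRing B]
    [Nontrivial B] [Algebra D B] [Algebra.IsIntegral D B] : IsLocalRing (localSubalgebra D B) := by
  haveI : Nontrivial (localSubalgebra D B) := inferInstance
  refine IsLocalRing.of_isUnit_or_isUnit_one_sub_self (fun s => ?_)
  obtain ⟨d, hd⟩ := (mem_localSubalgebra_iff (s : B)).mp s.2
  by_cases hdu : IsUnit d
  · exact Or.inl (isUnit_localSubalgebra_of_sub_mem s d hdu hd)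
  · right
    have hdm : d ∈ maximalIdeal D := (IsLocalRing.mem_maximalIdeal d).mpr hdu
    have hsJ : (s : B) ∈ (maximalIdeal D).map (algebraMap D B) := by
      have := Ideal.add_mem _ hd (Ideal.mem_map_of_mem (algebraMap D B) hdm)
      simpa using this
    refine isUnit_localSubalgebra_of_sub_mem (1 - s) 1 isUnit_one ?_
    have : ((1 - s : localSubalgebra D B) : B) - algebraMap D B 1 = -(s : B) := by
      rw [map_one]; push_cast; ring
    rw [this]
    exact Ideal.neg_mem_iff _ |>.mpr hsJ

/-- Transfer: if a domain `S` finite over `A` with fraction field `K'` is N-1 then the integral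
closure of `A` in `K'` is finite over `A`. -/
theorem finite_integralClosure_of_finite_isN1 {A K' : Type u} [CommRing A]
    [IsNoetherianRing A] [Field K'] [Algebra A K'] (S : Type u) [CommRing S] [IsDomain S]
    [Algebra A S] [Module.Finite A S] [Algebra S K'] [IsScalarTower A S K']
    [IsFractionRing S K'] (h : CAlg.IsN1 S) : Module.Finite A (integralClosure A K') := by
  obtain ⟨e⟩ : Nonempty (FractionRing S ≃ₐ[S] K') := ⟨FractionRing.algEquiv S K'⟩
  haveI : Module.Finite S (integralClosure S (FractionRing S)) := h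
  haveI : Module.Finite A (integralClosure S (FractionRing S)) := Module.Finite.trans S _
  haveI : IsNoetherian A (integralClosure S (FractionRing S)) :=
    isNoetherian_of_isNoetherianRing_of_finite A _
  have hmem : ∀ z : integralClosure A K', e.symm z.1 ∈ integralClosure S (FractionRing S) := by
    intro z
    have h1 : IsIntegral S z.1 := z.2.tower_top
    exact h1.map e.symm.toAlgHom
  let f : integralClosure A K' →ₗ[A] integralClosure S (FractionRing S) :=
    { toFun := fun z => ⟨e.symm z.1, hmem z⟩
      map_add' := fun x y => Subtype.ext (map_add e.symm _ _)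
      map_smul' := fun c z => by
        apply Subtype.ext
        show e.symm ((c • z : integralClosure A K') : K') =
          ((RingHom.id A) c • (e.symm z.1) : FractionRing S)
        rw [RingHom.id_apply]
        have h1 : ((c • z : integralClosure A K') : K') = (algebraMap A S c) • (z : K') := by
          rw [algebraMap_smul]; rfl
        rw [h1, map_smul, algebraMap_smul] }
  exact Module.Finite.of_injective f (fun x y hxy => Subtype.ext (e.symm.injective
    (congrArg (fun z : integralClosure S (FractionRing S) => (z : FractionRing S)) hxy)))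

/-- Stacks 0BI2 (3) ⇒ (1). -/
theorem isNagata_of_forall_finite_local_domain_reduced (R : Type u) [CommRing R] [IsLocalRing R]
    [IsNoetherianRing R]
    (h : ∀ (S : Type u) [CommRing S] [IsDomain S] [IsLocalRing S] [Algebra R S]
      [IsLocalHom (algebraMap R S)] [Module.Finite R S],
      IsReduced (AdicCompletion (IsLocalRing.maximalIdeal S) S)) : CAlg.IsNagata R := by
  refine ⟨inferInstance, fun p hp => ?_⟩
  haveI := hp
  haveI : IsLocalRing (R ⧸ p) :=
    IsLocalRing.of_surjective' (Ideal.Quotient.mk p) Ideal.Quotient.mk_surjective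
  by_cases hfield : IsField (R ⧸ p)
  · exact isN2_of_isField hfield
  intro L _ _ _ _ hfd
  haveI := hfd
  obtain ⟨B', hfin, hfrac⟩ :=
    exists_finite_subalgebra_isFractionRing (R ⧸ p) (FractionRing (R ⧸ p)) L
  haveI := hfin
  haveI := hfrac
  letI : Algebra R L := ((algebraMap (R ⧸ p) L).comp (algebraMap R (R ⧸ p))).toAlgebra
  haveI : IsScalarTower R (R ⧸ p) L := IsScalarTower.of_algebraMap_eq' rfl
  haveI : Algebra.IsIntegral (R ⧸ p) B' := inferInstance
  haveI hloc : IsLocalRing (localSubalgebra (R ⧸ p) B') := isLocalRing_localSubalgebra _ _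
  haveI : IsNoetherian (R ⧸ p) B' := isNoetherian_of_isNoetherianRing_of_finite _ _
  haveI hfinS : Module.Finite (R ⧸ p) (localSubalgebra (R ⧸ p) B') :=
    Module.Finite.iff_fg.mpr (IsNoetherian.noetherian (Subalgebra.toSubmodule (localSubalgebra (R ⧸ p) B')))
  haveI : IsScalarTower R (R ⧸ p) (localSubalgebra (R ⧸ p) B') := inferInstance
  haveI : Module.Finite R (localSubalgebra (R ⧸ p) B') := Module.Finite.trans (R ⧸ p) _
  -- local homomorphism
  haveI : IsLocalHom (algebraMap R (R ⧸ p)) :=
    IsLocalHom.of_surjective _ Ideal.Quotient.mk_surjective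
  haveI : IsLocalHom (algebraMap R (localSubalgebra (R ⧸ p) B')) := by
    refine ⟨fun r hr => ?_⟩
    by_contra hru
    have hrm : r ∈ maximalIdeal R := (IsLocalRing.mem_maximalIdeal r).mpr hru
    have hrm' : algebraMap R (R ⧸ p) r ∈ maximalIdeal (R ⧸ p) := by
      rw [IsLocalRing.mem_maximalIdeal, mem_nonunits_iff]
      intro hu
      exact hru ((isUnit_map_iff (algebraMap R (R ⧸ p)) r).mp hu)
    refine not_isUnit_localSubalgebra_of_mem (algebraMap R (localSubalgebra (R ⧸ p) B') r) ?_ hr
    have : ((algebraMap R (localSubalgebra (R ⧸ p) B') r : localSubalgebra (R ⧸ p) B') : B') =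
        algebraMap (R ⧸ p) B' (algebraMap R (R ⧸ p) r) := rfl
    rw [this]
    exact Ideal.mem_map_of_mem _ hrm'
  haveI : IsNoetherianRing (localSubalgebra (R ⧸ p) B') := IsNoetherianRing.of_finite R _
  haveI hred := h (localSubalgebra (R ⧸ p) B')
  have hN1 : CAlg.IsN1 (localSubalgebra (R ⧸ p) B') := isN1_of_isReduced_adicCompletion
  -- fraction field
  obtain ⟨m0, hm0, hm00⟩ : ∃ m0 ∈ maximalIdeal (R ⧸ p), m0 ≠ 0 := by
    have : maximalIdeal (R ⧸ p) ≠ ⊥ := fun hbot =>
      hfield (IsLocalRing.isField_iff_maximalIdeal_eq.mpr hbot)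
    exact Submodule.exists_mem_ne_zero_of_ne_bot this
  haveI : IsScalarTower (R ⧸ p) (localSubalgebra (R ⧸ p) B') L := inferInstance
  haveI : FaithfulSMul (localSubalgebra (R ⧸ p) B') L :=
    (faithfulSMul_iff_algebraMap_injective _ _).mpr
      (fun x y hxy => Subtype.ext (Subtype.ext hxy))
  haveI : IsFractionRing (localSubalgebra (R ⧸ p) B') L := by
    refine IsFractionRing.of_field _ L (fun z => ?_)
    obtain ⟨b, c, hc, rfl⟩ := IsFractionRing.div_surjective (A := B') z
    have hmem : ∀ x : B', algebraMap (R ⧸ p) B' m0 * x ∈ localSubalgebra (R ⧸ p) B' := fun x =>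
      map_maximalIdeal_le_localSubalgebra _
        (Ideal.mul_mem_right _ _ (Ideal.mem_map_of_mem _ hm0))
    refine ⟨⟨_, hmem b⟩, ⟨_, hmem c⟩, ?_⟩
    have hinjDL : Function.Injective (algebraMap (R ⧸ p) L) := by
      rw [IsScalarTower.algebraMap_eq (R ⧸ p) (FractionRing (R ⧸ p)) L]
      exact (algebraMap (FractionRing (R ⧸ p)) L).injective.comp (IsFractionRing.injective _ _)
    have hμ : algebraMap (R ⧸ p) L m0 ≠ 0 := by
      rw [Ne, map_eq_zero_iff _ hinjDL]; exact hm00
    show algebraMap B' L b / algebraMap B' L c =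
      (algebraMap (R ⧸ p) L m0 * (b : L)) / (algebraMap (R ⧸ p) L m0 * (c : L))
    rw [mul_div_mul_left _ _ hμ]
    rfl
  exact finite_integralClosure_of_finite_isN1 (localSubalgebra (R ⧸ p) B') hN1

/-- **Stacks 0BI2** (1) ⇔ (3). -/
theorem isNagata_local_iff_finite_local_domains_analyticallyUnramified (R : Type u) [CommRing R]
    [IsLocalRing R] [IsNoetherianRing R] :
    CAlg.IsNagata R ↔ ∀ (S : Type u) [CommRing S] [IsDomain S] [IsLocalRing S] [Algebra R S]
      [IsLocalHom (algebraMap R S)] [Module.Finite R S],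
      IsReduced (AdicCompletion (IsLocalRing.maximalIdeal S) S) := by
  constructor
  · intro hR S _ _ _ _ _ _
    exact isReduced_adicCompletion_of_isNagata_local_domain S (isNagata_of_finite hR)
  · exact isNagata_of_forall_finite_local_domain_reduced R

end Groth.Agent.Lib.Helper48
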