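import Mathlib
import Groth.Agent.Lib.Helper48.MonogenicBirational2
import Groth.Agent.Lib.Helper48.PolynomialN2
import Groth.Agent.Lib.Helper48.NagataNormalization2
import Groth.Agent.Lib.Helper48.AnalyticallyUnramified2
import Groth.Agent.Lib.Helper48.NagataLocalCriterion

/-!
# Finite type algebras over Nagata rings are Nagata (Stacks 0334)

* `isN2_of_monogenic`: a domain generated by one element over a Nagata subdomain is N-2.
* `isNagata_polynomial`, `isNagata_mvPolynomial_fin`, `isNagata_of_finiteType`.
* `isNagata_iff_isUniversallyJapanese`.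
-/

universe u
open TensorProduct IsLocalRing Polynomial

namespace Groth.Agent.Lib.Helper48

/-- A Nagata domain is N-2. -/
theorem isN2_of_isNagata_of_isDomain {R : Type u} [CommRing R] [IsDomain R]
    (hR : CAlg.IsNagata R) : CAlg.IsN2 R :=
  isN2_of_ringEquiv (RingEquiv.quotientBot R) (hR.2 (⊥ : Ideal R))

/-- For `R₁ ⊆ M` a subalgebra, finite over `R`, and `S` an `R`-algebra mapping to `M`, generated by
`x`, the ring `R₁[x]` is a finite `S`-module. -/
theorem exists_algebra_finite_adjoin {R S M : Type u} [CommRing R] [CommRing S] [Field M]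
    [Algebra R S] [Algebra R M] [Algebra S M] [IsScalarTower R S M]
    (R1 : Subalgebra R M) [Module.Finite R R1] (x : S) (hx : Algebra.adjoin R {x} = ⊤) :
    ∃ (_ : Algebra S (Algebra.adjoin R1 {algebraMap S M x})),
      IsScalarTower S (Algebra.adjoin R1 {algebraMap S M x}) M ∧
      Module.Finite S (Algebra.adjoin R1 {algebraMap S M x}) := by
  classical
  set S1 := Algebra.adjoin R1 {algebraMap S M x} with hS1
  have hmem : ∀ s : S, algebraMap S M s ∈ S1 := by
    intro s
    have hs : s ∈ Algebra.adjoin R {x} := hx ▸ Algebra.mem_top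
    induction hs using Algebra.adjoin_induction with
    | mem y hy =>
      rw [Set.mem_singleton_iff] at hy
      rw [hy]; exact Algebra.subset_adjoin rfl
    | algebraMap r =>
      rw [← IsScalarTower.algebraMap_apply R S M]
      exact S1.algebraMap_mem (algebraMap R R1 r)
    | add y y' _ _ hy hy' => rw [map_add]; exact add_mem hy hy'
    | mul y y' _ _ hy hy' => rw [map_mul]; exact mul_mem hy hy'
  let j : S →+* S1 :=
    { toFun := fun s => ⟨algebraMap S M s, hmem s⟩
      map_one' := Subtype.ext (map_one _)
      map_mul' := fun _ _ => Subtype.ext (map_mul _ _ _)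
      map_zero' := Subtype.ext (map_zero _)
      map_add' := fun _ _ => Subtype.ext (map_add _ _ _) }
  letI : Algebra S S1 := j.toAlgebra
  haveI : IsScalarTower S S1 M := IsScalarTower.of_algebraMap_eq (fun _ => rfl)
  refine ⟨inferInstance, inferInstance, ?_⟩
  -- the surjection `S ⊗[R] R1 → S1`
  let ψ : S ⊗[R] R1 →ₐ[S] M :=
    Algebra.TensorProduct.productLeftAlgHom (Algebra.ofId S M) R1.val
  have hψmem : ∀ t : S ⊗[R] R1, ψ t ∈ S1 := by
    intro t
    induction t using TensorProduct.induction_on with
    | zero => rw [map_zero]; exact zero_mem _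
    | tmul s r1 =>
      have : ψ (s ⊗ₜ r1) = algebraMap S M s * (r1 : M) := by
        simp [ψ, Algebra.ofId_apply]
      rw [this]
      exact mul_mem (hmem s) (S1.algebraMap_mem r1)
    | add t t' ht ht' => rw [map_add]; exact add_mem ht ht'
  let Ψ : S ⊗[R] R1 →ₗ[S] S1 :=
    { toFun := fun t => ⟨ψ t, hψmem t⟩
      map_add' := fun _ _ => Subtype.ext (map_add ψ _ _)
      map_smul' := fun s t => by
        apply Subtype.ext
        show ψ (s • t) = algebraMap S M s * ψ t
        rw [map_smul, Algebra.smul_def] }
  have hsurj : Function.Surjective Ψ := by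
    rintro ⟨y, hy⟩
    have : ∃ t, ψ t = y := by
      induction hy using Algebra.adjoin_induction with
      | mem z hz =>
        rw [Set.mem_singleton_iff] at hz
        exact ⟨x ⊗ₜ 1, by simp [ψ, hz, Algebra.ofId_apply]⟩
      | algebraMap r1 => exact ⟨1 ⊗ₜ r1, by simp [ψ]⟩
      | add z z' _ _ hz hz' =>
        obtain ⟨t, rfl⟩ := hz
        obtain ⟨t', rfl⟩ := hz'
        exact ⟨t + t', map_add _ _ _⟩
      | mul z z' _ _ hz hz' =>
        obtain ⟨t, rfl⟩ := hz
        obtain ⟨t', rfl⟩ := hz'
        exact ⟨t * t', map_mul _ _ _⟩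
    obtain ⟨t, ht⟩ := this
    exact ⟨t, Subtype.ext ht⟩
  exact Module.Finite.of_surjective Ψ hsurj

/-- **A monogenic domain extension of a Nagata domain is N-2** (Stacks 0334, key step). -/
theorem isN2_of_monogenic {R S : Type u} [CommRing R] [IsDomain R] [CommRing S] [IsDomain S]
    [Algebra R S] (hinj : Function.Injective (algebraMap R S)) (hR : CAlg.IsNagata R) (x : S)
    (hx : Algebra.adjoin R {x} = ⊤) : CAlg.IsN2 S := by
  haveI := hR.1
  have hR2 : CAlg.IsN2 R := isN2_of_isNagata_of_isDomain hR
  haveI : Algebra.FiniteType R S := ⟨⟨{x}, by simpa using hx⟩⟩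
  haveI : IsNoetherianRing S := Algebra.FiniteType.isNoetherianRing R S
  by_cases htr : Transcendental R x
  · have hbij : Function.Bijective (aeval (R := R) x) :=
      ⟨transcendental_iff_injective.mp htr, by
        rw [← AlgHom.range_eq_top, ← Algebra.adjoin_singleton_eq_range_aeval, hx]⟩
    exact isN2_of_ringEquiv (RingEquiv.ofBijective (aeval (R := R) x) hbij) (isN2_polynomial hR2)
  · have halg : IsAlgebraic R x := not_not.mp htr
    intro M _ _ _ _ hfd
    letI : Algebra R M := ((algebraMap S M).comp (algebraMap R S)).toAlgebra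
    haveI : IsScalarTower R S M := IsScalarTower.of_algebraMap_eq (fun _ => rfl)
    have hinjSM : Function.Injective (algebraMap S M) := by
      rw [IsScalarTower.algebraMap_eq S (FractionRing S) M]
      exact (algebraMap (FractionRing S) M).injective.comp (IsFractionRing.injective S _)
    have hinjRM : Function.Injective (algebraMap R M) := hinjSM.comp hinj
    haveI : Algebra.IsAlgebraic R S := by
      have h1 : (Algebra.adjoin R {x}).IsAlgebraic := Algebra.isAlgebraic_adjoin_singleton_iff.mpr halg
      exact ⟨fun s => h1 s (hx ▸ Algebra.mem_top)⟩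
    haveI : Algebra.IsAlgebraic S M :=
      (IsFractionRing.comap_isAlgebraic_iff (A := S) (K := FractionRing S) (C := M)).mpr inferInstance
    haveI : Algebra.IsAlgebraic R M := Algebra.IsAlgebraic.trans R S M
    haveI : Algebra.EssFiniteType S (FractionRing S) :=
      Algebra.EssFiniteType.of_isLocalization _ (nonZeroDivisors S)
    haveI : Algebra.EssFiniteType S M := Algebra.EssFiniteType.comp S (FractionRing S) M
    haveI : Algebra.EssFiniteType R M := Algebra.EssFiniteType.comp R S M
    haveI hfinR1 : Module.Finite R (integralClosure R M) :=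
      finite_integralClosure_of_isN2_of_essFiniteType_field hR2 hinjRM
    haveI : IsFractionRing (integralClosure R M) M :=
      integralClosure.isFractionRing_of_algebraic (fun r hr => hinjRM (hr.trans (map_zero _).symm))
    haveI : IsIntegrallyClosed (integralClosure R M) := by
      rw [isIntegrallyClosed_iff M]
      intro z hz
      exact ⟨⟨z, isIntegral_trans (A := integralClosure R M) z hz⟩, rfl⟩
    have hR1 : CAlg.IsNagata (integralClosure R M) := isNagata_of_finite hR
    have hN1 : CAlg.IsN1 (Algebra.adjoin (integralClosure R M) {algebraMap S M x}) :=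
      isN1_adjoin_singleton hR1 _
    obtain ⟨_, _, _⟩ := exists_algebra_finite_adjoin (integralClosure R M) x hx
    exact finite_integralClosure_of_finite_isN1
      (Algebra.adjoin (integralClosure R M) {algebraMap S M x}) hN1

/-- The polynomial ring over a Nagata ring is Nagata. -/
theorem isNagata_polynomial {P : Type u} [CommRing P] (hP : CAlg.IsNagata P) :
    CAlg.IsNagata P[X] := by
  haveI := hP.1
  refine ⟨inferInstance, fun Q hQ => ?_⟩
  haveI := hQ
  obtain ⟨p, hp⟩ : ∃ p : Ideal P, p = Q.comap (algebraMap P P[X]) := ⟨_, rfl⟩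
  subst hp
  haveI : (Q.comap (algebraMap P P[X])).IsPrime := Ideal.comap_isPrime _ _
  have hPp : CAlg.IsNagata (P ⧸ Q.comap (algebraMap P P[X])) := isNagata_quotient hP _
  have hinj : Function.Injective (algebraMap (P ⧸ Q.comap (algebraMap P P[X])) (P[X] ⧸ Q)) :=
    Ideal.algebraMap_quotient_injective
  refine isN2_of_monogenic hinj hPp (Ideal.Quotient.mk Q X) ?_
  have key : ∀ g : P[X], Ideal.Quotient.mk Q g ∈
      Algebra.adjoin (P ⧸ Q.comap (algebraMap P P[X])) {Ideal.Quotient.mk Q X} := by
    intro g
    induction g using Polynomial.induction_on' with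
    | add g g' hg hg' =>
      have h1 : Ideal.Quotient.mk Q (g + g') = Ideal.Quotient.mk Q g + Ideal.Quotient.mk Q g' :=
        map_add _ _ _
      rw [h1]
      exact Subalgebra.add_mem _ hg hg'
    | monomial n a =>
      have hC : algebraMap (P ⧸ Q.comap (algebraMap P P[X])) (P[X] ⧸ Q)
            (Ideal.Quotient.mk (Q.comap (algebraMap P P[X])) a) = Ideal.Quotient.mk Q (C a) :=
        Ideal.quotientMap_mk
      have h1 : Ideal.Quotient.mk Q (monomial n a) =
          algebraMap (P ⧸ Q.comap (algebraMap P P[X])) (P[X] ⧸ Q)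
            (Ideal.Quotient.mk (Q.comap (algebraMap P P[X])) a) * Ideal.Quotient.mk Q X ^ n := by
        rw [hC, ← Polynomial.C_mul_X_pow_eq_monomial, map_mul, map_pow]
      rw [h1]
      exact Subalgebra.mul_mem _ (Subalgebra.algebraMap_mem _ _)
        (Subalgebra.pow_mem _ (Algebra.subset_adjoin (Set.mem_singleton _)) n)
  rw [eq_top_iff]
  rintro y -
  obtain ⟨g, rfl⟩ := Ideal.Quotient.mk_surjective y
  exact key g

/-- Polynomial rings in finitely many variables over a Nagata ring are Nagata. -/
theorem isNagata_mvPolynomial_fin {R : Type u} [CommRing R] (hR : CAlg.IsNagata R) :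
    ∀ n : ℕ, CAlg.IsNagata (MvPolynomial (Fin n) R)
  | 0 => isNagata_of_ringEquiv (MvPolynomial.isEmptyRingEquiv R (Fin 0)).symm hR
  | n + 1 => isNagata_of_ringEquiv (MvPolynomial.finSuccEquiv R n).symm.toRingEquiv
      (isNagata_polynomial (isNagata_mvPolynomial_fin hR n))

/-- **Stacks 0334**: a finite type algebra over a Nagata ring is Nagata. -/
theorem isNagata_of_finiteType {R S : Type u} [CommRing R] [CommRing S] [Algebra R S]
    [Algebra.FiniteType R S] (hR : CAlg.IsNagata R) : CAlg.IsNagata S := by
  obtain ⟨n, f, hf⟩ := Algebra.FiniteType.iff_quotient_mvPolynomial''.mp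
    (inferInstance : Algebra.FiniteType R S)
  exact isNagata_of_surjective f.toRingHom hf (isNagata_mvPolynomial_fin hR n)

/-- **Stacks 0334**: Nagata ⇔ Noetherian and universally Japanese. -/
theorem isNagata_iff_isUniversallyJapanese {R : Type u} [CommRing R] :
    CAlg.IsNagata R ↔ (IsNoetherianRing R ∧ CAlg.IsUniversallyJapanese R) := by
  constructor
  · intro hR
    refine ⟨hR.1, fun S _ _ _ hft => ?_⟩
    haveI := hft
    exact isN2_of_isNagata_of_isDomain (isNagata_of_finiteType hR)
  · rintro ⟨hN, hUJ⟩
    refine ⟨hN, fun p hp => ?_⟩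
    haveI := hp
    exact hUJ (R ⧸ p) (Algebra.FiniteType.of_surjective (Algebra.ofId R (R ⧸ p))
      Ideal.Quotient.mk_surjective)

end Groth.Agent.Lib.Helper48
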