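import Mathlib
import Groth.Prelude
import Groth.Agent.Lib.Helper48.FormalFibresReduced
import Groth.Agent.Lib.Helper48.NagataCriterion
import Groth.Agent.Lib.Helper48.NagataFiniteType

/-!
# Nagata local rings have geometrically reduced formal fibres (EGA IV 7.6.4, b) ⇒ a''))

* `hasGeomReducedFormalFibres_of_isNagata`
* `isNagata_of_essFiniteType`
* `hasGeomReducedFormalFibres_of_essFiniteType` (EGA IV 7.4.4 for "geometrically reduced")
-/

universe u
open TensorProduct IsLocalRing

namespace Groth.Agent.Lib.Helper48

/-- If `D ⊗[A] B` is reduced, `D` a domain with fraction field `K`, then `K ⊗[A] B` is reduced. -/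
theorem isReduced_tensor_of_isFractionRing {A D K B : Type u} [CommRing A] [CommRing D] [IsDomain D]
    [Field K] [CommRing B] [Algebra A D] [Algebra D K] [IsFractionRing D K] [Algebra A K]
    [IsScalarTower A D K] [Algebra A B] [IsReduced (D ⊗[A] B)] : IsReduced (K ⊗[A] B) := by
  haveI : IsReduced ((D ⊗[A] B) ⊗[D] K) :=
    isReduced_localizationPreserves (Algebra.algebraMapSubmonoid (D ⊗[A] B) (nonZeroDivisors D))
      ((D ⊗[A] B) ⊗[D] K) inferInstance
  let f : K ⊗[A] B →+* (D ⊗[A] B) ⊗[D] K :=
    ((Algebra.TensorProduct.comm D K (D ⊗[A] B)).toRingEquiv.toRingHom).comp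
      ((Algebra.TensorProduct.cancelBaseChange A D D K B).symm.toRingEquiv.toRingHom)
  refine isReduced_of_injective f ?_
  exact (Algebra.TensorProduct.comm D K (D ⊗[A] B)).injective.comp
    (Algebra.TensorProduct.cancelBaseChange A D D K B).symm.injective

/-- **A Noetherian local Nagata ring has geometrically reduced formal fibres** (EGA IV 7.6.4,
b) ⇒ a'')). -/
theorem hasGeomReducedFormalFibres_of_isNagata (A : Type u) [CommRing A] [IsLocalRing A]
    (hA : CAlg.IsNagata A) : EGA4.HasGeomReducedFormalFibres A := by
  haveI := hA.1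
  intro p _
  refine isGeometricallyReduced_of_forall_finite (fun k' _ _ hfin => ?_)
  haveI := hfin
  letI : Algebra A k' := ((algebraMap p.ResidueField k').comp (algebraMap A p.ResidueField)).toAlgebra
  haveI : IsScalarTower A p.ResidueField k' := IsScalarTower.of_algebraMap_eq (fun _ => rfl)
  letI : Algebra (A ⧸ p) k' :=
    ((algebraMap p.ResidueField k').comp (algebraMap (A ⧸ p) p.ResidueField)).toAlgebra
  haveI : IsScalarTower (A ⧸ p) p.ResidueField k' := IsScalarTower.of_algebraMap_eq (fun _ => rfl)
  haveI : IsScalarTower A (A ⧸ p) k' := IsScalarTower.of_algebraMap_eq (fun a => by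
    show algebraMap p.ResidueField k' (algebraMap A p.ResidueField a) =
      algebraMap p.ResidueField k' (algebraMap (A ⧸ p) p.ResidueField (algebraMap A (A ⧸ p) a))
    rw [← IsScalarTower.algebraMap_apply A (A ⧸ p) p.ResidueField])
  obtain ⟨D, hDfin, hDfrac⟩ :=
    exists_finite_subalgebra_isFractionRing (A ⧸ p) p.ResidueField k'
  haveI := hDfin
  haveI := hDfrac
  haveI : Module.Finite A D := Module.Finite.trans (A ⧸ p) D
  haveI : IsReduced (D ⊗[A] AdicCompletion (maximalIdeal A) A) :=
    isReduced_tensor_adicCompletion_of_isNagata hA D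
  haveI : IsReduced (k' ⊗[A] AdicCompletion (maximalIdeal A) A) :=
    isReduced_tensor_of_isFractionRing (D := D)
  exact isReduced_of_injective
    (Algebra.TensorProduct.cancelBaseChange A p.ResidueField p.ResidueField k'
      (AdicCompletion (maximalIdeal A) A)) (AlgEquiv.injective _)

/-- An algebra essentially of finite type over a Nagata ring is Nagata. -/
theorem isNagata_of_essFiniteType {A B : Type u} [CommRing A] [CommRing B] [Algebra A B]
    [Algebra.EssFiniteType A B] (hA : CAlg.IsNagata A) : CAlg.IsNagata B :=
  isNagata_of_isLocalization (Algebra.EssFiniteType.submonoid A B) B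
    (isNagata_of_finiteType (S := Algebra.EssFiniteType.subalgebra A B) hA)

/-- EGA IV 7.4.4 for "geometrically reduced": geometrically reduced formal fibres pass to local
rings essentially of finite type. -/
theorem hasGeomReducedFormalFibres_of_essFiniteType (A : Type u) [CommRing A] [IsNoetherianRing A]
    [IsLocalRing A] (hA : EGA4.HasGeomReducedFormalFibres A) (B : Type u) [CommRing B]
    [IsLocalRing B] [Algebra A B] [Algebra.EssFiniteType A B] :
    EGA4.HasGeomReducedFormalFibres B :=
  hasGeomReducedFormalFibres_of_isNagata B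
    (isNagata_of_essFiniteType (isNagata_of_hasGeomReducedFormalFibres A hA))

/-- For a Noetherian local ring: Nagata ⇔ geometrically reduced formal fibres. -/
theorem isNagata_iff_hasGeomReducedFormalFibres (A : Type u) [CommRing A] [IsNoetherianRing A]
    [IsLocalRing A] : CAlg.IsNagata A ↔ EGA4.HasGeomReducedFormalFibres A :=
  ⟨hasGeomReducedFormalFibres_of_isNagata A, isNagata_of_hasGeomReducedFormalFibres A⟩

end Groth.Agent.Lib.Helper48
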