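import Mathlib
import Groth.Prelude
import Groth.Agent.S0543
import Groth.Agent.Lib.Helper18.AdicQuot
import Groth.Agent.Lib.Helper29.FlatAscent4
import Groth.Agent.Lib.Helper50.NormalBC
import Groth.Agent.Lib.Helper50.TensorDomain
import Groth.Agent.Lib.Helper22.NormalLocal
import Groth.Agent.Lib.Helper36.OlivierLocal
import Groth.Agent.Lib.Helper48.NagataFormalFibres
import Groth.Agent.Lib.Helper48.FormalFibresReduced
import Groth.Agent.Lib.Helper48.NagataNormalization2

/-!
# Henselian local rings with geometrically normal formal fibres (EGA IV 18.9.1 / 18.9.2)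

For a henselian Noetherian local ring `A` whose formal fibres are geometrically normal:
* the formal fibres are geometrically integral (`isDomain_tensor_formalFibre_of_henselian`);
* if `A` is a domain, so is its completion (`isDomain_cpl_of_henselian`).

Idea: for `L` finite over `κ(p)`, the integral closure `A'` of `A/p` in `L` is finite (Nagata), local
(henselian) and normal; `A' ⊗[A] Â` is local and normal (ascent along a flat map with normal
fibres), hence a domain, and `L ⊗[A] Â` is a localization of it.  Arbitrary field extensions are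
reached via the algebraic closure and "domain ⊗ domain over an algebraically closed field".
-/

set_option autoImplicit false
set_option linter.style.haveILetI false
universe u
open TensorProduct IsLocalRing

namespace Groth.Agent.Lib.Helper48

/-- Every element of the completion of a Noetherian local ring is congruent to an element of the
ring modulo `m Â`. -/
theorem exists_sub_mem_map_maximalIdeal_adicCompletion (A : Type u) [CommRing A] [IsLocalRing A]
    [IsNoetherianRing A] (α : AdicCompletion (maximalIdeal A) A) :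
    ∃ a : A, α - algebraMap A _ a ∈
      (maximalIdeal A).map (algebraMap A (AdicCompletion (maximalIdeal A) A)) := by
  have fg : (maximalIdeal A).FG := (isNoetherianRing_iff_ideal_fg A).mp inferInstance _
  obtain ⟨a, ha⟩ := Ideal.Quotient.mk_surjective (AdicCompletion.evalₐ (maximalIdeal A) 1 α)
  refine ⟨a, ?_⟩
  have hker := Groth.Agent.Lib.Helper18.ker_evalₐ_eq_map_pow (maximalIdeal A) fg 1
  rw [show ∀ K : Ideal (AdicCompletion (maximalIdeal A) A), K ^ 1 = K from fun K => pow_one K] at hker
  rw [← hker, RingHom.mem_ker, map_sub]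
  simp only [AlgHom.toRingHom_eq_coe, RingHom.coe_coe, AdicCompletion.algebraMap_apply,
    AdicCompletion.evalₐ_of, sub_eq_zero]
  exact ha.symm

/-- For a local ring `A'` finite over a Noetherian local ring `A`, the ring `Â ⊗[A] A'` is local. -/
theorem isLocalRing_adicCompletion_tensor (A : Type u) [CommRing A] [IsLocalRing A]
    [IsNoetherianRing A] (A' : Type u) [CommRing A'] [IsLocalRing A'] [Algebra A A']
    [Module.Finite A A'] :
    IsLocalRing (AdicCompletion (maximalIdeal A) A ⊗[A] A') := by
  set Ah := AdicCompletion (maximalIdeal A) A with hAh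
  haveI : Module.FaithfullyFlat A Ah := Module.FaithfullyFlat.of_flat_of_isLocalHom
  haveI : Nontrivial (Ah ⊗[A] A') := Module.FaithfullyFlat.lTensor_nontrivial A Ah A'
  let inclR : A' →+* Ah ⊗[A] A' :=
    (Algebra.TensorProduct.includeRight : A' →ₐ[A] Ah ⊗[A] A').toRingHom
  have hcomm : inclR.comp (algebraMap A A') = (algebraMap Ah (Ah ⊗[A] A')).comp (algebraMap A Ah) := by
    ext a
    change (1 : Ah) ⊗ₜ[A] (algebraMap A A' a) = (algebraMap A Ah a) ⊗ₜ[A] (1 : A')
    rw [Algebra.algebraMap_eq_smul_one, Algebra.algebraMap_eq_smul_one (A := Ah),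
      TensorProduct.smul_tmul]
  -- (α) every maximal ideal lies over the maximal ideal of `Â`
  have hα : ∀ (M : Ideal (Ah ⊗[A] A')) [M.IsMaximal],
      M.comap (algebraMap Ah (Ah ⊗[A] A')) = maximalIdeal Ah := fun M _ =>
    IsLocalRing.eq_maximalIdeal (Ideal.isMaximal_comap_of_isIntegral_of_isMaximal M)
  -- (β) every maximal ideal lies over the maximal ideal of `A'`
  have hβ : ∀ (M : Ideal (Ah ⊗[A] A')) [M.IsMaximal], M.comap inclR = maximalIdeal A' := by
    intro M _
    have hS : (maximalIdeal Ah).comap (algebraMap A Ah) = maximalIdeal A :=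
      ((local_hom_TFAE (algebraMap A Ah)).out 0 4 rfl rfl).mp inferInstance
    have h1 : (M.comap inclR).comap (algebraMap A A') = maximalIdeal A := by
      rw [Ideal.comap_comap, hcomm, ← Ideal.comap_comap, hα M, hS]
    haveI : (M.comap inclR).IsPrime := Ideal.comap_isPrime _ _
    apply IsLocalRing.eq_maximalIdeal
    apply Ideal.isMaximal_of_isIntegral_of_isMaximal_comap (R := A)
    rw [h1]
    exact maximalIdeal.isMaximal A
  -- (γ) every element is congruent to an element of `A'` modulo `m Â`
  have hγ : ∀ b : Ah ⊗[A] A', ∃ a' : A', b - (1 : Ah) ⊗ₜ[A] a' ∈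
      (maximalIdeal Ah).map (algebraMap Ah (Ah ⊗[A] A')) := by
    intro b
    induction b using TensorProduct.induction_on with
    | zero => exact ⟨0, by simp⟩
    | tmul s a' =>
      obtain ⟨a, ha⟩ := exists_sub_mem_map_maximalIdeal_adicCompletion A s
      have ha' : s - algebraMap A Ah a ∈ maximalIdeal Ah := by
        have hle : (maximalIdeal A).map (algebraMap A Ah) ≤ maximalIdeal Ah :=
          ((local_hom_TFAE (algebraMap A Ah)).out 0 2 rfl rfl).mp inferInstance
        exact hle ha
      refine ⟨a • a', ?_⟩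
      have h1 : s ⊗ₜ[A] a' - (1 : Ah) ⊗ₜ[A] (a • a') =
          algebraMap Ah (Ah ⊗[A] A') (s - algebraMap A Ah a) * ((1 : Ah) ⊗ₜ[A] a') := by
        rw [Algebra.TensorProduct.algebraMap_apply, Algebra.TensorProduct.tmul_mul_tmul, one_mul,
          Algebra.algebraMap_self, RingHom.id_apply, mul_one, TensorProduct.sub_tmul,
          Algebra.algebraMap_eq_smul_one (A := Ah), TensorProduct.smul_tmul]
      rw [h1]
      exact Ideal.mul_mem_right _ _ (Ideal.mem_map_of_mem _ ha')
    | add x y hx hy =>
      obtain ⟨a1, h1⟩ := hx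
      obtain ⟨a2, h2⟩ := hy
      refine ⟨a1 + a2, ?_⟩
      have : x + y - (1 : Ah) ⊗ₜ[A] (a1 + a2) =
          (x - (1 : Ah) ⊗ₜ[A] a1) + (y - (1 : Ah) ⊗ₜ[A] a2) := by
        rw [TensorProduct.tmul_add]; ring
      rw [this]
      exact Ideal.add_mem _ h1 h2
  -- (δ) uniqueness
  have hδ : ∀ (M₁ M₂ : Ideal (Ah ⊗[A] A')) [M₁.IsMaximal] [M₂.IsMaximal], M₁ ≤ M₂ := by
    intro M₁ M₂ _ _ c hc
    obtain ⟨a', ha'⟩ := hγ c
    have hle : ∀ (M : Ideal (Ah ⊗[A] A')) [M.IsMaximal],
        (maximalIdeal Ah).map (algebraMap Ah (Ah ⊗[A] A')) ≤ M := by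
      intro M _
      rw [Ideal.map_le_iff_le_comap, hα M]
    have h1 : (1 : Ah) ⊗ₜ[A] a' ∈ M₁ := by
      have := M₁.sub_mem hc (hle M₁ ha')
      simpa using this
    have h2 : a' ∈ M₁.comap inclR := h1
    rw [hβ M₁, ← hβ M₂] at h2
    have h3 : (1 : Ah) ⊗ₜ[A] a' ∈ M₂ := h2
    have := M₂.add_mem (hle M₂ ha') h3
    simpa using this
  obtain ⟨M, hM⟩ := Ideal.exists_maximal (Ah ⊗[A] A')
  refine IsLocalRing.of_unique_max_ideal ⟨M, hM, fun M' hM' => ?_⟩
  haveI := hM
  haveI := hM'
  exact le_antisymm (hδ M' M) (hδ M M')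


/-- If the formal fibres of `A` are geometrically normal, then `k' ⊗[A] Â` is a normal ring for every
field `k'` finite over a residue field `κ(q)` of `A`. -/
theorem isNormalRing_tensor_cpl_of_finite_residueField (A : Type u) [CommRing A] [IsLocalRing A]
    (hA : EGA4.HasGeomNormalFormalFibres A) (q : Ideal A) [q.IsPrime] (k' : Type u) [Field k']
    [Algebra q.ResidueField k'] [Module.Finite q.ResidueField k'] [Algebra A k']
    [IsScalarTower A q.ResidueField k'] :
    EGA4.IsNormalRing (k' ⊗[A] EGA4.Cpl A) := by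
  have h := hA q k' inferInstance
  exact Groth.Agent.Lib.Helper50.isNormalRing_of_ringEquiv
    (Algebra.TensorProduct.cancelBaseChange A q.ResidueField q.ResidueField k'
      (EGA4.Cpl A)).toRingEquiv h

/-- `A' ⊗[A] Â` is Noetherian for `A'` finite over the Noetherian local ring `A`. -/
theorem isNoetherianRing_tensor_cpl (A : Type u) [CommRing A] [IsLocalRing A] [IsNoetherianRing A]
    (A' : Type u) [CommRing A'] [Algebra A A'] [Module.Finite A A'] :
    IsNoetherianRing (A' ⊗[A] EGA4.Cpl A) := by
  haveI : IsNoetherianRing (EGA4.Cpl A) := Groth.Agent.S0543.result A (maximalIdeal A)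
  haveI : IsNoetherianRing (EGA4.Cpl A ⊗[A] A') := IsNoetherianRing.of_finite (EGA4.Cpl A) _
  exact isNoetherianRing_of_ringEquiv _
    (Algebra.TensorProduct.comm A (EGA4.Cpl A) A').toRingEquiv

/-- **Ascent of normality to `A' ⊗[A] Â`**: if the formal fibres of `A` are geometrically normal and
`A'` is a normal ring finite over `A`, then `A' ⊗[A] Â` is a normal ring. -/
theorem isNormalRing_tensor_cpl_of_finite (A : Type u) [CommRing A] [IsLocalRing A]
    [IsNoetherianRing A] (hA : EGA4.HasGeomNormalFormalFibres A)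
    (A' : Type u) [CommRing A'] [Algebra A A'] [Module.Finite A A']
    (hA' : EGA4.IsNormalRing A') : EGA4.IsNormalRing (A' ⊗[A] EGA4.Cpl A) := by
  haveI : IsNoetherianRing A' := IsNoetherianRing.of_finite A A'
  haveI : IsNoetherianRing (A' ⊗[A] EGA4.Cpl A) := isNoetherianRing_tensor_cpl A A'
  refine Groth.Agent.Lib.Helper29.isNormalRing_of_flat_of_fibers hA' (fun p' _ => ?_)
  haveI : p'.LiesOver (p'.under A) := inferInstance
  letI := Localization.AtPrime.algebraOfLiesOver (p'.under A) p'
  have h := isNormalRing_tensor_cpl_of_finite_residueField A hA (p'.under A) p'.ResidueField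
  exact Groth.Agent.Lib.Helper50.isNormalRing_of_ringEquiv
    (Algebra.TensorProduct.cancelBaseChange A A' A' p'.ResidueField (EGA4.Cpl A)).toRingEquiv.symm h


/-- Abstract form of the main lemma: `A'` a normal local domain finite over `A` with fraction field
`L`; then `L ⊗[A] Â` is a domain. -/
theorem isDomain_tensor_cpl_of_normal_local_finite (A : Type u) [CommRing A] [IsLocalRing A]
    [IsNoetherianRing A] (hA : EGA4.HasGeomNormalFormalFibres A)
    (A' : Type u) [CommRing A'] [IsDomain A'] [IsIntegrallyClosed A'] [IsLocalRing A']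
    [Algebra A A'] [Module.Finite A A']
    (L : Type u) [Field L] [Algebra A' L] [IsFractionRing A' L] [Algebra A L]
    [IsScalarTower A A' L] :
    IsDomain (L ⊗[A] EGA4.Cpl A) := by
  have hnA' : EGA4.IsNormalRing A' := Groth.Agent.Lib.Helper29.isNormalRing_of_isIntegrallyClosed A'
  have hnC : EGA4.IsNormalRing (A' ⊗[A] EGA4.Cpl A) := isNormalRing_tensor_cpl_of_finite A hA A' hnA'
  haveI hloc' : IsLocalRing (EGA4.Cpl A ⊗[A] A') := isLocalRing_adicCompletion_tensor A A'
  haveI : IsLocalRing (A' ⊗[A] EGA4.Cpl A) :=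
    (Algebra.TensorProduct.comm A (EGA4.Cpl A) A').toRingEquiv.isLocalRing
  haveI hdC : IsDomain (A' ⊗[A] EGA4.Cpl A) :=
    Groth.Agent.Lib.Helper22.NormalLocal.isDomain_of_isNormalRing_of_isLocalRing _ hnC
  haveI : Module.FaithfullyFlat A (EGA4.Cpl A) := Module.FaithfullyFlat.of_flat_of_isLocalHom
  haveI : Module.FaithfullyFlat A' (A' ⊗[A] EGA4.Cpl A) := inferInstance
  haveI : IsLocalization (Algebra.algebraMapSubmonoid (A' ⊗[A] EGA4.Cpl A) (nonZeroDivisors A'))
      ((A' ⊗[A] EGA4.Cpl A) ⊗[A'] L) := IsLocalization.tensor L (nonZeroDivisors A')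
  have hle : Algebra.algebraMapSubmonoid (A' ⊗[A] EGA4.Cpl A) (nonZeroDivisors A') ≤
      nonZeroDivisors (A' ⊗[A] EGA4.Cpl A) := by
    rintro _ ⟨a', ha', rfl⟩
    apply mem_nonZeroDivisors_of_ne_zero
    rw [Ne, map_eq_zero_iff _ (FaithfulSMul.algebraMap_injective A' (A' ⊗[A] EGA4.Cpl A))]
    exact nonZeroDivisors.ne_zero ha'
  haveI : IsDomain ((A' ⊗[A] EGA4.Cpl A) ⊗[A'] L) :=
    IsLocalization.isDomain_of_le_nonZeroDivisors ((A' ⊗[A] EGA4.Cpl A) ⊗[A'] L) hle
  let e1 : L ⊗[A'] (A' ⊗[A] EGA4.Cpl A) ≃+* L ⊗[A] EGA4.Cpl A :=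
    (Algebra.TensorProduct.cancelBaseChange A A' A' L (EGA4.Cpl A)).toRingEquiv
  let e2 : (A' ⊗[A] EGA4.Cpl A) ⊗[A'] L ≃+* L ⊗[A'] (A' ⊗[A] EGA4.Cpl A) :=
    (Algebra.TensorProduct.comm A' (A' ⊗[A] EGA4.Cpl A) L).toRingEquiv
  let e : L ⊗[A] EGA4.Cpl A ≃+* (A' ⊗[A] EGA4.Cpl A) ⊗[A'] L := (e2.trans e1).symm
  exact MulEquiv.isDomain ((A' ⊗[A] EGA4.Cpl A) ⊗[A'] L) e.toMulEquiv


/-- **Main lemma.** For a henselian Noetherian local ring `A` with geometrically normal formal
fibres and a field `L` finite over a residue field `κ(p)` of `A`, the ring `L ⊗[A] Â` is a domain. -/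
theorem isDomain_tensor_cpl_of_finite_residueField (A : Type u) [CommRing A] [HenselianLocalRing A]
    [IsNoetherianRing A] (hA : EGA4.HasGeomNormalFormalFibres A) (p : Ideal A) [p.IsPrime]
    (L : Type u) [Field L] [Algebra p.ResidueField L] [Module.Finite p.ResidueField L]
    [Algebra A L] [IsScalarTower A p.ResidueField L] :
    IsDomain (L ⊗[A] EGA4.Cpl A) := by
  have hNag : CAlg.IsNagata A := isNagata_of_hasGeomReducedFormalFibres A
    (hasGeomReducedFormalFibres_of_hasGeomNormalFormalFibres hA)
  letI : Algebra (A ⧸ p) L :=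
    ((algebraMap p.ResidueField L).comp (algebraMap (A ⧸ p) p.ResidueField)).toAlgebra
  haveI : IsScalarTower (A ⧸ p) p.ResidueField L := IsScalarTower.of_algebraMap_eq (fun _ => rfl)
  haveI : IsScalarTower A (A ⧸ p) L := IsScalarTower.of_algebraMap_eq (fun a => by
    show algebraMap A L a =
      algebraMap p.ResidueField L (algebraMap (A ⧸ p) p.ResidueField (algebraMap A (A ⧸ p) a))
    rw [← IsScalarTower.algebraMap_apply A (A ⧸ p) p.ResidueField,
      ← IsScalarTower.algebraMap_apply A p.ResidueField L])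
  have hinj : Function.Injective (algebraMap (A ⧸ p) L) :=
    (algebraMap p.ResidueField L).injective.comp (IsFractionRing.injective (A ⧸ p) p.ResidueField)
  haveI : Algebra.EssFiniteType A L := Algebra.EssFiniteType.comp A p.ResidueField L
  haveI : Algebra.EssFiniteType (A ⧸ p) L := Algebra.EssFiniteType.of_comp A (A ⧸ p) L
  haveI hfin' : Module.Finite (A ⧸ p) (integralClosure (A ⧸ p) L) :=
    finite_integralClosure_of_isN2_of_essFiniteType_field (hNag.2 p) hinj
  haveI : Module.Finite A (integralClosure (A ⧸ p) L) :=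
    Module.Finite.trans (A ⧸ p) (integralClosure (A ⧸ p) L)
  haveI : IsIntegrallyClosed (integralClosure (A ⧸ p) L) :=
    integralClosure.isIntegrallyClosedOfFiniteExtension p.ResidueField
  haveI : IsFractionRing (integralClosure (A ⧸ p) L) L :=
    integralClosure.isFractionRing_of_finite_extension p.ResidueField L
  haveI : IsLocalRing (integralClosure (A ⧸ p) L) :=
    Groth.Agent.Lib.Helper36.Olivier.isLocalRing_of_isIntegral_of_isDomain A
      (integralClosure (A ⧸ p) L)
  exact isDomain_tensor_cpl_of_normal_local_finite A hA (integralClosure (A ⧸ p) L) L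


/-- If `L ⊗[k] F` is a domain for every finite field extension `L/k`, then `K ⊗[k] F` is a domain
for every algebraic field extension `K/k`. -/
theorem isDomain_tensor_of_forall_finite_of_isAlgebraic {k F K : Type u} [Field k] [CommRing F]
    [Algebra k F] [Field K] [Algebra k K] [Algebra.IsAlgebraic k K]
    (h : ∀ (L : Type u) [Field L] [Algebra k L], Module.Finite k L → IsDomain (L ⊗[k] F)) :
    IsDomain (K ⊗[k] F) := by
  haveI : IsDomain (k ⊗[k] F) := h k inferInstance
  haveI : Nontrivial F := (Algebra.TensorProduct.lid k F).injective.nontrivial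
  haveI : Nontrivial (K ⊗[k] F) := Module.FaithfullyFlat.lTensor_nontrivial k K F
  have hnzd : NoZeroDivisors (K ⊗[k] F) := by
    refine ⟨fun {x y} hxy => ?_⟩
    classical
    obtain ⟨F0, hF0, hsub⟩ := Groth.Agent.Lib.Helper50.exists_fg_subset_range_tensorIncl
      (k := k) (K := K) (A := F) {x, y}
    obtain ⟨t, ht, rfl⟩ := IntermediateField.fg_def.mp hF0
    haveI : Finite t := ht
    haveI : FiniteDimensional k (IntermediateField.adjoin k t) :=
      IntermediateField.finiteDimensional_adjoin
        (fun x _ => (Algebra.IsAlgebraic.isAlgebraic x).isIntegral)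
    have hdom := h (IntermediateField.adjoin k t) inferInstance
    have hinj : Function.Injective
        (Groth.Agent.Lib.Helper50.tensorIncl (A := F) (IntermediateField.adjoin k t)) :=
      Module.Flat.rTensor_preserves_injective_linearMap
        (IntermediateField.adjoin k t).val.toLinearMap
        (IntermediateField.adjoin k t).val.injective
    obtain ⟨x', hx'⟩ := hsub (by simp : x ∈ ((({x, y} : Finset (K ⊗[k] F)) : Set (K ⊗[k] F))))
    obtain ⟨y', hy'⟩ := hsub (by simp : y ∈ ((({x, y} : Finset (K ⊗[k] F)) : Set (K ⊗[k] F))))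
    have h0 : x' * y' = 0 := hinj (by rw [map_mul, hx', hy', hxy, map_zero])
    rcases (@mul_eq_zero _ _ (@IsDomain.to_noZeroDivisors _ _ hdom) x' y').mp h0 with h | h
    · left; rw [← hx', h, map_zero]
    · right; rw [← hy', h, map_zero]
  exact NoZeroDivisors.to_isDomain _

/-- Auxiliary form with a given algebraically closed overfield `Ω` and an algebraically closed
algebraic subextension `kb`. -/
theorem isDomain_tensor_of_forall_finite_aux {k F K Ω kb : Type u} [Field k] [CommRing F]
    [Algebra k F] [Field K] [Algebra k K] [Field Ω] [Algebra k Ω] [Algebra K Ω]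
    [IsScalarTower k K Ω] [Field kb] [Algebra k kb] [Algebra kb Ω] [IsScalarTower k kb Ω]
    [IsAlgClosed kb] [Algebra.IsAlgebraic k kb]
    (h : ∀ (L : Type u) [Field L] [Algebra k L], Module.Finite k L → IsDomain (L ⊗[k] F)) :
    IsDomain (K ⊗[k] F) := by
  haveI hD : IsDomain (kb ⊗[k] F) := isDomain_tensor_of_forall_finite_of_isAlgebraic h
  haveI : IsDomain (Ω ⊗[kb] (kb ⊗[k] F)) :=
    Groth.Agent.Lib.Helper50.isDomain_tensorProduct_of_isAlgClosed
  let e : Ω ⊗[kb] (kb ⊗[k] F) ≃ₐ[kb] Ω ⊗[k] F :=
    Algebra.TensorProduct.cancelBaseChange k kb kb Ω F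
  haveI : IsDomain (Ω ⊗[k] F) := MulEquiv.isDomain (Ω ⊗[kb] (kb ⊗[k] F)) e.symm.toMulEquiv
  let ι : K ⊗[k] F →ₐ[k] Ω ⊗[k] F :=
    Algebra.TensorProduct.map (IsScalarTower.toAlgHom k K Ω) (AlgHom.id k F)
  have hι : Function.Injective ι :=
    Module.Flat.rTensor_preserves_injective_linearMap
      (IsScalarTower.toAlgHom k K Ω).toLinearMap (algebraMap K Ω).injective
  exact Function.Injective.isDomain ι.toRingHom hι

/-- If `L ⊗[k] F` is a domain for every finite field extension `L/k`, then `K ⊗[k] F` is a domain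
for every field extension `K/k`. -/
theorem isDomain_tensor_of_forall_finite {k F K : Type u} [Field k] [CommRing F]
    [Algebra k F] [Field K] [Algebra k K]
    (h : ∀ (L : Type u) [Field L] [Algebra k L], Module.Finite k L → IsDomain (L ⊗[k] F)) :
    IsDomain (K ⊗[k] F) :=
  haveI : IsAlgClosed (algebraicClosure k (AlgebraicClosure K)) := IsAlgClosure.isAlgClosed k
  isDomain_tensor_of_forall_finite_aux (Ω := AlgebraicClosure K)
    (kb := algebraicClosure k (AlgebraicClosure K)) h


/-- **EGA IV 18.9.1-type**: the formal fibres of a henselian Noetherian local ring with geometrically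
normal formal fibres are geometrically integral. -/
theorem isDomain_tensor_formalFibre_of_henselian (A : Type u) [CommRing A] [HenselianLocalRing A]
    [IsNoetherianRing A] (hA : EGA4.HasGeomNormalFormalFibres A) (p : Ideal A) [p.IsPrime]
    (K : Type u) [Field K] [Algebra p.ResidueField K] :
    IsDomain (K ⊗[p.ResidueField] (EGA4.formalFibre A p)) := by
  refine isDomain_tensor_of_forall_finite (fun L _ _ hfin => ?_)
  haveI := hfin
  letI : Algebra A L := ((algebraMap p.ResidueField L).comp (algebraMap A p.ResidueField)).toAlgebra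
  haveI : IsScalarTower A p.ResidueField L := IsScalarTower.of_algebraMap_eq (fun _ => rfl)
  haveI : IsDomain (L ⊗[A] EGA4.Cpl A) := isDomain_tensor_cpl_of_finite_residueField A hA p L
  exact MulEquiv.isDomain (L ⊗[A] EGA4.Cpl A)
    (Algebra.TensorProduct.cancelBaseChange A p.ResidueField p.ResidueField L
      (EGA4.Cpl A)).toMulEquiv

/-- **EGA IV 18.9.2-type**: the completion of a henselian Noetherian local domain with geometrically
normal formal fibres is a domain. -/
theorem isDomain_cpl_of_henselian (A : Type u) [CommRing A] [HenselianLocalRing A]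
    [IsNoetherianRing A] [IsDomain A] (hA : EGA4.HasGeomNormalFormalFibres A) :
    IsDomain (EGA4.Cpl A) := by
  haveI : IsDomain ((⊥ : Ideal A).ResidueField ⊗[A] EGA4.Cpl A) :=
    isDomain_tensor_cpl_of_finite_residueField A hA ⊥ (⊥ : Ideal A).ResidueField
  have hinj : Function.Injective (Algebra.TensorProduct.includeRight :
      EGA4.Cpl A →ₐ[A] (⊥ : Ideal A).ResidueField ⊗[A] EGA4.Cpl A) :=
    Algebra.TensorProduct.includeRight_injective
      (IsFractionRing.injective A (⊥ : Ideal A).ResidueField)
  exact Function.Injective.isDomain (Algebra.TensorProduct.includeRight :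
      EGA4.Cpl A →ₐ[A] (⊥ : Ideal A).ResidueField ⊗[A] EGA4.Cpl A).toRingHom hinj


end Groth.Agent.Lib.Helper48
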