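import Mathlib

set_option autoImplicit false
universe u

namespace Groth.Agent.Lib.Helper48

open AlgebraicGeometry CategoryTheory

/-- Affine case of Stacks 01R8. -/
theorem exists_comap_specializes_of_mem_closure_range {A R : Type*} [CommRing A] [CommRing R]
    (φ : A →+* R) (s : PrimeSpectrum A)
    (hs : s ∈ closure (Set.range (PrimeSpectrum.comap φ))) :
    ∃ q : PrimeSpectrum R, PrimeSpectrum.comap φ q ⤳ s := by
  rw [PrimeSpectrum.closure_range_comap, PrimeSpectrum.mem_zeroLocus] at hs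
  have hs' : RingHom.ker φ ≤ s.asIdeal := by
    intro x hx; exact hs hx
  obtain ⟨p, hp, hps⟩ := Ideal.exists_minimalPrimes_le hs'
  have hp' : p ∈ ((⊥ : Ideal R).comap φ).minimalPrimes := by
    simpa [RingHom.ker] using hp
  obtain ⟨q, hq, -, hqp⟩ := Ideal.exists_comap_eq_of_mem_minimalPrimes φ p hp'
  refine ⟨⟨q, hq⟩, ?_⟩
  rw [← PrimeSpectrum.le_iff_specializes]
  show Ideal.comap φ q ≤ s.asIdeal
  rw [hqp]; exact hps

/-- Stacks 01R8: for a quasi-compact morphism, every point in the closure of the image is a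
specialization of a point in the image. -/
theorem exists_specializes_of_mem_closure_range {X S : Scheme.{u}} (f : X ⟶ S) [QuasiCompact f]
    (s : S) (hs : s ∈ closure (Set.range f)) : ∃ x : X, f x ⤳ s := by
  -- an affine open neighbourhood of `s`
  let W : S.Opens := (S.affineCover.f (S.affineCover.idx s)).opensRange
  have hW : IsAffineOpen W := isAffineOpen_opensRange _
  have hsW : s ∈ W := S.affineCover.covers s
  have hU : IsCompact ((f ⁻¹ᵁ W : X.Opens) : Set X) :=
    QuasiCompact.isCompact_preimage (f := f) _ W.2 hW.isCompact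
  obtain ⟨R, g, hg⟩ := isCompact_iff_exists.mp hU
  have hrange : Set.range (g ≫ f) ⊆ Set.range hW.fromSpec := by
    rw [hW.range_fromSpec]
    rintro _ ⟨r, rfl⟩
    have : g r ∈ (f ⁻¹ᵁ W : X.Opens) := by
      have : g r ∈ Set.range g := ⟨r, rfl⟩
      rw [hg] at this; exact this
    simpa using this
  obtain ⟨h, hfac⟩ : ∃ h : Spec R ⟶ Spec Γ(S, W), h ≫ hW.fromSpec = g ≫ f :=
    ⟨IsOpenImmersion.lift hW.fromSpec (g ≫ f) hrange, IsOpenImmersion.lift_fac _ _ _⟩
  obtain ⟨φ, rfl⟩ : ∃ φ, Spec.map φ = h := ⟨Spec.preimage h, Spec.map_preimage h⟩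
  set h := Spec.map φ with hh
  let s' := hW.primeIdealOf ⟨s, hsW⟩
  have hs' : hW.fromSpec s' = s := hW.fromSpec_primeIdealOf ⟨s, hsW⟩
  have hpre : hW.fromSpec ⁻¹' (Set.range f) = Set.range h := by
    ext y
    constructor
    · rintro ⟨x, hx⟩
      have hxW : x ∈ (f ⁻¹ᵁ W : X.Opens) := by
        show f x ∈ W
        rw [hx, ← SetLike.mem_coe, ← hW.range_fromSpec]
        exact ⟨y, rfl⟩
      have : x ∈ Set.range g := by rw [hg]; exact hxW
      obtain ⟨r, rfl⟩ := this
      refine ⟨r, hW.fromSpec.isOpenEmbedding.injective ?_⟩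
      rw [← hx, ← Scheme.Hom.comp_apply, hfac, Scheme.Hom.comp_apply]
    · rintro ⟨r, rfl⟩
      refine ⟨g r, ?_⟩
      rw [← Scheme.Hom.comp_apply, ← hfac, Scheme.Hom.comp_apply]
  have hs'cl : s' ∈ closure (Set.range h) := by
    rw [← hpre, ← hW.fromSpec.isOpenEmbedding.isOpenMap.preimage_closure_eq_closure_preimage
      hW.fromSpec.continuous]
    show hW.fromSpec s' ∈ closure (Set.range f)
    rw [hs']; exact hs
  obtain ⟨q, hq'⟩ : ∃ q : Spec R, h q ⤳ s' :=
    exists_comap_specializes_of_mem_closure_range φ.hom s' hs'cl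
  refine ⟨g q, ?_⟩
  have := hq'.map hW.fromSpec.continuous
  rw [hs'] at this
  convert this using 1
  rw [← Scheme.Hom.comp_apply, ← hfac, Scheme.Hom.comp_apply]

end Groth.Agent.Lib.Helper48
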