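import Mathlib

universe u

namespace Groth.Agent.Lib.Helper48

open AlgebraicGeometry CategoryTheory Limits

theorem ker_eq_vanishingIdeal_of_isReduced {Z X : Scheme.{u}} (h : Z ⟶ X) [IsReduced Z] :
    h.ker = Scheme.IdealSheafData.vanishingIdeal (.closure (Set.range h)) := by
  rw [← Scheme.IdealSheafData.map_bot, ← Scheme.nilradical_eq_bot (X := Z),
    ← Scheme.IdealSheafData.vanishingIdeal_top, Scheme.IdealSheafData.map_vanishingIdeal]
  congr 2
  simp

theorem isReduced_subscheme_of_isRadical {X : Scheme.{u}} (I : X.IdealSheafData)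
    (hI : ∀ U : X.affineOpens, (I.ideal U).IsRadical) : IsReduced I.subscheme := by
  haveI : ∀ U, IsReduced (I.subschemeCover.openCover.X U) := by
    intro (U : X.affineOpens)
    change IsReduced (Spec (.of (Γ(X, U.1) ⧸ I.ideal U)))
    haveI : _root_.IsReduced (Γ(X, U.1) ⧸ I.ideal U) :=
      (Ideal.isRadical_iff_quotient_reduced _).mp (hI U)
    infer_instance
  exact IsReduced.of_openCover _ I.subschemeCover.openCover

theorem isReduced_image_of_isReduced {Z X : Scheme.{u}} (h : Z ⟶ X) [IsReduced Z] :
    IsReduced h.image := by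
  refine isReduced_subscheme_of_isRadical _ fun U => ?_
  rw [ker_eq_vanishingIdeal_of_isReduced, Scheme.IdealSheafData.vanishingIdeal_ideal]
  exact PrimeSpectrum.isRadical_vanishingIdeal _

theorem range_imageι_of_isReduced {Z X : Scheme.{u}} (h : Z ⟶ X) [IsReduced Z] :
    Set.range h.imageι = closure (Set.range h) := by
  rw [Scheme.Hom.imageι, Scheme.IdealSheafData.range_subschemeι,
    ker_eq_vanishingIdeal_of_isReduced, Scheme.IdealSheafData.coe_support_vanishingIdeal]
  rfl

theorem range_toImage {Z X : Scheme.{u}} (h : Z ⟶ X) :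
    Set.range h.toImage = h.imageι ⁻¹' (Set.range h) := by
  ext x
  constructor
  · rintro ⟨z, rfl⟩
    exact ⟨z, by rw [← Scheme.Hom.comp_apply, Scheme.Hom.toImage_imageι]⟩
  · rintro ⟨z, hz⟩
    refine ⟨z, h.imageι.isClosedEmbedding.injective ?_⟩
    rw [← Scheme.Hom.comp_apply, Scheme.Hom.toImage_imageι, hz]

theorem isOpen_range_toImage_of_isReduced {Z X : Scheme.{u}} (h : Z ⟶ X) [IsImmersion h]
    [IsReduced Z] : IsOpen (Set.range h.toImage) := by
  obtain ⟨U, C, hU, hC, heq⟩ := h.isLocallyClosed_range
  have : Set.range h.toImage = h.imageι ⁻¹' U := by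
    rw [range_toImage]
    ext x
    simp only [Set.mem_preimage]
    constructor
    · intro hx
      rw [heq] at hx
      exact hx.1
    · intro hx
      rw [heq]
      refine ⟨hx, ?_⟩
      have h1 : h.imageι x ∈ closure (Set.range h) := by
        rw [← range_imageι_of_isReduced]; exact ⟨x, rfl⟩
      exact closure_minimal (heq ▸ Set.inter_subset_right) hC h1
  rw [this]
  exact hU.preimage h.imageι.continuous

theorem isOpenImmersion_toImage_of_isReduced {Z X : Scheme.{u}} (h : Z ⟶ X) [IsImmersion h]
    [IsReduced Z] : IsOpenImmersion h.toImage := by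
  haveI := isReduced_image_of_isReduced h
  let W : h.image.Opens := ⟨Set.range h.toImage, isOpen_range_toImage_of_isReduced h⟩
  have hsub : Set.range h.toImage ⊆ Set.range W.ι := by
    rw [Scheme.Opens.range_ι]; exact subset_rfl
  let j' : Z ⟶ W := IsOpenImmersion.lift W.ι h.toImage hsub
  have hj' : j' ≫ W.ι = h.toImage := IsOpenImmersion.lift_fac _ _ _
  haveI : IsImmersion (j' ≫ W.ι) := by rw [hj']; infer_instance
  haveI : IsImmersion j' := IsImmersion.of_comp j' W.ι
  have hsurj : Function.Surjective j' := by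
    rintro ⟨x, z, rfl⟩
    refine ⟨z, ?_⟩
    apply W.ι.isOpenEmbedding.injective
    rw [← Scheme.Hom.comp_apply, hj']
    rfl
  haveI : Surjective j' := ⟨hsurj⟩
  haveI : IsClosedImmersion j' :=
    IsClosedImmersion.of_isPreimmersion j' (by rw [hsurj.range_eq]; exact isClosed_univ)
  haveI : IsIso j' := isIso_of_isClosedImmersion_of_surjective j'
  rw [← hj']
  infer_instance

end Groth.Agent.Lib.Helper48
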