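import Mathlib
import Groth.Agent.Lib.Helper48.SchemeImage2

universe u

namespace Groth.Agent.Lib.Helper48

open AlgebraicGeometry CategoryTheory Limits

theorem denseRange_toImage_of_isReduced {Z X : Scheme.{u}} (h : Z ⟶ X) [IsReduced Z] :
    DenseRange h.toImage := by
  rw [denseRange_iff_closure_range, h.imageι.isEmbedding.closure_eq_preimage_closure_image,
    ← Set.range_comp]
  have : (h.imageι : h.image → X) ∘ (h.toImage : Z → h.image) = (h : Z → X) := by
    ext z
    simp only [Function.comp_apply]
    rw [← Scheme.Hom.comp_apply, Scheme.Hom.toImage_imageι]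
  rw [this, ← range_imageι_of_isReduced, Set.preimage_range]

/-- A dense open of a reduced scheme meets every open in a schematically dense open. -/
theorem isSchemeTheoreticallyDominant_homOfLE_of_dense {Y : Scheme.{u}} [IsReduced Y]
    (R W : Y.Opens) (hR : Dense (R : Set Y)) :
    IsSchemeTheoreticallyDominant (Y.homOfLE (inf_le_right : R ⊓ W ≤ W)) := by
  haveI : IsDominant (Y.homOfLE (inf_le_right : R ⊓ W ≤ W)) := by
    refine ⟨?_⟩
    have hrange : Set.range (Y.homOfLE (inf_le_right : R ⊓ W ≤ W)) = W.ι ⁻¹' (R : Set Y) := by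
      ext x
      constructor
      · rintro ⟨y, rfl⟩
        have e1 : W.ι (Y.homOfLE (inf_le_right : R ⊓ W ≤ W) y) = (R ⊓ W).ι y := by
          rw [← Scheme.homOfLE_ι Y (inf_le_right : R ⊓ W ≤ W)]
          rfl
        change W.ι (Y.homOfLE _ y) ∈ R
        rw [e1]
        exact y.2.1
      · intro hx
        refine ⟨⟨W.ι x, ⟨hx, x.2⟩⟩, ?_⟩
        apply W.ι.isOpenEmbedding.injective
        have e1 : W.ι (Y.homOfLE (inf_le_right : R ⊓ W ≤ W) ⟨W.ι x, ⟨hx, x.2⟩⟩) =
            (R ⊓ W).ι ⟨W.ι x, ⟨hx, x.2⟩⟩ := by
          rw [← Scheme.homOfLE_ι Y (inf_le_right : R ⊓ W ≤ W)]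
          rfl
        rw [e1]
        rfl
    rw [DenseRange, hrange, dense_iff_closure_eq,
      ← W.ι.isOpenEmbedding.isOpenMap.preimage_closure_eq_closure_preimage W.ι.continuous,
      hR.closure_eq, Set.preimage_univ]
  exact IsSchemeTheoreticallyDominant.of_isDominant _

theorem isSchemeTheoreticallyDominant_toImage {Z X : Scheme.{u}} (h : Z ⟶ X) [QuasiCompact h] :
    IsSchemeTheoreticallyDominant h.toImage := by
  refine ⟨?_⟩
  refine Scheme.IdealSheafData.ext_of_iSup_eq_top
    (fun U : X.affineOpens =>
      (⟨h.imageι ⁻¹ᵁ U.1, U.2.preimage h.imageι⟩ : h.image.affineOpens)) ?_ ?_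
  · have := iSup_affineOpens_eq_top X
    have h2 := congrArg (fun W => h.imageι ⁻¹ᵁ W) this
    simp only [Scheme.Hom.preimage_iSup, Scheme.Hom.preimage_top] at h2
    exact h2
  · intro U
    rw [Scheme.Hom.ker_apply]
    simp only [Scheme.IdealSheafData.ideal_bot, Pi.bot_apply]
    exact (RingHom.injective_iff_ker_eq_bot _).mp (h.toImage_app_injective U)

/-- Open dense subschemes, quasi-compact case. -/
theorem toImage_dominant_of_quasiCompact {Z X : Scheme.{u}} (h : Z ⟶ X) [IsImmersion h]
    [QuasiCompact h] (W : h.image.Opens) :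
    IsSchemeTheoreticallyDominant
      (h.image.homOfLE (inf_le_right : h.toImage.opensRange ⊓ W ≤ W)) := by
  haveI := isSchemeTheoreticallyDominant_toImage h
  have hι : h.toImage.opensRange.ι = h.toImage.isoOpensRange.inv ≫ h.toImage := by
    simp
  haveI : IsSchemeTheoreticallyDominant h.toImage.opensRange.ι := by
    rw [hι]; infer_instance
  haveI : QuasiCompact h.toImage.opensRange.ι := by
    rw [hι]; infer_instance
  exact IsSchemeTheoreticallyDominant.of_isPullback (isPullback_opens_inf h.toImage.opensRange W)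

/-- The scheme-theoretic image of an immersion which is quasi-compact or has reduced source. -/
theorem image_immersion {Z X : Scheme.{u}} (h : Z ⟶ X) [IsImmersion h]
    (hyp : QuasiCompact h ∨ IsReduced Z) :
    ∃ hI : IsOpenImmersion h.toImage,
      (∀ W : h.image.Opens, IsSchemeTheoreticallyDominant
          (h.image.homOfLE (inf_le_right : @Scheme.Hom.opensRange _ _ h.toImage hI ⊓ W ≤ W))) ∧
        DenseRange h.toImage.base := by
  rcases hyp with hq | hr
  · exact ⟨inferInstance, fun W => toImage_dominant_of_quasiCompact h W,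
      h.toImage.denseRange⟩
  · haveI := isReduced_image_of_isReduced h
    haveI hI := isOpenImmersion_toImage_of_isReduced h
    refine ⟨hI, fun W => ?_, denseRange_toImage_of_isReduced h⟩
    refine isSchemeTheoreticallyDominant_homOfLE_of_dense _ W ?_
    have := denseRange_toImage_of_isReduced h
    rw [DenseRange] at this
    simpa using this

end Groth.Agent.Lib.Helper48
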