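import Mathlib
import Groth.Prelude
import Groth.Agent.Lib.Helper48.NagataFormalFibres
import Groth.Agent.Lib.Helper48.NagataDedekind
import Groth.Agent.Lib.Helper48.CompleteLocalNagata

/-!
# One-dimensional local domains: N-2 ⇔ analytically unramified with separable generic formal fibre
(EGA IV 7.6.6-type)
-/

universe u
open TensorProduct IsLocalRing

namespace Groth.Agent.Lib.Helper48

/-- In a reduced ring, every element of a minimal prime `q` is killed by some element outside `q`. -/
theorem exists_notMem_mul_eq_zero_of_mem_minimalPrimes {R : Type*} [CommRing R] [IsReduced R]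
    {q : Ideal R} (hq : q ∈ minimalPrimes R) {x : R} (hx : x ∈ q) : ∃ s ∉ q, s * x = 0 := by
  haveI : q.IsPrime := hq.1.1
  have h1 := IsLocalization.AtPrime.radical_map_of_mem_minimalPrimes (Localization.AtPrime q) q ⊥ hq
  have h2 : algebraMap R (Localization.AtPrime q) x ∈
      ((⊥ : Ideal R).map (algebraMap R (Localization.AtPrime q))).radical := by
    rw [h1]; exact Ideal.mem_map_of_mem _ hx
  rw [Ideal.map_bot] at h2
  obtain ⟨n, hn⟩ := h2
  rw [Ideal.mem_bot, ← map_pow, IsLocalization.map_eq_zero_iff q.primeCompl] at hn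
  obtain ⟨t, ht⟩ := hn
  refine ⟨t, t.2, ?_⟩
  have : IsNilpotent ((t : R) * x) := by
    refine ⟨n + 1, ?_⟩
    rw [mul_pow, pow_succ, pow_succ]
    calc (t : R) ^ n * t * (x ^ n * x) = (t : R) ^ n * x * (t * x ^ n) := by ring
      _ = 0 := by rw [ht, mul_zero]
  exact this.eq_zero

/-- For a minimal prime `q` of a reduced ring `R`, the fraction field of `R ⧸ q` is the localization
of `R` at `q`. -/
theorem isLocalization_atPrime_fractionRing_quotient {R : Type*} [CommRing R] [IsReduced R]
    (q : Ideal R) [q.IsPrime] (hq : q ∈ minimalPrimes R) :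
    IsLocalization.AtPrime (FractionRing (R ⧸ q)) q := by
  have hmap : ∀ r : R, algebraMap R (FractionRing (R ⧸ q)) r =
      algebraMap (R ⧸ q) (FractionRing (R ⧸ q)) (Ideal.Quotient.mk q r) := fun r => by
    rw [IsScalarTower.algebraMap_apply R (R ⧸ q) (FractionRing (R ⧸ q))]
    rfl
  have hz : ∀ r : R, algebraMap R (FractionRing (R ⧸ q)) r = 0 ↔ r ∈ q := fun r => by
    rw [hmap, IsFractionRing.to_map_eq_zero_iff, Ideal.Quotient.eq_zero_iff_mem]
  refine (isLocalization_iff _ _).mpr ⟨?_, ?_, ?_⟩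
  · rintro ⟨s, hs⟩
    exact IsUnit.mk0 _ (fun h => hs ((hz s).mp h))
  · intro z
    obtain ⟨a, b, hb, rfl⟩ := IsFractionRing.div_surjective (A := R ⧸ q) z
    obtain ⟨a, rfl⟩ := Ideal.Quotient.mk_surjective a
    obtain ⟨b, rfl⟩ := Ideal.Quotient.mk_surjective b
    have hbq : b ∉ q := fun h => nonZeroDivisors.ne_zero hb (Ideal.Quotient.eq_zero_iff_mem.mpr h)
    refine ⟨⟨a, ⟨b, hbq⟩⟩, ?_⟩
    show _ * algebraMap R _ b = algebraMap R _ a
    rw [hmap, hmap]
    have : algebraMap (R ⧸ q) (FractionRing (R ⧸ q)) (Ideal.Quotient.mk q b) ≠ 0 := by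
      rw [Ne, IsFractionRing.to_map_eq_zero_iff]; exact nonZeroDivisors.ne_zero hb
    field_simp
  · intro a b hab
    have h1 : a - b ∈ q := by
      rw [← hz, map_sub, hab, sub_self]
    obtain ⟨s, hs, hsx⟩ := exists_notMem_mul_eq_zero_of_mem_minimalPrimes hq h1
    exact ⟨⟨s, hs⟩, by
      show s * a = s * b
      rw [← sub_eq_zero, ← mul_sub, hsx]⟩

/-- If `D ⊗[A] B` is reduced and `K` is a localization of `D`, then `K ⊗[A] B` is reduced. -/
theorem isReduced_tensor_of_isLocalization {A D K B : Type u} [CommRing A] [CommRing D]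
    [CommRing K] [CommRing B] [Algebra A D] [Algebra D K] (M : Submonoid D) [IsLocalization M K]
    [Algebra A K] [IsScalarTower A D K] [Algebra A B] [IsReduced (D ⊗[A] B)] :
    IsReduced (K ⊗[A] B) := by
  haveI : IsReduced ((D ⊗[A] B) ⊗[D] K) :=
    isReduced_localizationPreserves (Algebra.algebraMapSubmonoid (D ⊗[A] B) M)
      ((D ⊗[A] B) ⊗[D] K) inferInstance
  let f : K ⊗[A] B →+* (D ⊗[A] B) ⊗[D] K :=
    ((Algebra.TensorProduct.comm D K (D ⊗[A] B)).toRingEquiv.toRingHom).comp
      ((Algebra.TensorProduct.cancelBaseChange A D D K B).symm.toRingEquiv.toRingHom)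
  refine isReduced_of_injective f ?_
  exact (Algebra.TensorProduct.comm D K (D ⊗[A] B)).injective.comp
    (Algebra.TensorProduct.cancelBaseChange A D D K B).symm.injective

/-- If `a` dies in `Ω` and is invertible in `L`, then `Ω ⊗[A] L` is trivial. -/
theorem subsingleton_tensor_of_map_eq_zero_of_isUnit {A Ω L : Type*} [CommRing A] [CommRing Ω]
    [CommRing L] [Algebra A Ω] [Algebra A L] (a : A) (h0 : algebraMap A Ω a = 0)
    (hu : IsUnit (algebraMap A L a)) : Subsingleton (Ω ⊗[A] L) := by
  obtain ⟨v, hv⟩ := hu.exists_right_inv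
  have h1 : (1 : Ω ⊗[A] L) = 0 := by
    rw [Algebra.TensorProduct.one_def, ← hv, ← Algebra.smul_def, ← TensorProduct.smul_tmul,
      Algebra.smul_def, h0, zero_mul, TensorProduct.zero_tmul]
  exact subsingleton_of_zero_eq_one h1.symm

/-- A one-dimensional local N-2 domain is Nagata. -/
theorem isNagata_of_isN2_of_ringKrullDim_eq_one (A : Type u) [CommRing A] [IsDomain A]
    [IsNoetherianRing A] (hdim : ringKrullDim A ≤ 1) (hN2 : CAlg.IsN2 A) : CAlg.IsNagata A := by
  haveI : Ring.KrullDimLE 1 A := (Ring.krullDimLE_iff).mpr hdim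
  refine ⟨inferInstance, fun p hp => ?_⟩
  by_cases hp0 : p = ⊥
  · subst hp0
    exact isN2_of_ringEquiv (RingEquiv.quotientBot A).symm hN2
  · haveI : p.IsMaximal := hp.isMaximal_of_ne_bot hp0
    exact isN2_of_isField ((Ideal.Quotient.maximal_ideal_iff_isField_quotient p).mp inferInstance)

/-- In a flat algebra over a domain, nonzero elements of the base avoid the minimal primes. -/
theorem algebraMap_notMem_of_mem_minimalPrimes {A B : Type*} [CommRing A] [IsDomain A]
    [CommRing B] [Algebra A B] [Module.Flat A B] {q : Ideal B} (hq : q ∈ minimalPrimes B)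
    {a : A} (ha : a ≠ 0) : algebraMap A B a ∉ q := by
  intro hmem
  have h1 : IsSMulRegular A a := (IsRegular.of_ne_zero ha).left.isSMulRegular
  have h2 : IsSMulRegular B (algebraMap A B a) := h1.of_flat
  have h3 : algebraMap A B a ∈ nonZeroDivisors B := by
    rw [mem_nonZeroDivisors_iff_right]
    intro x hx
    exact h2 (by simpa [mul_comm] using hx)
  exact Set.disjoint_left.mp (Ideal.disjoint_nonZeroDivisors_of_mem_minimalPrimes hq) hmem h3

theorem dim_one_forward (A : Type u) [CommRing A] [IsDomain A] [IsNoetherianRing A] [IsLocalRing A]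
    (hdim : ringKrullDim A = 1) (hN2 : CAlg.IsN2 A) :
    IsReduced (EGA4.Cpl A) ∧ ∀ (q : Ideal (EGA4.Cpl A)) [q.IsPrime],
      q ∈ minimalPrimes (EGA4.Cpl A) →
        Algebra.IsGeometricallyReduced A (FractionRing (EGA4.Cpl A ⧸ q)) := by
  have hNag : CAlg.IsNagata A := isNagata_of_isN2_of_ringKrullDim_eq_one A hdim.le hN2
  have hred : IsReduced (EGA4.Cpl A) := isReduced_adicCompletion_of_isNagata_local_domain A hNag
  refine ⟨hred, fun q _ hq => ?_⟩
  haveI := hred
  refine ⟨fun p _ => ?_⟩
  by_cases hp0 : p = ⊥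
  · subst hp0
    haveI hff : Algebra.IsGeometricallyReduced (⊥ : Ideal A).ResidueField
        ((⊥ : Ideal A).ResidueField ⊗[A] EGA4.Cpl A) :=
      hasGeomReducedFormalFibres_of_isNagata A hNag ⊥
    haveI h1 : IsReduced (AlgebraicClosure (⊥ : Ideal A).ResidueField ⊗[(⊥ : Ideal A).ResidueField]
        ((⊥ : Ideal A).ResidueField ⊗[A] EGA4.Cpl A)) := inferInstance
    haveI h2 : IsReduced (AlgebraicClosure (⊥ : Ideal A).ResidueField ⊗[A] EGA4.Cpl A) :=
      isReduced_of_injective
        (Algebra.TensorProduct.cancelBaseChange A (⊥ : Ideal A).ResidueField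
          (⊥ : Ideal A).ResidueField (AlgebraicClosure (⊥ : Ideal A).ResidueField)
          (EGA4.Cpl A)).symm (AlgEquiv.injective _)
    haveI h3 : IsReduced (EGA4.Cpl A ⊗[A] AlgebraicClosure (⊥ : Ideal A).ResidueField) :=
      isReduced_of_injective (Algebra.TensorProduct.comm A (EGA4.Cpl A)
        (AlgebraicClosure (⊥ : Ideal A).ResidueField)) (AlgEquiv.injective _)
    haveI := isLocalization_atPrime_fractionRing_quotient q hq
    haveI h4 : IsReduced (FractionRing (EGA4.Cpl A ⧸ q) ⊗[A]
        AlgebraicClosure (⊥ : Ideal A).ResidueField) :=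
      isReduced_tensor_of_isLocalization (D := EGA4.Cpl A) q.primeCompl
    exact isReduced_of_injective (Algebra.TensorProduct.comm A
      (AlgebraicClosure (⊥ : Ideal A).ResidueField) (FractionRing (EGA4.Cpl A ⧸ q)))
      (AlgEquiv.injective _)
  · obtain ⟨a, hap, ha0⟩ : ∃ a ∈ p, a ≠ 0 := Submodule.exists_mem_ne_zero_of_ne_bot hp0
    have h0 : algebraMap A (AlgebraicClosure p.ResidueField) a = 0 := by
      rw [IsScalarTower.algebraMap_apply A p.ResidueField (AlgebraicClosure p.ResidueField),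
        Ideal.algebraMap_residueField_eq_zero.mpr hap, map_zero]
    have hu : IsUnit (algebraMap A (FractionRing (EGA4.Cpl A ⧸ q)) a) := by
      refine IsUnit.mk0 _ ?_
      rw [IsScalarTower.algebraMap_apply A (EGA4.Cpl A ⧸ q) (FractionRing (EGA4.Cpl A ⧸ q)),
        Ne, IsFractionRing.to_map_eq_zero_iff,
        IsScalarTower.algebraMap_apply A (EGA4.Cpl A) (EGA4.Cpl A ⧸ q),
        Ideal.Quotient.algebraMap_eq, Ideal.Quotient.eq_zero_iff_mem]
      exact algebraMap_notMem_of_mem_minimalPrimes hq ha0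
    haveI := subsingleton_tensor_of_map_eq_zero_of_isUnit
      (Ω := AlgebraicClosure p.ResidueField) (L := FractionRing (EGA4.Cpl A ⧸ q)) a h0 hu
    infer_instance

/-- The algebraic closure of the generic residue field of a domain is flat over it. -/
theorem flat_algebraicClosure_residueField_bot (A : Type*) [CommRing A] [IsDomain A] :
    Module.Flat A (AlgebraicClosure (⊥ : Ideal A).ResidueField) := by
  haveI : Module.Flat A (A ⧸ (⊥ : Ideal A)) :=
    Module.Flat.of_linearEquiv (Submodule.quotEquivOfEqBot (⊥ : Ideal A) rfl)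
  haveI : Module.Flat (A ⧸ (⊥ : Ideal A)) (⊥ : Ideal A).ResidueField :=
    IsLocalization.flat _ (nonZeroDivisors (A ⧸ (⊥ : Ideal A)))
  haveI : Module.Flat A (⊥ : Ideal A).ResidueField :=
    Module.Flat.trans A (A ⧸ (⊥ : Ideal A)) _
  haveI : Module.Free (⊥ : Ideal A).ResidueField (AlgebraicClosure (⊥ : Ideal A).ResidueField) :=
    Module.Free.of_divisionRing _ _
  haveI : Module.Flat (⊥ : Ideal A).ResidueField (AlgebraicClosure (⊥ : Ideal A).ResidueField) :=
    Module.Flat.of_free
  exact Module.Flat.trans A (⊥ : Ideal A).ResidueField _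

/-- If `B` is a reduced Noetherian `A`-algebra, `Ω` a flat `A`-algebra, and `Ω ⊗[A] Frac(B/q)` is
reduced for every minimal prime `q` of `B`, then `Ω ⊗[A] B` is reduced. -/
theorem isReduced_tensor_of_forall_minimalPrimes {A Ω B : Type*} [CommRing A] [CommRing Ω]
    [CommRing B] [Algebra A Ω] [Algebra A B] [Module.Flat A Ω] [IsNoetherianRing B] [IsReduced B]
    (h : ∀ (q : Ideal B) [q.IsPrime], q ∈ minimalPrimes B →
      IsReduced (Ω ⊗[A] FractionRing (B ⧸ q))) : IsReduced (Ω ⊗[A] B) := by
  classical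
  let ι := {q : Ideal B // q ∈ minimalPrimes B}
  haveI : Finite ι := (minimalPrimes.finite_of_isNoetherianRing B).to_subtype
  haveI := Fintype.ofFinite ι
  haveI hprime : ∀ q : ι, q.1.IsPrime := fun q => q.2.1.1
  let φ : ∀ q : ι, B →ₐ[A] FractionRing (B ⧸ q.1) := fun q =>
    IsScalarTower.toAlgHom A B (FractionRing (B ⧸ q.1))
  have hφ : ∀ (q : ι) (x : B), φ q x = 0 ↔ x ∈ q.1 := fun q x => by
    show algebraMap B (FractionRing (B ⧸ q.1)) x = 0 ↔ _
    rw [IsScalarTower.algebraMap_apply B (B ⧸ q.1) (FractionRing (B ⧸ q.1)),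
      IsFractionRing.to_map_eq_zero_iff, Ideal.Quotient.algebraMap_eq,
      Ideal.Quotient.eq_zero_iff_mem]
  let g : B →ₗ[A] (∀ q : ι, FractionRing (B ⧸ q.1)) :=
    LinearMap.pi (fun q => (φ q).toLinearMap)
  have hg : Function.Injective g := by
    rw [← LinearMap.ker_eq_bot, LinearMap.ker_eq_bot']
    intro x hx
    have h1 : ∀ q ∈ minimalPrimes B, x ∈ q := fun q hq =>
      (hφ ⟨q, hq⟩ x).mp (congrFun hx ⟨q, hq⟩)
    have h2 : x ∈ sInf (minimalPrimes B) := by
      rw [Ideal.mem_sInf]; exact fun {q} hq => h1 q hq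
    rw [minimalPrimes, Ideal.sInf_minimalPrimes] at h2
    obtain ⟨n, hn⟩ := h2
    exact (show IsNilpotent x from ⟨n, hn⟩).eq_zero
  refine ⟨fun ξ hξ => ?_⟩
  have h1 : ∀ q : ι, Algebra.TensorProduct.map (AlgHom.id A Ω) (φ q) ξ = 0 := fun q => by
    haveI := h q.1 q.2
    exact (hξ.map _).eq_zero
  have hcomp : ∀ (q : ι) (η : Ω ⊗[A] B),
      TensorProduct.piRight A A Ω (fun q : ι => FractionRing (B ⧸ q.1)) (g.lTensor Ω η) q =
        Algebra.TensorProduct.map (AlgHom.id A Ω) (φ q) η := by
    intro q η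
    induction η using TensorProduct.induction_on with
    | zero => simp
    | tmul ω x =>
      rw [LinearMap.lTensor_tmul, TensorProduct.piRight_apply, TensorProduct.piRightHom_tmul]
      rfl
    | add η η' hη hη' =>
      rw [map_add, map_add, Pi.add_apply, hη, hη', map_add]
  have h2 : g.lTensor Ω ξ = 0 := by
    apply (TensorProduct.piRight A A Ω (fun q : ι => FractionRing (B ⧸ q.1))).injective
    rw [map_zero]
    funext q
    rw [hcomp, h1]
    rfl
  exact (Module.Flat.lTensor_preserves_injective_linearMap g hg) (h2.trans (map_zero _).symm)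

theorem dim_one_backward (A : Type u) [CommRing A] [IsDomain A] [IsNoetherianRing A]
    [IsLocalRing A] (hred : IsReduced (EGA4.Cpl A))
    (h : ∀ (q : Ideal (EGA4.Cpl A)) [q.IsPrime], q ∈ minimalPrimes (EGA4.Cpl A) →
      Algebra.IsGeometricallyReduced A (FractionRing (EGA4.Cpl A ⧸ q))) : CAlg.IsN2 A := by
  haveI := hred
  haveI : IsNoetherianRing (EGA4.Cpl A) := Groth.Agent.S0543.result A (maximalIdeal A)
  haveI : Module.FaithfullyFlat A (EGA4.Cpl A) := Module.FaithfullyFlat.of_flat_of_isLocalHom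
  have hNagC : CAlg.IsNagata (EGA4.Cpl A) := isNagata_of_complete_local _
  haveI := flat_algebraicClosure_residueField_bot A
  haveI key : IsReduced (AlgebraicClosure (⊥ : Ideal A).ResidueField ⊗[A] EGA4.Cpl A) :=
    isReduced_tensor_of_forall_minimalPrimes (fun q _ hq => by
      haveI := h q hq
      infer_instance)
  have hgr : Algebra.IsGeometricallyReduced (⊥ : Ideal A).ResidueField
      ((⊥ : Ideal A).Fiber (EGA4.Cpl A)) := by
    rw [Algebra.isGeometricallyReduced_field_iff]
    exact isReduced_of_injective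
      (Algebra.TensorProduct.cancelBaseChange A (⊥ : Ideal A).ResidueField
        (⊥ : Ideal A).ResidueField (AlgebraicClosure (⊥ : Ideal A).ResidueField)
        (EGA4.Cpl A)) (AlgEquiv.injective _)
  have := isN2_quotient_of_isGeometricallyReduced_fiber hNagC (⊥ : Ideal A) hgr
  exact isN2_of_ringEquiv (RingEquiv.quotientBot A) this

end Groth.Agent.Lib.Helper48
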