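import Mathlib
import Groth.Prelude
import Groth.Agent.Lib.Helper48.DimOneJapanese
import Groth.Agent.Lib.Helper48.NagataCriterion

/-!
# EGA 0_IV 23.2: stabilization of `(C ⊗[A] B)_red` over finite subalgebras `C ⊆ K'`

`A` a domain, `B` a Noetherian flat `A`-algebra whose quotients by minimal primes are N-2, `K'` a
finite extension of `Frac A`.  The reduced rings `(C ⊗[A] B)_red`, `C` running over the finite
sub-`A`-algebras of `K'` with fraction field `K'`, embed into the integral closure of `B` in
`(B ⊗[A] K')_red`, which is a finite `B`-module; hence they stabilize.  If `B` is faithfully flat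
this forces `Spec A' → Spec Cα` to be radicial (`A'` the integral closure of `A` in `K'`).
-/

universe u
open TensorProduct IsLocalRing AlgebraicGeometry CategoryTheory

namespace Groth.Agent.Lib.Helper48


/-- Instance-based variant of `finite_integralClosure_of_jointly_injective'`. -/
theorem finite_integralClosure_of_jointly_injective_algHom {A R : Type u} [CommRing A] [CommRing R]
    [IsNoetherianRing A] [Algebra A R] {ι : Type*} [Finite ι] (Bj : ι → Type u)
    [∀ j, CommRing (Bj j)] [∀ j, Algebra A (Bj j)] (ρ : ∀ j, R →ₐ[A] Bj j)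
    (hfin : ∀ j, Module.Finite A (integralClosure A (Bj j)))
    (hinj : ∀ x : R, (∀ j, ρ j x = 0) → x = 0) :
    Module.Finite A (integralClosure A R) := by
  classical
  haveI := Fintype.ofFinite ι
  haveI : IsNoetherian A (∀ j, integralClosure A (Bj j)) :=
    isNoetherian_of_isNoetherianRing_of_finite A _
  let f : integralClosure A R →ₗ[A] ∀ j, integralClosure A (Bj j) :=
    { toFun := fun x j => ⟨ρ j x.1, x.2.map (ρ j)⟩
      map_add' := fun x y => by
        funext j; apply Subtype.ext
        exact map_add (ρ j) _ _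
      map_smul' := fun a x => by
        funext j; apply Subtype.ext
        exact map_smul (ρ j) _ _ }
  refine Module.Finite.of_injective f (fun x y hxy => Subtype.ext ?_)
  rw [← sub_eq_zero]
  refine hinj _ (fun j => ?_)
  have := congrArg (fun g : ∀ j, integralClosure A (Bj j) =>
    ((g j : integralClosure A (Bj j)) : Bj j)) hxy
  rw [map_sub, sub_eq_zero]
  exact this

/-- The integral closure of `B` in a field finite over `Frac(B/q)` is finite over `B` if `B/q` is
N-2. -/
theorem finite_integralClosure_of_isN2_quotient {B : Type u} [CommRing B] [IsNoetherianRing B]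
    (q : Ideal B) [q.IsPrime] (hq : CAlg.IsN2 (B ⧸ q)) (L : Type u) [Field L] [Algebra B L]
    [Algebra (B ⧸ q) L] [IsScalarTower B (B ⧸ q) L] [Algebra (FractionRing (B ⧸ q)) L]
    [IsScalarTower (B ⧸ q) (FractionRing (B ⧸ q)) L] [FiniteDimensional (FractionRing (B ⧸ q)) L] :
    Module.Finite B (integralClosure B L) := by
  haveI h1 : Module.Finite (B ⧸ q) (integralClosure (B ⧸ q) L) := hq L inferInstance
  haveI h2 : Module.Finite B (integralClosure (B ⧸ q) L) := Module.Finite.trans (B ⧸ q) _
  haveI : IsNoetherian B (integralClosure (B ⧸ q) L) :=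
    isNoetherian_of_isNoetherianRing_of_finite B _
  let f : integralClosure B L →ₗ[B] integralClosure (B ⧸ q) L :=
    { toFun := fun x => ⟨x.1, x.2.tower_top⟩
      map_add' := fun _ _ => rfl
      map_smul' := fun b x => by
        apply Subtype.ext
        show b • (x : L) = b • (x : L)
        rfl }
  exact Module.Finite.of_injective f (fun x y hxy => Subtype.ext
    (congrArg (fun z : integralClosure (B ⧸ q) L => (z : L)) hxy))



/-- For a flat algebra `B` over a domain `A` and a minimal prime `q` of `B`, the map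
`A → Frac(B/q)` is injective. -/
theorem injective_algebraMap_fractionRing_quotient_of_flat {A B : Type*} [CommRing A] [IsDomain A]
    [CommRing B] [Algebra A B] [Module.Flat A B] (q : Ideal B) [q.IsPrime]
    (hq : q ∈ minimalPrimes B) : Function.Injective (algebraMap A (FractionRing (B ⧸ q))) := by
  rw [injective_iff_map_eq_zero]
  intro a ha
  by_contra ha0
  have h1 := algebraMap_notMem_of_mem_minimalPrimes hq ha0
  apply h1
  rw [IsScalarTower.algebraMap_apply A (B ⧸ q) (FractionRing (B ⧸ q)),
    IsFractionRing.to_map_eq_zero_iff, IsScalarTower.algebraMap_apply A B (B ⧸ q),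
    Ideal.Quotient.algebraMap_eq, Ideal.Quotient.eq_zero_iff_mem] at ha
  exact ha

/-- `Frac(B/q) ⊗[A] K'` is finite over `Frac(B/q)` for `K'` finite over `Frac A`. -/
theorem finite_tensor_fractionRing_quotient {A B K' : Type u} [CommRing A] [IsDomain A]
    [CommRing B] [Algebra A B] [Module.Flat A B] [Field K'] [Algebra A K']
    [Algebra (FractionRing A) K'] [IsScalarTower A (FractionRing A) K']
    [FiniteDimensional (FractionRing A) K'] (q : Ideal B) [q.IsPrime]
    (hq : q ∈ minimalPrimes B) :
    Module.Finite (FractionRing (B ⧸ q)) (FractionRing (B ⧸ q) ⊗[A] K') := by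
  have hinj := injective_algebraMap_fractionRing_quotient_of_flat (A := A) q hq
  letI : Algebra (FractionRing A) (FractionRing (B ⧸ q)) :=
    (IsFractionRing.lift (g := algebraMap A (FractionRing (B ⧸ q))) hinj).toAlgebra
  haveI : IsScalarTower A (FractionRing A) (FractionRing (B ⧸ q)) :=
    IsScalarTower.of_algebraMap_eq (fun x => (IsFractionRing.lift_algebraMap hinj x).symm)
  haveI : TensorProduct.CompatibleSMul A (FractionRing A) (FractionRing (B ⧸ q)) K' :=
    IsLocalization.tensorProduct_compatibleSMul (nonZeroDivisors A) (FractionRing A) _ _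
  let e : FractionRing (B ⧸ q) ⊗[FractionRing A] K' ≃ₗ[FractionRing (B ⧸ q)]
      FractionRing (B ⧸ q) ⊗[A] K' :=
    TensorProduct.equivOfCompatibleSMul A (FractionRing A) (FractionRing (B ⧸ q))
      (FractionRing (B ⧸ q)) K'
  exact Module.Finite.equiv e



/-- An element of `B ⊗[A] K'` (`K'` flat over `A`, `B` Noetherian) whose images in all
`Frac(B/q) ⊗[A] K'` (`q` minimal) vanish is nilpotent. -/
theorem isNilpotent_of_forall_map_fractionRing_quotient_eq_zero {A B K' : Type u} [CommRing A]
    [CommRing B] [Algebra A B] [IsNoetherianRing B] [CommRing K'] [Algebra A K'] [Module.Flat A K']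
    (s : B ⊗[A] K')
    (h : ∀ (q : Ideal B) [q.IsPrime], q ∈ minimalPrimes B →
      Algebra.TensorProduct.map (Algebra.ofId B (FractionRing (B ⧸ q))) (AlgHom.id A K') s = 0) :
    IsNilpotent s := by
  classical
  let ι := {q : Ideal B // q ∈ minimalPrimes B}
  haveI : Finite ι := (minimalPrimes.finite_of_isNoetherianRing B).to_subtype
  haveI := Fintype.ofFinite ι
  haveI hprime : ∀ q : ι, q.1.IsPrime := fun q => q.2.1.1
  -- the injective map `B/N → ∏ κ_q`
  let φ : ∀ q : ι, (B ⧸ nilradical B) →ₐ[A] FractionRing (B ⧸ q.1) := fun q =>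
    (IsScalarTower.toAlgHom A (B ⧸ q.1) (FractionRing (B ⧸ q.1))).comp
      (Ideal.Quotient.factorₐ A (show nilradical B ≤ q.1 from
        (nilradical_eq_sInf B).le.trans (sInf_le (show q.1.IsPrime from hprime q))))
  let g : (B ⧸ nilradical B) →ₗ[A] (∀ q : ι, FractionRing (B ⧸ q.1)) :=
    LinearMap.pi (fun q => (φ q).toLinearMap)
  have hg : Function.Injective g := by
    rw [← LinearMap.ker_eq_bot, LinearMap.ker_eq_bot']
    intro x hx
    obtain ⟨b, rfl⟩ := Ideal.Quotient.mk_surjective x
    rw [Ideal.Quotient.eq_zero_iff_mem]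
    have h1 : ∀ q ∈ minimalPrimes B, b ∈ q := fun q hq => by
      have h2 := congrFun hx ⟨q, hq⟩
      have h3 : algebraMap (B ⧸ q) (FractionRing (B ⧸ q)) (Ideal.Quotient.mk q b) = 0 := h2
      rwa [IsFractionRing.to_map_eq_zero_iff, Ideal.Quotient.eq_zero_iff_mem] at h3
    have h2 : b ∈ sInf (minimalPrimes B) := by
      rw [Ideal.mem_sInf]; exact fun {q} hq => h1 q hq
    rw [minimalPrimes, Ideal.sInf_minimalPrimes] at h2
    exact h2
  -- the quotient map on tensor products
  let π : B ⊗[A] K' →ₐ[A] (B ⧸ nilradical B) ⊗[A] K' :=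
    Algebra.TensorProduct.map (Ideal.Quotient.mkₐ A (nilradical B)) (AlgHom.id A K')
  have hcomp : ∀ (q : ι) (t : B ⊗[A] K'),
      TensorProduct.piLeft A K' (fun q : ι => FractionRing (B ⧸ q.1)) (g.rTensor K' (π t)) q =
        Algebra.TensorProduct.map (Algebra.ofId B (FractionRing (B ⧸ q.1))) (AlgHom.id A K') t := by
    intro q t
    induction t using TensorProduct.induction_on with
    | zero => rw [map_zero, map_zero, map_zero, map_zero]; rfl
    | tmul b x => rfl
    | add t t' ht ht' =>
      rw [map_add, map_add, map_add, Pi.add_apply, ht, ht', map_add]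
  have hπs : π s = 0 := by
    apply Module.Flat.rTensor_preserves_injective_linearMap g hg
    apply (TensorProduct.piLeft A K' (fun q : ι => FractionRing (B ⧸ q.1))).injective
    rw [map_zero, map_zero]
    funext q
    rw [hcomp, h q.1 q.2]
    rfl
  have hker : s ∈ (RingHom.ker (Ideal.Quotient.mkₐ A (nilradical B))).map
      (Algebra.TensorProduct.includeLeft : B →ₐ[A] B ⊗[A] K') := by
    rw [← Algebra.TensorProduct.rTensor_ker _ (Ideal.Quotient.mkₐ_surjective A (nilradical B))]
    exact hπs
  have hle : (RingHom.ker (Ideal.Quotient.mkₐ A (nilradical B))).map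
      (Algebra.TensorProduct.includeLeft : B →ₐ[A] B ⊗[A] K') ≤ nilradical (B ⊗[A] K') := by
    rw [Ideal.map_le_iff_le_comap]
    intro b hb
    have hb' : b ∈ nilradical B := by
      have : Ideal.Quotient.mk (nilradical B) b = 0 := hb
      exact Ideal.Quotient.eq_zero_iff_mem.mp this
    exact (show IsNilpotent b from hb').map
      (Algebra.TensorProduct.includeLeft : B →ₐ[A] B ⊗[A] K')
  exact hle hker


/-- A field finite over `Frac A` is flat over the domain `A`. -/
theorem flat_of_algebra_fractionRing {A K' : Type*} [CommRing A] [IsDomain A] [Field K']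
    [Algebra A K'] [Algebra (FractionRing A) K'] [IsScalarTower A (FractionRing A) K'] :
    Module.Flat A K' := by
  haveI : Module.Flat A (FractionRing A) := IsLocalization.flat _ (nonZeroDivisors A)
  haveI : Module.Free (FractionRing A) K' := Module.Free.of_divisionRing _ _
  haveI : Module.Flat (FractionRing A) K' := Module.Flat.of_free
  exact Module.Flat.trans A (FractionRing A) K'

set_option maxHeartbeats 1000000 in
set_option synthInstance.maxHeartbeats 200000 in
/-- **Key finiteness** (EGA 0_IV 23.2): the integral closure of `B` in `(B ⊗[A] K')_red` is a finite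
`B`-module, if `B` is Noetherian, flat over the domain `A`, with `B/q` N-2 for each minimal `q`. -/
theorem finite_integralClosure_tensor_red {A B K' : Type u} [CommRing A] [IsDomain A] [CommRing B]
    [Algebra A B] [IsNoetherianRing B] [Module.Flat A B]
    (hJ : ∀ (q : Ideal B) [q.IsPrime], q ∈ minimalPrimes B → CAlg.IsN2 (B ⧸ q))
    [Field K'] [Algebra A K'] [Algebra (FractionRing A) K'] [IsScalarTower A (FractionRing A) K']
    [FiniteDimensional (FractionRing A) K'] :
    Module.Finite B (integralClosure B ((B ⊗[A] K') ⧸ nilradical (B ⊗[A] K'))) := by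
  classical
  haveI : Module.Flat A K' := flat_of_algebra_fractionRing
  let ι := {q : Ideal B // q ∈ minimalPrimes B}
  haveI : Finite ι := (minimalPrimes.finite_of_isNoetherianRing B).to_subtype
  haveI hprime : ∀ q : ι, q.1.IsPrime := fun q => q.2.1.1
  haveI hfinF : ∀ q : ι, Module.Finite (FractionRing (B ⧸ q.1)) (FractionRing (B ⧸ q.1) ⊗[A] K') :=
    fun q => finite_tensor_fractionRing_quotient q.1 q.2
  haveI hart : ∀ q : ι, IsArtinianRing (FractionRing (B ⧸ q.1) ⊗[A] K') := fun q =>
    IsArtinianRing.of_finite (FractionRing (B ⧸ q.1)) _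
  let J := Σ q : ι, PrimeSpectrum (FractionRing (B ⧸ q.1) ⊗[A] K')
  haveI : Finite J := inferInstance
  haveI hmax : ∀ j : J, j.2.asIdeal.IsMaximal := fun j => inferInstance
  letI hfield : ∀ j : J, Field ((FractionRing (B ⧸ j.1.1) ⊗[A] K') ⧸ j.2.asIdeal) := fun j =>
    Ideal.Quotient.field _
  let g : ∀ q : ι, B ⊗[A] K' →ₐ[B] FractionRing (B ⧸ q.1) ⊗[A] K' := fun q =>
    Algebra.TensorProduct.map (Algebra.ofId B (FractionRing (B ⧸ q.1))) (AlgHom.id A K')
  have hρ : ∀ (j : J), ∀ t ∈ nilradical (B ⊗[A] K'),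
      ((Ideal.Quotient.mkₐ B j.2.asIdeal).comp (g j.1)) t = 0 := by
    intro j t ht
    exact ((show IsNilpotent t from ht).map ((Ideal.Quotient.mkₐ B j.2.asIdeal).comp (g j.1))).eq_zero
  let ρ : ∀ j : J, ((B ⊗[A] K') ⧸ nilradical (B ⊗[A] K')) →ₐ[B]
      (FractionRing (B ⧸ j.1.1) ⊗[A] K') ⧸ j.2.asIdeal := fun j =>
    Ideal.Quotient.liftₐ (nilradical (B ⊗[A] K'))
      ((Ideal.Quotient.mkₐ B j.2.asIdeal).comp (g j.1)) (hρ j)
  refine finite_integralClosure_of_jointly_injective_algHom
    (fun j : J => (FractionRing (B ⧸ j.1.1) ⊗[A] K') ⧸ j.2.asIdeal) ρ ?_ ?_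
  · intro j
    exact finite_integralClosure_of_isN2_quotient j.1.1 (hJ j.1.1 j.1.2) _
  · intro x hx
    obtain ⟨t, rfl⟩ := Ideal.Quotient.mk_surjective x
    rw [Ideal.Quotient.eq_zero_iff_mem]
    -- `g q t` is nilpotent for each `q`
    have h1 : ∀ q : ι, IsNilpotent (g q t) := by
      intro q
      rw [← mem_nilradical, nilradical_eq_sInf, Ideal.mem_sInf]
      intro P hP
      have h2 := hx ⟨q, ⟨P, hP⟩⟩
      have h3 : Ideal.Quotient.mk P (g q t) = 0 := h2
      exact Ideal.Quotient.eq_zero_iff_mem.mp h3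
    choose n hn using h1
    haveI := Fintype.ofFinite ι
    have h4 : ∀ q : ι, g q (t ^ (∑ q, n q)) = 0 := by
      intro q
      rw [map_pow]
      exact pow_eq_zero_of_le (Finset.single_le_sum (fun _ _ => Nat.zero_le _) (Finset.mem_univ q))
        (hn q)
    have h5 : IsNilpotent (t ^ (∑ q, n q)) :=
      isNilpotent_of_forall_map_fractionRing_quotient_eq_zero _ (fun q _ hq => h4 ⟨q, hq⟩)
    obtain ⟨m, hm⟩ := h5
    exact ⟨(∑ q, n q) * m, by rw [pow_mul]; exact hm⟩


section

variable {A B K' : Type u} [CommRing A] [CommRing B] [Algebra A B] [CommRing K'] [Algebra A K']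

/-- The embedding `C ⊗[A] B → B ⊗[A] K'` for a subalgebra `C ⊆ K'`. -/
noncomputable def tensorEmb (C : Subalgebra A K') : ↥C ⊗[A] B →ₐ[A] B ⊗[A] K' :=
  (Algebra.TensorProduct.map (AlgHom.id A B) C.val).comp
    (Algebra.TensorProduct.comm A C B).toAlgHom

theorem tensorEmb_tmul (C : Subalgebra A K') (c : C) (b : B) :
    tensorEmb (B := B) C (c ⊗ₜ b) = b ⊗ₜ (c : K') := rfl

theorem tensorEmb_injective [Module.Flat A B] (C : Subalgebra A K') :
    Function.Injective (tensorEmb (B := B) C) := by
  have h1 : Function.Injective (Algebra.TensorProduct.map (AlgHom.id A B) C.val) :=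
    Module.Flat.lTensor_preserves_injective_linearMap (M := B) C.val.toLinearMap
      Subtype.val_injective
  exact h1.comp (Algebra.TensorProduct.comm A C B).injective

theorem tensorEmb_map_inclusion {C C' : Subalgebra A K'} (hle : C ≤ C') (x : ↥C ⊗[A] B) :
    tensorEmb (B := B) C' (Algebra.TensorProduct.map (Subalgebra.inclusion hle) (AlgHom.id A B) x) =
      tensorEmb C x := by
  induction x using TensorProduct.induction_on with
  | zero => simp
  | tmul c b => rfl
  | add x y hx hy => rw [map_add, map_add, hx, hy, map_add]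

/-- The `B`-submodule of `(B ⊗[A] K')_red` spanned by the image of `C ⊗[A] B`. -/
noncomputable def redImage (C : Subalgebra A K') :
    Submodule B ((B ⊗[A] K') ⧸ nilradical (B ⊗[A] K')) :=
  LinearMap.range ((Ideal.Quotient.mkₐ B (nilradical (B ⊗[A] K'))).toLinearMap ∘ₗ
    (Algebra.TensorProduct.map (AlgHom.id B B) C.val).toLinearMap)

theorem mk_tensorEmb_mem_redImage (C : Subalgebra A K') (y : ↥C ⊗[A] B) :
    Ideal.Quotient.mk (nilradical (B ⊗[A] K')) (tensorEmb C y) ∈ redImage (B := B) C :=
  ⟨Algebra.TensorProduct.comm A C B y, rfl⟩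

theorem exists_of_mem_redImage (C : Subalgebra A K')
    (z : (B ⊗[A] K') ⧸ nilradical (B ⊗[A] K')) (hz : z ∈ redImage (B := B) C) :
    ∃ x : ↥C ⊗[A] B, Ideal.Quotient.mk (nilradical (B ⊗[A] K')) (tensorEmb C x) = z := by
  obtain ⟨x', rfl⟩ := hz
  refine ⟨(Algebra.TensorProduct.comm A C B).symm x', ?_⟩
  show Ideal.Quotient.mk _ ((Algebra.TensorProduct.map (AlgHom.id A B) C.val)
    ((Algebra.TensorProduct.comm A C B) ((Algebra.TensorProduct.comm A C B).symm x'))) = _
  rw [AlgEquiv.apply_symm_apply]
  rfl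

theorem redImage_mono {C C' : Subalgebra A K'} (hle : C ≤ C') :
    redImage (B := B) C ≤ redImage C' := by
  rintro _ ⟨x', rfl⟩
  refine ⟨Algebra.TensorProduct.map (AlgHom.id B B) (Subalgebra.inclusion hle) x', ?_⟩
  show Ideal.Quotient.mk _ _ = Ideal.Quotient.mk _ _
  congr 1
  induction x' using TensorProduct.induction_on with
  | zero => simp
  | tmul b c => rfl
  | add x y hx hy =>
    rw [map_add, map_add, map_add]
    exact congrArg₂ (· + ·) hx hy

theorem redImage_le_integralClosure (C : Subalgebra A K') [Module.Finite A C] :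
    redImage (B := B) C ≤
      Subalgebra.toSubmodule (integralClosure B ((B ⊗[A] K') ⧸ nilradical (B ⊗[A] K'))) := by
  rintro _ ⟨x', rfl⟩
  haveI : Module.Finite B (B ⊗[A] C) := Module.Finite.base_change A B C
  have h1 : IsIntegral B x' := Algebra.IsIntegral.isIntegral x'
  exact h1.map ((Ideal.Quotient.mkₐ B (nilradical (B ⊗[A] K'))).comp
    (Algebra.TensorProduct.map (AlgHom.id B B) C.val))

end


/-- **EGA 0_IV 23.2 (i)**: stabilization of `(C ⊗[A] B)_red` over the finite subalgebras `C ⊆ K'`
with fraction field `K'`. -/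
theorem exists_stable_finite_subalgebra {A B K' : Type u} [CommRing A] [IsDomain A] [CommRing B]
    [Algebra A B] [IsNoetherianRing B] [Module.Flat A B]
    (hJ : ∀ (q : Ideal B) [q.IsPrime], q ∈ minimalPrimes B → CAlg.IsN2 (B ⧸ q))
    [Field K'] [Algebra A K'] [Algebra (FractionRing A) K'] [IsScalarTower A (FractionRing A) K']
    [FiniteDimensional (FractionRing A) K'] :
    ∃ Cα : Subalgebra A K', (Module.Finite A Cα ∧ ∀ x : K', ∃ a b : Cα, (b : K') ≠ 0 ∧ x * b = a) ∧
      ∀ C : Subalgebra A K', Module.Finite A C → ∀ hle : Cα ≤ C,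
        (∀ x : ↥Cα ⊗[A] B, IsNilpotent (Algebra.TensorProduct.map (Subalgebra.inclusion hle)
          (AlgHom.id A B) x) → IsNilpotent x) ∧
        (∀ y : ↥C ⊗[A] B, ∃ x : ↥Cα ⊗[A] B, IsNilpotent (Algebra.TensorProduct.map
          (Subalgebra.inclusion hle) (AlgHom.id A B) x - y)) := by
  classical
  set N := Subalgebra.toSubmodule
    (integralClosure B ((B ⊗[A] K') ⧸ nilradical (B ⊗[A] K'))) with hN
  haveI hfinN : Module.Finite B N := finite_integralClosure_tensor_red hJ
  haveI : IsNoetherian B N := isNoetherian_of_isNoetherianRing_of_finite B N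
  let P : Subalgebra A K' → Prop := fun C =>
    Module.Finite A C ∧ ∀ x : K', ∃ a b : C, (b : K') ≠ 0 ∧ x * b = a
  let 𝒮 : Set (Submodule B N) :=
    {M | ∃ C : Subalgebra A K', P C ∧ M = Submodule.comap N.subtype (redImage (B := B) C)}
  have hne : 𝒮.Nonempty := by
    obtain ⟨C0, hfin, hfrac⟩ := exists_finite_subalgebra_isFractionRing A (FractionRing A) K'
    refine ⟨_, C0, ⟨hfin, fun x => ?_⟩, rfl⟩
    haveI := hfrac
    obtain ⟨a, b, hb, hab⟩ := IsFractionRing.div_surjective (A := C0) x
    have hb0 : (b : K') ≠ 0 := fun h => nonZeroDivisors.ne_zero hb (Subtype.ext h)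
    refine ⟨a, b, hb0, ?_⟩
    rw [← hab]
    show (a : K') / (b : K') * (b : K') = a
    field_simp
  obtain ⟨M, ⟨Cα, hPα, rfl⟩, hmax⟩ := set_has_maximal_iff_noetherian.mpr ‹IsNoetherian B N› 𝒮 hne
  refine ⟨Cα, hPα, fun C hCfin hle => ⟨fun x hx => ?_, fun y => ?_⟩⟩
  · have hinj : Function.Injective (Algebra.TensorProduct.map (Subalgebra.inclusion hle)
        (AlgHom.id A B)) :=
      Module.Flat.rTensor_preserves_injective_linearMap (M := B)
        (Subalgebra.inclusion hle).toLinearMap (Subalgebra.inclusion_injective hle)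
    exact (IsNilpotent.map_iff hinj).mp hx
  · haveI := hCfin
    haveI := hPα.1
    have hPC : P C := ⟨hCfin, fun x => by
      obtain ⟨a, b, hb, hab⟩ := hPα.2 x
      exact ⟨Subalgebra.inclusion hle a, Subalgebra.inclusion hle b, hb, hab⟩⟩
    have h1 : Submodule.comap N.subtype (redImage (B := B) Cα) ≤
        Submodule.comap N.subtype (redImage (B := B) C) :=
      Submodule.comap_mono (redImage_mono hle)
    have h2 : Submodule.comap N.subtype (redImage (B := B) C) =
        Submodule.comap N.subtype (redImage (B := B) Cα) := by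
      by_contra hne'
      exact hmax _ ⟨C, hPC, rfl⟩ (lt_of_le_of_ne h1 (Ne.symm hne'))
    have h3 : redImage (B := B) C ≤ redImage (B := B) Cα := by
      intro z hz
      have hzN : z ∈ N := redImage_le_integralClosure C hz
      have : (⟨z, hzN⟩ : N) ∈ Submodule.comap N.subtype (redImage (B := B) C) := hz
      rw [h2] at this
      exact this
    obtain ⟨x, hx⟩ := exists_of_mem_redImage Cα _ (h3 (mk_tensorEmb_mem_redImage C y))
    refine ⟨x, ?_⟩
    rw [← IsNilpotent.map_iff (tensorEmb_injective (B := B) C), map_sub, tensorEmb_map_inclusion]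
    rw [← mem_nilradical, ← Ideal.Quotient.eq_zero_iff_mem, map_sub, hx, sub_self]


/-- If `(Cα ⊗ B)_red → (C ⊗ B)_red` is surjective and `B` is faithfully flat over `A`, then
`A`-algebra maps from `C` to a field are determined by their restriction to `Cα`. -/
theorem algHom_ext_of_stable {A B K' L : Type u} [CommRing A] [CommRing B] [Algebra A B]
    [Module.FaithfullyFlat A B] [CommRing K'] [Algebra A K'] [Field L] [Algebra A L]
    {Cα C : Subalgebra A K'} (hle : Cα ≤ C)
    (hstab : ∀ y : ↥C ⊗[A] B, ∃ x : ↥Cα ⊗[A] B, IsNilpotent (Algebra.TensorProduct.map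
      (Subalgebra.inclusion hle) (AlgHom.id A B) x - y))
    (ψ1 ψ2 : C →ₐ[A] L)
    (h : ψ1.comp (Subalgebra.inclusion hle) = ψ2.comp (Subalgebra.inclusion hle)) : ψ1 = ψ2 := by
  haveI : Nontrivial (L ⊗[A] B) := Module.FaithfullyFlat.rTensor_nontrivial A B L
  have hne : nilradical (L ⊗[A] B) ≠ ⊤ := by
    intro htop
    have h1 : (1 : L ⊗[A] B) ∈ nilradical (L ⊗[A] B) := htop ▸ Submodule.mem_top
    obtain ⟨n, hn⟩ := (show IsNilpotent (1 : L ⊗[A] B) from h1)
    rw [one_pow] at hn
    exact one_ne_zero hn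
  haveI : Nontrivial ((L ⊗[A] B) ⧸ nilradical (L ⊗[A] B)) := Ideal.Quotient.nontrivial_iff.mpr hne
  let lam : L →+* (L ⊗[A] B) ⧸ nilradical (L ⊗[A] B) :=
    (Ideal.Quotient.mk _).comp (Algebra.TensorProduct.includeLeftRingHom)
  have hlam : Function.Injective lam := lam.injective
  have hcomp : ∀ x : ↥Cα ⊗[A] B,
      Algebra.TensorProduct.map ψ1 (AlgHom.id A B)
        (Algebra.TensorProduct.map (Subalgebra.inclusion hle) (AlgHom.id A B) x) =
      Algebra.TensorProduct.map ψ2 (AlgHom.id A B)
        (Algebra.TensorProduct.map (Subalgebra.inclusion hle) (AlgHom.id A B) x) := by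
    intro x
    induction x using TensorProduct.induction_on with
    | zero => simp
    | tmul a b =>
      have := AlgHom.congr_fun h a
      simp only [AlgHom.comp_apply] at this
      simp only [Algebra.TensorProduct.map_tmul, AlgHom.coe_id, id_eq]
      rw [this]
    | add x y hx hy => simp only [map_add, hx, hy]
  have hnil : ∀ (ψ : C →ₐ[A] L) (z : ↥C ⊗[A] B), IsNilpotent z →
      Ideal.Quotient.mk (nilradical (L ⊗[A] B))
        (Algebra.TensorProduct.map ψ (AlgHom.id A B) z) = 0 := by
    intro ψ z hz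
    rw [Ideal.Quotient.eq_zero_iff_mem]
    exact hz.map _
  apply AlgHom.ext
  intro c
  obtain ⟨x, hx⟩ := hstab (c ⊗ₜ 1)
  have h1 := hnil ψ1 _ hx
  have h2 := hnil ψ2 _ hx
  rw [map_sub, map_sub, sub_eq_zero] at h1 h2
  apply hlam
  show Ideal.Quotient.mk _ (ψ1 c ⊗ₜ[A] (1 : B)) = Ideal.Quotient.mk _ (ψ2 c ⊗ₜ[A] (1 : B))
  have e1 : Algebra.TensorProduct.map ψ1 (AlgHom.id A B) (c ⊗ₜ 1) = ψ1 c ⊗ₜ[A] (1 : B) := by simp
  have e2 : Algebra.TensorProduct.map ψ2 (AlgHom.id A B) (c ⊗ₜ 1) = ψ2 c ⊗ₜ[A] (1 : B) := by simp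
  rw [← e1, ← e2, ← h1, ← h2, hcomp]

/-- **EGA 0_IV 23.2 (ii)**: if `(Cα ⊗ B)_red → (C ⊗ B)_red` is surjective for all finite `C ⊇ Cα`
and `B` is faithfully flat, then `Spec A' → Spec Cα` is radicial (`A'` the integral closure). -/
theorem universallyInjective_of_stable {A B K' : Type u} [CommRing A] [CommRing B] [Algebra A B]
    [Module.FaithfullyFlat A B] [CommRing K'] [Algebra A K']
    {Cα : Subalgebra A K'} [Module.Finite A Cα]
    (hstab : ∀ C : Subalgebra A K', Module.Finite A C → ∀ hle : Cα ≤ C, ∀ y : ↥C ⊗[A] B,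
      ∃ x : ↥Cα ⊗[A] B, IsNilpotent (Algebra.TensorProduct.map
        (Subalgebra.inclusion hle) (AlgHom.id A B) x - y))
    (hint : Cα ≤ integralClosure A K') :
    UniversallyInjective
      (Spec.map (CommRingCat.ofHom (Subalgebra.inclusion hint).toRingHom)) := by
  refine ((tfae_universallyInjective _).out 0 1).mpr ?_
  intro L _ g1 g2 hg
  obtain ⟨φ1, rfl⟩ := Spec.map_surjective g1
  obtain ⟨φ2, rfl⟩ := Spec.map_surjective g2
  simp only [← Spec.map_comp] at hg
  have hg' := Spec.map_injective hg
  have hg'' : ∀ c : Cα, φ1.hom (Subalgebra.inclusion hint c) = φ2.hom (Subalgebra.inclusion hint c) := by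
    intro c
    have := congrArg (fun f => f.hom c) hg'
    simpa using this
  congr 1
  ext a'
  letI : Algebra A L := (φ1.hom.comp (algebraMap A (integralClosure A K'))).toAlgebra
  let Φ1 : integralClosure A K' →ₐ[A] L := { φ1.hom with commutes' := fun a => rfl }
  let Φ2 : integralClosure A K' →ₐ[A] L :=
    { φ2.hom with
      commutes' := fun a => by
        have := hg'' (algebraMap A Cα a)
        exact this.symm }
  set C : Subalgebra A K' := Cα ⊔ Algebra.adjoin A {(a' : K')} with hC
  have hle : Cα ≤ C := le_sup_left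
  have hCint : C ≤ integralClosure A K' := by
    refine sup_le hint (Algebra.adjoin_le ?_)
    rintro _ rfl
    exact a'.2
  haveI : Module.Finite A (Algebra.adjoin A {(a' : K')}) :=
    Module.Finite.iff_fg.mpr a'.2.fg_adjoin_singleton
  haveI hfin : Module.Finite A C := Subalgebra.finite_sup _ _
  have key := algHom_ext_of_stable (B := B) hle (hstab C hfin hle)
    (Φ1.comp (Subalgebra.inclusion hCint)) (Φ2.comp (Subalgebra.inclusion hCint)) (by
      ext c
      exact hg'' c)
  have ha'C : (a' : K') ∈ C := (le_sup_right : Algebra.adjoin A {(a' : K')} ≤ C)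
    (Algebra.subset_adjoin rfl)
  have := AlgHom.congr_fun key ⟨a', ha'C⟩
  exact this


end Groth.Agent.Lib.Helper48
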