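import Mathlib
import Groth.Agent.Lib.Helper48.MoriNagata

/-!
# A global consequence of Mori–Nagata

If `x` in the fraction field of a Noetherian domain `A` is not integral over `A`, there is a finite
sub-`A`-algebra `C` of the integral closure and a height one prime `q` of `C` such that `s x` is not
integral for any `s ∈ A` outside `q ∩ A`.
-/

universe u

namespace Groth.Agent.Lib.Helper48

open IsLocalRing

theorem exists_height_one_prime_of_not_isIntegral {A : Type u} [CommRing A] [IsDomain A]
    [IsNoetherianRing A] (K : Type u) [Field K] [Algebra A K] [IsFractionRing A K] (x : K)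
    (hx : ¬ IsIntegral A x) :
    ∃ (C : Subalgebra A K) (_ : C ≤ integralClosure A K) (_ : Module.Finite A C) (q : Ideal C)
      (_ : q.IsPrime), q.height = 1 ∧
        ∀ s : A, s ∉ q.comap (algebraMap A C) → ¬ IsIntegral A (algebraMap A K s * x) := by
  classical
  -- the conductor-type ideal
  let I : Ideal A :=
    { carrier := {d | IsIntegral A (algebraMap A K d * x)}
      add_mem' := fun {a b} ha hb => by
        simp only [Set.mem_ofPred_eq, map_add, add_mul] at *
        exact ha.add hb
      zero_mem' := by
        simp only [Set.mem_ofPred_eq, map_zero, zero_mul]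
        exact isIntegral_zero
      smul_mem' := fun c d hd => by
        simp only [Set.mem_ofPred_eq, smul_eq_mul, map_mul, mul_assoc] at *
        exact isIntegral_algebraMap.mul hd }
  have hI : I ≠ ⊤ := by
    intro htop
    have h1 : (1 : A) ∈ I := htop ▸ Submodule.mem_top
    have h2 : IsIntegral A (algebraMap A K 1 * x) := h1
    rw [map_one, one_mul] at h2
    exact hx h2
  obtain ⟨m, hm, hIm⟩ := Ideal.exists_le_maximal I hI
  haveI := hm.isPrime
  have hS : m.primeCompl ≤ nonZeroDivisors A := m.primeCompl_le_nonZeroDivisors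
  set R : Subalgebra A K := Localization.subalgebra.ofField K m.primeCompl hS with hR
  haveI : IsLocalization.AtPrime R m :=
    Localization.subalgebra.isLocalization_ofField K m.primeCompl hS
  haveI : IsLocalRing R := IsLocalization.AtPrime.isLocalRing R m
  haveI : IsNoetherianRing R := IsLocalization.isNoetherianRing m.primeCompl R inferInstance
  have hxR : ¬ IsIntegral R x := by
    intro hint
    obtain ⟨s, hs⟩ := IsIntegral.exists_multiple_integral_of_isLocalization m.primeCompl
      (Rₘ := R) x hint
    have : (s : A) ∈ I := by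
      change IsIntegral A (algebraMap A K s * x)
      rw [← Algebra.smul_def]
      exact hs
    exact s.2 (hIm this)
  obtain ⟨Cm, hfinCm, hintCm, -, hb, -⟩ := moriNagata_local R K
  have hb' := (hb x).not.mp hxR
  push Not at hb'
  obtain ⟨P, hPprime, hP1, hPx⟩ := hb'
  haveI := hfinCm
  -- generators of `Cm` over `R`
  obtain ⟨G, hG⟩ := (Module.finite_def.mp hfinCm : (⊤ : Submodule R Cm).FG)
  have hGint : ∀ g : Cm, ∃ s : m.primeCompl, IsIntegral A (s • (g : K)) := fun g =>
    IsIntegral.exists_multiple_integral_of_isLocalization m.primeCompl (Rₘ := R) (g : K)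
      (hintCm g.2)
  choose sg hsg using hGint
  set T : Set K := (fun g : Cm => sg g • (g : K)) '' (G : Set Cm) with hT
  have hTfin : T.Finite := G.finite_toSet.image _
  have hTint : ∀ t ∈ T, IsIntegral A t := by
    rintro _ ⟨g, -, rfl⟩
    exact hsg g
  set C : Subalgebra A K := Algebra.adjoin A T with hC
  have hCint : C ≤ integralClosure A K := Algebra.adjoin_le hTint
  haveI hCfin : Module.Finite A C := Module.Finite.iff_fg.mpr (fg_adjoin_of_finite hTfin hTint)
  have hCle : C ≤ Cm.restrictScalars A := by
    refine Algebra.adjoin_le ?_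
    rintro _ ⟨g, -, rfl⟩
    change sg g • (g : K) ∈ Cm
    rw [Submonoid.smul_def, Algebra.smul_def]
    have h1 : algebraMap A K (sg g) = algebraMap R K (algebraMap A R (sg g)) := rfl
    rw [h1]
    exact Cm.mul_mem (Cm.algebraMap_mem _) g.2
  let ι : C →+* Cm :=
    { toFun := fun c => ⟨c.1, hCle c.2⟩
      map_one' := rfl
      map_mul' := fun _ _ => rfl
      map_zero' := rfl
      map_add' := fun _ _ => rfl }
  have hιinj : Function.Injective ι := fun c c' h =>
    Subtype.ext (congrArg (fun z : Cm => (z : K)) h)
  letI : Algebra C Cm := ι.toAlgebra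
  have hloc : IsLocalization (Algebra.algebraMapSubmonoid C m.primeCompl) Cm := by
    rw [isLocalization_iff]
    refine ⟨?_, ?_, ?_⟩
    · rintro ⟨_, s, hs, rfl⟩
      have h1 : algebraMap C Cm (algebraMap A C s) = algebraMap R Cm (algebraMap A R s) :=
        Subtype.ext rfl
      rw [h1]
      exact (IsLocalization.map_units R (⟨s, hs⟩ : m.primeCompl)).map (algebraMap R Cm)
    · intro z
      have hz : z ∈ Submodule.span R (G : Set Cm) := hG ▸ Submodule.mem_top
      induction hz using Submodule.span_induction with
      | mem g hg =>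
        refine ⟨⟨⟨sg g • (g : K), Algebra.subset_adjoin ⟨g, hg, rfl⟩⟩,
          ⟨algebraMap A C (sg g), (sg g : A), (sg g).2, rfl⟩⟩, ?_⟩
        apply Subtype.ext
        change (g : K) * algebraMap A K (sg g) = sg g • (g : K)
        rw [Submonoid.smul_def, Algebra.smul_def, mul_comm]
      | zero => exact ⟨⟨0, 1⟩, by simp⟩
      | add z1 z2 _ _ h1 h2 =>
        obtain ⟨⟨c1, y1⟩, e1⟩ := h1
        obtain ⟨⟨c2, y2⟩, e2⟩ := h2
        refine ⟨⟨c1 * y2 + c2 * y1, y1 * y2⟩, ?_⟩
        simp only [Submonoid.coe_mul, map_mul, map_add] at *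
        rw [← e1, ← e2]
        ring
      | smul r z _ hz =>
        obtain ⟨⟨c, y⟩, e⟩ := hz
        obtain ⟨⟨a, t⟩, hat⟩ := IsLocalization.surj m.primeCompl r
        refine ⟨⟨algebraMap A C a * c, ⟨algebraMap A C t, (t : A), t.2, rfl⟩ * y⟩, ?_⟩
        simp only [Submonoid.coe_mul, map_mul] at *
        have h1 : algebraMap C Cm (algebraMap A C (t : A)) = algebraMap R Cm (algebraMap A R t) :=
          Subtype.ext rfl
        have h2 : algebraMap C Cm (algebraMap A C a) = algebraMap R Cm (algebraMap A R a) :=
          Subtype.ext rfl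
        rw [h1, h2, ← e, ← hat, Algebra.smul_def, map_mul]
        ring
    · intro c1 c2 h12
      exact ⟨1, by rw [hιinj h12]⟩
  set q : Ideal C := P.comap (algebraMap C Cm) with hq
  haveI hqprime : q.IsPrime := Ideal.comap_isPrime _ P
  have hq1 : q.height = 1 := by
    rw [← hP1]
    exact IsLocalization.height_under (Algebra.algebraMapSubmonoid C m.primeCompl) P
  refine ⟨C, hCint, hCfin, q, hqprime, hq1, fun s hs hsx => ?_⟩
  have hsP : algebraMap C Cm (algebraMap A C s) ∉ P := fun h => hs h
  refine hPx _ hsP ?_
  have : ((algebraMap C Cm (algebraMap A C s) : Cm) : K) * x = algebraMap A K s * x := rfl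
  rw [this]
  exact hsx.tower_top

end Groth.Agent.Lib.Helper48
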