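import Mathlib
import Groth.Prelude.Def_RelProj
import Groth.Agent.Lib.Helper70.ChowQcqsA
import Groth.Agent.Lib.Helper17.ProjSpaceProper

set_option autoImplicit false
universe u
open CategoryTheory Limits AlgebraicGeometry Topology MorphismProperty TopologicalSpace

namespace Groth.Agent.Lib.Helper48.ChowRel


/-- Chow data make `π` H-projective. -/
theorem isHProjective_of_chow {X S X' : Scheme.{u}} (f : X ⟶ S) (n : ℕ) (π : X' ⟶ X)
    (j : X' ⟶ CohB1.ProjSpaceOver n S) [IsImmersion j] [IsProper π]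
    (hcomp : j ≫ CohB1.ProjSpaceOver.toBase n S = π ≫ f) : RelProj.IsHProjective π := by
  have PB := Groth.Agent.Lib.Helper70.ChowQcqsA.isPullback_projMap n f
  let i : X' ⟶ CohB1.ProjSpaceOver n X := PB.lift j π hcomp
  have hi1 : i ≫ FGA.projMap n f = j := PB.lift_fst _ _ _
  have hi2 : i ≫ CohB1.ProjSpaceOver.toBase n X = π := PB.lift_snd _ _ _
  haveI : IsImmersion (i ≫ FGA.projMap n f) := by rw [hi1]; infer_instance
  haveI : IsImmersion i := IsImmersion.of_comp i (FGA.projMap n f)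
  haveI hp : IsProper (CohB1.ProjSpaceOver.toBase n X) :=
    Groth.Agent.Lib.Helper17.ProjSpaceProper.isProper_toBase n X
  haveI : IsProper (i ≫ CohB1.ProjSpaceOver.toBase n X) := by rw [hi2]; infer_instance
  haveI : IsProper i := IsProper.of_comp i (CohB1.ProjSpaceOver.toBase n X)
  exact ⟨n, i, IsClosedImmersion.of_isPreimmersion i i.isClosedMap.isClosed_range, hi2⟩

/-- Chow data make `π ≫ f` H-quasi-projective. -/
theorem isHQuasiProjective_of_chow {X S X' : Scheme.{u}} (f : X ⟶ S) [QuasiCompact f] (n : ℕ)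
    (π : X' ⟶ X) (j : X' ⟶ CohB1.ProjSpaceOver n S) [IsImmersion j] [IsProper π]
    (hcomp : j ≫ CohB1.ProjSpaceOver.toBase n S = π ≫ f) :
    RelProj.IsHQuasiProjective (π ≫ f) := by
  haveI hp : IsProper (CohB1.ProjSpaceOver.toBase n S) :=
    Groth.Agent.Lib.Helper17.ProjSpaceProper.isProper_toBase n S
  haveI : QuasiCompact (j ≫ CohB1.ProjSpaceOver.toBase n S) := by rw [hcomp]; infer_instance
  exact ⟨n, j, inferInstance, QuasiCompact.of_comp j (CohB1.ProjSpaceOver.toBase n S), hcomp⟩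



section trim

variable {X X' : Scheme.{u}} (π : X' ⟶ X) (U : X.Opens)

/-- The range of the scheme-theoretic image of `π⁻¹U` in `X'` is the closure of `π⁻¹U`. -/
theorem range_trim [QuasiCompact (π ⁻¹ᵁ U).ι] :
    Set.range ((π ⁻¹ᵁ U).ι).imageι = closure ((π ⁻¹ᵁ U : X'.Opens) : Set X') := by
  rw [Scheme.IdealSheafData.range_subschemeι, Scheme.Hom.support_ker, Scheme.Opens.range_ι]

/-- Over `π⁻¹U` the scheme-theoretic image of `π⁻¹U` is `π⁻¹U`. -/
theorem isIso_trim_restrict : IsIso (((π ⁻¹ᵁ U).ι).imageι ∣_ (π ⁻¹ᵁ U)) := by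
  let V := π ⁻¹ᵁ U
  let i := (V.ι).imageι
  let t := (V.ι).toImage
  have hti : t ≫ i = V.ι := (V.ι).toImage_imageι
  have hr : Set.range t ⊆ Set.range (i ⁻¹ᵁ V).ι := by
    rw [Scheme.Opens.range_ι]
    rintro _ ⟨v, rfl⟩
    show i (t v) ∈ V
    have : i (t v) = V.ι v := congrArg (fun φ => φ.base v) hti
    rw [this]
    exact v.2
  let s : V.toScheme ⟶ (i ⁻¹ᵁ V).toScheme := IsOpenImmersion.lift (i ⁻¹ᵁ V).ι t hr
  have hs : s ≫ (i ⁻¹ᵁ V).ι = t := IsOpenImmersion.lift_fac _ _ hr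
  have hsec : s ≫ (i ∣_ V) = 𝟙 _ := by
    rw [← cancel_mono V.ι, Category.assoc, morphismRestrict_ι, ← Category.assoc, hs, hti,
      Category.id_comp]
  haveI : IsSplitEpi (i ∣_ V) := ⟨⟨⟨s, hsec⟩⟩⟩
  exact isIso_of_mono_of_isSplitEpi (i ∣_ V)

/-- The preimage of `U` is dense in the trimmed scheme. -/
theorem dense_trim_preimage [QuasiCompact (π ⁻¹ᵁ U).ι] :
    Dense (((((π ⁻¹ᵁ U).ι).imageι ≫ π) ⁻¹ᵁ U : ((π ⁻¹ᵁ U).ι).image.Opens) :
      Set ((π ⁻¹ᵁ U).ι).image) := by
  let V := π ⁻¹ᵁ U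
  let i := (V.ι).imageι
  intro x
  rw [mem_closure_iff]
  intro W hW hxW
  obtain ⟨W', hW', rfl⟩ := i.isEmbedding.isInducing.isOpen_iff.mp hW
  have hx : i x ∈ closure (V : Set X') := by
    rw [← range_trim π U]
    exact ⟨x, rfl⟩
  obtain ⟨v, hvW', hvV⟩ := mem_closure_iff.mp hx W' hW' hxW
  have hv : v ∈ Set.range i := by
    rw [range_trim π U]
    exact subset_closure hvV
  obtain ⟨x₂, rfl⟩ := hv
  exact ⟨x₂, hvW', hvV⟩

/-- The trimmed scheme still surjects onto `X` if `U` is dense and `π` is closed and surjective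
over `U`. -/
theorem surjective_trim [QuasiCompact (π ⁻¹ᵁ U).ι] (hπ : IsClosedMap π) (hU : Dense (U : Set X))
    (hsurj : ∀ u ∈ U, ∃ v, π v = u) : Surjective (((π ⁻¹ᵁ U).ι).imageι ≫ π) := by
  let V := π ⁻¹ᵁ U
  let i := (V.ι).imageι
  constructor
  have hcl : IsClosed (Set.range (i ≫ π)) := by
    have : Set.range (i ≫ π) = π '' (closure (V : Set X')) := by
      rw [← range_trim π U]
      ext z
      constructor
      · rintro ⟨a, rfl⟩
        exact ⟨i a, ⟨a, rfl⟩, rfl⟩
      · rintro ⟨_, ⟨a, rfl⟩, rfl⟩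
        exact ⟨a, rfl⟩
    rw [this]
    exact hπ _ isClosed_closure
  have hsub : (U : Set X) ⊆ Set.range (i ≫ π) := by
    intro u hu
    obtain ⟨v, hv⟩ := hsurj u hu
    have hvV : v ∈ (V : Set X') := by
      show π v ∈ U
      rw [hv]; exact hu
    have hvr : v ∈ Set.range i := by
      rw [range_trim π U]
      exact subset_closure hvV
    obtain ⟨a, rfl⟩ := hvr
    exact ⟨a, hv⟩
  intro x
  have : closure (U : Set X) ⊆ Set.range (i ≫ π) := closure_minimal hsub hcl
  exact this (hU x)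

end trim

/-- The scheme-theoretic image of a quasi-compact morphism from a reduced scheme is reduced. -/
theorem isReduced_image {X Y : Scheme.{u}} (f : X ⟶ Y) [QuasiCompact f] [IsReduced X] :
    IsReduced f.image := by
  haveI : ∀ U : Y.affineOpens,
      IsReduced (Spec (CommRingCat.of (Γ(Y, U) ⧸ f.ker.ideal U))) := by
    intro U
    haveI : _root_.IsReduced (Γ(Y, U) ⧸ f.ker.ideal U) := by
      rw [← Ideal.isRadical_iff_quotient_reduced, Scheme.Hom.ker_apply]
      intro x hx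
      obtain ⟨n, hn⟩ := hx
      rw [RingHom.mem_ker, map_pow] at hn
      exact RingHom.mem_ker.mpr (IsReduced.eq_zero _ ⟨n, hn⟩)
    infer_instance
  haveI : ∀ i, IsReduced (f.ker.subschemeCover.openCover.X i) := fun U => this U
  exact IsReduced.of_openCover (X := f.image) f.ker.subschemeCover.openCover



open Classical in
/-- In a scheme with finitely many irreducible components every dense open contains a
quasi-compact dense open. -/
theorem exists_compact_dense_le {X : Scheme.{u}} (h𝒵 : (irreducibleComponents X).Finite)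
    (U₀ : X.Opens) (hU₀ : Dense (U₀ : Set X)) :
    ∃ U₁ : X.Opens, U₁ ≤ U₀ ∧ Dense (U₁ : Set X) ∧ IsCompact (U₁ : Set X) := by
  let W : Set X → Set X := fun Z => (⋃₀ (irreducibleComponents X \ {Z}))ᶜ
  have hWopen : ∀ Z, IsOpen (W Z) := fun Z => by
    change IsOpen (⋃₀ (irreducibleComponents X \ {Z}))ᶜ
    rw [Set.sUnion_eq_biUnion, isOpen_compl_iff]
    exact h𝒵.sdiff.isClosed_biUnion fun T hT => isClosed_of_mem_irreducibleComponents T hT.1
  have hWcl : ∀ Z ∈ irreducibleComponents X, closure (W Z) = Z := fun Z hZ =>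
    closure_sUnion_irreducibleComponents_sdiff_singleton h𝒵 Z hZ
  have hWne : ∀ Z ∈ irreducibleComponents X, (W Z).Nonempty := fun Z hZ => by
    by_contra h
    rw [Set.not_nonempty_iff_eq_empty] at h
    have := hWcl Z hZ
    rw [h, closure_empty] at this
    exact hZ.1.nonempty.ne_empty this.symm
  have hWsub : ∀ Z ∈ irreducibleComponents X, W Z ⊆ Z := fun Z hZ =>
    subset_closure.trans (hWcl Z hZ).le
  have hA : ∀ Z : Set X, ∃ A : X.Opens, Z ∈ irreducibleComponents X →
      IsAffineOpen A ∧ (A : Set X).Nonempty ∧ (A : Set X) ⊆ W Z ∩ U₀ := fun Z => by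
    by_cases hZ : Z ∈ irreducibleComponents X
    · obtain ⟨x, hx⟩ := hU₀.inter_open_nonempty (W Z) (hWopen Z) (hWne Z hZ)
      obtain ⟨A, hA1, hA2, hA3⟩ := Opens.isBasis_iff_nbhd.mp X.isBasis_affineOpens
        (U := ⟨W Z ∩ U₀, (hWopen Z).inter U₀.2⟩) hx
      exact ⟨A, fun _ => ⟨hA1, ⟨x, hA2⟩, hA3⟩⟩
    · exact ⟨⊥, fun h => absurd h hZ⟩
  choose A hA using hA
  let U₁ : X.Opens := ⟨⋃ Z ∈ irreducibleComponents X, (A Z : Set X),
    isOpen_biUnion fun Z _ => (A Z).2⟩
  refine ⟨U₁, ?_, ?_, ?_⟩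
  · intro x hx
    obtain ⟨Z, hZ, hxZ⟩ := Set.mem_iUnion₂.mp hx
    exact ((hA Z hZ).2.2 hxZ).2
  · rw [dense_iff_closure_eq, ← Set.univ_subset_iff, ← sUnion_irreducibleComponents]
    apply Set.sUnion_subset
    intro Z hZ
    have hne : (Z ∩ (A Z : Set X)).Nonempty := by
      obtain ⟨y, hy⟩ := (hA Z hZ).2.1
      exact ⟨y, hWsub Z hZ ((hA Z hZ).2.2 hy).1, hy⟩
    refine (subset_closure_inter_of_isPreirreducible_of_isOpen hZ.1.2 (A Z).2 hne).trans
      (closure_mono ?_)
    intro y hy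
    exact Set.mem_iUnion₂.mpr ⟨Z, hZ, hy.2⟩
  · exact h𝒵.isCompact_biUnion fun Z hZ => (hA Z hZ).1.isCompact

/-- A quasi-compact open of a quasi-separated scheme has quasi-compact inclusion. -/
theorem quasiCompact_ι_of_isCompact {X : Scheme.{u}} [QuasiSeparatedSpace X] (U : X.Opens)
    (hU : IsCompact (U : Set X)) : QuasiCompact U.ι := by
  haveI : CompactSpace U := isCompact_iff_compactSpace.mp hU
  infer_instance

/-- Preimage opens have quasi-compact inclusions if the original open does. -/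
theorem quasiCompact_preimage_ι {X X' : Scheme.{u}} (π : X' ⟶ X) (U : X.Opens)
    [QuasiCompact U.ι] : QuasiCompact (π ⁻¹ᵁ U).ι :=
  MorphismProperty.of_isPullback (P := @QuasiCompact) (isPullback_morphismRestrict π U)
    inferInstance


/-- **Trimming Chow data**: replacing `X'` by the scheme-theoretic closure of `π⁻¹(U)` keeps all
the properties and makes `π⁻¹(U)` dense. -/
theorem exists_trimmed_chow {X S X' : Scheme.{u}} (f : X ⟶ S) (n : ℕ) (π : X' ⟶ X)
    (j : X' ⟶ CohB1.ProjSpaceOver n S) [IsImmersion j] [IsProper π]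
    (hcomp : j ≫ CohB1.ProjSpaceOver.toBase n S = π ≫ f) (U : X.Opens)
    (hU : Dense (U : Set X)) [QuasiCompact U.ι] [IsIso (π ∣_ U)] :
    ∃ (X'' : Scheme.{u}) (π'' : X'' ⟶ X) (j'' : X'' ⟶ CohB1.ProjSpaceOver n S),
      IsImmersion j'' ∧ j'' ≫ CohB1.ProjSpaceOver.toBase n S = π'' ≫ f ∧ IsProper π'' ∧
      Surjective π'' ∧ Dense ((π'' ⁻¹ᵁ U : X''.Opens) : Set X'') ∧ IsIso (π'' ∣_ U) ∧
      (IsReduced X → IsReduced X'') ∧ (IrreducibleSpace X → IrreducibleSpace X'') := by
  haveI : QuasiCompact (π ⁻¹ᵁ U).ι := quasiCompact_preimage_ι π U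
  let V := π ⁻¹ᵁ U
  let i := (V.ι).imageι
  have hsurjU : ∀ u ∈ U, ∃ v, π v = u := by
    intro u hu
    have hs : Function.Surjective (π ∣_ U) := (asIso (π ∣_ U)).schemeIsoToHomeo.surjective
    obtain ⟨v, hv⟩ := hs ⟨u, hu⟩
    refine ⟨v.1, ?_⟩
    have h2 : (π ∣_ U ≫ U.ι) v = ((π ⁻¹ᵁ U).ι ≫ π) v := by rw [morphismRestrict_ι]
    have h3 : U.ι ((π ∣_ U) v) = π ((π ⁻¹ᵁ U).ι v) := h2
    rw [hv] at h3
    exact h3.symm
  refine ⟨(V.ι).image, i ≫ π, i ≫ j, inferInstance, ?_, inferInstance,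
    surjective_trim π U π.isClosedMap hU hsurjU, dense_trim_preimage π U, ?_, ?_, ?_⟩
  · rw [Category.assoc, hcomp, Category.assoc]
  · rw [morphismRestrict_comp]
    exact IsIso.comp_isIso' (isIso_trim_restrict π U) inferInstance
  · intro hred
    haveI : IsReduced (V : Scheme.{u}) := isReduced_of_isOpenImmersion (π ∣_ U)
    exact isReduced_image V.ι
  · intro hirr
    have hUne : (U : Set X).Nonempty := hU.nonempty
    have hUirr : IsIrreducible (U : Set X) :=
      ⟨hUne, (PreirreducibleSpace.isPreirreducible_univ).open_subset U.2 (Set.subset_univ _)⟩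
    haveI : IrreducibleSpace U := isIrreducible_iff_irreducibleSpace.mp hUirr
    haveI : IrreducibleSpace V :=
      (Homeomorph.irreducibleSpace_iff (asIso (π ∣_ U)).schemeIsoToHomeo).mpr inferInstance
    have hVirr : IsIrreducible (Set.range V.ι) := by
      rw [← Set.image_univ]
      exact (IrreducibleSpace.isIrreducible_univ V).image _ V.ι.continuous.continuousOn
    rw [Scheme.Opens.range_ι, ← isIrreducible_iff_closure, ← range_trim π U] at hVirr
    haveI : IrreducibleSpace (Set.range i) := isIrreducible_iff_irreducibleSpace.mp hVirr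
    exact (Homeomorph.irreducibleSpace_iff i.isEmbedding.toHomeomorph).mpr inferInstance

end Groth.Agent.Lib.Helper48.ChowRel
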