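import Mathlib
import Groth.Prelude.Def_RelProj
import Groth.Agent.Lib.Helper48.ChowRel
import Groth.Agent.S7410

set_option autoImplicit false
universe u
open CategoryTheory Limits AlgebraicGeometry Topology MorphismProperty TopologicalSpace

namespace Groth.Agent.Lib.Helper48.ChowRel

/-- Restricting an isomorphism-over-`U₀` to a smaller open. -/
theorem isIso_morphismRestrict_of_le {X X' : Scheme.{u}} (π : X' ⟶ X) {U₁ U₀ : X.Opens}
    (hle : U₁ ≤ U₀) [IsIso (π ∣_ U₀)] : IsIso (π ∣_ U₁) := by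
  have h1 : IsIso ((π ∣_ U₀) ∣_ (U₀.ι ⁻¹ᵁ U₁)) := inferInstance
  have h2 : IsIso (π ∣_ U₀.ι ''ᵁ (U₀.ι ⁻¹ᵁ U₁)) :=
    (MorphismProperty.arrow_mk_iso_iff (MorphismProperty.isomorphisms Scheme.{u})
      (morphismRestrictRestrict π U₀ (U₀.ι ⁻¹ᵁ U₁))).mp h1
  have e : U₀.ι ''ᵁ (U₀.ι ⁻¹ᵁ U₁) = U₁ := by
    rw [Scheme.Hom.image_preimage_eq_opensRange_inf, Scheme.Opens.opensRange_ι]
    exact inf_eq_right.mpr hle
  rwa [e] at h2

/-- **Chow's lemma with all the trimmings** (EGA II 5.6.1): over a Noetherian base, or over a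
quasi-compact separated base when `X` has finitely many irreducible components. -/
theorem exists_chow_data {X S : Scheme.{u}} (r : X ⟶ S) [IsSeparated r] [LocallyOfFiniteType r]
    [QuasiCompact r]
    (h : IsNoetherian S ∨ (CompactSpace S ∧ S.IsSeparated ∧ (irreducibleComponents X).Finite)) :
    ∃ (n : ℕ) (X'' : Scheme.{u}) (π'' : X'' ⟶ X) (j'' : X'' ⟶ CohB1.ProjSpaceOver n S),
      IsImmersion j'' ∧ j'' ≫ CohB1.ProjSpaceOver.toBase n S = π'' ≫ r ∧ IsProper π'' ∧
      Surjective π'' ∧ ∃ U : X.Opens, Dense (U : Set X) ∧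
      Dense ((π'' ⁻¹ᵁ U : X''.Opens) : Set X'') ∧ IsIso (π'' ∣_ U) ∧
      (IsReduced X → IsReduced X'') ∧ (IrreducibleSpace X → IrreducibleSpace X'') := by
  have hdata : CompactSpace S ∧ QuasiSeparatedSpace S ∧ (irreducibleComponents X).Finite := by
    rcases h with hN | ⟨hc, hs, hfin⟩
    · haveI := hN
      haveI : IsLocallyNoetherian X := LocallyOfFiniteType.isLocallyNoetherian r
      haveI : CompactSpace X := QuasiCompact.compactSpace_of_compactSpace r
      haveI : IsNoetherian X := {}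
      exact ⟨inferInstance, inferInstance,
        TopologicalSpace.NoetherianSpace.finite_irreducibleComponents⟩
    · haveI := hs
      exact ⟨hc, inferInstance, hfin⟩
  obtain ⟨hc, hqs, hfin⟩ := hdata
  haveI := hc
  haveI := hqs
  haveI : CompactSpace X := QuasiCompact.compactSpace_of_compactSpace r
  haveI : QuasiSeparatedSpace X := quasiSeparatedSpace_of_quasiSeparated r
  obtain ⟨n, X', π, j, hj, hcomp, hπ, hsurj, U₀, hU₀, hiso₀⟩ := Groth.Agent.S7410.result r hfin
  obtain ⟨U₁, hle, hU₁, hU₁c⟩ := exists_compact_dense_le hfin U₀ hU₀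
  haveI : QuasiCompact U₁.ι := quasiCompact_ι_of_isCompact U₁ hU₁c
  haveI : IsIso (π ∣_ U₁) := isIso_morphismRestrict_of_le π hle
  obtain ⟨X'', π'', j'', hj'', hcomp'', hπ'', hsurj'', hdense, hiso, hred, hirr⟩ :=
    exists_trimmed_chow r n π j hcomp U₁ hU₁
  exact ⟨n, X'', π'', j'', hj'', hcomp'', hπ'', hsurj'', U₁, hU₁, hdense, hiso, hred, hirr⟩

/-- If `r` is proper, Chow data make `π ≫ r` H-projective. -/
theorem isHProjective_comp_of_chow_of_isProper {X S X' : Scheme.{u}} (r : X ⟶ S) [IsProper r]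
    (n : ℕ) (π : X' ⟶ X) (j : X' ⟶ CohB1.ProjSpaceOver n S) [IsImmersion j] [IsProper π]
    (hcomp : j ≫ CohB1.ProjSpaceOver.toBase n S = π ≫ r) : RelProj.IsHProjective (π ≫ r) := by
  haveI hp : IsProper (CohB1.ProjSpaceOver.toBase n S) :=
    Groth.Agent.Lib.Helper17.ProjSpaceProper.isProper_toBase n S
  haveI : IsProper (j ≫ CohB1.ProjSpaceOver.toBase n S) := by rw [hcomp]; infer_instance
  haveI : IsProper j := IsProper.of_comp j (CohB1.ProjSpaceOver.toBase n S)
  exact ⟨n, j, IsClosedImmersion.of_isPreimmersion j j.isClosedMap.isClosed_range, hcomp⟩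

end Groth.Agent.Lib.Helper48.ChowRel
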