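import Mathlib
import Groth.Agent.S0590
import Groth.Agent.S0591
import Groth.Agent.S9190
import Groth.Agent.S7395
import Groth.Agent.S7410
import Groth.Agent.Lib.Helper70.ChowQcqsA
import Groth.Agent.Lib.Helper70.ChowQcqsB
import Groth.Agent.Lib.Helper70.AbsApproxR0

/-!
# Chow's lemma over a qcqs base with a nonempty open of isomorphism
-/

set_option autoImplicit false
set_option linter.style.haveILetI false
universe u

open CategoryTheory Limits AlgebraicGeometry Opposite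

namespace Groth.Agent.Lib.Helper48.ChowRel

open Groth.Agent.Lib.Helper70.ChowQcqsA

/-- Base change of "isomorphism over `Ui`". -/
theorem isIso_morphismRestrict_of_isPullback {X'' X AT Xi : Scheme.{u}} {a : X'' ⟶ AT}
    {π : X'' ⟶ X} {πi : AT ⟶ Xi} {b : X ⟶ Xi} (H : IsPullback a π πi b) (Ui : Xi.Opens)
    [IsIso (πi ∣_ Ui)] : IsIso (π ∣_ (b ⁻¹ᵁ Ui)) := by
  have H1 : IsPullback (π ⁻¹ᵁ (b ⁻¹ᵁ Ui)).ι (π ∣_ (b ⁻¹ᵁ Ui)) π (b ⁻¹ᵁ Ui).ι :=
    (isPullback_morphismRestrict π _).flip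
  have H2 : IsPullback ((π ⁻¹ᵁ (b ⁻¹ᵁ Ui)).ι ≫ a) (π ∣_ (b ⁻¹ᵁ Ui)) πi ((b ⁻¹ᵁ Ui).ι ≫ b) :=
    H1.paste_horiz H
  have H3 : IsPullback (πi ⁻¹ᵁ Ui).ι (πi ∣_ Ui) πi Ui.ι :=
    (isPullback_morphismRestrict πi Ui).flip
  have e : (b ⁻¹ᵁ Ui).ι ≫ b = (b ∣_ Ui) ≫ Ui.ι := (morphismRestrict_ι b Ui).symm
  rw [e] at H2
  have hw : ((π ⁻¹ᵁ (b ⁻¹ᵁ Ui)).ι ≫ a) ≫ πi = (π ∣_ (b ⁻¹ᵁ Ui) ≫ b ∣_ Ui) ≫ Ui.ι := by
    rw [H2.w, Category.assoc]
  obtain ⟨t, ht⟩ : ∃ t, t = H3.lift ((π ⁻¹ᵁ (b ⁻¹ᵁ Ui)).ι ≫ a)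
      (π ∣_ (b ⁻¹ᵁ Ui) ≫ b ∣_ Ui) hw := ⟨_, rfl⟩
  have ht1 : t ≫ (πi ⁻¹ᵁ Ui).ι = (π ⁻¹ᵁ (b ⁻¹ᵁ Ui)).ι ≫ a := by
    rw [ht]; exact H3.lift_fst _ _ _
  have ht2 : t ≫ (πi ∣_ Ui) = π ∣_ (b ⁻¹ᵁ Ui) ≫ b ∣_ Ui := by
    rw [ht]; exact H3.lift_snd _ _ _
  have H4 : IsPullback t (π ∣_ (b ⁻¹ᵁ Ui)) (πi ∣_ Ui) (b ∣_ Ui) := by
    refine IsPullback.of_right ?_ ht2 H3
    rw [ht1]
    exact H2
  exact H4.isIso_snd_of_isIso

/-- Base change of a Chow cover along `σ : S ⟶ T`, followed by restriction to a closed subscheme;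
version remembering that the new cover is a base change of the old one. -/
theorem chow_base_change_open (n : ℕ) {S T Xi X' X AT : Scheme.{u}} (σ : S ⟶ T) (F : Xi ⟶ T)
    (f' : X' ⟶ S) (g' : X' ⟶ Xi) (hpb : IsPullback g' f' F σ)
    (ji : AT ⟶ CohB1.ProjSpaceOver n T) (πi : AT ⟶ Xi) [IsImmersion ji] [IsProper πi]
    [Surjective πi] (hcomp : ji ≫ CohB1.ProjSpaceOver.toBase n T = πi ≫ F)
    (ι : X ⟶ X') [IsClosedImmersion ι] (f : X ⟶ S) (hf : ι ≫ f' = f) :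
    ∃ (X'' : Scheme.{u}) (π : X'' ⟶ X) (j : X'' ⟶ CohB1.ProjSpaceOver n S),
      IsImmersion j ∧ j ≫ CohB1.ProjSpaceOver.toBase n S = π ≫ f ∧ IsProper π ∧ Surjective π ∧
      ∃ a : X'' ⟶ AT, IsPullback a π πi (ι ≫ g') := by
  have PB0 := isPullback_projMap n σ
  have PB2 : IsPullback (pullback.fst ji (FGA.projMap n σ)) (pullback.snd ji (FGA.projMap n σ))
      ji (FGA.projMap n σ) := IsPullback.of_hasPullback _ _
  have PB3 : IsPullback (pullback.fst ji (FGA.projMap n σ))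
      (pullback.snd ji (FGA.projMap n σ) ≫ CohB1.ProjSpaceOver.toBase n S)
      (ji ≫ CohB1.ProjSpaceOver.toBase n T) σ := PB2.paste_vert PB0
  have hw : (pullback.fst ji (FGA.projMap n σ) ≫ πi) ≫ F =
      (pullback.snd ji (FGA.projMap n σ) ≫ CohB1.ProjSpaceOver.toBase n S) ≫ σ := by
    rw [Category.assoc, ← hcomp]
    exact PB3.w
  obtain ⟨πS, hπS⟩ : ∃ πS, πS = hpb.lift (pullback.fst ji (FGA.projMap n σ) ≫ πi)
      (pullback.snd ji (FGA.projMap n σ) ≫ CohB1.ProjSpaceOver.toBase n S) hw := ⟨_, rfl⟩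
  have hπS1 : πS ≫ g' = pullback.fst ji (FGA.projMap n σ) ≫ πi := by
    rw [hπS]; exact hpb.lift_fst _ _ _
  have hπS2 : πS ≫ f' = pullback.snd ji (FGA.projMap n σ) ≫ CohB1.ProjSpaceOver.toBase n S := by
    rw [hπS]; exact hpb.lift_snd _ _ _
  have PB4 : IsPullback (pullback.fst ji (FGA.projMap n σ)) πS πi g' := by
    refine IsPullback.of_bot ?_ hπS1.symm hpb
    rw [hπS2, ← hcomp]
    exact PB3
  haveI : IsProper πS := MorphismProperty.of_isPullback PB4 inferInstance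
  haveI : Surjective πS := MorphismProperty.of_isPullback PB4 inferInstance
  refine ⟨pullback πS ι, pullback.snd πS ι,
    pullback.fst πS ι ≫ pullback.snd ji (FGA.projMap n σ), inferInstance, ?_, inferInstance,
    inferInstance, pullback.fst πS ι ≫ pullback.fst ji (FGA.projMap n σ), ?_⟩
  · rw [Category.assoc, ← hπS2, ← Category.assoc, pullback.condition, Category.assoc, hf]
  · exact (IsPullback.of_hasPullback πS ι).paste_horiz PB4

/-- **Chow's lemma over a qcqs base, with a nonempty open of isomorphism** (no finiteness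
assumption on the irreducible components). -/
theorem chow_nonempty_open {X S : Scheme.{u}} (f : X ⟶ S) [CompactSpace S] [QuasiSeparatedSpace S]
    [IsSeparated f] [LocallyOfFiniteType f] [QuasiCompact f] [Nonempty X] :
    ∃ (n : ℕ) (X'' : Scheme.{u}) (π : X'' ⟶ X) (j : X'' ⟶ CohB1.ProjSpaceOver n S),
      IsImmersion j ∧ j ≫ CohB1.ProjSpaceOver.toBase n S = π ≫ f ∧ IsProper π ∧ Surjective π ∧
      ∃ U : X.Opens, (U : Set X).Nonempty ∧ IsIso (π ∣_ U) := by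
  obtain ⟨X', f', ι, hsepf', hfpf', hqcf', hι, hιf⟩ := Groth.Agent.S7395.result f
  haveI := hsepf'; haveI := hfpf'; haveI := hqcf'; haveI := hι
  obtain ⟨I, _, _, _, D, c, hc, haffD, hD, ⟨e⟩⟩ := Groth.Agent.S0590.result S
  haveI : ∀ (i j : Iᵒᵖ) (f : i ⟶ j), IsAffineHom (D.map f) := haffD
  haveI : ∀ i, CompactSpace (D.obj i) := fun i => (hD i).1
  haveI : ∀ i, IsNoetherian (D.obj i) := fun i =>
    Groth.Agent.Lib.Helper70.ChowQcqsB.isNoetherian_of_lft (hD i).2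
  haveI : ∀ i, QuasiSeparatedSpace (D.obj i) := fun i => inferInstance
  haveI : IsCofiltered Iᵒᵖ := inferInstance
  obtain ⟨f'', hf''⟩ : ∃ f'' : X' ⟶ c.pt, f'' = f' ≫ e.inv := ⟨_, rfl⟩
  haveI : LocallyOfFinitePresentation f'' := by rw [hf'']; infer_instance
  haveI : QuasiCompact f'' := by rw [hf'']; infer_instance
  haveI : IsSeparated f'' := by rw [hf'']; infer_instance
  obtain ⟨i, Xi, fi, g, hfi1, hfi2, hfi3, hpb⟩ := Groth.Agent.S0591.result D c hc X' f''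
  haveI : CompactSpace Xi := QuasiCompact.compactSpace_of_compactSpace fi
  haveI : QuasiSeparatedSpace Xi := quasiSeparatedSpace_of_quasiSeparated fi
  have hY : IsPullback (c.π.app i) (𝟙 c.pt) (𝟙 (D.obj i)) (c.π.app i) :=
    IsPullback.id_vert (c.π.app i)
  obtain ⟨i', φ, Xi', Yi, fi', gi, pY, pX, h1, h2, hsep⟩ :=
    Groth.Agent.S9190.result D c hc i fi (𝟙 _) f'' (𝟙 c.pt) (c.π.app i) g hY hpb
  haveI : IsIso gi := h1.isIso_snd_of_isIso
  obtain ⟨F, hF⟩ : ∃ F : Xi' ⟶ D.obj i', F = fi' ≫ gi := ⟨_, rfl⟩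
  haveI : IsSeparated F := by rw [hF]; infer_instance
  have hbig : IsPullback pX F fi (D.map φ) := by
    have := h2.paste_vert h1
    rw [Category.comp_id] at this
    rw [hF]
    exact this
  haveI : LocallyOfFinitePresentation F := MorphismProperty.of_isPullback hbig hfi1
  haveI : QuasiCompact F := MorphismProperty.of_isPullback hbig hfi2
  have hw : g ≫ fi = (f'' ≫ c.π.app i') ≫ D.map φ :=
    calc g ≫ fi = f'' ≫ c.π.app i := hpb.w
      _ = (f'' ≫ c.π.app i') ≫ D.map φ := by rw [Category.assoc, Cone.w]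
  obtain ⟨q, hq⟩ : ∃ q : X' ⟶ Xi', q = hbig.lift g (f'' ≫ c.π.app i') hw := ⟨_, rfl⟩
  have hq1 : q ≫ pX = g := by rw [hq]; exact hbig.lift_fst _ _ _
  have hq2 : q ≫ F = f'' ≫ c.π.app i' := by rw [hq]; exact hbig.lift_snd _ _ _
  have hsq : IsPullback q f'' F (c.π.app i') := by
    refine IsPullback.of_right ?_ hq2 hbig
    rw [hq1, c.w]
    exact hpb
  -- the Noetherian stage
  haveI : CompactSpace Xi' := QuasiCompact.compactSpace_of_compactSpace F
  haveI : IsNoetherian Xi' := by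
    apply Groth.Agent.Lib.Helper70.ChowQcqsB.isNoetherian_of_lft
    have : IsTerminal.from specULiftZIsTerminal Xi' =
        F ≫ IsTerminal.from specULiftZIsTerminal (D.obj i') := specULiftZIsTerminal.hom_ext _ _
    rw [this]
    haveI := (hD i').2
    infer_instance
  obtain ⟨σ, hσ⟩ : ∃ σ : S ⟶ D.obj i', σ = e.inv ≫ c.π.app i' := ⟨_, rfl⟩
  have hpb' : IsPullback q f' F σ := by
    have h3 : IsPullback (𝟙 X') f' f'' e.inv := by
      refine IsPullback.of_horiz_isIso ⟨?_⟩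
      rw [Category.id_comp, hf'']
    have := h3.paste_horiz hsq
    rw [Category.id_comp] at this
    rw [hσ]
    exact this
  -- the scheme-theoretic image of `X` in the Noetherian model
  haveI : CompactSpace X := QuasiCompact.compactSpace_of_compactSpace f
  obtain ⟨h₀, hh₀⟩ : ∃ h₀ : X ⟶ Xi', h₀ = ι ≫ q := ⟨_, rfl⟩
  haveI : QuasiCompact h₀ := inferInstance
  obtain ⟨iZ, hiZ⟩ : ∃ iZ : h₀.image ⟶ Xi', iZ = h₀.imageι := ⟨_, rfl⟩
  obtain ⟨h, hh⟩ : ∃ h : X ⟶ h₀.image, h = h₀.toImage := ⟨_, rfl⟩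
  haveI : IsClosedImmersion iZ := by rw [hiZ]; infer_instance
  haveI : IsDominant h := by rw [hh]; infer_instance
  have hhi : h ≫ iZ = ι ≫ q := by rw [hh, hiZ, Scheme.Hom.toImage_imageι, hh₀]
  obtain ⟨FZ, hFZ⟩ : ∃ FZ : h₀.image ⟶ D.obj i', FZ = iZ ≫ F := ⟨_, rfl⟩
  haveI : IsSeparated FZ := by rw [hFZ]; infer_instance
  haveI : LocallyOfFiniteType FZ := by rw [hFZ]; infer_instance
  haveI : QuasiCompact FZ := by rw [hFZ]; infer_instance
  haveI : CompactSpace h₀.image := QuasiCompact.compactSpace_of_compactSpace FZ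
  haveI : IsLocallyNoetherian h₀.image := LocallyOfFiniteType.isLocallyNoetherian FZ
  haveI : IsNoetherian h₀.image := {}
  have hirr : (irreducibleComponents (h₀.image : Type u)).Finite :=
    TopologicalSpace.NoetherianSpace.finite_irreducibleComponents
  obtain ⟨n, AT, πi, ji, hji, hcomp, hπi1, hπi2, Ui, hUi, hisoUi⟩ :=
    Groth.Agent.S7410.result FZ hirr
  -- the closed immersion `X ⟶ Z ×_T S`
  have hwZ : h ≫ FZ = f ≫ σ := by
    rw [hFZ, ← Category.assoc, hhi, Category.assoc, hpb'.w, ← Category.assoc, hιf]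
  obtain ⟨ιZ, hιZ⟩ : ∃ ιZ : X ⟶ pullback FZ σ, ιZ = pullback.lift h f hwZ := ⟨_, rfl⟩
  have hιZ1 : ιZ ≫ pullback.fst FZ σ = h := by rw [hιZ]; exact pullback.lift_fst _ _ _
  have hιZ2 : ιZ ≫ pullback.snd FZ σ = f := by rw [hιZ]; exact pullback.lift_snd _ _ _
  have hwm : (pullback.fst FZ σ ≫ iZ) ≫ F = pullback.snd FZ σ ≫ σ := by
    rw [Category.assoc, ← hFZ, pullback.condition]
  obtain ⟨m, hm⟩ : ∃ m : pullback FZ σ ⟶ X', m = hpb'.lift (pullback.fst FZ σ ≫ iZ)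
      (pullback.snd FZ σ) hwm := ⟨_, rfl⟩
  have hm1 : m ≫ q = pullback.fst FZ σ ≫ iZ := by rw [hm]; exact hpb'.lift_fst _ _ _
  have hm2 : m ≫ f' = pullback.snd FZ σ := by rw [hm]; exact hpb'.lift_snd _ _ _
  haveI : Mono m := by
    constructor
    intro W a b hab
    apply pullback.hom_ext
    · rw [← cancel_mono iZ, Category.assoc, Category.assoc, ← hm1, ← Category.assoc,
        ← Category.assoc, hab]
    · rw [← hm2, ← Category.assoc, ← Category.assoc, hab]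
  have hιm : ιZ ≫ m = ι := by
    apply hpb'.hom_ext
    · rw [Category.assoc, hm1, ← Category.assoc, hιZ1, hhi]
    · rw [Category.assoc, hm2, hιZ2, hιf]
  haveI : IsClosedImmersion (ιZ ≫ m) := by rw [hιm]; infer_instance
  haveI : IsClosedImmersion ιZ := IsClosedImmersion.of_comp ιZ m
  obtain ⟨X'', π, j, hj1, hj2, hj3, hj4, a, ha⟩ :=
    chow_base_change_open n σ FZ (pullback.snd FZ σ) (pullback.fst FZ σ)
      (IsPullback.of_hasPullback FZ σ) ji πi hcomp ιZ f hιZ2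
  rw [hιZ1] at ha
  refine ⟨n, X'', π, j, hj1, hj2, hj3, hj4, h ⁻¹ᵁ Ui, ?_,
    isIso_morphismRestrict_of_isPullback ha Ui⟩
  -- nonemptiness
  have hne : (Ui : Set h₀.image).Nonempty := by
    haveI : Nonempty h₀.image := Nonempty.map h inferInstance
    exact hUi.nonempty
  obtain ⟨x, hx⟩ := (IsDominant.denseRange (f := h)).exists_mem_open Ui.2 hne
  exact ⟨x, hx⟩

end Groth.Agent.Lib.Helper48.ChowRel
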