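import Mathlib
import Groth.Prelude
import Groth.Agent.Lib.Helper3.CompleteFinite
import Groth.Agent.Lib.Helper48.CompleteLocalNagata

/-!
# Finite domains over complete local rings are complete local (helper48)
-/

set_option autoImplicit false
set_option linter.style.haveILetI false
set_option linter.unusedSectionVars false

universe u

namespace Groth.Agent.Lib.Helper48

open IsLocalRing

/-- A domain which is a finite algebra over a complete Noetherian local ring is a complete local
ring. -/
theorem isLocalRing_isAdicComplete_of_finite_domain (A S : Type u) [CommRing A] [IsLocalRing A]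
    [IsNoetherianRing A] [IsAdicComplete (maximalIdeal A) A] [CommRing S] [IsDomain S]
    [Algebra A S] [Module.Finite A S] :
    ∃ _ : IsLocalRing S, IsAdicComplete (maximalIdeal S) S := by
  classical
  obtain ⟨-, hbij, hcomp⟩ := Groth.Agent.Lib.Helper3.finite_algebra_over_complete_local A S
  have huniq : ∀ m₁ m₂ : MaximalSpectrum S, m₁ = m₂ := by
    intro m₁ m₂
    by_contra hne
    obtain ⟨a, ha⟩ := hbij.2 (Pi.single m₁ 1)
    obtain ⟨b, hb⟩ := hbij.2 (1 - Pi.single m₁ 1)
    have hab : a * b = 0 := by
      apply hbij.1
      rw [map_mul, ha, hb, map_zero]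
      funext m
      by_cases hm : m = m₁
      · subst hm
        simp
      · simp [Pi.single_eq_of_ne hm]
    have ha0 : a ≠ 0 := by
      intro h
      rw [h, map_zero] at ha
      have := congrFun ha m₁
      simp at this
    have hb0 : b ≠ 0 := by
      intro h
      rw [h, map_zero] at hb
      have := congrFun hb m₂
      simp [Pi.single_eq_of_ne (Ne.symm hne)] at this
    rcases mul_eq_zero.mp hab with h | h
    · exact ha0 h
    · exact hb0 h
  obtain ⟨m, hm⟩ := Ideal.exists_maximal S
  haveI hloc : IsLocalRing S := by
    refine IsLocalRing.of_unique_max_ideal ⟨m, hm, fun m' hm' => ?_⟩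
    exact congrArg MaximalSpectrum.asIdeal (huniq ⟨m', hm'⟩ ⟨m, hm⟩)
  refine ⟨hloc, ?_⟩
  have hmeq : m = maximalIdeal S := IsLocalRing.eq_maximalIdeal hm
  obtain ⟨hN, hC⟩ := hcomp ⟨m, hm⟩
  have hunits : m.primeCompl ≤ IsUnit.submonoid S := by
    intro s hs
    rw [IsUnit.mem_submonoid_iff]
    by_contra hsu
    exact hs (hmeq ▸ (mem_maximalIdeal s).mpr hsu)
  let e : S ≃+* Localization.AtPrime m :=
    (IsLocalization.atUnits S m.primeCompl (S := Localization.AtPrime m) hunits).toRingEquiv
  have hmap : (maximalIdeal S).map e = maximalIdeal (Localization.AtPrime m) :=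
    IsLocalRing.map_ringEquiv_maximalIdeal e
  have hC' : IsAdicComplete ((maximalIdeal S).map e) (Localization.AtPrime m) := by
    rw [hmap]; exact hC
  exact (IsAdicComplete.congr_ringEquiv (maximalIdeal S) e).mp hC'

end Groth.Agent.Lib.Helper48
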