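import Mathlib
import Groth.Prelude
import Groth.Agent.Lib.Helper48.AnalyticallyUnramified
import Groth.Agent.Lib.Helper48.NagataFiniteType
import Groth.Agent.S9407

set_option autoImplicit false
set_option linter.style.haveILetI false
universe u

namespace Groth.Agent.Lib.Helper48

open TensorProduct IsLocalRing

/-- Let `A` be a Noetherian local ring and `B` a domain of finite type over `A`.  If
`B ⊗[A] Â` is reduced then `B` is N-1. -/
theorem isN1_of_isReduced_tensor_adicCompletion {A B : Type u} [CommRing A] [IsLocalRing A]
    [IsNoetherianRing A] [CommRing B] [IsDomain B] [Algebra A B] [Algebra.FiniteType A B]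
    (h : IsReduced (B ⊗[A] AdicCompletion (maximalIdeal A) A)) : CAlg.IsN1 B := by
  haveI : IsNoetherianRing (AdicCompletion (maximalIdeal A) A) :=
    Groth.Agent.S0543.result A (maximalIdeal A)
  haveI : Module.FaithfullyFlat A (AdicCompletion (maximalIdeal A) A) :=
    Module.FaithfullyFlat.of_flat_of_isLocalHom
  have hNag : CAlg.IsNagata (AdicCompletion (maximalIdeal A) A) :=
    isNagata_of_complete_local _
  letI aC : Algebra (AdicCompletion (maximalIdeal A) A)
      (B ⊗[A] AdicCompletion (maximalIdeal A) A) := Algebra.TensorProduct.rightAlgebra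
  let e : (AdicCompletion (maximalIdeal A) A) ⊗[A] B ≃ₐ[AdicCompletion (maximalIdeal A) A]
      B ⊗[A] AdicCompletion (maximalIdeal A) A :=
    AlgEquiv.ofRingEquiv
      (f := (Algebra.TensorProduct.comm A (AdicCompletion (maximalIdeal A) A) B).toRingEquiv)
      (fun x => by
        simp [Algebra.TensorProduct.algebraMap_apply, RingHom.algebraMap_toAlgebra])
  haveI : Algebra.FiniteType (AdicCompletion (maximalIdeal A) A)
      (B ⊗[A] AdicCompletion (maximalIdeal A) A) :=
    Algebra.FiniteType.equiv inferInstance e
  have hC : CAlg.IsNagata (B ⊗[A] AdicCompletion (maximalIdeal A) A) :=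
    isNagata_of_finiteType hNag
  haveI := hC.1
  haveI : Module.FaithfullyFlat B (B ⊗[A] AdicCompletion (maximalIdeal A) A) := inferInstance
  exact isN1_of_faithfullyFlat_of_isReduced (C := B ⊗[A] AdicCompletion (maximalIdeal A) A)
    (fun q _ _ => isN1_of_isN2 (hC.2 q))

/-- If `B_g` is étale over `A` (with `g ≠ 0` in the domain `B`) and `Â` is reduced, then
`B ⊗[A] Â` is reduced. -/
theorem isReduced_tensor_adicCompletion_of_etale_away {A B : Type u} [CommRing A] [IsLocalRing A]
    [IsNoetherianRing A] [IsReduced (AdicCompletion (maximalIdeal A) A)]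
    [CommRing B] [IsDomain B] [Algebra A B] (g : B) (hg : g ≠ 0)
    (Bg : Type u) [CommRing Bg] [Algebra B Bg] [IsLocalization.Away g Bg] [Algebra A Bg]
    [IsScalarTower A B Bg] [Algebra.Etale A Bg] :
    IsReduced (B ⊗[A] AdicCompletion (maximalIdeal A) A) := by
  haveI : Algebra.Smooth (AdicCompletion (maximalIdeal A) A)
      (AdicCompletion (maximalIdeal A) A ⊗[A] Bg) := inferInstance
  have hred : IsReduced (AdicCompletion (maximalIdeal A) A ⊗[A] Bg) :=
    Groth.Agent.S9407.result (AdicCompletion (maximalIdeal A) A)
      (AdicCompletion (maximalIdeal A) A ⊗[A] Bg)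
  have hinjB : Function.Injective (algebraMap B Bg) :=
    IsLocalization.injective Bg (Submonoid.powers_le.mpr (mem_nonZeroDivisors_of_ne_zero hg))
  have hinj1 : Function.Injective
      ((IsScalarTower.toAlgHom A B Bg).toLinearMap.rTensor (AdicCompletion (maximalIdeal A) A)) :=
    Module.Flat.rTensor_preserves_injective_linearMap _ hinjB
  let ψ : B ⊗[A] AdicCompletion (maximalIdeal A) A →+*
      AdicCompletion (maximalIdeal A) A ⊗[A] Bg :=
    (Algebra.TensorProduct.comm A Bg (AdicCompletion (maximalIdeal A) A)).toRingEquiv.toRingHom.comp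
      (Algebra.TensorProduct.map (IsScalarTower.toAlgHom A B Bg)
        (AlgHom.id A (AdicCompletion (maximalIdeal A) A))).toRingHom
  refine isReduced_of_injective ψ ?_
  refine (Algebra.TensorProduct.comm A Bg (AdicCompletion (maximalIdeal A) A)).injective.comp ?_
  intro x y hxy
  apply hinj1
  have h : ∀ z : B ⊗[A] AdicCompletion (maximalIdeal A) A,
      (Algebra.TensorProduct.map (IsScalarTower.toAlgHom A B Bg)
        (AlgHom.id A (AdicCompletion (maximalIdeal A) A))).toRingHom z =
      ((IsScalarTower.toAlgHom A B Bg).toLinearMap.rTensor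
        (AdicCompletion (maximalIdeal A) A)) z := by
    intro z
    induction z using TensorProduct.induction_on with
    | zero => simp
    | tmul a b => simp
    | add a b ha hb => rw [map_add, map_add, ha, hb]
  rw [← h, ← h]
  exact hxy

end Groth.Agent.Lib.Helper48
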