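import Mathlib

/-!
# Curve valuative criteria, algebra part 1 (helper48)

`exists_prime_coheight_one`: in a Noetherian ring, given primes `P ≤ m` and `h ∈ m \ P`, there is a
prime `P ≤ P1 ≤ m` avoiding `h` such that there is no prime strictly between `P1` and `m`.
-/

set_option autoImplicit false
universe u

namespace Groth.Agent.Lib.Helper48.CurveCrit

/-- In a Noetherian domain, if a prime `m` contains `h ≠ 0` and every nonzero prime below `m` contains
`h`, then every nonzero prime below `m` equals `m`. -/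
theorem eq_of_forall_mem_of_ne_bot {R : Type*} [CommRing R] [IsDomain R] [IsNoetherianRing R]
    (m : Ideal R) [hm : m.IsPrime] (h : R) (hhm : h ∈ m) (hh0 : h ≠ 0)
    (H : ∀ q : Ideal R, q.IsPrime → q ≠ ⊥ → q ≤ m → h ∈ q)
    (q : Ideal R) (hq : q.IsPrime) (hq0 : q ≠ ⊥) (hqm : q ≤ m) : q = m := by
  classical
  by_contra hne
  have hlt : q < m := lt_of_le_of_ne hqm hne
  have hbq : (⊥ : Ideal R) < q := bot_lt_iff_ne_bot.mpr hq0
  haveI : (⊥ : Ideal R).IsPrime := Ideal.isPrime_bot
  -- height of `m` is at least `2`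
  have h2 : (2 : ℕ∞) ≤ m.height := by
    have h1 := Ideal.height_add_one_le_of_lt_of_isPrime hbq
    have h1' := Ideal.height_add_one_le_of_lt_of_isPrime hlt
    calc (2 : ℕ∞) = 0 + 1 + 1 := by norm_num
      _ ≤ (⊥ : Ideal R).height + 1 + 1 := by gcongr; exact bot_le
      _ ≤ q.height + 1 := by gcongr
      _ ≤ m.height := h1'
  have hfin : ((Ideal.span {h}).minimalPrimes).Finite :=
    Ideal.finite_minimalPrimes_of_isNoetherianRing R _
  have hT1 : ∀ p ∈ (Ideal.span {h}).minimalPrimes, p.height ≤ 1 := fun p hp =>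
    Ideal.height_le_one_of_isPrincipal_of_mem_minimalPrimes (Ideal.span {h}) p hp
  have hspan_le : Ideal.span {h} ≤ m := (Ideal.span_singleton_le_iff_mem _).mpr hhm
  obtain ⟨p0, hp0, hp0m⟩ := Ideal.exists_minimalPrimes_le hspan_le
  -- prime avoidance
  have hnot : ¬ ((m : Set R) ⊆ ⋃ p ∈ (hfin.toFinset : Set (Ideal R)), (p : Set R)) := by
    intro hsub
    rw [Ideal.subset_union_prime (R := R) (s := hfin.toFinset) (f := fun p => p) p0 p0
      (fun p hp _ _ => (hfin.mem_toFinset.mp hp).1.1)] at hsub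
    obtain ⟨p, hp, hmp⟩ := hsub
    have hp' := hfin.mem_toFinset.mp hp
    have := (Ideal.height_mono hmp).trans (hT1 p hp')
    have h21 : (2 : ℕ∞) ≤ 1 := h2.trans this
    exact absurd h21 (by norm_num)
  obtain ⟨g, hgm, hg⟩ := Set.not_subset.mp hnot
  have hg' : ∀ p ∈ (Ideal.span {h}).minimalPrimes, g ∉ p := by
    intro p hp hgp
    apply hg
    simp only [Set.mem_iUnion]
    exact ⟨p, by simpa using hp, hgp⟩
  have hg0 : g ≠ 0 := by
    rintro rfl
    exact hg' p0 hp0 p0.zero_mem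
  have hgspan : Ideal.span {g} ≤ m := (Ideal.span_singleton_le_iff_mem _).mpr hgm
  obtain ⟨n', hn', hn'm⟩ := Ideal.exists_minimalPrimes_le hgspan
  haveI hn'p : n'.IsPrime := hn'.1.1
  have hgn' : g ∈ n' := hn'.1.2 (Ideal.mem_span_singleton_self g)
  have hn'0 : n' ≠ ⊥ := by
    rintro rfl
    exact hg0 (by simpa using hgn')
  have hn'1 : n'.height ≤ 1 :=
    Ideal.height_le_one_of_isPrincipal_of_mem_minimalPrimes (Ideal.span {g}) n' hn'
  have hhn' : h ∈ n' := H n' hn'p hn'0 hn'm
  have hspan_le' : Ideal.span {h} ≤ n' := (Ideal.span_singleton_le_iff_mem _).mpr hhn'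
  obtain ⟨p, hp, hpn'⟩ := Ideal.exists_minimalPrimes_le hspan_le'
  haveI hpp : p.IsPrime := hp.1.1
  have hp0' : p ≠ ⊥ := by
    rintro rfl
    exact hh0 (by simpa using hp.1.2 (Ideal.mem_span_singleton_self h))
  have hpeq : p = n' := by
    by_contra hpne
    have hlt' : p < n' := lt_of_le_of_ne hpn' hpne
    have h3 := (Ideal.height_add_one_le_of_lt_of_isPrime hlt').trans hn'1
    have h4 : p.height = 0 := by
      by_contra hne0
      have h5 : (1 : ℕ∞) ≤ p.height := Order.one_le_iff_pos.mpr (pos_iff_ne_zero.mpr hne0)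
      have h6 : (1 : ℕ∞) + 1 ≤ 1 := (add_le_add_left h5 1).trans h3
      exact absurd h6 (by norm_num)
    exact hp0' (Ideal.height_eq_zero_iff_eq_bot.mp h4)
  exact hg' p hp (hpeq ▸ hgn')

/-- In a Noetherian ring, given primes `P ≤ m` and `h ∈ m \ P`, there is a prime `P ≤ P1 ≤ m`
avoiding `h` such that there is no prime strictly between `P1` and `m`. -/
theorem exists_prime_coheight_one {R : Type*} [CommRing R] [IsNoetherianRing R]
    (P m : Ideal R) [hP : P.IsPrime] [hm : m.IsPrime] (hPm : P ≤ m) (h : R) (hhm : h ∈ m)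
    (hhP : h ∉ P) :
    ∃ P1 : Ideal R, P1.IsPrime ∧ P ≤ P1 ∧ P1 ≤ m ∧ h ∉ P1 ∧
      ∀ q : Ideal R, q.IsPrime → P1 ≤ q → q ≤ m → q = P1 ∨ q = m := by
  classical
  let S : Set (Ideal R) := {q | q.IsPrime ∧ P ≤ q ∧ q ≤ m ∧ h ∉ q}
  have hS : S.Nonempty := ⟨P, hP, le_rfl, hPm, hhP⟩
  obtain ⟨P1, hP1S, hmax⟩ := set_has_maximal_iff_noetherian.mpr
    (inferInstance : IsNoetherian R R) S hS
  obtain ⟨hP1p, hPP1, hP1m, hhP1⟩ := hP1S
  haveI := hP1p
  refine ⟨P1, hP1p, hPP1, hP1m, hhP1, fun q hq hP1q hqm => ?_⟩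
  by_cases hhq : h ∈ q
  swap
  · left
    by_contra hne
    exact hmax q ⟨hq, hPP1.trans hP1q, hqm, hhq⟩ (lt_of_le_of_ne hP1q (Ne.symm hne))
  right
  -- pass to the quotient domain
  let π := Ideal.Quotient.mk P1
  have hπ : Function.Surjective π := Ideal.Quotient.mk_surjective
  have hker : RingHom.ker π = P1 := Ideal.mk_ker
  haveI hmbar : (m.map π).IsPrime :=
    Ideal.map_isPrime_of_surjective hπ (by rw [hker]; exact hP1m)
  have hqbar : (q.map π).IsPrime :=
    Ideal.map_isPrime_of_surjective hπ (by rw [hker]; exact hP1q)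
  have hcm : ∀ I : Ideal R, P1 ≤ I → (I.map π).comap π = I := fun I hI => by
    rw [Ideal.comap_map_of_surjective π hπ, ← RingHom.ker_eq_comap_bot, hker]
    exact sup_eq_left.mpr hI
  have hqne : q ≠ P1 := fun e => hhP1 (e ▸ hhq)
  have key := eq_of_forall_mem_of_ne_bot (m.map π) (π h) (Ideal.mem_map_of_mem π hhm)
    (by
      intro h0
      exact hhP1 (Ideal.Quotient.eq_zero_iff_mem.mp h0))
    (by
      intro q' hq' hq'0 hq'm
      haveI := hq'
      have h1 : (q'.comap π).IsPrime := Ideal.comap_isPrime π q'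
      have h2 : P1 ≤ q'.comap π := by
        intro x hx
        rw [Ideal.mem_comap]
        have h0 : π x = 0 := Ideal.Quotient.eq_zero_iff_mem.mpr hx
        rw [h0]
        exact q'.zero_mem
      have h3 : q'.comap π ≤ m := by
        have := Ideal.comap_mono (f := π) hq'm
        rwa [hcm m hP1m] at this
      by_contra hh
      have hh' : h ∉ q'.comap π := hh
      have h4 : ¬ P1 < q'.comap π := hmax _ ⟨h1, hPP1.trans h2, h3, hh'⟩
      have h5 : q'.comap π = P1 := by
        by_contra hne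
        exact h4 (lt_of_le_of_ne h2 (Ne.symm hne))
      apply hq'0
      rw [← Ideal.map_comap_of_surjective π hπ q', h5]
      exact (Ideal.map_eq_bot_iff_le_ker π).mpr hker.ge)
    (q.map π) hqbar
    (by
      intro h0
      apply hqne
      have h7 := hcm q hP1q
      rw [h0, ← RingHom.ker_eq_comap_bot] at h7
      exact h7.symm.trans hker)
    (Ideal.map_mono hqm)
  rw [← hcm q hP1q, key, hcm m hP1m]

end Groth.Agent.Lib.Helper48.CurveCrit
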