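import Mathlib
import Groth.Agent.Lib.Helper48.CurveCrit1
import Groth.Agent.Lib.Helper48.NagataNormalization2
import Groth.Agent.Lib.Helper48.NagataFormalFibres
import Groth.Agent.Lib.Helper48.MonogenicBirational

/-!
# Curve valuative criteria, algebra part 2 (helper48)

`exists_normal_curve_data`: the algebraic core of the "curves over a Nagata base" valuative
criteria. Given a finite type algebra `A` over a Nagata ring `R0`, a prime `Q0` of `A` over a prime
`P1` of `R0` which has coheight one in a prime `m` (maximal in some `D(g0)`), we produce a normal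
domain `D2` of finite type over `R0` with a maximal ideal `n2` of height one over `m`, and a map
from `A` to `D2[1/dd]` killing `Q0`, where `n2` is the only prime of `D2` containing `dd`.
-/

set_option autoImplicit false
universe u

namespace Groth.Agent.Lib.Helper48.CurveCrit

open TensorProduct


/-- A point of the fibre with finite residue field extension, presented as a field. -/
theorem exists_field_finite_over_residueField {R0 A : Type u} [CommRing R0] [CommRing A]
    [Algebra R0 A] [Algebra.FiniteType R0 A] (Q0 : Ideal A) [Q0.IsPrime] (P1 : Ideal R0)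
    [P1.IsPrime] (hQ0 : Q0.comap (algebraMap R0 A) = P1) :
    ∃ (L : Type u) (_ : Field L) (_ : Algebra P1.ResidueField L) (_ : Algebra R0 L)
      (_ : IsScalarTower R0 P1.ResidueField L) (ρ : A →ₐ[R0] L),
      Module.Finite P1.ResidueField L ∧ ∀ a ∈ Q0, ρ a = 0 := by
  let B := A ⧸ Q0
  let K := P1.ResidueField
  let F := K ⊗[R0] B
  haveI : Nontrivial F := by
    refine (PrimeSpectrum.nontrivial_iff_mem_rangeComap (S := B) ⟨P1, inferInstance⟩).mpr ?_
    refine ⟨⟨⊥, Ideal.isPrime_bot⟩, ?_⟩
    ext x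
    simp only [PrimeSpectrum.comap_asIdeal, Ideal.mem_comap, Ideal.mem_bot]
    rw [← hQ0, Ideal.mem_comap, IsScalarTower.algebraMap_apply R0 A B,
      Ideal.Quotient.algebraMap_eq, Ideal.Quotient.eq_zero_iff_mem]
  obtain ⟨M, hM⟩ := Ideal.exists_maximal F
  letI : Field (F ⧸ M) := Ideal.Quotient.field M
  haveI : Algebra.FiniteType R0 B := inferInstance
  haveI : Algebra.FiniteType K F := inferInstance
  haveI : Algebra.FiniteType K (F ⧸ M) :=
    Algebra.FiniteType.of_surjective (Ideal.Quotient.mkₐ K M) Ideal.Quotient.mk_surjective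
  have hfin : Module.Finite K (F ⧸ M) := finite_of_finite_type_of_isJacobsonRing K (F ⧸ M)
  let ρ : A →ₐ[R0] F ⧸ M :=
    ((Ideal.Quotient.mkₐ R0 M).comp
      (Algebra.TensorProduct.includeRight : B →ₐ[R0] F)).comp (Ideal.Quotient.mkₐ R0 Q0)
  refine ⟨F ⧸ M, inferInstance, inferInstance, inferInstance, inferInstance, ρ, hfin, ?_⟩
  intro a ha
  have : (Ideal.Quotient.mkₐ R0 Q0) a = 0 := Ideal.Quotient.eq_zero_iff_mem.mpr ha
  simp only [ρ, AlgHom.comp_apply, this, map_zero]



section Setup

variable {R0 : Type u} [CommRing R0] (P1 : Ideal R0) [P1.IsPrime]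
  (L : Type u) [Field L] [Algebra P1.ResidueField L] [Algebra R0 L]
  [IsScalarTower R0 P1.ResidueField L]

/-- The `R0 ⧸ P1`-algebra structure on a field over the residue field. -/
@[reducible] noncomputable def algQuot : Algebra (R0 ⧸ P1) L :=
  ((algebraMap P1.ResidueField L).comp (algebraMap (R0 ⧸ P1) P1.ResidueField)).toAlgebra

attribute [local instance] algQuot

instance : IsScalarTower (R0 ⧸ P1) P1.ResidueField L := .of_algebraMap_eq (fun _ => rfl)

instance : IsScalarTower R0 (R0 ⧸ P1) L := .of_algebraMap_eq (fun x => by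
  rw [IsScalarTower.algebraMap_apply R0 P1.ResidueField L,
    IsScalarTower.algebraMap_apply R0 (R0 ⧸ P1) P1.ResidueField]
  rfl)

omit [Algebra R0 L] [IsScalarTower R0 P1.ResidueField L] in
theorem algebraMap_quot_injective : Function.Injective (algebraMap (R0 ⧸ P1) L) := by
  change Function.Injective ((algebraMap P1.ResidueField L).comp
    (algebraMap (R0 ⧸ P1) P1.ResidueField))
  exact (algebraMap P1.ResidueField L).injective.comp
    (IsFractionRing.injective (R0 ⧸ P1) P1.ResidueField)

end Setup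

attribute [local instance] algQuot

/-- Properties of the integral closure `D'` of `D = R0/P1` in `L` and a prime over `m`. -/
theorem exists_prime_integralClosure {R0 : Type u} [CommRing R0] (hR0 : CAlg.IsNagata R0)
    (P1 m : Ideal R0) [P1.IsPrime] [m.IsPrime] (hP1m : P1 ≤ m) (hne : P1 ≠ m)
    (hcov : ∀ q : Ideal R0, q.IsPrime → P1 ≤ q → q ≤ m → q = P1 ∨ q = m)
    (g0 : R0) (hmax : ∀ q : Ideal R0, q.IsPrime → m ≤ q → g0 ∉ q → q = m)
    (L : Type u) [Field L] [Algebra P1.ResidueField L] [Algebra R0 L]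
    [IsScalarTower R0 P1.ResidueField L] [Module.Finite P1.ResidueField L] :
    Module.Finite (R0 ⧸ P1) (integralClosure (R0 ⧸ P1) L) ∧
    IsIntegrallyClosed (integralClosure (R0 ⧸ P1) L) ∧
    ∃ n : Ideal (integralClosure (R0 ⧸ P1) L), n.IsPrime ∧
      n.comap (algebraMap R0 (integralClosure (R0 ⧸ P1) L)) = m ∧ n ≠ ⊥ ∧
      (∀ q : Ideal (integralClosure (R0 ⧸ P1) L), q.IsPrime → q < n → q = ⊥) ∧
      (∀ q : Ideal (integralClosure (R0 ⧸ P1) L), q.IsPrime → n ≤ q →
        algebraMap R0 (integralClosure (R0 ⧸ P1) L) g0 ∉ q → q = n) := by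
  classical
  haveI := hR0.1
  have hDnag : CAlg.IsNagata (R0 ⧸ P1) :=
    isNagata_of_surjective (Ideal.Quotient.mk P1) Ideal.Quotient.mk_surjective hR0
  haveI : IsNoetherianRing (R0 ⧸ P1) := hDnag.1
  haveI : Algebra.EssFiniteType (R0 ⧸ P1) P1.ResidueField :=
    Algebra.EssFiniteType.of_isLocalization _ (nonZeroDivisors (R0 ⧸ P1))
  haveI : Algebra.EssFiniteType P1.ResidueField L := inferInstance
  haveI : Algebra.EssFiniteType (R0 ⧸ P1) L :=
    Algebra.EssFiniteType.comp (R0 ⧸ P1) P1.ResidueField L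
  have hfin : Module.Finite (R0 ⧸ P1) (integralClosure (R0 ⧸ P1) L) :=
    finite_integralClosure_of_isNagata_of_essFiniteType_field hDnag
  have hic : IsIntegrallyClosed (integralClosure (R0 ⧸ P1) L) :=
    integralClosure.isIntegrallyClosedOfFiniteExtension P1.ResidueField
  refine ⟨hfin, hic, ?_⟩
  -- notation
  let π := Ideal.Quotient.mk P1
  have hπ : Function.Surjective π := Ideal.Quotient.mk_surjective
  have hker : RingHom.ker π = P1 := Ideal.mk_ker
  have hcm : ∀ I : Ideal R0, P1 ≤ I → (I.map π).comap π = I := fun I hI => by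
    rw [Ideal.comap_map_of_surjective π hπ, ← RingHom.ker_eq_comap_bot, hker]
    exact sup_eq_left.mpr hI
  have hmapP1 : P1.map π = ⊥ := (Ideal.map_eq_bot_iff_le_ker π).mpr hker.ge
  haveI hmbar : (m.map π).IsPrime :=
    Ideal.map_isPrime_of_surjective hπ (by rw [hker]; exact hP1m)
  have hinj : Function.Injective (algebraMap (R0 ⧸ P1) (integralClosure (R0 ⧸ P1) L)) := by
    intro x y hxy
    apply algebraMap_quot_injective P1 L
    have := congrArg (algebraMap (integralClosure (R0 ⧸ P1) L) L) hxy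
    rwa [← IsScalarTower.algebraMap_apply, ← IsScalarTower.algebraMap_apply] at this
  have hkerD : RingHom.ker (algebraMap (R0 ⧸ P1) (integralClosure (R0 ⧸ P1) L)) = ⊥ :=
    (RingHom.injective_iff_ker_eq_bot _).mp hinj
  haveI : Algebra.IsIntegral (R0 ⧸ P1) (integralClosure (R0 ⧸ P1) L) := inferInstance
  obtain ⟨n, hnp, hnc⟩ := Ideal.exists_ideal_over_prime_of_isIntegral_of_isDomain
    (S := integralClosure (R0 ⧸ P1) L) (m.map π) (by rw [hkerD]; exact bot_le)
  haveI := hnp
  have htower : ∀ q : Ideal (integralClosure (R0 ⧸ P1) L),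
      q.comap (algebraMap R0 (integralClosure (R0 ⧸ P1) L)) =
        (q.comap (algebraMap (R0 ⧸ P1) (integralClosure (R0 ⧸ P1) L))).comap π := by
    intro q
    rw [Ideal.comap_comap]
    congr 1
    exact IsScalarTower.algebraMap_eq R0 (R0 ⧸ P1) _
  have hlt : ∀ q q' : Ideal (integralClosure (R0 ⧸ P1) L), q.IsPrime → q < q' →
      q.comap (algebraMap (R0 ⧸ P1) (integralClosure (R0 ⧸ P1) L)) <
        q'.comap (algebraMap (R0 ⧸ P1) (integralClosure (R0 ⧸ P1) L)) := by
    intro q q' hq hqq'
    haveI := hq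
    obtain ⟨x, hxq', hxq⟩ := Set.exists_of_ssubset hqq'
    exact Ideal.comap_lt_comap_of_integral_mem_sdiff hqq'.le ⟨hxq', hxq⟩
      (Algebra.IsIntegral.isIntegral x)
  have hP1le : ∀ q : Ideal (R0 ⧸ P1), P1 ≤ q.comap π := by
    intro q x hx
    rw [Ideal.mem_comap]
    have h0 : π x = 0 := Ideal.Quotient.eq_zero_iff_mem.mpr hx
    rw [h0]
    exact q.zero_mem
  refine ⟨n, hnp, ?_, ?_, ?_, ?_⟩
  · rw [htower, hnc, hcm m hP1m]
  · rintro rfl
    apply hne
    have h1 : (m.map π).comap π = m := hcm m hP1m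
    rw [← hnc] at h1
    have h2 : (⊥ : Ideal (integralClosure (R0 ⧸ P1) L)).comap
        (algebraMap (R0 ⧸ P1) (integralClosure (R0 ⧸ P1) L)) = ⊥ := by
      rw [← RingHom.ker_eq_comap_bot, hkerD]
    rw [h2, ← RingHom.ker_eq_comap_bot, hker] at h1
    exact h1
  · intro q hq hqn
    haveI := hq
    have h1 := hlt q n hq hqn
    rw [hnc] at h1
    have hqR : (q.comap (algebraMap R0 (integralClosure (R0 ⧸ P1) L))).IsPrime :=
      Ideal.comap_isPrime _ q
    have h2 : q.comap (algebraMap R0 (integralClosure (R0 ⧸ P1) L)) ≤ m := by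
      rw [htower, ← hcm m hP1m]
      exact Ideal.comap_mono h1.le
    have h3 : P1 ≤ q.comap (algebraMap R0 (integralClosure (R0 ⧸ P1) L)) := by
      rw [htower]; exact hP1le _
    rcases hcov _ hqR h3 h2 with h4 | h4
    · apply Ideal.eq_bot_of_comap_eq_bot (R := R0 ⧸ P1)
      rw [← Ideal.map_comap_of_surjective π hπ
        (q.comap (algebraMap (R0 ⧸ P1) (integralClosure (R0 ⧸ P1) L))), ← htower, h4, hmapP1]
    · exfalso
      have h5 : q.comap (algebraMap (R0 ⧸ P1) (integralClosure (R0 ⧸ P1) L)) = m.map π := by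
        rw [← Ideal.map_comap_of_surjective π hπ
          (q.comap (algebraMap (R0 ⧸ P1) (integralClosure (R0 ⧸ P1) L))), ← htower, h4]
      exact absurd h5 h1.ne
  · intro q hq hnq hg
    haveI := hq
    by_contra hne'
    have hlt' : n < q := lt_of_le_of_ne hnq (Ne.symm hne')
    have h1 := hlt n q hnp hlt'
    rw [hnc] at h1
    have hqR : (q.comap (algebraMap R0 (integralClosure (R0 ⧸ P1) L))).IsPrime :=
      Ideal.comap_isPrime _ q
    have h2 : m ≤ q.comap (algebraMap R0 (integralClosure (R0 ⧸ P1) L)) := by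
      rw [htower, ← hcm m hP1m]
      exact Ideal.comap_mono h1.le
    have h3 := hmax _ hqR h2 hg
    have h5 : q.comap (algebraMap (R0 ⧸ P1) (integralClosure (R0 ⧸ P1) L)) = m.map π := by
      rw [← Ideal.map_comap_of_surjective π hπ
        (q.comap (algebraMap (R0 ⧸ P1) (integralClosure (R0 ⧸ P1) L))), ← htower, h3]
    exact absurd h5.symm h1.ne


/-- In a Noetherian domain, for a prime `n` all of whose strictly smaller primes are zero and a
nonzero element `d`, there is `s' ∉ n` such that every prime containing `d` but not `s'`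
contains `n`. -/
theorem exists_notMem_forall_prime_le {D' : Type*} [CommRing D'] [IsDomain D']
    [IsNoetherianRing D'] (n : Ideal D') [hn : n.IsPrime]
    (hn0 : ∀ q : Ideal D', q.IsPrime → q < n → q = ⊥) (d : D') (hd : d ≠ 0) :
    ∃ s' : D', s' ∉ n ∧ ∀ q : Ideal D', q.IsPrime → d ∈ q → s' ∉ q → n ≤ q := by
  classical
  have hfin : ((Ideal.span {d}).minimalPrimes).Finite :=
    Ideal.finite_minimalPrimes_of_isNoetherianRing D' _
  let T : Finset (Ideal D') := hfin.toFinset.filter (fun p => ¬ n ≤ p)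
  have hprod : ¬ (∏ p ∈ T, p) ≤ n := by
    intro hle
    obtain ⟨p, hpT, hpn⟩ := (Ideal.IsPrime.prod_le hn).mp hle
    have hp' := Finset.mem_filter.mp hpT
    have hpmin := hfin.mem_toFinset.mp hp'.1
    have hpp : p.IsPrime := hpmin.1.1
    have hlt : p < n := lt_of_le_of_ne hpn (fun e => hp'.2 e.ge)
    have hp0 := hn0 p hpp hlt
    apply hd
    have : d ∈ p := hpmin.1.2 (Ideal.mem_span_singleton_self d)
    rw [hp0] at this
    simpa using this
  obtain ⟨s', hs'T, hs'n⟩ := Set.not_subset.mp hprod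
  refine ⟨s', hs'n, fun q hq hdq hs'q => ?_⟩
  haveI := hq
  have hspan : Ideal.span {d} ≤ q := (Ideal.span_singleton_le_iff_mem _).mpr hdq
  obtain ⟨p, hp, hpq⟩ := Ideal.exists_minimalPrimes_le hspan
  by_contra hnq
  have hnp : ¬ n ≤ p := fun h => hnq (h.trans hpq)
  have hpT : p ∈ T := Finset.mem_filter.mpr ⟨hfin.mem_toFinset.mpr hp, hnp⟩
  have : s' ∈ p := Ideal.prod_le_inf.trans (Finset.inf_le hpT) hs'T
  exact hs'q (hpq this)


/-- Localizing away from `t`: the prime `n` becomes a maximal ideal which is the only prime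
containing `d`. -/
theorem localization_away_data {D' : Type*} [CommRing D'] [IsDomain D']
    (n : Ideal D') [hn : n.IsPrime] (t d : D') (htn : t ∉ n)
    (hmaxn : ∀ q : Ideal D', q.IsPrime → n ≤ q → t ∉ q → q = n)
    (hd : ∀ q : Ideal D', q.IsPrime → d ∈ q → t ∉ q → q = n)
    (D2 : Type*) [CommRing D2] [Algebra D' D2] [IsLocalization.Away t D2] :
    (n.map (algebraMap D' D2)).IsMaximal ∧ (n.map (algebraMap D' D2)).height = n.height ∧
      (n.map (algebraMap D' D2)).comap (algebraMap D' D2) = n ∧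
      ∀ q2 : Ideal D2, q2.IsPrime → algebraMap D' D2 d ∈ q2 → q2 = n.map (algebraMap D' D2) := by
  have hdisj : Disjoint (Submonoid.powers t : Set D') (n : Set D') :=
    (Ideal.disjoint_powers_iff_notMem t hn.isRadical).mpr htn
  have hprime : (n.map (algebraMap D' D2)).IsPrime :=
    IsLocalization.isPrime_of_isPrime_disjoint (Submonoid.powers t) D2 n hn hdisj
  have hcomap : (n.map (algebraMap D' D2)).comap (algebraMap D' D2) = n :=
    IsLocalization.under_map_of_isPrime_disjoint (Submonoid.powers t) D2 hn hdisj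
  have hnotmem : ∀ q2 : Ideal D2, q2.IsPrime → t ∉ q2.comap (algebraMap D' D2) := by
    intro q2 hq2 htq
    have h1 := ((IsLocalization.isPrime_iff_isPrime_disjoint (Submonoid.powers t) D2 q2).mp hq2).2
    exact (Set.disjoint_left.mp h1) (Submonoid.mem_powers t) htq
  refine ⟨?_, IsLocalization.height_map_of_disjoint (Submonoid.powers t) n hdisj, hcomap, ?_⟩
  · obtain ⟨M, hM, hnM⟩ := Ideal.exists_le_maximal _ hprime.ne_top
    have hMp : M.IsPrime := hM.isPrime
    have h1 : n ≤ M.comap (algebraMap D' D2) := by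
      rw [← hcomap]; exact Ideal.comap_mono hnM
    have h2 := hmaxn _ (Ideal.comap_isPrime _ M) h1 (hnotmem M hMp)
    have h3 : M = n.map (algebraMap D' D2) := by
      rw [← h2, IsLocalization.map_under (Submonoid.powers t) D2 M]
    rw [← h3]; exact hM
  · intro q2 hq2 hdq
    have h2 := hd _ (Ideal.comap_isPrime _ q2) hdq (hnotmem q2 hq2)
    rw [← h2, IsLocalization.map_under (Submonoid.powers t) D2 q2]


/-- A finite type algebra mapping to a field `L ⊇ D'` with generators having denominators `d` maps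
into the localization of `D2 = D'[1/t]` away from `d`. -/
theorem exists_algHom_away {R0 A D' : Type u} [CommRing R0] [CommRing A] [Algebra R0 A]
    [CommRing D'] [IsDomain D'] [Algebra R0 D'] (L : Type u) [Field L] [Algebra R0 L]
    [Algebra D' L] [IsScalarTower R0 D' L] (hinj : Function.Injective (algebraMap D' L))
    (ρ : A →ₐ[R0] L) (d : D') (hd : d ≠ 0) (sA : Set A) (hsA : Algebra.adjoin R0 sA = ⊤)
    (hρ : ∀ a ∈ sA, ∃ w : D', algebraMap D' L d * ρ a = algebraMap D' L w)
    (t : D') (ht : t ≠ 0) (D2 : Type u) [CommRing D2] [Algebra D' D2] [IsLocalization.Away t D2]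
    [Algebra R0 D2] [IsScalarTower R0 D' D2] :
    ∃ ψ : A →ₐ[R0] Localization.Away (algebraMap D' D2 d), ∀ a, ρ a = 0 → ψ a = 0 := by
  have hgt : ∀ y : Submonoid.powers t, IsUnit (algebraMap D' L y) := by
    rintro ⟨_, k, rfl⟩
    rw [map_pow]
    exact (IsUnit.mk0 _ (fun h => ht (hinj (by rw [h, map_zero])))).pow k
  let ι2 : D2 →+* L := IsLocalization.lift hgt
  have hι2 : ∀ x : D', ι2 (algebraMap D' D2 x) = algebraMap D' L x := fun x =>
    IsLocalization.lift_eq hgt x
  have hle : Submonoid.powers t ≤ nonZeroDivisors D' :=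
    Submonoid.powers_le.mpr (mem_nonZeroDivisors_of_ne_zero ht)
  have hinjD2 : Function.Injective (algebraMap D' D2) := IsLocalization.injective D2 hle
  have hι2inj : Function.Injective ι2 := by
    refine (IsLocalization.lift_injective_iff hgt).mpr (fun x y => ?_)
    exact ⟨fun h => congrArg _ (hinjD2 h), fun h => congrArg _ (hinj h)⟩
  set dd := algebraMap D' D2 d with hdd
  have hdd0 : dd ≠ 0 := fun h => hd (hinjD2 (by rw [← hdd, h, map_zero]))
  have hgd : ∀ y : Submonoid.powers dd, IsUnit (ι2 y) := by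
    rintro ⟨_, k, rfl⟩
    rw [map_pow]
    exact (IsUnit.mk0 _ (fun h => hdd0 (hι2inj (by rw [h, map_zero])))).pow k
  let ιE : Localization.Away dd →+* L := IsLocalization.lift hgd
  have hιE : ∀ x : D2, ιE (algebraMap D2 (Localization.Away dd) x) = ι2 x := fun x =>
    IsLocalization.lift_eq hgd x
  haveI : IsDomain D2 := IsLocalization.isDomain_of_le_nonZeroDivisors D2 hle
  have hle2 : Submonoid.powers dd ≤ nonZeroDivisors D2 :=
    Submonoid.powers_le.mpr (mem_nonZeroDivisors_of_ne_zero hdd0)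
  have hinjE : Function.Injective (algebraMap D2 (Localization.Away dd)) :=
    IsLocalization.injective _ hle2
  have hιEinj : Function.Injective ιE := by
    refine (IsLocalization.lift_injective_iff hgd).mpr (fun x y => ?_)
    exact ⟨fun h => congrArg _ (hinjE h), fun h => congrArg _ (hι2inj h)⟩
  let ιE' : Localization.Away dd →ₐ[R0] L :=
    { ιE with
      commutes' := fun r => by
        change ιE (algebraMap R0 (Localization.Away dd) r) = _
        rw [IsScalarTower.algebraMap_apply R0 D2 (Localization.Away dd), hιE,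
          IsScalarTower.algebraMap_apply R0 D' D2, hι2, ← IsScalarTower.algebraMap_apply] }
  have hιE'inj : Function.Injective ιE' := hιEinj
  have hrange : ρ.range ≤ ιE'.range := by
    have h1 : ρ.range = Algebra.adjoin R0 (ρ '' sA) := by
      rw [← Algebra.map_top, ← hsA, AlgHom.map_adjoin]
    rw [h1]
    refine Algebra.adjoin_le ?_
    rintro _ ⟨a, ha, rfl⟩
    obtain ⟨w, hw⟩ := hρ a ha
    refine ⟨algebraMap D2 (Localization.Away dd) (algebraMap D' D2 w) *
      IsLocalization.Away.invSelf dd, ?_⟩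
    have h2 : ιE (IsLocalization.Away.invSelf dd) * algebraMap D' L d = 1 := by
      have := congrArg ιE (IsLocalization.Away.mul_invSelf (S := Localization.Away dd) dd)
      rw [map_mul, map_one, hιE, hι2] at this
      rw [mul_comm]; exact this
    have hd' : algebraMap D' L d ≠ 0 := fun h => hd (hinj (by rw [h, map_zero]))
    change ιE (_ * _) = _
    rw [map_mul, hιE, hι2, ← hw]
    calc algebraMap D' L d * ρ a * ιE (IsLocalization.Away.invSelf dd)
        = (ιE (IsLocalization.Away.invSelf dd) * algebraMap D' L d) * ρ a := by ring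
      _ = ρ a := by rw [h2, one_mul]
  let e := AlgEquiv.ofInjective ιE' hιE'inj
  let ψ : A →ₐ[R0] Localization.Away dd :=
    (e.symm : ιE'.range →ₐ[R0] Localization.Away dd).comp
      (ρ.codRestrict ιE'.range (fun a => hrange ⟨a, rfl⟩))
  refine ⟨ψ, fun a ha => ?_⟩
  apply hιE'inj
  have h3 : ιE' (ψ a) = ρ a := by
    change ιE' (e.symm (ρ.codRestrict ιE'.range _ a)) = _
    have := e.apply_symm_apply (ρ.codRestrict ιE'.range (fun a => hrange ⟨a, rfl⟩) a)
    exact congrArg Subtype.val this
  rw [h3, ha, map_zero]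


/-- The algebraic core of the curve valuative criteria over a Nagata base. -/
theorem exists_normal_curve_data {R0 A : Type u} [CommRing R0] [CommRing A] [Algebra R0 A]
    [Algebra.FiniteType R0 A] (hR0 : CAlg.IsNagata R0)
    (Q0 : Ideal A) [Q0.IsPrime] (P1 m : Ideal R0) [P1.IsPrime] [m.IsPrime]
    (hQ0 : Q0.comap (algebraMap R0 A) = P1) (hP1m : P1 ≤ m) (hne : P1 ≠ m)
    (hcov : ∀ q : Ideal R0, q.IsPrime → P1 ≤ q → q ≤ m → q = P1 ∨ q = m)
    (g0 : R0) (hg0 : g0 ∉ m) (hmax : ∀ q : Ideal R0, q.IsPrime → m ≤ q → g0 ∉ q → q = m) :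
    ∃ (D2 : Type u) (_ : CommRing D2) (_ : IsDomain D2) (_ : IsIntegrallyClosed D2)
      (_ : Algebra R0 D2) (_ : Algebra.FiniteType R0 D2) (n2 : Ideal D2) (_ : n2.IsMaximal)
      (dd : D2) (ψ : A →ₐ[R0] Localization.Away dd),
      n2.height = 1 ∧ n2.comap (algebraMap R0 D2) = m ∧ (∀ a ∈ Q0, ψ a = 0) ∧
      ∀ q : Ideal D2, q.IsPrime → dd ∈ q → q = n2 := by
  classical
  haveI := hR0.1
  obtain ⟨L, hLf, hLK, hLR, hLtower, ρ, hfinL, hρQ0⟩ :=
    exists_field_finite_over_residueField Q0 P1 hQ0
  obtain ⟨hfin, hic, n, hnp, hnc, hn0, hnlt, hnmax⟩ :=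
    exists_prime_integralClosure hR0 P1 m hP1m hne hcov g0 hmax L
  haveI := hnp
  haveI := hic
  haveI := hfin
  haveI : IsNoetherianRing (R0 ⧸ P1) := inferInstance
  haveI : IsNoetherianRing (integralClosure (R0 ⧸ P1) L) :=
    IsNoetherianRing.of_finite (R0 ⧸ P1) _
  have hinjL : Function.Injective (algebraMap (integralClosure (R0 ⧸ P1) L) L) :=
    Subtype.val_injective
  have hinjD : Function.Injective (algebraMap (R0 ⧸ P1) (integralClosure (R0 ⧸ P1) L)) := by
    intro x y hxy
    apply algebraMap_quot_injective P1 L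
    have := congrArg (algebraMap (integralClosure (R0 ⧸ P1) L) L) hxy
    rwa [← IsScalarTower.algebraMap_apply, ← IsScalarTower.algebraMap_apply] at this
  -- generators and denominators
  obtain ⟨sA, hsA⟩ := (Algebra.FiniteType.out : (⊤ : Subalgebra R0 A).FG)
  haveI : Algebra.IsAlgebraic P1.ResidueField L := Algebra.IsAlgebraic.of_finite _ _
  haveI : Algebra.IsAlgebraic (R0 ⧸ P1) L :=
    IsFractionRing.comap_isAlgebraic_iff.mpr
      (inferInstance : Algebra.IsAlgebraic P1.ResidueField L)
  obtain ⟨y, hy0, hy⟩ := Algebra.IsAlgebraic.exists_integral_multiples (R0 ⧸ P1) (sA.image ρ)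
  set d : integralClosure (R0 ⧸ P1) L := algebraMap (R0 ⧸ P1) _ y with hd_def
  have hd : d ≠ 0 := fun h => hy0 (hinjD (by rw [← hd_def, h, map_zero]))
  have hρ : ∀ a ∈ (sA : Set A), ∃ w : integralClosure (R0 ⧸ P1) L,
      algebraMap (integralClosure (R0 ⧸ P1) L) L d * ρ a =
        algebraMap (integralClosure (R0 ⧸ P1) L) L w := by
    intro a ha
    refine ⟨⟨y • ρ a, hy _ (Finset.mem_image_of_mem ρ ha)⟩, ?_⟩
    change algebraMap (integralClosure (R0 ⧸ P1) L) L (algebraMap (R0 ⧸ P1) _ y) * ρ a = y • ρ a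
    rw [← IsScalarTower.algebraMap_apply, Algebra.smul_def]
  obtain ⟨s', hs'n, hs'⟩ := exists_notMem_forall_prime_le n hnlt d hd
  set g0' : integralClosure (R0 ⧸ P1) L := algebraMap R0 _ g0 with hg0'_def
  have hg0'n : g0' ∉ n := by
    intro h
    apply hg0
    rw [← hnc]
    exact h
  set t := s' * g0' with ht_def
  have htn : t ∉ n := fun h => (hnp.mem_or_mem h).elim hs'n hg0'n
  have ht0 : t ≠ 0 := fun h => htn (h ▸ n.zero_mem)
  have hmaxn : ∀ q : Ideal (integralClosure (R0 ⧸ P1) L), q.IsPrime → n ≤ q → t ∉ q → q = n := by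
    intro q hq hnq htq
    exact hnmax q hq hnq (fun h => htq (q.mul_mem_left s' h))
  have hd' : ∀ q : Ideal (integralClosure (R0 ⧸ P1) L), q.IsPrime → d ∈ q → t ∉ q → q = n := by
    intro q hq hdq htq
    have h1 : s' ∉ q := fun h => htq (q.mul_mem_right g0' h)
    exact hmaxn q hq (hs' q hq hdq h1) htq
  have hle : Submonoid.powers t ≤ nonZeroDivisors (integralClosure (R0 ⧸ P1) L) :=
    Submonoid.powers_le.mpr (mem_nonZeroDivisors_of_ne_zero ht0)
  haveI hdom2 : IsDomain (Localization.Away t) := IsLocalization.isDomain_localization hle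
  haveI hic2 : IsIntegrallyClosed (Localization.Away t) :=
    isIntegrallyClosed_of_isLocalization (Localization.Away t) (Submonoid.powers t) hle
  haveI : Algebra.FiniteType R0 (R0 ⧸ P1) :=
    Algebra.FiniteType.of_surjective (Ideal.Quotient.mkₐ R0 P1) Ideal.Quotient.mk_surjective
  haveI : Algebra.FiniteType (R0 ⧸ P1) (integralClosure (R0 ⧸ P1) L) := inferInstance
  haveI : Algebra.FiniteType R0 (integralClosure (R0 ⧸ P1) L) :=
    Algebra.FiniteType.trans (S := R0 ⧸ P1) inferInstance inferInstance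
  haveI hft2 : Algebra.FiniteType R0 (Localization.Away t) :=
    Algebra.FiniteType.trans (S := integralClosure (R0 ⧸ P1) L) inferInstance inferInstance
  obtain ⟨hmaxI, hheight, hcomap, honly⟩ :=
    localization_away_data n t d htn hmaxn hd' (Localization.Away t)
  obtain ⟨ψ, hψ⟩ := exists_algHom_away L hinjL ρ d hd (sA : Set A) hsA hρ t ht0
    (Localization.Away t)
  have hheight1 : n.height = 1 := by
    apply le_antisymm
    · rw [show (1 : ℕ∞) = ((1 : ℕ) : ℕ∞) from rfl, Ideal.height_le_iff]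
      intro q hq hqn
      rw [hnlt q hq hqn, Ideal.height_bot]
      norm_num
    · exact Order.one_le_iff_pos.mpr (pos_iff_ne_zero.mpr
        (fun h => hn0 (Ideal.height_eq_zero_iff_eq_bot.mp h)))
  refine ⟨Localization.Away t, inferInstance, hdom2, hic2, inferInstance, hft2,
    n.map (algebraMap _ (Localization.Away t)), hmaxI, algebraMap _ (Localization.Away t) d, ψ,
    hheight.trans hheight1, ?_, fun a ha => hψ a (hρQ0 a ha), honly⟩
  rw [IsScalarTower.algebraMap_eq R0 (integralClosure (R0 ⧸ P1) L) (Localization.Away t),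
    ← Ideal.comap_comap, hcomap, hnc]

end Groth.Agent.Lib.Helper48.CurveCrit
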