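import Mathlib

/-!
# Curve valuative criteria, scheme glue (helper48)

`CurveExistence q f`: the lifting criterion of Stacks-style "valuative criterion tested on normal
curves of finite type over the base". `exists_point_of_curveExistence`: from affine algebraic data
(a normal domain `D2` with a maximal ideal of height one and a map of a chart of `X` to `D2[1/dd]`)
the criterion produces a point of `X`.
-/

set_option autoImplicit false
universe u

namespace Groth.Agent.Lib.Helper48.CurveCrit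

open AlgebraicGeometry CategoryTheory Limits IsLocalRing

/-- The existence part of the valuative criterion tested on normal integral curves of finite type
over the base `S`. -/
def CurveExistence {S X Y : Scheme.{u}} (q : Y ⟶ S) (f : X ⟶ Y) : Prop :=
  ∀ (C : Scheme.{u}) (r : C ⟶ S) [IsIntegral C] [LocallyOfFiniteType r] [QuasiCompact r],
    (∀ x : C, IsIntegrallyClosed (C.presheaf.stalk x)) →
    ∀ (c : C), IsClosed ({c} : Set C) → ringKrullDim (C.presheaf.stalk c) = 1 →
    ∀ (U : C.Opens), (U : Set C) = {c}ᶜ →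
    ∀ (u : (U : Scheme.{u}) ⟶ X) (g : C ⟶ Y), g ≫ q = r → u ≫ f = U.ι ≫ g →
    ∀ (k : Spec (CommRingCat.of (FractionRing (C.presheaf.stalk c))) ⟶ (U : Scheme.{u})),
      k ≫ U.ι = Spec.map (CommRingCat.ofHom (algebraMap (C.presheaf.stalk c)
        (FractionRing (C.presheaf.stalk c)))) ≫ C.fromSpecStalk c →
    ∃ l : Spec (C.presheaf.stalk c) ⟶ X, l ≫ f = C.fromSpecStalk c ≫ g ∧
      Spec.map (CommRingCat.ofHom (algebraMap (C.presheaf.stalk c)
        (FractionRing (C.presheaf.stalk c)))) ≫ l = k ≫ u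

theorem exists_point_of_curveExistence {S X Y : Scheme.{u}} [IsLocallyNoetherian S] (q : Y ⟶ S)
    [LocallyOfFiniteType q] (f : X ⟶ Y) (H : CurveExistence q f)
    {Y0 : Y.Opens} (hY0 : IsAffineOpen Y0) {X1 : X.Opens} (hX1 : IsAffineOpen X1)
    (hXY : X1 ≤ f ⁻¹ᵁ Y0)
    (D2 : Type u) [CommRing D2] [IsDomain D2] [IsIntegrallyClosed D2]
    (φ : Γ(Y, Y0) →+* D2) (hφ : φ.FiniteType)
    (n2 : Ideal D2) [hn2 : n2.IsMaximal] (hht : n2.height = 1)
    (dd : D2) (ψ : Γ(X, X1) →+* Localization.Away dd)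
    (hcomm : ψ.comp (f.appLE Y0 X1 hXY).hom = (algebraMap D2 (Localization.Away dd)).comp φ)
    (honly : ∀ q : Ideal D2, q.IsPrime → dd ∈ q → q = n2) :
    ∃ x : X, f x = hY0.fromSpec ⟨n2.comap φ, Ideal.comap_isPrime φ n2⟩ ∧
      ∀ Q' : PrimeSpectrum Γ(X, X1), (∀ a ∈ Q'.asIdeal, ψ a = 0) → hX1.fromSpec Q' ⤳ x := by
  let C : Scheme.{u} := Spec (CommRingCat.of D2)
  let g : C ⟶ Y := Spec.map (CommRingCat.ofHom φ) ≫ hY0.fromSpec
  haveI : LocallyOfFiniteType (Spec.map (CommRingCat.ofHom φ)) :=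
    (HasRingHomProperty.Spec_iff (P := @LocallyOfFiniteType)).mpr hφ
  haveI : LocallyOfFiniteType g := inferInstance
  haveI : LocallyOfFiniteType (g ≫ q) := inferInstance
  haveI : QuasiSeparatedSpace S := IsLocallyNoetherian.quasiSeparatedSpace
  haveI : CompactSpace C := inferInstanceAs (CompactSpace (Spec (CommRingCat.of D2)))
  haveI : QuasiCompact (g ≫ q) := quasiCompact_of_compactSpace _
  let c : C := ⟨n2, hn2.isPrime⟩
  have hcl : IsClosed ({c} : Set C) :=
    (PrimeSpectrum.isClosed_singleton_iff_isMaximal c).mpr hn2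
  have hloc : ∀ x : C, IsIntegrallyClosed (C.presheaf.stalk x) ∧
      ringKrullDim (C.presheaf.stalk x) = (x.asIdeal.height : WithBot ℕ∞) := by
    intro x
    haveI : (PrimeSpectrum.asIdeal x).IsPrime := PrimeSpectrum.isPrime x
    letI : Algebra D2 ((Spec (CommRingCat.of D2)).presheaf.stalk x) :=
      StructureSheaf.stalkAlgebra D2 x
    haveI : IsLocalization.AtPrime ((Spec (CommRingCat.of D2)).presheaf.stalk x) x.asIdeal :=
      StructureSheaf.IsLocalization.to_stalk D2 x
    exact ⟨isIntegrallyClosed_of_isLocalization _ x.asIdeal.primeCompl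
        x.asIdeal.primeCompl_le_nonZeroDivisors,
      IsLocalization.AtPrime.ringKrullDim_eq_height x.asIdeal _⟩
  have hnormal : ∀ x : C, IsIntegrallyClosed (C.presheaf.stalk x) := fun x => (hloc x).1
  have hdim : ringKrullDim (C.presheaf.stalk c) = 1 := by
    rw [(hloc c).2]
    change ((n2.height : ℕ∞) : WithBot ℕ∞) = 1
    rw [hht]; rfl
  let U : C.Opens := ⟨{c}ᶜ, hcl.isOpen_compl⟩
  have hU : (U : Set C) = {c}ᶜ := rfl
  -- the open immersion `Spec D2[1/dd] ⟶ C`
  let j : Spec (CommRingCat.of (Localization.Away dd)) ⟶ C :=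
    Spec.map (CommRingCat.ofHom (algebraMap D2 (Localization.Away dd)))
  haveI : IsOpenImmersion j := inferInstance
  have hrange : Set.range U.ι ⊆ Set.range j := by
    rw [Scheme.Opens.range_ι]
    intro z hz
    have hzc : z ≠ c := hz
    have h1 : j.opensRange = PrimeSpectrum.basicOpen dd :=
      Scheme.Hom.opensRange_localizationAway (R := CommRingCat.of D2) dd
    change z ∈ (j.opensRange : Set C)
    rw [h1]
    intro hdz
    apply hzc
    exact PrimeSpectrum.ext (honly z.asIdeal z.isPrime hdz)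
  let u0 : (U : Scheme.{u}) ⟶ Spec (CommRingCat.of (Localization.Away dd)) :=
    IsOpenImmersion.lift j U.ι hrange
  have hu0 : u0 ≫ j = U.ι := IsOpenImmersion.lift_fac j U.ι hrange
  let u : (U : Scheme.{u}) ⟶ X := u0 ≫ Spec.map (CommRingCat.ofHom ψ) ≫ hX1.fromSpec
  have hu : u ≫ f = U.ι ≫ g := by
    have h1 : hX1.fromSpec ≫ f = Spec.map (f.appLE Y0 X1 hXY) ≫ hY0.fromSpec :=
      (IsAffineOpen.SpecMap_appLE_fromSpec f hY0 hX1 hXY).symm
    have h2 : Spec.map (CommRingCat.ofHom ψ) ≫ Spec.map (f.appLE Y0 X1 hXY) =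
        j ≫ Spec.map (CommRingCat.ofHom φ) := by
      rw [← Spec.map_comp, ← Spec.map_comp]
      congr 1
      ext a
      exact congrFun (congrArg DFunLike.coe hcomm) a
    simp only [u, g, Category.assoc]
    rw [h1, ← Category.assoc (Spec.map (CommRingCat.ofHom ψ)), h2, Category.assoc,
      ← Category.assoc u0, hu0]
  -- the generic point
  haveI : IsDomain (C.presheaf.stalk c) := inferInstance
  let O := C.presheaf.stalk c
  let K := FractionRing (C.presheaf.stalk c)
  let a : Spec (CommRingCat.of K) ⟶ Spec (C.presheaf.stalk c) :=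
    Spec.map (CommRingCat.ofHom (algebraMap (C.presheaf.stalk c) K))
  let kk : Spec (CommRingCat.of K) ⟶ C := a ≫ C.fromSpecStalk c
  have hnotfield : maximalIdeal (C.presheaf.stalk c) ≠ ⊥ := by
    intro h
    have h1 : IsField (C.presheaf.stalk c) := IsLocalRing.isField_iff_maximalIdeal_eq.mpr h
    have h2 := ringKrullDim_eq_zero_of_isField h1
    rw [hdim] at h2
    exact one_ne_zero h2
  have ha : ∀ w : Spec (CommRingCat.of K), a w ≠ closedPoint (C.presheaf.stalk c) := by
    intro w hw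
    apply hnotfield
    rw [eq_bot_iff]
    intro x hx
    have h1 : x ∈ (a w).asIdeal := by rw [hw]; exact hx
    have h2 : algebraMap (C.presheaf.stalk c) K x ∈ w.asIdeal := h1
    by_contra hx0
    have hx0' : x ≠ 0 := hx0
    have h3 : algebraMap (C.presheaf.stalk c) K x ≠ 0 := fun h =>
      hx0' (IsFractionRing.injective (C.presheaf.stalk c) K (by rw [h, map_zero]))
    exact w.isPrime.ne_top (Ideal.eq_top_of_isUnit_mem _ h2 (IsUnit.mk0 _ h3))
  have hkrange : Set.range kk ⊆ Set.range U.ι := by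
    rw [Scheme.Opens.range_ι]
    rintro _ ⟨w, rfl⟩
    change kk w ≠ c
    intro h
    apply ha w
    apply (C.fromSpecStalk c).isEmbedding.injective
    rw [Scheme.fromSpecStalk_closedPoint]
    exact h
  let k : Spec (CommRingCat.of K) ⟶ (U : Scheme.{u}) := IsOpenImmersion.lift U.ι kk hkrange
  have hk : k ≫ U.ι = kk := IsOpenImmersion.lift_fac U.ι kk hkrange
  obtain ⟨l, hl1, hl2⟩ := H C (g ≫ q) hnormal c hcl hdim U hU u g rfl hu k hk
  let cp : ↥(Spec (C.presheaf.stalk c)) := closedPoint (C.presheaf.stalk c)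
  refine ⟨l cp, ?_, ?_⟩
  · have h1 : (l ≫ f) cp = (C.fromSpecStalk c ≫ g) cp := by rw [hl1]
    rw [Scheme.Hom.comp_apply, Scheme.Hom.comp_apply] at h1
    rw [h1]
    have h2 : C.fromSpecStalk c cp = c := Scheme.fromSpecStalk_closedPoint
    rw [h2]
    simp only [g, Scheme.Hom.comp_apply]
    rfl
  · intro Q' hQ'
    let w : ↥(Spec (CommRingCat.of K)) := closedPoint K
    have h1 : l (a w) = (k ≫ u) w := by
      rw [← hl2]; rfl
    have h2 : a w ⤳ cp := specializes_closedPoint (a w)
    have h3 : l (a w) ⤳ l cp := h2.map l.continuous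
    refine Specializes.trans ?_ h3
    rw [h1]
    simp only [u, Scheme.Hom.comp_apply]
    apply Specializes.map _ hX1.fromSpec.continuous
    refine (PrimeSpectrum.le_iff_specializes (R := Γ(X, X1)) Q'
      ((Spec.map (CommRingCat.ofHom ψ)) (u0 (k w)))).mp ?_
    intro x hx
    change ψ x ∈ (u0 (k w)).asIdeal
    rw [hQ' x hx]
    exact Ideal.zero_mem _

end Groth.Agent.Lib.Helper48.CurveCrit
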