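import Mathlib
import Groth.Agent.Lib.Helper48.CurveCrit2
import Groth.Agent.Lib.Helper48.CurveCrit3
import Groth.Agent.Lib.Helper48.NagataFiniteType

/-!
# Curve valuative criteria: specializing (helper48)

`specializingMap_of_curveExistence`: over a Nagata base, a quasi-compact morphism of schemes locally
of finite type satisfying the curve existence criterion is specializing.
-/

set_option autoImplicit false
universe u

namespace Groth.Agent.Lib.Helper48.CurveCrit

open PrimeSpectrum Topology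

/-- From a constructible set `E` containing `P` but not a specialization `my` of `P`, produce a point
`m ∉ E` maximal in a basic open, and `P1 ∈ E` of coheight one in `m`. -/
theorem exists_coheight_one_data {R : Type*} [CommRing R] [IsNoetherianRing R]
    (E : Set (PrimeSpectrum R)) (hE : IsConstructible E) (P my : PrimeSpectrum R) (hPE : P ∈ E)
    (hPmy : P ≤ my) (hmy : my ∉ E) :
    ∃ (P1 m : PrimeSpectrum R) (g0 : R), P1 ∈ E ∧ m ∉ E ∧ P1.asIdeal ≤ m.asIdeal ∧ P1 ≠ m ∧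
      P ≤ P1 ∧
      (∀ q : Ideal R, q.IsPrime → P1.asIdeal ≤ q → q ≤ m.asIdeal →
        q = P1.asIdeal ∨ q = m.asIdeal) ∧
      g0 ∉ m.asIdeal ∧ (∀ q : Ideal R, q.IsPrime → m.asIdeal ≤ q → g0 ∉ q → q = m.asIdeal) := by
  classical
  obtain ⟨S, hS⟩ := exists_constructibleSetData_iff.mpr hE
  obtain ⟨S', hS'⟩ := exists_constructibleSetData_iff.mpr hE.compl
  -- the piece of the complement containing `my`
  have hmy' : my ∈ S'.toSet := by rw [hS']; exact hmy
  simp only [ConstructibleSetData.toSet, Set.mem_iUnion] at hmy'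
  obtain ⟨C, hCS', hmyC⟩ := hmy'
  have hCg : Set.range C.g ⊆ my.asIdeal := hmyC.1
  have hCf : C.f ∉ my.asIdeal := by
    intro h
    apply hmyC.2
    rw [mem_zeroLocus]
    simpa using h
  -- a maximal prime above `my` avoiding `C.f`
  let T : Set (Ideal R) := {q | q.IsPrime ∧ my.asIdeal ≤ q ∧ C.f ∉ q}
  have hT : T.Nonempty := ⟨my.asIdeal, my.isPrime, le_rfl, hCf⟩
  obtain ⟨mI, hmT, hmmax⟩ := set_has_maximal_iff_noetherian.mpr
    (inferInstance : IsNoetherian R R) T hT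
  obtain ⟨hmp, hmym, hCfm⟩ := hmT
  let m : PrimeSpectrum R := ⟨mI, hmp⟩
  have hmE : m ∉ E := by
    have : m ∈ S'.toSet := by
      simp only [ConstructibleSetData.toSet, Set.mem_iUnion]
      refine ⟨C, hCS', ?_, ?_⟩
      · exact fun x hx => hmym (hCg hx)
      · intro h
        rw [mem_zeroLocus] at h
        exact hCfm (by simpa using h)
    rw [hS'] at this
    exact this
  have hmaxm : ∀ q : Ideal R, q.IsPrime → mI ≤ q → C.f ∉ q → q = mI := by
    intro q hq hmq hfq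
    by_contra hne
    exact hmmax q ⟨hq, hmym.trans hmq, hfq⟩ (lt_of_le_of_ne hmq (Ne.symm hne))
  -- the piece of `E` containing `P`
  have hP' : P ∈ S.toSet := by rw [hS]; exact hPE
  simp only [ConstructibleSetData.toSet, Set.mem_iUnion] at hP'
  obtain ⟨C', hC'S, hPC'⟩ := hP'
  have hC'g : Set.range C'.g ⊆ P.asIdeal := hPC'.1
  have hC'f : C'.f ∉ P.asIdeal := by
    intro h
    apply hPC'.2
    rw [mem_zeroLocus]
    simpa using h
  have hmemE : ∀ q : PrimeSpectrum R, P.asIdeal ≤ q.asIdeal → C'.f ∉ q.asIdeal → q ∈ E := by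
    intro q hPq hfq
    rw [← hS]
    simp only [ConstructibleSetData.toSet, Set.mem_iUnion]
    refine ⟨C', hC'S, fun x hx => hPq (hC'g hx), ?_⟩
    intro h
    rw [mem_zeroLocus] at h
    exact hfq (by simpa using h)
  have hPm : P.asIdeal ≤ mI := ((PrimeSpectrum.asIdeal_le_asIdeal _ _).mpr hPmy).trans hmym
  have hfm : C'.f ∈ mI := by
    by_contra h
    exact hmE (hmemE m hPm h)
  haveI := P.isPrime
  haveI := hmp
  obtain ⟨P1I, hP1p, hPP1, hP1m, hfP1, hcov⟩ :=
    exists_prime_coheight_one P.asIdeal mI hPm C'.f hfm hC'f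
  let P1 : PrimeSpectrum R := ⟨P1I, hP1p⟩
  refine ⟨P1, m, C.f, hmemE P1 hPP1 hfP1, hmE, hP1m, ?_, hPP1, hcov, hCfm, hmaxm⟩
  intro h
  apply hfP1
  have : P1I = mI := congrArg PrimeSpectrum.asIdeal h
  rw [this]; exact hfm

open AlgebraicGeometry CategoryTheory Limits TopologicalSpace

/-- Closed subsets of locally Noetherian schemes are locally constructible. -/
theorem isLocallyConstructible_of_isClosed {X : Scheme.{u}} [IsLocallyNoetherian X] {Z : Set X}
    (hZ : IsClosed Z) : IsLocallyConstructible Z := by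
  haveI : QuasiSeparatedSpace X := IsLocallyNoetherian.quasiSeparatedSpace
  refine IsLocallyConstructible.of_isOpenCover' (U := fun i : X.affineOpens => (i : X.Opens))
    (IsOpenCover.mk (iSup_affineOpens_eq_top X)) (fun i => ?_)
  have h1 : IsCompact ((i : X.Opens) : Set X) := i.2.isCompact
  haveI : IsNoetherianRing Γ(X, (i : X.Opens)) := IsLocallyNoetherian.component_noetherian i
  have hN : NoetherianSpace ((i : X.Opens) : Set X) := noetherianSpace_of_isAffineOpen i.1 i.2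
  have h2 : IsCompact (((i : X.Opens) : Set X) ∩ Zᶜ) :=
    (noetherianSpace_set_iff _).mp hN _ Set.inter_subset_left
  have h3 : Z ∩ ((i : X.Opens) : Set X) = ((i : X.Opens) : Set X) \ (((i : X.Opens) : Set X) ∩ Zᶜ) := by
    ext x
    simp only [Set.mem_inter_iff, Set.mem_sdiff, Set.mem_compl_iff, not_and, not_not]
    tauto
  rw [h3]
  exact ((h1.isConstructible i.1.2).sdiff
    (h2.isConstructible (i.1.2.inter hZ.isOpen_compl))).isLocallyConstructible

theorem specializingMap_of_curveExistence {S X Y : Scheme.{u}}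
    (hS : ∀ W : S.affineOpens, CAlg.IsNagata Γ(S, W)) (q : Y ⟶ S) [LocallyOfFiniteType q]
    (f : X ⟶ Y) [LocallyOfFiniteType f] [QuasiCompact f] (H : CurveExistence q f) :
    SpecializingMap f := by
  haveI : IsLocallyNoetherian S := ⟨fun W => (hS W).1⟩
  haveI : IsLocallyNoetherian Y := LocallyOfFiniteType.isLocallyNoetherian q
  haveI : IsLocallyNoetherian X := LocallyOfFiniteType.isLocallyNoetherian f
  haveI : LocallyOfFinitePresentation f := inferInstance
  intro x' y hsp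
  by_contra hcon
  have hcon' : ∀ x : X, x' ⤳ x → f x ≠ y := fun x hx hfx => hcon ⟨x, hx, hfx⟩
  -- affine opens
  obtain ⟨W0, hW0, hyW0, -⟩ := (Opens.isBasis_iff_nbhd.mp S.isBasis_affineOpens)
    (show q y ∈ (⊤ : S.Opens) from trivial)
  obtain ⟨Y0, hY0, hyY0, hY0W0⟩ := (Opens.isBasis_iff_nbhd.mp Y.isBasis_affineOpens)
    (show y ∈ q ⁻¹ᵁ W0 from hyW0)
  change IsAffineOpen W0 at hW0
  change IsAffineOpen Y0 at hY0
  -- `R0` is Nagata
  have hR0 : CAlg.IsNagata Γ(Y, Y0) := by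
    letI : Algebra Γ(S, W0) Γ(Y, Y0) := (q.appLE W0 Y0 hY0W0).hom.toAlgebra
    haveI : Algebra.FiniteType Γ(S, W0) Γ(Y, Y0) := q.finiteType_appLE hW0 hY0 hY0W0
    exact isNagata_of_finiteType (hS ⟨W0, hW0⟩)
  haveI : IsNoetherianRing Γ(Y, Y0) := hR0.1
  -- the constructible set
  let Z : Set X := closure {x'}
  have hZlc : IsLocallyConstructible Z := isLocallyConstructible_of_isClosed isClosed_closure
  have hEl : IsLocallyConstructible (f '' Z) := f.isLocallyConstructible_image hZlc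
  let E0 : Set (Spec Γ(Y, Y0)) := hY0.fromSpec ⁻¹' (f '' Z)
  have hE0 : IsConstructible E0 :=
    (hEl.preimage_of_isOpenEmbedding hY0.fromSpec.isOpenEmbedding).isConstructible
  -- the points
  have hfx'Y0 : f x' ∈ Y0 := hsp.mem_open Y0.2 hyY0
  obtain ⟨P, hP⟩ : f x' ∈ Set.range hY0.fromSpec := by rw [hY0.range_fromSpec]; exact hfx'Y0
  obtain ⟨my, hmy⟩ : y ∈ Set.range hY0.fromSpec := by rw [hY0.range_fromSpec]; exact hyY0
  have hPE : P ∈ E0 := ⟨x', subset_closure rfl, hP.symm⟩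
  have hPmy : P.asIdeal ≤ my.asIdeal := by
    refine (PrimeSpectrum.asIdeal_le_asIdeal _ _).mpr ?_
    refine (PrimeSpectrum.le_iff_specializes (R := Γ(Y, Y0)) P my).mpr ?_
    refine (hY0.fromSpec.isOpenEmbedding.isInducing.specializes_iff).mp ?_
    rw [hP, hmy]
    exact hsp
  have hmyE : my ∉ E0 := by
    rintro ⟨z, hz, hfz⟩
    exact hcon' z (specializes_iff_mem_closure.mpr hz) (hfz.trans hmy)
  obtain ⟨P1, m, g0, hP1E, hmE, hP1m, hP1ne, hPP1, hcov, hg0, hmax⟩ :=
    exists_coheight_one_data E0 hE0 P my hPE ((PrimeSpectrum.asIdeal_le_asIdeal _ _).mp hPmy) hmyE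
  obtain ⟨z, hzZ, hfz⟩ := hP1E
  -- a chart around `z`
  have hzY0 : z ∈ f ⁻¹ᵁ Y0 := by
    change f z ∈ Y0
    rw [hfz, ← SetLike.mem_coe, ← hY0.range_fromSpec]
    exact ⟨P1, rfl⟩
  obtain ⟨X1, hX1, hzX1, hX1Y0⟩ := (Opens.isBasis_iff_nbhd.mp X.isBasis_affineOpens) hzY0
  change IsAffineOpen X1 at hX1
  obtain ⟨Q0, hQ0⟩ : z ∈ Set.range hX1.fromSpec := by rw [hX1.range_fromSpec]; exact hzX1
  have hx'z : x' ⤳ z := specializes_iff_mem_closure.mpr hzZ
  have hx'X1 : x' ∈ X1 := hx'z.mem_open X1.2 hzX1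
  obtain ⟨Q', hQ'⟩ : x' ∈ Set.range hX1.fromSpec := by rw [hX1.range_fromSpec]; exact hx'X1
  have hQ'Q0 : Q'.asIdeal ≤ Q0.asIdeal := by
    refine (PrimeSpectrum.asIdeal_le_asIdeal _ _).mpr ?_
    refine (PrimeSpectrum.le_iff_specializes (R := Γ(X, X1)) Q' Q0).mpr ?_
    refine (hX1.fromSpec.isOpenEmbedding.isInducing.specializes_iff).mp ?_
    rw [hQ', hQ0]
    exact hx'z
  letI : Algebra Γ(Y, Y0) Γ(X, X1) := (f.appLE Y0 X1 hX1Y0).hom.toAlgebra
  haveI : Algebra.FiniteType Γ(Y, Y0) Γ(X, X1) := f.finiteType_appLE hY0 hX1 hX1Y0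
  have hcomm : hX1.fromSpec ≫ f = Spec.map (f.appLE Y0 X1 hX1Y0) ≫ hY0.fromSpec :=
    (IsAffineOpen.SpecMap_appLE_fromSpec f hY0 hX1 hX1Y0).symm
  have hQ0P1 : Q0.asIdeal.comap (algebraMap Γ(Y, Y0) Γ(X, X1)) = P1.asIdeal := by
    have h1 : hY0.fromSpec ((Spec.map (f.appLE Y0 X1 hX1Y0)) Q0) = hY0.fromSpec P1 := by
      rw [← Scheme.Hom.comp_apply, ← hcomm, Scheme.Hom.comp_apply, hQ0, hfz]
    have h2 := hY0.fromSpec.isOpenEmbedding.injective h1
    exact congrArg PrimeSpectrum.asIdeal h2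
  haveI := Q0.isPrime
  haveI := P1.isPrime
  haveI := m.isPrime
  have hP1ne' : P1.asIdeal ≠ m.asIdeal := fun h => hP1ne (PrimeSpectrum.ext h)
  obtain ⟨D2, _, _, _, _, hft2, n2, hn2, dd, ψ, hht, hn2m, hψ, honly⟩ :=
    exists_normal_curve_data hR0 Q0.asIdeal P1.asIdeal m.asIdeal hQ0P1 hP1m hP1ne' hcov g0 hg0 hmax
  obtain ⟨x, hfx, hsx⟩ := exists_point_of_curveExistence q f H hY0 hX1 hX1Y0 D2
    (algebraMap Γ(Y, Y0) D2) (RingHom.finiteType_algebraMap.mpr hft2) n2 hht dd ψ.toRingHom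
    (by
      ext a
      exact ψ.commutes a) honly
  apply hmE
  refine ⟨x, ?_, ?_⟩
  · apply specializes_iff_mem_closure.mp
    rw [← hQ']
    exact hsx Q' (fun a ha => hψ a (hQ'Q0 ha))
  · rw [hfx]
    congr 1
    exact PrimeSpectrum.ext hn2m

end Groth.Agent.Lib.Helper48.CurveCrit
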