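import Mathlib
import Groth.Agent.Lib.Helper48.CurveCrit4
import Groth.Agent.Lib.Helper78.DVRValuative

/-!
# Curve valuative criteria over a Nagata base (helper48)

`universallyClosed_of_curveExistence`, `isSeparated_of_curveUniqueness` and the converse
directions.
-/

set_option autoImplicit false
universe u

namespace Groth.Agent.Lib.Helper48.CurveCrit

open AlgebraicGeometry CategoryTheory Limits IsLocalRing

/-- A Noetherian normal local domain of dimension one is a valuation ring. -/
theorem valuationRing_of_dim_one (R : Type*) [CommRing R] [IsDomain R] [IsNoetherianRing R]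
    [IsLocalRing R] [IsIntegrallyClosed R] (hdim : ringKrullDim R = 1) : ValuationRing R := by
  have h31 : (IsIntegrallyClosed R ∧ ∀ P : Ideal R, P ≠ ⊥ → P.IsPrime → P = maximalIdeal R) →
      ValuationRing R := ((tfae_of_isNoetherianRing_of_isLocalRing_of_isDomain R).out 3 1).mp
  refine h31 ⟨inferInstance, fun P hP0 hPp => ?_⟩
  haveI := hPp
  by_contra hne
  have hlt : P < maximalIdeal R := lt_of_le_of_ne (le_maximalIdeal hPp.ne_top) hne
  have h1 := Ideal.height_add_one_le_of_lt_of_isPrime hlt
  have h2 : ((maximalIdeal R).height : WithBot ℕ∞) = 1 := by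
    rw [IsLocalRing.maximalIdeal_height_eq_ringKrullDim, hdim]
  have h3 : (maximalIdeal R).height = 1 := by exact_mod_cast h2
  rw [h3] at h1
  have h4 : P.height = 0 := by
    by_contra hne0
    have h5 : (1 : ℕ∞) ≤ P.height := Order.one_le_iff_pos.mpr (pos_iff_ne_zero.mpr hne0)
    have h6 : (1 : ℕ∞) + 1 ≤ 1 := (add_le_add_left h5 1).trans h1
    exact absurd h6 (by norm_num)
  exact hP0 (Ideal.height_eq_zero_iff_eq_bot.mp h4)

/-- The curve existence criterion is stable under base change. -/
theorem CurveExistence.baseChange {S X Y Y' : Scheme.{u}} {q : Y ⟶ S} {f : X ⟶ Y}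
    (H : CurveExistence q f) (g' : Y' ⟶ Y) : CurveExistence (g' ≫ q) (pullback.snd f g') := by
  intro C r _ _ _ hnormal c hcl hdim U hU u g hgr hug k hk
  obtain ⟨l', hl'1, hl'2⟩ := H C r hnormal c hcl hdim U hU (u ≫ pullback.fst f g') (g ≫ g')
    (by rw [Category.assoc, hgr])
    (by rw [Category.assoc, pullback.condition, ← Category.assoc, hug, Category.assoc]) k hk
  refine ⟨pullback.lift l' (C.fromSpecStalk c ≫ g) (by rw [hl'1, Category.assoc]),
    pullback.lift_snd _ _ _, ?_⟩
  apply pullback.hom_ext
  · rw [Category.assoc, pullback.lift_fst, hl'2, Category.assoc]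
  · rw [Category.assoc, pullback.lift_snd, Category.assoc, hug, ← Category.assoc k, hk,
      Category.assoc]

/-- Over a Nagata base, the curve existence criterion implies universally closed. -/
theorem universallyClosed_of_curveExistence {S X Y : Scheme.{u}}
    (hS : ∀ W : S.affineOpens, CAlg.IsNagata Γ(S, W)) (q : Y ⟶ S) [LocallyOfFiniteType q]
    (f : X ⟶ Y) [LocallyOfFiniteType f] [QuasiCompact f] (H : CurveExistence q f) :
    UniversallyClosed f := by
  apply Groth.Agent.Lib.Helper78.universallyClosed_of_affineSpace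
  intro n
  haveI : LocallyOfFiniteType ((𝔸(ULift.{u} (Fin n); Y) ↘ Y) ≫ q) := inferInstance
  exact (isClosedMap_iff_specializingMap _).mpr
    (specializingMap_of_curveExistence hS ((𝔸(ULift.{u} (Fin n); Y) ↘ Y) ≫ q) _
      (H.baseChange _))

/-- Universally closed quasi-compact morphisms satisfy the curve existence criterion. -/
theorem curveExistence_of_universallyClosed {S X Y : Scheme.{u}} [IsLocallyNoetherian S]
    (q : Y ⟶ S) (f : X ⟶ Y) [UniversallyClosed f] : CurveExistence q f := by
  intro C r _ _ _ hnormal c hcl hdim U hU u g hgr hug k hk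
  haveI : IsLocallyNoetherian C := LocallyOfFiniteType.isLocallyNoetherian r
  haveI := hnormal c
  haveI : ValuationRing (C.presheaf.stalk c) := valuationRing_of_dim_one _ hdim
  have hex : ValuativeCriterion.Existence f :=
    (UniversallyClosed.eq_valuativeCriterion ▸ (inferInstance : UniversallyClosed f)).1
  have w : (k ≫ u) ≫ f = Spec.map (CommRingCat.ofHom (algebraMap (C.presheaf.stalk c)
      (FractionRing (C.presheaf.stalk c)))) ≫ (C.fromSpecStalk c ≫ g) := by
    rw [Category.assoc, hug, ← Category.assoc, hk, Category.assoc]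
  let sq : ValuativeCommSq f :=
    @ValuativeCommSq.mk _ _ f (C.presheaf.stalk c) _ inferInstance inferInstance
      (FractionRing (C.presheaf.stalk c)) _ _ _ (k ≫ u) (C.fromSpecStalk c ≫ g) ⟨w⟩
  obtain ⟨l, hl₁, hl₂⟩ := (hex sq).exists_lift
  exact ⟨l, hl₂, hl₁⟩

/-- The uniqueness part of the valuative criterion tested on normal integral curves of finite type
over the base `S`. -/
def CurveUniqueness {S X Y : Scheme.{u}} (q : Y ⟶ S) (f : X ⟶ Y) : Prop :=
  ∀ (C : Scheme.{u}) (r : C ⟶ S) [IsIntegral C] [LocallyOfFiniteType r] [QuasiCompact r],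
    (∀ x : C, IsIntegrallyClosed (C.presheaf.stalk x)) →
    ∀ (c : C), IsClosed ({c} : Set C) → ringKrullDim (C.presheaf.stalk c) = 1 →
    ∀ (U : C.Opens), (U : Set C) = {c}ᶜ →
    ∀ (u : (U : Scheme.{u}) ⟶ X) (g : C ⟶ Y), g ≫ q = r → u ≫ f = U.ι ≫ g →
    ∀ (k : Spec (CommRingCat.of (FractionRing (C.presheaf.stalk c))) ⟶ (U : Scheme.{u})),
      k ≫ U.ι = Spec.map (CommRingCat.ofHom (algebraMap (C.presheaf.stalk c)
        (FractionRing (C.presheaf.stalk c)))) ≫ C.fromSpecStalk c →
    ∀ l l' : Spec (C.presheaf.stalk c) ⟶ X,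
      l ≫ f = C.fromSpecStalk c ≫ g →
      Spec.map (CommRingCat.ofHom (algebraMap (C.presheaf.stalk c)
        (FractionRing (C.presheaf.stalk c)))) ≫ l = k ≫ u →
      l' ≫ f = C.fromSpecStalk c ≫ g →
      Spec.map (CommRingCat.ofHom (algebraMap (C.presheaf.stalk c)
        (FractionRing (C.presheaf.stalk c)))) ≫ l' = k ≫ u → l = l'

/-- Curve uniqueness for `f` gives curve existence for the diagonal. -/
theorem CurveUniqueness.diagonal {S X Y : Scheme.{u}} {q : Y ⟶ S} {f : X ⟶ Y}
    (H : CurveUniqueness q f) :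
    CurveExistence (pullback.fst f f ≫ f ≫ q) (pullback.diagonal f) := by
  intro C r _ _ _ hnormal c hcl hdim U hU u g hgr hug k hk
  have hu1 : u = U.ι ≫ g ≫ pullback.fst f f := by
    rw [← Category.assoc, ← hug, Category.assoc, pullback.diagonal_fst, Category.comp_id]
  have hu2 : u = U.ι ≫ g ≫ pullback.snd f f := by
    rw [← Category.assoc, ← hug, Category.assoc, pullback.diagonal_snd, Category.comp_id]
  have key := H C r hnormal c hcl hdim U hU u (g ≫ pullback.fst f f ≫ f)
    (by rw [← hgr]; simp only [Category.assoc])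
    (by rw [hu1]; simp only [Category.assoc]) k hk
    (C.fromSpecStalk c ≫ g ≫ pullback.fst f f) (C.fromSpecStalk c ≫ g ≫ pullback.snd f f)
    (by simp only [Category.assoc])
    (by rw [← Category.assoc, ← hk, Category.assoc, ← hu1])
    (by simp only [Category.assoc]; rw [pullback.condition])
    (by rw [← Category.assoc, ← hk, Category.assoc, ← hu2])
  refine ⟨C.fromSpecStalk c ≫ g ≫ pullback.fst f f, ?_, ?_⟩
  · apply pullback.hom_ext
    · simp only [Category.assoc, pullback.diagonal_fst, Category.comp_id]
    · rw [Category.assoc, pullback.diagonal_snd, Category.comp_id, key]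
      simp only [Category.assoc]
  · rw [← Category.assoc, ← hk, Category.assoc, ← hu1]

/-- Over a Nagata base, the curve uniqueness criterion implies separated. -/
theorem isSeparated_of_curveUniqueness {S X Y : Scheme.{u}}
    (hS : ∀ W : S.affineOpens, CAlg.IsNagata Γ(S, W)) (q : Y ⟶ S) [LocallyOfFiniteType q]
    (f : X ⟶ Y) [LocallyOfFiniteType f] (H : CurveUniqueness q f) : IsSeparated f := by
  haveI : IsLocallyNoetherian S := ⟨fun W => (hS W).1⟩
  haveI : IsLocallyNoetherian Y := LocallyOfFiniteType.isLocallyNoetherian q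
  haveI hXN : IsLocallyNoetherian X := LocallyOfFiniteType.isLocallyNoetherian f
  haveI hΔft : LocallyOfFiniteType (pullback.diagonal f) := by
    have : LocallyOfFiniteType (pullback.diagonal f ≫ pullback.fst f f) := by
      rw [pullback.diagonal_fst]; infer_instance
    exact locallyOfFiniteType_of_comp (pullback.diagonal f) (pullback.fst f f)
  haveI hΔqc : QuasiCompact (pullback.diagonal f) := QuasiSeparated.quasiCompact_diagonal
  haveI : LocallyOfFiniteType (pullback.fst f f ≫ f ≫ q) := inferInstance
  have hΔuc : UniversallyClosed (pullback.diagonal f) :=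
    universallyClosed_of_curveExistence hS (pullback.fst f f ≫ f ≫ q) _ H.diagonal
  exact ⟨.of_isPreimmersion _ (pullback.diagonal f).isClosedMap.isClosed_range⟩

/-- Separated morphisms satisfy the curve uniqueness criterion. -/
theorem curveUniqueness_of_isSeparated {S X Y : Scheme.{u}} [IsLocallyNoetherian S]
    (q : Y ⟶ S) (f : X ⟶ Y) [IsSeparated f] : CurveUniqueness q f := by
  intro C r _ _ _ hnormal c hcl hdim U hU u g hgr hug k hk l l' hl1 hl2 hl'1 hl'2
  haveI : IsLocallyNoetherian C := LocallyOfFiniteType.isLocallyNoetherian r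
  haveI := hnormal c
  haveI : ValuationRing (C.presheaf.stalk c) := valuationRing_of_dim_one _ hdim
  have hu := IsSeparated.valuativeCriterion f
  have w : (k ≫ u) ≫ f = Spec.map (CommRingCat.ofHom (algebraMap (C.presheaf.stalk c)
      (FractionRing (C.presheaf.stalk c)))) ≫ (C.fromSpecStalk c ≫ g) := by
    rw [Category.assoc, hug, ← Category.assoc, hk, Category.assoc]
  let sq : ValuativeCommSq f :=
    @ValuativeCommSq.mk _ _ f (C.presheaf.stalk c) _ inferInstance inferInstance
      (FractionRing (C.presheaf.stalk c)) _ _ _ (k ≫ u) (C.fromSpecStalk c ≫ g) ⟨w⟩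
  have := hu sq
  let L₁ : sq.commSq.LiftStruct := ⟨l, hl2, hl1⟩
  let L₂ : sq.commSq.LiftStruct := ⟨l', hl'2, hl'1⟩
  exact congrArg CommSq.LiftStruct.l (Subsingleton.elim L₁ L₂)

end Groth.Agent.Lib.Helper48.CurveCrit
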