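import Mathlib
import Groth.Agent.Lib.Helper48.CurveCrit5

/-!
# Valuative criteria tested on essentially finite type discrete valuation rings (helper48)
-/

set_option autoImplicit false
universe u

namespace Groth.Agent.Lib.Helper48.CurveCrit

open AlgebraicGeometry CategoryTheory Limits IsLocalRing

/-- The stalk of a scheme locally of finite type over `S` is essentially of finite type over an
affine open of `S`. -/
theorem exists_essFiniteType_stalk {S C : Scheme.{u}} (r : C ⟶ S) [LocallyOfFiniteType r] (c : C) :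
    ∃ (U : S.affineOpens) (φ : Γ(S, U.1) ⟶ C.presheaf.stalk c),
      Spec.map φ ≫ U.2.fromSpec = C.fromSpecStalk c ≫ r ∧ φ.hom.EssFiniteType := by
  obtain ⟨U0, hU0, hcU0, -⟩ := (TopologicalSpace.Opens.isBasis_iff_nbhd.mp S.isBasis_affineOpens)
    (show r c ∈ (⊤ : S.Opens) from trivial)
  obtain ⟨V, hV, hcV, hVU⟩ := (TopologicalSpace.Opens.isBasis_iff_nbhd.mp C.isBasis_affineOpens)
    (show c ∈ r ⁻¹ᵁ U0 from hcU0)
  change IsAffineOpen U0 at hU0
  change IsAffineOpen V at hV
  refine ⟨⟨U0, hU0⟩, r.appLE U0 V hVU ≫ C.presheaf.germ V c hcV, ?_, ?_⟩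
  · rw [Spec.map_comp, Category.assoc, IsAffineOpen.SpecMap_appLE_fromSpec r hU0 hV hVU,
      ← Category.assoc]
    congr 1
    exact hV.fromSpecStalk_eq_fromSpecStalk hcV
  · rw [CommRingCat.hom_comp]
    refine RingHom.EssFiniteType.comp (RingHom.FiniteType.essFiniteType
      (r.finiteType_appLE hU0 hV hVU)) ?_
    have hloc := hV.isLocalization_stalk ⟨c, hcV⟩
    let := TopCat.Presheaf.algebra_section_stalk C.presheaf (⟨c, hcV⟩ : V)
    exact RingHom.essFiniteType_algebraMap.mpr
      (Algebra.EssFiniteType.of_isLocalization _ (hV.primeIdealOf ⟨c, hcV⟩).asIdeal.primeCompl)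

/-- A Noetherian normal local domain of dimension one is a discrete valuation ring. -/
theorem isDiscreteValuationRing_of_dim_one (R : Type*) [CommRing R] [IsDomain R]
    [IsNoetherianRing R] [IsLocalRing R] [IsIntegrallyClosed R] (hdim : ringKrullDim R = 1) :
    IsDiscreteValuationRing R := by
  have hnf : ¬ IsField R := by
    intro h
    have h2 := ringKrullDim_eq_zero_of_isField h
    rw [hdim] at h2
    exact one_ne_zero h2
  have h10 : ValuationRing R → IsDiscreteValuationRing R :=
    ((IsDiscreteValuationRing.TFAE R hnf).out 0 1).mpr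
  exact h10 (valuationRing_of_dim_one R hdim)

section

variable {S X Y : Scheme.{u}} [IsLocallyNoetherian S] (f : X ⟶ Y) (g : Y ⟶ S)

/-- Existence of lifts for essentially finite type discrete valuation rings gives the curve
existence criterion. -/
theorem curveExistence_of_essFiniteType_dvr
    (H : ∀ sq : ValuativeCommSq f, IsDiscreteValuationRing sq.R →
      (∃ (U : S.affineOpens) (φ : Γ(S, U.1) ⟶ CommRingCat.of sq.R),
        Spec.map φ ≫ U.2.fromSpec = sq.i₂ ≫ g ∧ φ.hom.EssFiniteType) →
      sq.commSq.HasLift) : CurveExistence g f := by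
  intro C r _ _ _ hnormal c hcl hdim U hU u gC hgr hug k hk
  haveI : IsLocallyNoetherian C := LocallyOfFiniteType.isLocallyNoetherian r
  haveI := hnormal c
  haveI : ValuationRing (C.presheaf.stalk c) := valuationRing_of_dim_one _ hdim
  have hdvr : IsDiscreteValuationRing (C.presheaf.stalk c) :=
    isDiscreteValuationRing_of_dim_one _ hdim
  have w : (k ≫ u) ≫ f = Spec.map (CommRingCat.ofHom (algebraMap (C.presheaf.stalk c)
      (FractionRing (C.presheaf.stalk c)))) ≫ (C.fromSpecStalk c ≫ gC) := by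
    rw [Category.assoc, hug, ← Category.assoc, hk, Category.assoc]
  let sq : ValuativeCommSq f :=
    @ValuativeCommSq.mk _ _ f (C.presheaf.stalk c) _ inferInstance inferInstance
      (FractionRing (C.presheaf.stalk c)) _ _ _ (k ≫ u) (C.fromSpecStalk c ≫ gC) ⟨w⟩
  obtain ⟨U0, φ, hφ1, hφ2⟩ := exists_essFiniteType_stalk r c
  have hl := H sq hdvr ⟨U0, φ, by rw [hφ1, ← hgr]; simp only [sq, Category.assoc], hφ2⟩
  obtain ⟨l, hl₁, hl₂⟩ := hl.exists_lift
  exact ⟨l, hl₂, hl₁⟩

/-- Uniqueness of lifts for essentially finite type discrete valuation rings gives the curve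
uniqueness criterion. -/
theorem curveUniqueness_of_essFiniteType_dvr
    (H : ∀ sq : ValuativeCommSq f, IsDiscreteValuationRing sq.R →
      (∃ (U : S.affineOpens) (φ : Γ(S, U.1) ⟶ CommRingCat.of sq.R),
        Spec.map φ ≫ U.2.fromSpec = sq.i₂ ≫ g ∧ φ.hom.EssFiniteType) →
      Subsingleton sq.commSq.LiftStruct) : CurveUniqueness g f := by
  intro C r _ _ _ hnormal c hcl hdim U hU u gC hgr hug k hk l l' hl1 hl2 hl'1 hl'2
  haveI : IsLocallyNoetherian C := LocallyOfFiniteType.isLocallyNoetherian r
  haveI := hnormal c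
  haveI : ValuationRing (C.presheaf.stalk c) := valuationRing_of_dim_one _ hdim
  have hdvr : IsDiscreteValuationRing (C.presheaf.stalk c) :=
    isDiscreteValuationRing_of_dim_one _ hdim
  have w : (k ≫ u) ≫ f = Spec.map (CommRingCat.ofHom (algebraMap (C.presheaf.stalk c)
      (FractionRing (C.presheaf.stalk c)))) ≫ (C.fromSpecStalk c ≫ gC) := by
    rw [Category.assoc, hug, ← Category.assoc, hk, Category.assoc]
  let sq : ValuativeCommSq f :=
    @ValuativeCommSq.mk _ _ f (C.presheaf.stalk c) _ inferInstance inferInstance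
      (FractionRing (C.presheaf.stalk c)) _ _ _ (k ≫ u) (C.fromSpecStalk c ≫ gC) ⟨w⟩
  obtain ⟨U0, φ, hφ1, hφ2⟩ := exists_essFiniteType_stalk r c
  have := H sq hdvr ⟨U0, φ, by rw [hφ1, ← hgr]; simp only [sq, Category.assoc], hφ2⟩
  let L₁ : sq.commSq.LiftStruct := ⟨l, hl2, hl1⟩
  let L₂ : sq.commSq.LiftStruct := ⟨l', hl'2, hl'1⟩
  exact congrArg CommSq.LiftStruct.l (Subsingleton.elim L₁ L₂)

end

end Groth.Agent.Lib.Helper48.CurveCrit
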