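import Mathlib

/-!
# Finiteness of the integral closure in a radical extension `K(a^{1/p})` via a derivation
(Stacks, Tag 0AE-type lemma used in Tate's/Nagata's arguments).
-/

universe u

namespace Groth.Agent.Lib.Helper48

open Polynomial

section
variable {K L : Type*} [Field K] [Field L] [Algebra K L] (p : ℕ) [Fact p.Prime] [CharP K p]

/-- The "Frobenius norm" of a polynomial expression: `(g(x))^p = N(g)` when `x^p = a`. -/
noncomputable def frobNorm (a : K) (g : K[X]) : K := (g.map (frobenius K p)).eval a

theorem frobNorm_add (a : K) (g h : K[X]) :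
    frobNorm p a (g + h) = frobNorm p a g + frobNorm p a h := by
  simp [frobNorm]

theorem frobNorm_monomial (a : K) (n : ℕ) (c : K) :
    frobNorm p a (monomial n c) = c ^ p * a ^ n := by
  simp [frobNorm, frobenius_def]

theorem frobNorm_C_mul (a : K) (c : K) (g : K[X]) :
    frobNorm p a (C c * g) = c ^ p * frobNorm p a g := by
  simp [frobNorm, frobenius_def]

theorem aeval_pow_eq_frobNorm (a : K) (x : L) (hx : x ^ p = algebraMap K L a) (g : K[X]) :
    (aeval x g) ^ p = algebraMap K L (frobNorm p a g) := by
  haveI : CharP L p := charP_of_injective_algebraMap (algebraMap K L).injective p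
  induction g using Polynomial.induction_on' with
  | add g h hg hh => rw [map_add, add_pow_char, hg, hh, frobNorm_add, map_add]
  | monomial n c =>
    rw [frobNorm_monomial, aeval_monomial, mul_pow, ← pow_mul, mul_comm n p, pow_mul, hx,
      map_mul, map_pow, map_pow]

theorem derivation_frobNorm (D : Derivation ℤ K K) (a : K) (g : K[X]) :
    D (frobNorm p a g) = D a * frobNorm p a (derivative g) := by
  have hp0 : (p : K) = 0 := CharP.cast_eq_zero K p
  induction g using Polynomial.induction_on' with
  | add g h hg hh => rw [frobNorm_add, map_add, hg, hh, derivative_add, frobNorm_add, mul_add]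
  | monomial n c =>
    rw [frobNorm_monomial, derivative_monomial, frobNorm_monomial, Derivation.leibniz,
      Derivation.leibniz_pow, Derivation.leibniz_pow]
    have h1 : ((c * (n : K)) ^ p) = c ^ p * (n : K) := by
      rw [mul_pow]
      congr 1
      exact map_natCast (frobenius K p) n
    rw [h1]
    simp only [smul_eq_mul, nsmul_eq_mul, hp0, zero_mul, mul_zero, add_zero]
    ring

end

section
variable {R K L : Type*} [CommRing R] [IsDomain R] [IsIntegrallyClosed R] [Field K] [Algebra R K]
  [IsFractionRing R K] [Field L] [Algebra K L] [Algebra R L] [IsScalarTower R K L]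
  (p : ℕ) [Fact p.Prime] [CharP K p]

theorem exists_eq_of_isIntegral_algebraMap (t : K) (ht : IsIntegral R (algebraMap K L t)) :
    ∃ r : R, algebraMap R K r = t :=
  IsIntegrallyClosed.isIntegral_iff.mp
    ((isIntegral_algebraMap_iff (algebraMap K L).injective).mp ht)

/-- The key induction: coefficients of integral elements of `K(a^{1/p})` have bounded denominators. -/
theorem coeff_mem_of_isIntegral_aeval (D : Derivation ℤ K K)
    (hD : ∀ r : R, ∃ s : R, D (algebraMap R K r) = algebraMap R K s)
    (a₀ : R) (x : L) (hx : x ^ p = algebraMap R L a₀) (i : ℕ) (hi : i < p) :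
    ∀ g : K[X], g.natDegree ≤ i → IsIntegral R (aeval x g) →
      ∀ j, ∃ r : R, algebraMap R K r = D (algebraMap R K a₀) ^ i * g.coeff j := by
  have hx' : x ^ p = algebraMap K L (algebraMap R K a₀) := by
    rw [hx, IsScalarTower.algebraMap_apply R K L]
  have hxint : IsIntegral R x := IsIntegral.of_pow (Fact.out : p.Prime).pos (hx ▸ isIntegral_algebraMap)
  obtain ⟨d₀, hd₀⟩ := hD a₀
  induction i with
  | zero =>
    intro g hg hgint j
    rw [pow_zero, one_mul]
    rw [eq_C_of_natDegree_le_zero hg] at hgint ⊢
    rw [aeval_C] at hgint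
    obtain ⟨r, hr⟩ := exists_eq_of_isIntegral_algebraMap (L := L) _ hgint
    rcases j with _ | j
    · exact ⟨r, by simpa using hr⟩
    · exact ⟨0, by simp [coeff_C]⟩
  | succ i ih =>
    intro g hg hgint j
    have ih' := ih (Nat.lt_of_succ_lt hi)
    -- `N g ∈ R`
    have h1 : IsIntegral R (algebraMap K L (frobNorm p (algebraMap R K a₀) g)) := by
      rw [← aeval_pow_eq_frobNorm p _ x hx' g]
      exact hgint.pow p
    obtain ⟨r, hr⟩ := exists_eq_of_isIntegral_algebraMap (L := L) _ h1
    obtain ⟨s, hs⟩ := hD r
    rw [hr, derivation_frobNorm] at hs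
    -- the derivative element is integral
    have h2 : IsIntegral R (aeval x (C (D (algebraMap R K a₀)) * derivative g)) := by
      refine IsIntegral.of_pow (Fact.out : p.Prime).pos ?_
      rw [aeval_pow_eq_frobNorm p _ x hx', frobNorm_C_mul]
      have : D (algebraMap R K a₀) ^ p * frobNorm p (algebraMap R K a₀) (derivative g) =
          algebraMap R K (d₀ ^ (p - 1) * s) := by
        rw [map_mul, map_pow, ← hs, ← hd₀, ← mul_assoc, ← pow_succ,
          Nat.sub_add_cancel (Fact.out : p.Prime).pos]
      rw [this, ← IsScalarTower.algebraMap_apply]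
      exact isIntegral_algebraMap
    have hdeg : (C (D (algebraMap R K a₀)) * derivative g).natDegree ≤ i := by
      refine (natDegree_C_mul_le _ _).trans ?_
      exact (natDegree_derivative_le g).trans (by omega)
    have h3 := ih' _ hdeg h2
    -- coefficients `j + 1`
    have hpos : ∀ j, ∃ r : R,
        algebraMap R K r = D (algebraMap R K a₀) ^ (i + 1) * g.coeff (j + 1) := by
      intro j
      by_cases hj : j + 1 ≤ i + 1
      · obtain ⟨r, hr⟩ := h3 j
        rw [coeff_C_mul, coeff_derivative] at hr
        -- invert `j + 1` mod `p`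
        have hcop : Nat.Coprime (j + 1) p := by
          refine Nat.Coprime.symm ((Nat.Prime.coprime_iff_not_dvd Fact.out).mpr ?_)
          exact Nat.not_dvd_of_pos_of_lt (Nat.succ_pos j) (by omega)
        obtain ⟨m, -, hm⟩ := Nat.exists_mul_mod_eq_one_of_coprime hcop (Fact.out : p.Prime).one_lt
        have hmK : (((j + 1) * m : ℕ) : K) = 1 := by
          rw [CharP.cast_eq_mod K p, hm, Nat.cast_one]
        refine ⟨(m : R) * r, ?_⟩
        rw [map_mul, map_natCast, hr]
        have : D (algebraMap R K a₀) ^ (i + 1) * g.coeff (j + 1) =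
            (((j + 1) * m : ℕ) : K) * (D (algebraMap R K a₀) ^ (i + 1) * g.coeff (j + 1)) := by
          rw [hmK, one_mul]
        rw [this]
        push_cast
        ring
      · rw [coeff_eq_zero_of_natDegree_lt (by omega), mul_zero]
        exact ⟨0, map_zero _⟩
    rcases j with _ | j
    · -- the constant coefficient
      choose r hr using hpos
      have hsum : aeval x g = algebraMap K L (g.coeff 0) +
          ∑ k ∈ Finset.range (i + 1), algebraMap K L (g.coeff (k + 1)) * x ^ (k + 1) := by
        rw [aeval_eq_sum_range' (n := i + 2) (by omega), Finset.sum_range_succ', pow_zero,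
          Algebra.smul_def, mul_one, add_comm]
        congr 1
        exact Finset.sum_congr rfl (fun k _ => by rw [Algebra.smul_def])
      have hd₀L : algebraMap K L (D (algebraMap R K a₀)) = algebraMap R L d₀ := by
        rw [hd₀, ← IsScalarTower.algebraMap_apply]
      have hrL : ∀ k, algebraMap R L (r k) =
          algebraMap R L d₀ ^ (i + 1) * algebraMap K L (g.coeff (k + 1)) := by
        intro k
        rw [IsScalarTower.algebraMap_apply R K L (r k), hr k, map_mul, map_pow, hd₀L]
      have h4 : algebraMap K L (D (algebraMap R K a₀) ^ (i + 1) * g.coeff 0) =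
          algebraMap R L (d₀ ^ (i + 1)) * aeval x g -
            ∑ k ∈ Finset.range (i + 1), algebraMap R L (r k) * x ^ (k + 1) := by
        rw [hsum, map_mul, map_pow, hd₀L, map_pow, mul_add, Finset.mul_sum, eq_sub_iff_add_eq]
        congr 1
        refine Finset.sum_congr rfl (fun k _ => ?_)
        rw [hrL k]
        ring
      refine exists_eq_of_isIntegral_algebraMap (L := L) _ ?_
      rw [h4]
      refine IsIntegral.sub (isIntegral_algebraMap.mul hgint) ?_
      exact IsIntegral.sum _ (fun k _ => isIntegral_algebraMap.mul (hxint.pow _))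
    · exact hpos j

/-- Stacks 0AE?: finiteness of the integral closure in `K(a^{1/p})` when some derivation preserving
`R` does not kill `a ∈ R`. -/
theorem finite_integralClosure_of_derivation_aux [IsNoetherianRing R] (D : Derivation ℤ K K)
    (hD : ∀ r : R, ∃ s : R, D (algebraMap R K r) = algebraMap R K s)
    (a₀ : R) (ha : D (algebraMap R K a₀) ≠ 0) (x : L) (hx : x ^ p = algebraMap R L a₀)
    (hgen : IntermediateField.adjoin K {x} = ⊤) :
    Module.Finite R (integralClosure R L) := by
  have hp : p.Prime := Fact.out
  have hinjL : Function.Injective (algebraMap R L) := by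
    rw [IsScalarTower.algebraMap_eq R K L]
    exact (algebraMap K L).injective.comp (IsFractionRing.injective R K)
  obtain ⟨d₀, hd₀⟩ := hD a₀
  have hd₀0 : d₀ ≠ 0 := by
    rintro rfl
    exact ha (by rw [hd₀, map_zero])
  have hx' : x ^ p = algebraMap K L (algebraMap R K a₀) := by
    rw [hx, IsScalarTower.algebraMap_apply R K L]
  have hmonic : (X ^ p - C (algebraMap R K a₀) : K[X]).Monic := monic_X_pow_sub_C _ hp.ne_zero
  have hroot : aeval x (X ^ p - C (algebraMap R K a₀) : K[X]) = 0 := by
    rw [map_sub, map_pow, aeval_X, aeval_C, hx', sub_self]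
  have hxalg : IsAlgebraic K x := ⟨_, hmonic.ne_zero, hroot⟩
  -- every element is a polynomial of degree `< p` in `x`
  have hrep : ∀ y : L, ∃ g : K[X], g.natDegree ≤ p - 1 ∧ y = aeval x g := by
    intro y
    have h1 : y ∈ (IntermediateField.adjoin K {x}).toSubalgebra := by rw [hgen]; trivial
    rw [IntermediateField.adjoin_simple_toSubalgebra_of_isAlgebraic hxalg,
      Algebra.adjoin_singleton_eq_range_aeval] at h1
    obtain ⟨g₀, rfl⟩ := h1
    refine ⟨g₀ %ₘ (X ^ p - C (algebraMap R K a₀)), ?_, ?_⟩
    · have h2 := natDegree_modByMonic_lt g₀ hmonic (by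
        intro h1
        have := congrArg natDegree h1
        rw [natDegree_X_pow_sub_C, natDegree_one] at this
        exact hp.ne_zero this)
      rw [natDegree_X_pow_sub_C] at h2
      omega
    · exact (aeval_modByMonic_eq_self_of_root hroot).symm
  -- the finite module
  obtain ⟨N₀, hN₀⟩ : ∃ N₀ : Submodule R L,
    N₀ = Submodule.span R (Set.range fun j : Fin p => x ^ (j : ℕ)) := ⟨_, rfl⟩
  haveI : IsNoetherian R N₀ := by
    rw [hN₀]
    exact isNoetherian_span_of_finite R (Set.finite_range _)
  have hmem : ∀ y : integralClosure R L, d₀ ^ (p - 1) • (y : L) ∈ N₀ := by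
    intro y
    obtain ⟨g, hg, hy⟩ := hrep y
    have hint : IsIntegral R (aeval x g) := hy ▸ y.2
    choose r hr using coeff_mem_of_isIntegral_aeval p D hD a₀ x hx (p - 1)
      (Nat.sub_lt hp.pos Nat.one_pos) g hg hint
    have hlt : g.natDegree < p := lt_of_le_of_lt hg (Nat.sub_lt hp.pos Nat.one_pos)
    rw [hy, aeval_eq_sum_range' (n := p) hlt, Finset.smul_sum, hN₀]
    refine Submodule.sum_mem _ (fun j hj => ?_)
    have : d₀ ^ (p - 1) • g.coeff j • x ^ j = r j • x ^ j := by
      rw [Algebra.smul_def, Algebra.smul_def, Algebra.smul_def,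
        IsScalarTower.algebraMap_apply R K L (r j), hr j, hd₀,
        IsScalarTower.algebraMap_apply R K L]
      simp only [map_mul, map_pow]
      ring
    rw [this]
    exact Submodule.smul_mem _ _ (Submodule.subset_span ⟨⟨j, Finset.mem_range.mp hj⟩, rfl⟩)
  let φ : integralClosure R L →ₗ[R] N₀ :=
    { toFun := fun y => ⟨d₀ ^ (p - 1) • (y : L), hmem y⟩
      map_add' := fun y z => Subtype.ext (smul_add _ _ _)
      map_smul' := fun c y => Subtype.ext (smul_comm _ _ _) }
  refine Module.Finite.of_injective φ (fun y z hyz => Subtype.ext ?_)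
  have h1 : d₀ ^ (p - 1) • (y : L) = d₀ ^ (p - 1) • (z : L) := congrArg Subtype.val hyz
  rw [Algebra.smul_def, Algebra.smul_def] at h1
  refine mul_left_cancel₀ ?_ h1
  exact (map_ne_zero_iff _ hinjL).mpr (pow_ne_zero _ hd₀0)

/-- Stacks: finiteness of the integral closure in the radical extension `K(a^{1/p})` when some
derivation of `K` preserving `R` does not kill `a`. -/
theorem finite_integralClosure_radical_extension_of_derivation [IsNoetherianRing R]
    (D : Derivation ℤ K K)
    (hD : ∀ r : R, ∃ s : R, D (algebraMap R K r) = algebraMap R K s) (a : K) (ha : D a ≠ 0)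
    (x : L) (hx : x ^ p = algebraMap K L a) (hgen : IntermediateField.adjoin K {x} = ⊤) :
    Module.Finite R (integralClosure R L) := by
  have hp : p.Prime := Fact.out
  have hp0 : (p : K) = 0 := CharP.cast_eq_zero K p
  obtain ⟨b, c, hc, rfl⟩ := IsFractionRing.div_surjective (A := R) a
  have hc0 : c ≠ 0 := nonZeroDivisors.ne_zero hc
  have hcK : algebraMap R K c ≠ 0 := (map_ne_zero_iff _ (IsFractionRing.injective R K)).mpr hc0
  -- `a' = c ^ (p - 1) * b`, with `algebraMap a' = c ^ p * a`
  have ha' : algebraMap R K (c ^ (p - 1) * b) =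
      algebraMap R K c ^ p * (algebraMap R K b / algebraMap R K c) := by
    rw [map_mul, map_pow]
    conv_rhs => rw [← Nat.sub_add_cancel hp.pos, pow_succ]
    field_simp
  have hDc : D (algebraMap R K c ^ p) = 0 := by
    rw [Derivation.leibniz_pow]
    simp
  have hDa' : D (algebraMap R K (c ^ (p - 1) * b)) ≠ 0 := by
    rw [ha', Derivation.leibniz, hDc, smul_zero, add_zero, smul_eq_mul]
    exact mul_ne_zero (pow_ne_zero _ hcK) ha
  refine finite_integralClosure_of_derivation_aux p D hD (c ^ (p - 1) * b) hDa'
    (algebraMap R L c * x) ?_ ?_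
  · rw [mul_pow, hx, IsScalarTower.algebraMap_apply R K L (c ^ (p - 1) * b), ha', map_mul, map_pow,
      ← IsScalarTower.algebraMap_apply]
  · rw [eq_top_iff, ← hgen, IntermediateField.adjoin_simple_le_iff]
    obtain ⟨z, hz⟩ : ∃ z : L, z = algebraMap R L c * x := ⟨_, rfl⟩
    rw [← hz]
    have h1 : z ∈ IntermediateField.adjoin K {z} := IntermediateField.mem_adjoin_simple_self K _
    have h2 : x = algebraMap K L (algebraMap R K c)⁻¹ * z := by
      rw [hz, IsScalarTower.algebraMap_apply R K L c, ← mul_assoc, ← map_mul, inv_mul_cancel₀ hcK,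
        map_one, one_mul]
    rw [h2]
    exact mul_mem (IntermediateField.algebraMap_mem _ _) h1

end

end Groth.Agent.Lib.Helper48
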