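import Mathlib

set_option autoImplicit false

namespace Groth.Agent.Lib.Helper48

/-- Universal property of a directed colimit of algebras, in the elementary encoding
(jointly surjective compatible maps whose kernels die in the system). -/
theorem exists_algHom_of_directed_colimit {ι : Type*} [Preorder ι] [IsDirected ι (· ≤ ·)]
    [Nonempty ι]
    (R : Type*) [CommRing R] (G : ι → Type*) [∀ i, CommRing (G i)] [∀ i, Algebra R (G i)]
    (f : ∀ i j, i ≤ j → (G i →ₐ[R] G j)) (S : Type*) [CommRing S] [Algebra R S]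
    (g : ∀ i, G i →ₐ[R] S) (hg : ∀ i j (h : i ≤ j), (g j).comp (f i j h) = g i)
    (hsurj : ∀ s : S, ∃ i, ∃ x : G i, g i x = s)
    (hker : ∀ i (x : G i), g i x = 0 → ∃ j, ∃ h : i ≤ j, f i j h x = 0)
    (B : Type*) [CommRing B] [Algebra R B] (ℓ : ∀ i, G i →ₐ[R] B)
    (hℓ : ∀ i j (h : i ≤ j), (ℓ j).comp (f i j h) = ℓ i) :
    ∃ ψ : S →ₐ[R] B, ∀ i, ψ.comp (g i) = ℓ i := by
  classical
  have hg' : ∀ i j (h : i ≤ j) (x : G i), g j (f i j h x) = g i x := fun i j h x =>
    AlgHom.congr_fun (hg i j h) x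
  have hℓ' : ∀ i j (h : i ≤ j) (x : G i), ℓ j (f i j h x) = ℓ i x := fun i j h x =>
    AlgHom.congr_fun (hℓ i j h) x
  -- elements killed by `g` are killed by `ℓ`
  have hkill : ∀ i (z : G i), g i z = 0 → ℓ i z = 0 := by
    intro i z hz
    obtain ⟨j, h, hj⟩ := hker i z hz
    rw [← hℓ' i j h, hj, map_zero]
  -- well-definedness
  have hwd : ∀ i j (x : G i) (y : G j), g i x = g j y → ℓ i x = ℓ j y := by
    intro i j x y hxy
    obtain ⟨k, hik, hjk⟩ := exists_ge_ge i j
    have : g k (f i k hik x - f j k hjk y) = 0 := by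
      rw [map_sub, hg', hg', hxy, sub_self]
    have := hkill k _ this
    rw [map_sub, hℓ', hℓ', sub_eq_zero] at this
    exact this
  choose idx rep hrep using hsurj
  let ψ₀ : S → B := fun s => ℓ (idx s) (rep s)
  have hψ₀ : ∀ i (x : G i), ψ₀ (g i x) = ℓ i x := by
    intro i x
    exact hwd _ _ _ _ (hrep (g i x))
  have hψ₀' : ∀ s, ∀ i (x : G i), g i x = s → ψ₀ s = ℓ i x := by
    intro s i x hx
    rw [← hx, hψ₀]
  let i₀ : ι := Classical.arbitrary ι
  let ψ : S →ₐ[R] B :=
    { toFun := ψ₀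
      map_one' := by
        rw [hψ₀' 1 i₀ 1 (map_one _), map_one]
      map_mul' := by
        intro s t
        obtain ⟨k, hik, hjk⟩ := exists_ge_ge (idx s) (idx t)
        have hs : g k (f _ k hik (rep s)) = s := by rw [hg', hrep]
        have ht : g k (f _ k hjk (rep t)) = t := by rw [hg', hrep]
        rw [hψ₀' s _ _ hs, hψ₀' t _ _ ht,
          hψ₀' (s * t) k (f _ k hik (rep s) * f _ k hjk (rep t)) (by rw [map_mul, hs, ht]),
          map_mul]
      map_zero' := by
        rw [hψ₀' 0 i₀ 0 (map_zero _), map_zero]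
      map_add' := by
        intro s t
        obtain ⟨k, hik, hjk⟩ := exists_ge_ge (idx s) (idx t)
        have hs : g k (f _ k hik (rep s)) = s := by rw [hg', hrep]
        have ht : g k (f _ k hjk (rep t)) = t := by rw [hg', hrep]
        rw [hψ₀' s _ _ hs, hψ₀' t _ _ ht,
          hψ₀' (s + t) k (f _ k hik (rep s) + f _ k hjk (rep t)) (by rw [map_add, hs, ht]),
          map_add]
      commutes' := by
        intro r
        rw [hψ₀' (algebraMap R S r) i₀ (algebraMap R (G i₀) r) (AlgHom.commutes _ r),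
          AlgHom.commutes] }
  exact ⟨ψ, fun i => AlgHom.ext fun x => hψ₀ i x⟩

/-- Uniqueness part of the universal property. -/
theorem algHom_ext_of_directed_colimit {ι : Type*}
    (R : Type*) [CommRing R] (G : ι → Type*) [∀ i, CommRing (G i)] [∀ i, Algebra R (G i)]
    (S : Type*) [CommRing S] [Algebra R S]
    (g : ∀ i, G i →ₐ[R] S)
    (hsurj : ∀ s : S, ∃ i, ∃ x : G i, g i x = s)
    (B : Type*) [CommRing B] [Algebra R B] (ψ₁ ψ₂ : S →ₐ[R] B)
    (h : ∀ i, ψ₁.comp (g i) = ψ₂.comp (g i)) : ψ₁ = ψ₂ := by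
  ext s
  obtain ⟨i, x, rfl⟩ := hsurj s
  exact AlgHom.congr_fun (h i) x

end Groth.Agent.Lib.Helper48
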