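import Mathlib

/-!
# Direct limits (concrete `DirectLimit`) of henselian local rings along local homomorphisms
-/

set_option autoImplicit false

namespace Groth.Agent.Lib.Helper48.DLHens

universe u v

open Polynomial

variable {ι : Type v} [Preorder ι] [IsDirectedOrder ι] [Nonempty ι] {G : ι → Type u}
  [∀ i, CommRing (G i)] (f : ∀ i j, i ≤ j → G i →+* G j)
  [DirectedSystem G (fun i j h => f i j h)]

omit [IsDirectedOrder ι] [Nonempty ι] in
theorem f_f {i j k : ι} (h1 : i ≤ j) (h2 : j ≤ k) (x : G i) :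
    f j k h2 (f i j h1 x) = f i k (h1.trans h2) x :=
  DirectedSystem.map_map (f := fun i j h => f i j h) h1 h2 x

theorem of_f {i j : ι} (h : i ≤ j) (x : G i) :
    DirectLimit.Ring.of G f j (f i j h x) = DirectLimit.Ring.of G f i x :=
  DirectLimit.Ring.of_f h x

theorem exists_of (z : DirectLimit G f) : ∃ i x, DirectLimit.Ring.of G f i x = z := by
  obtain ⟨i, x, rfl⟩ := DirectLimit.exists_eq_mk (f := fun i j h => f i j h) z
  exact ⟨i, x, rfl⟩

theorem of_eq_zero {i : ι} {x : G i} (h : DirectLimit.Ring.of G f i x = 0) :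
    ∃ j, ∃ hij : i ≤ j, f i j hij x = 0 := by
  have h' : (⟦⟨i, x⟩⟧ : DirectLimit G f) = ⟦⟨i, 0⟩⟧ := by
    rw [← DirectLimit.zero_def i]; exact h
  obtain ⟨j, h1, h2, e⟩ := Quotient.exact h'
  refine ⟨j, h1, ?_⟩
  have e' : f i j h1 x = f i j h2 0 := e
  rw [e', map_zero]

theorem isUnit_of_isUnit_of (hf : ∀ i j (h : i ≤ j), IsLocalHom (f i j h)) {i : ι} {x : G i}
    (hx : IsUnit (DirectLimit.Ring.of G f i x)) : IsUnit x := by
  obtain ⟨y, hy⟩ := hx.exists_right_inv
  obtain ⟨j, y', rfl⟩ := exists_of f y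
  obtain ⟨k, hik, hjk⟩ := exists_ge_ge i j
  have h0 : DirectLimit.Ring.of G f k (f i k hik x * f j k hjk y' - 1) = 0 := by
    rw [map_sub, map_mul, of_f, of_f, map_one, sub_eq_zero]
    exact hy
  obtain ⟨l, hkl, hl⟩ := of_eq_zero f h0
  rw [map_sub, map_mul, map_one, f_f, f_f, sub_eq_zero] at hl
  have : IsUnit (f i l (hik.trans hkl) x) := IsUnit.of_mul_eq_one _ hl
  exact (hf i l _).map_nonunit x this

theorem isLocalHom_of (hf : ∀ i j (h : i ≤ j), IsLocalHom (f i j h)) (i : ι) :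
    IsLocalHom (DirectLimit.Ring.of G f i) :=
  ⟨fun _ hx => isUnit_of_isUnit_of f hf hx⟩

theorem nontrivial [∀ i, Nontrivial (G i)] (hf : ∀ i j (h : i ≤ j), IsLocalHom (f i j h)) :
    Nontrivial (DirectLimit G f) := by
  refine ⟨⟨0, 1, fun h => ?_⟩⟩
  obtain ⟨i⟩ := ‹Nonempty ι›
  have h1 : IsUnit (DirectLimit.Ring.of G f i (0 : G i)) := by
    rw [map_zero, h]; exact isUnit_one
  exact not_isUnit_zero (isUnit_of_isUnit_of f hf h1)

theorem isLocalRing [∀ i, IsLocalRing (G i)] (hf : ∀ i j (h : i ≤ j), IsLocalHom (f i j h)) :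
    IsLocalRing (DirectLimit G f) := by
  haveI := nontrivial f hf
  refine IsLocalRing.of_isUnit_or_isUnit_one_sub_self fun a => ?_
  obtain ⟨i, x, rfl⟩ := exists_of f a
  rcases IsLocalRing.isUnit_or_isUnit_one_sub_self x with h | h
  · exact Or.inl (h.map (DirectLimit.Ring.of G f i))
  · right
    have := h.map (DirectLimit.Ring.of G f i)
    rwa [map_sub, map_one] at this

theorem poly_exists_of (q : (DirectLimit G f)[X]) :
    ∃ i p, Polynomial.map (DirectLimit.Ring.of G f i) p = q := by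
  induction q using Polynomial.induction_on with
  | C a =>
    obtain ⟨i, x, rfl⟩ := exists_of f a
    exact ⟨i, C x, Polynomial.map_C _⟩
  | add p q hp hq =>
    obtain ⟨i, p', rfl⟩ := hp
    obtain ⟨j, q', rfl⟩ := hq
    obtain ⟨k, hik, hjk⟩ := exists_ge_ge i j
    refine ⟨k, p'.map (f i k hik) + q'.map (f j k hjk), ?_⟩
    rw [Polynomial.map_add, Polynomial.map_map, Polynomial.map_map]
    congr 2
    · ext x; exact of_f f hik x
    · ext x; exact of_f f hjk x
  | monomial n a h =>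
    obtain ⟨i, p, hp⟩ := h
    refine ⟨i, p * X, ?_⟩
    rw [Polynomial.map_mul, hp, Polynomial.map_X, pow_succ, mul_assoc]

theorem henselianLocalRing [∀ i, HenselianLocalRing (G i)]
    (hf : ∀ i j (h : i ≤ j), IsLocalHom (f i j h)) :
    HenselianLocalRing (DirectLimit G f) := by
  haveI hloc : IsLocalRing (DirectLimit G f) := isLocalRing f hf
  have hmem : ∀ i (x : G i), DirectLimit.Ring.of G f i x ∈
      IsLocalRing.maximalIdeal (DirectLimit G f) ↔ x ∈ IsLocalRing.maximalIdeal (G i) := by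
    intro i x
    rw [IsLocalRing.mem_maximalIdeal, IsLocalRing.mem_maximalIdeal, mem_nonunits_iff,
      mem_nonunits_iff, not_iff_not]
    exact ⟨fun h => isUnit_of_isUnit_of f hf h, fun h => h.map (DirectLimit.Ring.of G f i)⟩
  have hlift : ∀ (F : (DirectLimit G f)[X]) (_ : F.Monic) (a₀ : DirectLimit G f),
      ∃ (k : ι) (q : (G k)[X]) (a : G k),
      q.Monic ∧ q.map (DirectLimit.Ring.of G f k) = F ∧ DirectLimit.Ring.of G f k a = a₀ := by
    intro F hF a₀
    obtain ⟨i, p, hp⟩ := poly_exists_of f F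
    have hlifts : F ∈ Polynomial.lifts (DirectLimit.Ring.of G f i) :=
      (Polynomial.mem_lifts _).mpr ⟨p, hp⟩
    obtain ⟨q, hq, -, hqm⟩ := Polynomial.lifts_and_natDegree_eq_and_monic hlifts hF
    obtain ⟨j, a, rfl⟩ := exists_of f a₀
    obtain ⟨k, hik, hjk⟩ := exists_ge_ge i j
    refine ⟨k, q.map (f i k hik), f j k hjk a, hqm.map _, ?_, of_f f _ _⟩
    rw [Polynomial.map_map, ← hq]
    congr 1
    ext x
    exact of_f f _ _
  refine { toIsLocalRing := hloc, is_henselian := ?_ }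
  intro F hF a₀ h1 h2
  obtain ⟨k, q, a, hqm, rfl, rfl⟩ := hlift F hF a₀
  rw [Polynomial.eval_map, Polynomial.eval₂_at_apply, hmem] at h1
  rw [Polynomial.derivative_map, Polynomial.eval_map, Polynomial.eval₂_at_apply] at h2
  obtain ⟨b, hb1, hb2⟩ := HenselianLocalRing.is_henselian q hqm a h1
    (isUnit_of_isUnit_of f hf h2)
  refine ⟨DirectLimit.Ring.of G f k b, ?_, ?_⟩
  · rw [Polynomial.IsRoot.def, Polynomial.eval_map, Polynomial.eval₂_at_apply, hb1.eq_zero,
      map_zero]
  · rw [← map_sub, hmem]; exact hb2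

end Groth.Agent.Lib.Helper48.DLHens
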