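import Mathlib
import Groth.Agent.Lib.Helper48.EtaleFibreRegular

/-!
# Ring properties of geometric fibres pass up along ind-étale maps (helper48)

Generalization of `EtaleFibreRegular` from "regular" to any property of rings stable under ring
isomorphisms and localizations (e.g. normal, reduced).
-/

set_option autoImplicit false
set_option linter.style.haveILetI false
set_option linter.unusedSectionVars false
universe u

open TensorProduct

namespace Groth.Agent.Lib.Helper48

section Core

open Groth.Agent.Lib.Helper9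

variable {R S T : Type u} [CommRing R] [CommRing S] [CommRing T] [Algebra R S] [Algebra S T]
  [Algebra R T] [IsScalarTower R S T]

set_option maxHeartbeats 1600000 in
set_option synthInstance.maxHeartbeats 200000 in
/-- **A ring property stable under isomorphisms and localizations passes up along ind-étale maps on
geometric fibres.** -/
theorem fiber_prop_of_isEtaleCoveredFin (P : ∀ (X : Type u) [CommRing X], Prop)
    (hPe : ∀ {X Y : Type u} [CommRing X] [CommRing Y], (X ≃+* Y) → P X → P Y)
    (hPl : ∀ {X Y : Type u} [CommRing X] [CommRing Y] [Algebra X Y] (M : Submonoid X)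
      [IsLocalization M Y], P X → P Y)
    (hS : IsEtaleCoveredFin R S) (q : Ideal S) [q.IsPrime]
    (h : ∀ (l : Type u) [Field l] [Algebra (q.under R).ResidueField l],
      Module.Finite (q.under R).ResidueField l →
        P (l ⊗[(q.under R).ResidueField] ((q.under R).Fiber T))) :
    ∀ (k' : Type u) [Field k'] [Algebra q.ResidueField k'], Module.Finite q.ResidueField k' →
      P (k' ⊗[q.ResidueField] (q.Fiber T)) := by
  intro k' _ _ hfin
  letI algkK : Algebra (q.under R).ResidueField q.ResidueField :=
    (Ideal.ResidueField.map (q.under R) q (algebraMap R S) rfl).toAlgebra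
  haveI towerRkK : IsScalarTower R (q.under R).ResidueField q.ResidueField :=
    IsScalarTower.of_algebraMap_eq fun r => by
      rw [RingHom.algebraMap_toAlgebra, Ideal.ResidueField.map_algebraMap,
        ← IsScalarTower.algebraMap_apply]
  haveI hintK : Algebra.IsIntegral (q.under R).ResidueField q.ResidueField :=
    isIntegral_residueField_of_isEtaleCoveredFin hS q
  letI algSk' : Algebra S k' :=
    ((algebraMap q.ResidueField k').comp (algebraMap S q.ResidueField)).toAlgebra
  haveI : IsScalarTower S q.ResidueField k' := .of_algebraMap_eq' rfl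
  letI algkk' : Algebra (q.under R).ResidueField k' :=
    ((algebraMap q.ResidueField k').comp
      (algebraMap (q.under R).ResidueField q.ResidueField)).toAlgebra
  haveI : IsScalarTower (q.under R).ResidueField q.ResidueField k' := .of_algebraMap_eq' rfl
  letI algRk' : Algebra R k' := ((algebraMap S k').comp (algebraMap R S)).toAlgebra
  haveI : IsScalarTower R S k' := .of_algebraMap_eq' rfl
  haveI : IsScalarTower R (q.under R).ResidueField k' := .of_algebraMap_eq fun r => by
    show algebraMap q.ResidueField k' (algebraMap S _ (algebraMap R S r)) =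
      algebraMap q.ResidueField k'
        (algebraMap (q.under R).ResidueField q.ResidueField (algebraMap R _ r))
    rw [← IsScalarTower.algebraMap_apply R S q.ResidueField,
      ← IsScalarTower.algebraMap_apply R (q.under R).ResidueField q.ResidueField]
  haveI : Module.Finite q.ResidueField k' := hfin
  haveI : Algebra.IsIntegral (q.under R).ResidueField k' :=
    Algebra.IsIntegral.trans q.ResidueField
  -- a finite spanning set and a finite subextension `l` containing it
  obtain ⟨s, hs⟩ := (Module.Finite.fg_top : (⊤ : Submodule q.ResidueField k').FG)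
  obtain ⟨l, _, _, _, _, hlfin, hsl⟩ := exists_finite_subfield (q.under R).ResidueField k' s
  letI algRl : Algebra R l :=
    ((algebraMap (q.under R).ResidueField l).comp (algebraMap R (q.under R).ResidueField)).toAlgebra
  haveI : IsScalarTower R (q.under R).ResidueField l := .of_algebraMap_eq' rfl
  haveI : IsScalarTower R l k' := .of_algebraMap_eq fun r => by
    rw [IsScalarTower.algebraMap_apply R (q.under R).ResidueField k',
      IsScalarTower.algebraMap_apply (q.under R).ResidueField l k']
    rfl
  -- `E := S ⊗[R] l` is reduced and zero-dimensional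
  have hcov := hS.isEtaleCovered_baseChange l
  haveI hred0 : IsReduced (l ⊗[R] S) := hcov.isReduced_of_field
  haveI hdim0 : Ring.KrullDimLE 0 (l ⊗[R] S) := hcov.krullDimLE_zero_of_field
  let ec : l ⊗[R] S ≃ₐ[R] S ⊗[R] l := Algebra.TensorProduct.comm R l S
  haveI hredE : IsReduced (S ⊗[R] l) :=
    isReduced_of_injective ec.symm.toRingEquiv.toRingHom ec.symm.injective
  haveI hdimE : Ring.KrullDimLE 0 (S ⊗[R] l) := by
    rw [Ring.krullDimLE_iff, ← ringKrullDim_eq_of_ringEquiv ec.toRingEquiv]
    exact Ring.krullDimLE_iff.mp hdim0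
  -- the surjection `φ : E → k'`
  let φ : S ⊗[R] l →ₐ[S] k' :=
    Algebra.TensorProduct.lift (Algebra.ofId S k') (IsScalarTower.toAlgHom R l k')
      (fun _ _ => Commute.all _ _)
  have hφS : ∀ a : S, φ (a ⊗ₜ 1) = algebraMap S k' a := by
    intro a
    simp [φ, Algebra.ofId_apply]
  have hφl : ∀ x : l, φ (1 ⊗ₜ x) = algebraMap l k' x := by
    intro x
    simp [φ]
  have hφsurj : Function.Surjective φ := by
    have hK : ∀ x : q.ResidueField, algebraMap q.ResidueField k' x ∈ φ.toRingHom.range :=
      residueField_map_mem_range q (algebraMap q.ResidueField k') φ.toRingHom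
        (algebraMap S (S ⊗[R] l)) (by
          refine RingHom.ext fun a => ?_
          show φ (algebraMap S (S ⊗[R] l) a) = _
          rw [Algebra.TensorProduct.algebraMap_apply, Algebra.algebraMap_self, RingHom.id_apply,
            hφS]
          rfl)
    intro z
    have hz : z ∈ Submodule.span q.ResidueField (s : Set k') := by
      rw [hs]
      trivial
    have hzr : z ∈ φ.toRingHom.range := by
      induction hz using Submodule.span_induction with
      | mem x hx =>
        obtain ⟨y, hy⟩ := hsl x hx
        exact ⟨1 ⊗ₜ y, by rw [← hy]; exact hφl y⟩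
      | zero => exact Subring.zero_mem _
      | add x y _ _ hx hy => exact Subring.add_mem _ hx hy
      | smul c x _ hx =>
        rw [Algebra.smul_def]
        exact Subring.mul_mem _ (hK c) hx
    obtain ⟨e, he⟩ := hzr
    exact ⟨e, he⟩
  letI algEk' : Algebra (S ⊗[R] l) k' := φ.toRingHom.toAlgebra
  haveI : IsScalarTower S (S ⊗[R] l) k' := .of_algebraMap_eq fun a => by
    show algebraMap S k' a = φ (algebraMap S (S ⊗[R] l) a)
    rw [Algebra.TensorProduct.algebraMap_apply, Algebra.algebraMap_self, RingHom.id_apply, hφS]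
  -- `k'` is the localization of `E` at the kernel of `φ`
  haveI h𝔫p : (RingHom.ker (algebraMap (S ⊗[R] l) k')).IsPrime := RingHom.ker_isPrime _
  haveI hloc : IsLocalization.AtPrime k' (RingHom.ker (algebraMap (S ⊗[R] l) k')) :=
    isLocalization_atPrime_of_surjective_of_isReduced hφsurj _ rfl
  -- `D := E ⊗[S] T ≃ l ⊗[κ(p)] (κ(p) ⊗[R] T)` is regular
  have hregl : P (l ⊗[(q.under R).ResidueField] ((q.under R).Fiber T)) := h l hlfin
  let e1 : l ⊗[(q.under R).ResidueField] ((q.under R).ResidueField ⊗[R] T) ≃ₐ[(q.under R).ResidueField]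
      l ⊗[R] T :=
    Algebra.TensorProduct.cancelBaseChange R (q.under R).ResidueField (q.under R).ResidueField l T
  let e2 : l ⊗[R] T ≃ₐ[R] T ⊗[R] l := Algebra.TensorProduct.comm R l T
  let e3 : T ⊗[S] (S ⊗[R] l) ≃ₐ[S] T ⊗[R] l := Algebra.TensorProduct.cancelBaseChange R S S T l
  let e4 : T ⊗[S] (S ⊗[R] l) ≃ₐ[S] (S ⊗[R] l) ⊗[S] T := Algebra.TensorProduct.comm S T (S ⊗[R] l)
  let e0 : (l ⊗[(q.under R).ResidueField] ((q.under R).Fiber T)) ≃+* ((S ⊗[R] l) ⊗[S] T) :=
    e1.toRingEquiv.trans (e2.toRingEquiv.trans (e3.symm.toRingEquiv.trans e4.toRingEquiv))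
  have hregD : P ((S ⊗[R] l) ⊗[S] T) := hPe e0 hregl
  haveI hlocD : IsLocalization (Algebra.algebraMapSubmonoid ((S ⊗[R] l) ⊗[S] T)
      (RingHom.ker (algebraMap (S ⊗[R] l) k')).primeCompl)
      (((S ⊗[R] l) ⊗[S] T) ⊗[S ⊗[R] l] k') :=
    IsLocalization.tensor k' (RingHom.ker (algebraMap (S ⊗[R] l) k')).primeCompl
  have hreg1 : P (((S ⊗[R] l) ⊗[S] T) ⊗[S ⊗[R] l] k') :=
    hPl (Algebra.algebraMapSubmonoid ((S ⊗[R] l) ⊗[S] T)
        (RingHom.ker (algebraMap (S ⊗[R] l) k')).primeCompl) hregD
  let e5 : ((S ⊗[R] l) ⊗[S] T) ⊗[S ⊗[R] l] k' ≃ₐ[S ⊗[R] l] k' ⊗[S ⊗[R] l] ((S ⊗[R] l) ⊗[S] T) :=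
    Algebra.TensorProduct.comm _ _ _
  let e6 : k' ⊗[S ⊗[R] l] ((S ⊗[R] l) ⊗[S] T) ≃ₐ[S ⊗[R] l] k' ⊗[S] T :=
    Algebra.TensorProduct.cancelBaseChange S (S ⊗[R] l) (S ⊗[R] l) k' T
  let e7 : k' ⊗[q.ResidueField] (q.ResidueField ⊗[S] T) ≃ₐ[q.ResidueField] k' ⊗[S] T :=
    Algebra.TensorProduct.cancelBaseChange S q.ResidueField q.ResidueField k' T
  let e : (((S ⊗[R] l) ⊗[S] T) ⊗[S ⊗[R] l] k') ≃+* (k' ⊗[q.ResidueField] (q.Fiber T)) :=
    e5.toRingEquiv.trans (e6.toRingEquiv.trans e7.symm.toRingEquiv)
  exact hPe e hreg1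


end Core

end Groth.Agent.Lib.Helper48
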