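import Mathlib
import Groth.Agent.Lib.Helper48.FlatKrullIdempotent

/-!
# A Hartogs-type connectedness theorem for flat algebras over Krull-type domains

`R` a domain which is an intersection of subrings `V i` of its fraction field `L` with finite
character, `I` an ideal of `R` not contained in the centre of any `V i`, and `D` a flat `R`-algebra
with only trivial idempotents.  Then `Spec D \ V(I D)` is preconnected: idempotents of the
localizations `D_a` (`a ∈ I`) which are compatible on overlaps glue to an idempotent of `D`.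
-/

set_option autoImplicit false
universe u
open TensorProduct

namespace Groth.Agent.Lib.Helper48.FlatKrullHartogs

open Groth.Agent.Lib.Helper48.FlatKrull

section

variable {R : Type u} [CommRing R] {L : Type u} [Field L] [Algebra R L]
  {D : Type u} [CommRing D] [Algebra R D] [Module.Flat R D]

omit [Module.Flat R D] in
/-- If `1 ⊗ d` is divisible by `t` in `V ⊗[R] D` then `d ⊗ 1 = 0` in `D ⊗[R] (V / t V)`. -/
theorem tmul_one_eq_zero_of_eq_smul (V : Subalgebra R L) (t : R) (d : D) (w : V ⊗[R] D)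
    (hw : (1 : V) ⊗ₜ[R] d = t • w) :
    d ⊗ₜ[R] (1 : V ⧸ Ideal.span {algebraMap R V t}) =
      (0 : D ⊗[R] (V ⧸ Ideal.span {algebraMap R V t})) := by
  let θ : V ⊗[R] D →ₗ[R] D ⊗[R] (V ⧸ Ideal.span {algebraMap R V t}) :=
    (LinearMap.lTensor D
      (Ideal.Quotient.mkₐ R (Ideal.span {algebraMap R V t})).toLinearMap) ∘ₗ
      (TensorProduct.comm R V D).toLinearMap
  have hθ : θ ((1 : V) ⊗ₜ[R] d) = d ⊗ₜ[R] 1 := by
    simp [θ]
  have hkill : ∀ u : D ⊗[R] (V ⧸ Ideal.span {algebraMap R V t}), t • u = 0 := by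
    intro u
    induction u with
    | zero => simp
    | tmul x y =>
      obtain ⟨y, rfl⟩ := Ideal.Quotient.mk_surjective y
      rw [← TensorProduct.tmul_smul]
      have : t • (Ideal.Quotient.mk (Ideal.span {algebraMap R V t}) y) = 0 := by
        have e1 : t • (Ideal.Quotient.mk (Ideal.span {algebraMap R V t}) y) =
            Ideal.Quotient.mk _ (t • y) := rfl
        rw [e1, Ideal.Quotient.eq_zero_iff_mem, Algebra.smul_def]
        exact Ideal.mul_mem_right _ _ (Ideal.mem_span_singleton_self _)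
      rw [this, TensorProduct.tmul_zero]
    | add u v hu hv => rw [smul_add, hu, hv, add_zero]
  rw [← hθ, hw, map_smul, hkill]

/-- **Flat Krull–Hartogs divisibility.**  `R` a domain which is the intersection of a family of
subrings `V i` of `L` of finite character, `D` flat over `R`.  If `1 ⊗ d` is divisible by `t` in each
`V i ⊗[R] D` then `t ∣ d` in `D`. -/
theorem dvd_of_forall_exists_tmul_eq_smul (hinj : Function.Injective (algebraMap R L))
    {ι : Type*} (V : ι → Subalgebra R L)
    (hV : ∀ x : L, (∀ i, x ∈ V i) → ∃ r : R, algebraMap R L r = x)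
    (hfin : ∀ x : L, {i | x ∉ V i}.Finite)
    (t : R) (ht0 : t ≠ 0) (d : D)
    (h : ∀ i, ∃ w : V i ⊗[R] D, (1 : V i) ⊗ₜ[R] d = t • w) :
    algebraMap R D t ∣ d := by
  classical
  have htL : algebraMap R L t ≠ 0 := fun h => ht0 (hinj (by rw [h, map_zero]))
  have hI₀ : {i | (algebraMap R L t)⁻¹ ∉ V i}.Finite := hfin _
  haveI : Fintype {i | (algebraMap R L t)⁻¹ ∉ V i} := hI₀.fintype
  have hz : (d ⊗ₜ[R] (1 : R ⧸ Ideal.span {t})) = (0 : D ⊗[R] (R ⧸ Ideal.span {t})) := by
    refine tmul_eq_zero_of_pi (ι := {i | (algebraMap R L t)⁻¹ ∉ V i})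
      (M := fun i => V i ⧸ Ideal.span {algebraMap R (V i) t})
      (fun i => (quotMap (V i) t).toLinearMap) ?_ d 1 ?_
    · intro a ha
      obtain ⟨a, rfl⟩ := Ideal.Quotient.mk_surjective a
      rw [Ideal.Quotient.eq_zero_iff_mem, Ideal.mem_span_singleton]
      have h1 : ∀ i : ι, algebraMap R L a * (algebraMap R L t)⁻¹ ∈ V i := by
        intro i
        by_cases hi : (algebraMap R L t)⁻¹ ∉ V i
        · have h2 : quotMap (V i) t (Ideal.Quotient.mk _ a) = 0 := ha ⟨i, hi⟩
          rw [quotMap_mk, Ideal.Quotient.eq_zero_iff_mem, Ideal.mem_span_singleton] at h2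
          obtain ⟨c, hc⟩ := h2
          have h3 : algebraMap R L a = algebraMap R L t * (c : L) := by
            have := congrArg (Subtype.val) hc
            simpa using this
          rw [h3, mul_comm, ← mul_assoc, inv_mul_cancel₀ htL, one_mul]
          exact c.2
        · exact (V i).mul_mem ((V i).algebraMap_mem a) (not_not.mp hi)
      obtain ⟨r, hr⟩ := hV _ h1
      refine ⟨r, hinj ?_⟩
      rw [map_mul, hr, mul_comm (algebraMap R L a), ← mul_assoc, mul_inv_cancel₀ htL, one_mul]
    · intro i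
      have h1 : (quotMap (V i) t).toLinearMap 1 = 1 := map_one (quotMap (V i) t)
      rw [h1]
      obtain ⟨w, hw⟩ := h i
      exact tmul_one_eq_zero_of_eq_smul (V i) t d w hw
  have h5 : Algebra.TensorProduct.quotIdealMapEquivTensorQuot D (Ideal.span {t})
      (Ideal.Quotient.mk _ d) = 0 := by
    rw [Algebra.TensorProduct.quotIdealMapEquivTensorQuot_mk]
    exact hz
  have h6 := (map_eq_zero_iff _
    (Algebra.TensorProduct.quotIdealMapEquivTensorQuot D (Ideal.span {t})).injective).mp h5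
  rw [Ideal.Quotient.eq_zero_iff_mem, Ideal.map_span, Set.image_singleton,
    Ideal.mem_span_singleton] at h6
  exact h6

end

section

variable {D : Type*} [CommRing D]

/-- A clopen decomposition of a principal open `D(a)` (with `a` a nonzerodivisor) is cut out by an
element `d` with `d² = aⁿ d` (i.e. `d / aⁿ` is the corresponding idempotent of `D_a`). -/
theorem exists_sq_eq_pow_mul_of_basicOpen (a : D)
    (ha : a ∈ nonZeroDivisors D) (u v : Set (PrimeSpectrum D)) (hu : IsOpen u) (hv : IsOpen v)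
    (huv : ∀ p : PrimeSpectrum D, a ∉ p.asIdeal → p ∈ u ∨ p ∈ v)
    (hdisj : ∀ p : PrimeSpectrum D, a ∉ p.asIdeal → p ∈ u → p ∉ v) :
    ∃ (d : D) (n : ℕ), d * d = a ^ n * d ∧
      ∀ p : PrimeSpectrum D, a ∉ p.asIdeal → (p ∈ u ↔ d ∉ p.asIdeal) := by
  classical
  obtain ⟨c, hcdef⟩ : ∃ c : PrimeSpectrum (Localization.Away a) → PrimeSpectrum D,
      c = PrimeSpectrum.comap (algebraMap D (Localization.Away a)) := ⟨_, rfl⟩
  have hc : Continuous c := hcdef ▸ PrimeSpectrum.continuous_comap _
  have hrange' : Set.range c = PrimeSpectrum.basicOpen a := by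
    rw [hcdef]; exact PrimeSpectrum.localization_away_comap_range (Localization.Away a) a
  have hrange : ∀ P : PrimeSpectrum (Localization.Away a), a ∉ (c P).asIdeal := by
    intro P
    have : c P ∈ Set.range c := ⟨P, rfl⟩
    rw [hrange'] at this
    exact this
  have hs : IsClopen (c ⁻¹' u) := by
    refine ⟨?_, hu.preimage hc⟩
    have : (c ⁻¹' u)ᶜ = c ⁻¹' v := by
      ext P
      constructor
      · intro hP
        rcases huv (c P) (hrange P) with h | h
        · exact absurd h hP
        · exact h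
      · intro hP hPu
        exact hdisj (c P) (hrange P) hPu hP
    rw [← isOpen_compl_iff, this]
    exact hv.preimage hc
  obtain ⟨e, he, hse⟩ := PrimeSpectrum.exists_idempotent_basicOpen_eq_of_isClopen hs
  obtain ⟨⟨d, ⟨_, n, rfl⟩⟩, hd⟩ := IsLocalization.surj (Submonoid.powers a) e
  have hd' : e * algebraMap D (Localization.Away a) (a ^ n) =
      algebraMap D (Localization.Away a) d := hd
  have hinjDa : Function.Injective (algebraMap D (Localization.Away a)) :=
    IsLocalization.injective (Localization.Away a) (Submonoid.powers_le.mpr ha)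
  have hunit : IsUnit (algebraMap D (Localization.Away a) (a ^ n)) :=
    IsLocalization.map_units (Localization.Away a) (⟨a ^ n, n, rfl⟩ : Submonoid.powers a)
  refine ⟨d, n, hinjDa ?_, ?_⟩
  · rw [map_mul, map_mul, ← hd']
    have he' : e * e = e := he
    calc e * algebraMap D (Localization.Away a) (a ^ n) *
          (e * algebraMap D (Localization.Away a) (a ^ n))
        = (e * e) * algebraMap D (Localization.Away a) (a ^ n) *
            algebraMap D (Localization.Away a) (a ^ n) := by ring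
      _ = algebraMap D (Localization.Away a) (a ^ n) *
          (e * algebraMap D (Localization.Away a) (a ^ n)) := by rw [he']; ring
  · intro p hp
    have hp' : p ∈ Set.range c := by
      rw [hrange']; exact hp
    obtain ⟨P, rfl⟩ := hp'
    have h1 : c P ∈ u ↔ e ∉ P.asIdeal := by
      have : P ∈ c ⁻¹' u ↔ P ∈ (PrimeSpectrum.basicOpen e : Set _) := by rw [hse]
      exact this
    rw [h1]
    have h2 : d ∈ (c P).asIdeal ↔ algebraMap D (Localization.Away a) d ∈ P.asIdeal := by
      rw [hcdef]; rfl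
    rw [h2, ← hd']
    rw [Ideal.mul_unit_mem_iff_mem _ hunit]

/-- An element with `y² = c y` such that `s y` is nilpotent (`c`, `s` nonzerodivisors) vanishes. -/
theorem eq_zero_of_sq_eq_mul_of_isNilpotent (c s y : D) (hc : c ∈ nonZeroDivisors D)
    (hs : s ∈ nonZeroDivisors D) (hy : y * y = c * y) (hnil : IsNilpotent (s * y)) : y = 0 := by
  obtain ⟨M, hM⟩ := hnil
  have hpow : ∀ m : ℕ, y ^ (m + 1) = c ^ m * y := by
    intro m
    induction m with
    | zero => simp
    | succ m ih => rw [pow_succ, ih, mul_assoc, hy]; ring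
  have h1 : (s * y) ^ (M + 1) = 0 := by rw [pow_succ, hM, zero_mul]
  rw [mul_pow, hpow, ← mul_assoc] at h1
  have hmem : s ^ (M + 1) * c ^ M ∈ nonZeroDivisors D :=
    mul_mem (pow_mem hs _) (pow_mem hc _)
  exact (mul_left_mem_nonZeroDivisors_eq_zero_iff hmem).mp h1

/-- Compatibility of the elements produced by `exists_sq_eq_pow_mul_of_basicOpen`. -/
theorem pow_mul_eq_pow_mul_of_basicOpen (a b : D)
    (ha : a ∈ nonZeroDivisors D) (hb : b ∈ nonZeroDivisors D)
    (d d' : D) (n k : ℕ) (hd : d * d = a ^ n * d) (hd' : d' * d' = b ^ k * d')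
    (h : ∀ p : PrimeSpectrum D, a ∉ p.asIdeal → b ∉ p.asIdeal →
      (d ∉ p.asIdeal ↔ d' ∉ p.asIdeal)) :
    b ^ k * d = a ^ n * d' := by
  have hab : a * b ∈ nonZeroDivisors D := mul_mem ha hb
  have hc : a ^ n * b ^ k ∈ nonZeroDivisors D := mul_mem (pow_mem ha _) (pow_mem hb _)
  have hc' : b ^ k * a ^ n ∈ nonZeroDivisors D := mul_mem (pow_mem hb _) (pow_mem ha _)
  have key : ∀ (a b : D) (d d' : D) (n k : ℕ), d * d = a ^ n * d → d' * d' = b ^ k * d' →
      a * b ∈ nonZeroDivisors D → a ^ n * b ^ k ∈ nonZeroDivisors D →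
      (∀ p : PrimeSpectrum D, a ∉ p.asIdeal → b ∉ p.asIdeal →
        (d ∉ p.asIdeal → d' ∉ p.asIdeal)) → d * (b ^ k - d') = 0 := by
    intro a b d d' n k hd hd' hab hc h
    refine eq_zero_of_sq_eq_mul_of_isNilpotent (a ^ n * b ^ k) (a * b) _ hc hab ?_ ?_
    · have h1 : (b ^ k - d') * (b ^ k - d') = b ^ k * (b ^ k - d') := by
        have : (b ^ k - d') * (b ^ k - d') = b ^ k * b ^ k - 2 * b ^ k * d' + d' * d' := by ring
        rw [this, hd']; ring
      calc d * (b ^ k - d') * (d * (b ^ k - d'))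
          = (d * d) * ((b ^ k - d') * (b ^ k - d')) := by ring
        _ = a ^ n * b ^ k * (d * (b ^ k - d')) := by rw [hd, h1]; ring
    · rw [nilpotent_iff_mem_prime]
      intro J hJ
      by_cases haJ : a ∈ J
      · exact J.mul_mem_right _ (J.mul_mem_right _ haJ)
      by_cases hbJ : b ∈ J
      · exact J.mul_mem_right _ (J.mul_mem_left _ hbJ)
      by_cases hdJ : d ∈ J
      · exact J.mul_mem_left _ (J.mul_mem_right _ hdJ)
      have hd'J : d' ∉ J := h ⟨J, hJ⟩ haJ hbJ hdJ
      have h0 : d' * (b ^ k - d') = 0 := by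
        have : d' * (b ^ k - d') = b ^ k * d' - d' * d' := by ring
        rw [this, hd', sub_self]
      have h2 : b ^ k - d' ∈ J := by
        rcases hJ.mem_or_mem (h0 ▸ J.zero_mem : d' * (b ^ k - d') ∈ J) with h3 | h3
        · exact absurd h3 hd'J
        · exact h3
      exact J.mul_mem_left _ (J.mul_mem_left _ h2)
  have h1 := key a b d d' n k hd hd' hab hc (fun p hpa hpb => (h p hpa hpb).mp)
  have h2 := key b a d' d k n hd' hd (by rw [mul_comm]; exact hab) hc'
    (fun p hpb hpa => (h p hpa hpb).mpr)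
  have e1 : b ^ k * d = d * d' := by
    have : d * (b ^ k - d') = b ^ k * d - d * d' := by ring
    rw [this, sub_eq_zero] at h1
    exact h1
  have e2 : a ^ n * d' = d * d' := by
    have : d' * (a ^ n - d) = a ^ n * d' - d * d' := by ring
    rw [this, sub_eq_zero] at h2
    exact h2
  rw [e1, e2]

end

section

variable {R : Type u} [CommRing R] {L : Type u} [Field L] [Algebra R L]
  {D : Type u} [CommRing D] [Algebra R D] [Module.Flat R D]

/-- **Flat Krull–Hartogs connectedness.**  `R` a Krull-type domain (intersection of a family of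
subrings `V i ⊆ L` of finite character), `I` an ideal of `R` not contained in the centre of any
`V i`, `D` a flat `R`-algebra with only trivial idempotents.  Then `Spec D \ V(I D)` is
preconnected. -/
theorem isPreconnected_compl_zeroLocus_of_krull [IsDomain R]
    (hinj : Function.Injective (algebraMap R L))
    {ι : Type*} (V : ι → Subalgebra R L)
    (hV : ∀ x : L, (∀ i, x ∈ V i) → ∃ r : R, algebraMap R L r = x)
    (hfin : ∀ x : L, {i | x ∉ V i}.Finite)
    (I : Ideal R) (hI : ∀ i, ∃ b ∈ I, b ≠ 0 ∧ (algebraMap R L b)⁻¹ ∈ V i)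
    [Nontrivial D] (hD : ∀ e : D, e * e = e → e = 0 ∨ e = 1) :
    IsPreconnected ((PrimeSpectrum.zeroLocus ((I.map (algebraMap R D) : Ideal D) : Set D))ᶜ) := by
  classical
  -- nonzero elements of `R` are nonzerodivisors on `D`
  have hnzd : ∀ a : R, a ≠ 0 → algebraMap R D a ∈ nonZeroDivisors D := by
    intro a ha
    have hreg : IsSMulRegular D (algebraMap R D a) :=
      IsSMulRegular.of_flat (fun x y hxy => mul_left_cancel₀ ha hxy)
    rw [mem_nonZeroDivisors_iff_right]
    intro z hz
    apply hreg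
    simpa [mul_comm] using hz
  -- membership in the complement
  have hU : ∀ p : PrimeSpectrum D,
      p ∈ (PrimeSpectrum.zeroLocus ((I.map (algebraMap R D) : Ideal D) : Set D))ᶜ ↔
        ∃ a ∈ I, algebraMap R D a ∉ p.asIdeal := by
    intro p
    rw [Set.mem_compl_iff, PrimeSpectrum.mem_zeroLocus, SetLike.coe_subset_coe,
      Ideal.map_le_iff_le_comap]
    constructor
    · intro h
      obtain ⟨a, haI, ha⟩ := SetLike.not_le_iff_exists.mp h
      exact ⟨a, haI, ha⟩
    · rintro ⟨a, haI, ha⟩ h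
      exact ha (h haI)
  rw [isPreconnected_iff_subset_of_disjoint]
  intro u v hu hv hUuv hUdisj
  have huv_a : ∀ b ∈ I, ∀ p : PrimeSpectrum D, algebraMap R D b ∉ p.asIdeal → p ∈ u ∨ p ∈ v :=
    fun b hb p hp => hUuv ((hU p).mpr ⟨b, hb, hp⟩)
  have hdisj_a : ∀ b ∈ I, ∀ p : PrimeSpectrum D, algebraMap R D b ∉ p.asIdeal →
      p ∈ u → p ∉ v := by
    intro b hb p hp hpu hpv
    have : p ∈ (PrimeSpectrum.zeroLocus ((I.map (algebraMap R D) : Ideal D) : Set D))ᶜ ∩
        (u ∩ v) := ⟨(hU p).mpr ⟨b, hb, hp⟩, hpu, hpv⟩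
    rw [hUdisj] at this
    exact this
  have claim : ∀ a ∈ I, a ≠ 0 →
      (∀ p : PrimeSpectrum D, algebraMap R D a ∉ p.asIdeal → p ∈ u) ∨
      (∀ p : PrimeSpectrum D, algebraMap R D a ∉ p.asIdeal → p ∈ v) := by
    intro a haI ha0
    obtain ⟨d, n, hd, hdu⟩ := exists_sq_eq_pow_mul_of_basicOpen (algebraMap R D a) (hnzd a ha0)
      u v hu hv (huv_a a haI) (hdisj_a a haI)
    have ht0 : a ^ n ≠ 0 := pow_ne_zero _ ha0
    have hdvd : algebraMap R D (a ^ n) ∣ d := by
      refine dvd_of_forall_exists_tmul_eq_smul hinj V hV hfin (a ^ n) ht0 d (fun i => ?_)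
      obtain ⟨b, hbI, hb0, hbV⟩ := hI i
      obtain ⟨d', k, hd', hd'u⟩ := exists_sq_eq_pow_mul_of_basicOpen (algebraMap R D b)
        (hnzd b hb0) u v hu hv (huv_a b hbI) (hdisj_a b hbI)
      have hcompat : algebraMap R D b ^ k * d = algebraMap R D a ^ n * d' :=
        pow_mul_eq_pow_mul_of_basicOpen _ _ (hnzd a ha0) (hnzd b hb0) d d' n k hd hd'
          (fun p hpa hpb => by rw [← hdu p hpa, ← hd'u p hpb])
      have hbL : algebraMap R L b ≠ 0 := fun h => hb0 (hinj (by rw [h, map_zero]))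
      have hmem : ((algebraMap R L b)⁻¹) ^ k ∈ V i := pow_mem hbV k
      have hx1 : (b ^ k) • (⟨((algebraMap R L b)⁻¹) ^ k, hmem⟩ : V i) = 1 := by
        apply Subtype.ext
        show (b ^ k) • ((algebraMap R L b)⁻¹) ^ k = (1 : L)
        rw [Algebra.smul_def, map_pow, ← mul_pow, mul_inv_cancel₀ hbL, one_pow]
      refine ⟨(⟨((algebraMap R L b)⁻¹) ^ k, hmem⟩ : V i) ⊗ₜ[R] d', ?_⟩
      calc (1 : V i) ⊗ₜ[R] d
          = ((b ^ k) • (⟨((algebraMap R L b)⁻¹) ^ k, hmem⟩ : V i)) ⊗ₜ[R] d := by rw [hx1]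
        _ = (⟨((algebraMap R L b)⁻¹) ^ k, hmem⟩ : V i) ⊗ₜ[R] ((b ^ k) • d) :=
            TensorProduct.smul_tmul _ _ _
        _ = (⟨((algebraMap R L b)⁻¹) ^ k, hmem⟩ : V i) ⊗ₜ[R] ((a ^ n) • d') := by
            rw [Algebra.smul_def, Algebra.smul_def, map_pow, map_pow, hcompat]
        _ = (a ^ n) • ((⟨((algebraMap R L b)⁻¹) ^ k, hmem⟩ : V i) ⊗ₜ[R] d') :=
            TensorProduct.tmul_smul _ _ _
    obtain ⟨d₀, hd₀⟩ := hdvd
    have htnzd : algebraMap R D (a ^ n) ∈ nonZeroDivisors D := hnzd _ ht0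
    have hidem : d₀ * d₀ = d₀ := by
      have h1 : algebraMap R D (a ^ n) * algebraMap R D (a ^ n) * (d₀ * d₀) =
          algebraMap R D (a ^ n) * algebraMap R D (a ^ n) * d₀ := by
        have h2 := hd
        rw [hd₀, ← map_pow] at h2
        calc algebraMap R D (a ^ n) * algebraMap R D (a ^ n) * (d₀ * d₀)
            = algebraMap R D (a ^ n) * d₀ * (algebraMap R D (a ^ n) * d₀) := by ring
          _ = algebraMap R D (a ^ n) * (algebraMap R D (a ^ n) * d₀) := h2
          _ = algebraMap R D (a ^ n) * algebraMap R D (a ^ n) * d₀ := by ring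
      exact (mul_cancel_left_mem_nonZeroDivisors (mul_mem htnzd htnzd)).mp h1
    rcases hD d₀ hidem with h0 | h1
    · right
      intro p hp
      rcases huv_a a haI p hp with h | h
      · exfalso
        apply (hdu p hp).mp h
        rw [hd₀, h0, mul_zero]
        exact p.asIdeal.zero_mem
      · exact h
    · left
      intro p hp
      rw [hdu p hp, hd₀, h1, mul_one, map_pow]
      intro hmem
      exact hp (p.isPrime.mem_of_pow_mem n hmem)
  by_contra hcon
  rw [not_or] at hcon
  obtain ⟨hnu, hnv⟩ := hcon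
  obtain ⟨p, hpU, hpu⟩ := Set.not_subset.mp hnu
  obtain ⟨q, hqU, hqv⟩ := Set.not_subset.mp hnv
  obtain ⟨a, haI, hap⟩ := (hU p).mp hpU
  obtain ⟨b, hbI, hbq⟩ := (hU q).mp hqU
  have ha0 : a ≠ 0 := by
    rintro rfl; exact hap (by rw [map_zero]; exact p.asIdeal.zero_mem)
  have hb0 : b ≠ 0 := by
    rintro rfl; exact hbq (by rw [map_zero]; exact q.asIdeal.zero_mem)
  have hav : ∀ p' : PrimeSpectrum D, algebraMap R D a ∉ p'.asIdeal → p' ∈ v :=
    (claim a haI ha0).resolve_left (fun h => hpu (h p hap))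
  have hbu : ∀ p' : PrimeSpectrum D, algebraMap R D b ∉ p'.asIdeal → p' ∈ u :=
    (claim b hbI hb0).resolve_right (fun h => hqv (h q hbq))
  have hab : algebraMap R D (a * b) ∈ nonZeroDivisors D := hnzd _ (mul_ne_zero ha0 hb0)
  have hnn : ¬ IsNilpotent (algebraMap R D (a * b)) := by
    rintro ⟨m, hm⟩
    have h0 : (0 : D) ∈ nonZeroDivisors D := hm ▸ pow_mem hab m
    exact zero_notMem_nonZeroDivisors h0
  rw [nilpotent_iff_mem_prime] at hnn
  push Not at hnn
  obtain ⟨J, hJ, hJab⟩ := hnn
  rw [map_mul] at hJab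
  have hJa : algebraMap R D a ∉ J := fun h => hJab (J.mul_mem_right _ h)
  have hJb : algebraMap R D b ∉ J := fun h => hJab (J.mul_mem_left _ h)
  have : (⟨J, hJ⟩ : PrimeSpectrum D) ∈
      (PrimeSpectrum.zeroLocus ((I.map (algebraMap R D) : Ideal D) : Set D))ᶜ ∩ (u ∩ v) :=
    ⟨(hU _).mpr ⟨a, haI, hJa⟩, hbu _ hJb, hav _ hJa⟩
  rw [hUdisj] at this
  exact this

end

end Groth.Agent.Lib.Helper48.FlatKrullHartogs
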