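import Mathlib
import Groth.Prelude.Def_Hensel
import Groth.Agent.Lib.Helper9.Hens.Unique
import Groth.Agent.Lib.Helper48.DirectLimitHenselian

/-!
# Henselizations commute with directed colimits (universal-property argument)
-/

set_option autoImplicit false

namespace Groth.Agent.Lib.Helper48.HensColim

universe u

open Groth.Agent.Lib.Helper9

section Basic

variable {R S T : Type u} [CommRing R] [IsLocalRing R] [CommRing S] [IsLocalRing S]
  [Algebra R S] [IsLocalHom (algebraMap R S)] [Hensel.IsHenselization R S]
  [CommRing T]

/-- Two ring maps out of a henselization into a henselian local ring agree as soon as they agree on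
the base ring (and the restriction is local). -/
theorem hens_ext [HenselianLocalRing T] (g₁ g₂ : S →+* T)
    (hloc : IsLocalHom (g₁.comp (algebraMap R S)))
    (h : g₁.comp (algebraMap R S) = g₂.comp (algebraMap R S)) : g₁ = g₂ := by
  obtain ⟨g, -, hg⟩ := Hensel.IsHenselization.universal (S := S) T
    (g₁.comp (algebraMap R S)) hloc
  rw [hg g₁ rfl, hg g₂ h.symm]

/-- A ring map out of a henselization whose restriction to the base is local is local. -/
theorem isLocalHom_of_comp [IsLocalRing T] (g : S →+* T)
    (hloc : IsLocalHom (g.comp (algebraMap R S))) : IsLocalHom g := by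
  refine ⟨fun x hx => ?_⟩
  by_contra hnu
  have hxm : x ∈ IsLocalRing.maximalIdeal S := (IsLocalRing.mem_maximalIdeal x).mpr hnu
  rw [← Hens.map_maximalIdeal_of_isHenselization R S] at hxm
  have h1 : g x ∈ ((IsLocalRing.maximalIdeal R).map (algebraMap R S)).map g :=
    Ideal.mem_map_of_mem g hxm
  rw [Ideal.map_map] at h1
  have h2 : (IsLocalRing.maximalIdeal R).map (g.comp (algebraMap R S)) ≤
      IsLocalRing.maximalIdeal T :=
    ((IsLocalRing.local_hom_TFAE (g.comp (algebraMap R S))).out 0 2).mp hloc
  exact (IsLocalRing.mem_maximalIdeal _).mp (h2 h1) hx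

end Basic

section Colimit

variable {ι : Type u} [Preorder ι] [IsDirectedOrder ι] [Nonempty ι] (L : ι → Type u)
  [∀ i, CommRing (L i)] [∀ i, IsLocalRing (L i)]
  (τ : ∀ i j, i ≤ j → L i →+* L j) [DirectedSystem L (fun i j h => τ i j h)]

/-- If a henselian local ring `A` is the direct limit of local rings `L i` along local
homomorphisms, then it is also the direct limit of the henselizations of the `L i`, along local
homomorphisms. -/
theorem exists_ringEquiv_directLimit_henselization
    (hτ : ∀ i j (h : i ≤ j), IsLocalHom (τ i j h))
    (A : Type u) [CommRing A] [HenselianLocalRing A]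
    (lam : ∀ i, L i →+* A) (hlam : ∀ i, IsLocalHom (lam i))
    (hcompat : ∀ i j h x, lam j (τ i j h x) = lam i x)
    (hbij : Function.Bijective (DirectLimit.Ring.lift L τ A lam hcompat)) :
    ∃ (f : ∀ i j, i ≤ j → Hens.Henselization (L i) →+* Hens.Henselization (L j))
      (_ : DirectedSystem (fun i => Hens.Henselization (L i)) (fun i j h => f i j h)),
      (∀ i j (h : i ≤ j), IsLocalHom (f i j h)) ∧
      Nonempty (A ≃+* DirectLimit (fun i => Hens.Henselization (L i)) f) := by
  classical
  have hloc1 : ∀ i j (h : i ≤ j), IsLocalHom
      ((algebraMap (L j) (Hens.Henselization (L j))).comp (τ i j h)) := fun i j h => by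
    haveI := hτ i j h
    infer_instance
  have hex : ∀ i j (h : i ≤ j), ∃! g : Hens.Henselization (L i) →+* Hens.Henselization (L j),
      g.comp (algebraMap (L i) (Hens.Henselization (L i))) =
        (algebraMap (L j) (Hens.Henselization (L j))).comp (τ i j h) := fun i j h =>
    Hensel.IsHenselization.universal (R := L i) (S := Hens.Henselization (L i))
      (Hens.Henselization (L j)) _ (hloc1 i j h)
  let f : ∀ i j, i ≤ j → Hens.Henselization (L i) →+* Hens.Henselization (L j) :=
    fun i j h => (hex i j h).choose
  have hf : ∀ i j (h : i ≤ j), (f i j h).comp (algebraMap (L i) (Hens.Henselization (L i))) =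
      (algebraMap (L j) (Hens.Henselization (L j))).comp (τ i j h) := fun i j h =>
    (hex i j h).choose_spec.1
  have hfloc : ∀ i j (h : i ≤ j), IsLocalHom (f i j h) := fun i j h =>
    isLocalHom_of_comp (R := L i) (f i j h) (by rw [hf]; exact hloc1 i j h)
  have hself : ∀ i, f i i le_rfl = RingHom.id _ := by
    intro i
    refine hens_ext (R := L i) _ _ (by rw [hf]; exact hloc1 i i le_rfl) ?_
    rw [hf]
    ext x
    simp only [RingHom.comp_apply, RingHom.id_apply]
    rw [DirectedSystem.map_self' (f := τ)]
  have hmap : ∀ i j k (hij : i ≤ j) (hjk : j ≤ k),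
      (f j k hjk).comp (f i j hij) = f i k (hij.trans hjk) := by
    intro i j k hij hjk
    have e1 : ((f j k hjk).comp (f i j hij)).comp
        (algebraMap (L i) (Hens.Henselization (L i))) =
        (algebraMap (L k) (Hens.Henselization (L k))).comp (τ i k (hij.trans hjk)) := by
      rw [RingHom.comp_assoc, hf, ← RingHom.comp_assoc, hf, RingHom.comp_assoc]
      congr 1
      ext x
      exact DirectedSystem.map_map' (f := τ) hij hjk x
    refine hens_ext (R := L i) _ _ (by rw [e1]; exact hloc1 i k _) ?_
    rw [e1, hf]
  haveI hds : DirectedSystem (fun i => Hens.Henselization (L i)) (fun i j h => f i j h) := by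
    constructor
    · intro i x
      change f i i le_rfl x = x
      rw [hself]; rfl
    · intro k j i hij hjk x
      change f j k hjk (f i j hij x) = f i k (hij.trans hjk) x
      rw [← hmap i j k hij hjk]; rfl
  refine ⟨f, hds, hfloc, ?_⟩
  -- the colimit of the henselizations is henselian local
  haveI hC : HenselianLocalRing (DirectLimit (fun i => Hens.Henselization (L i)) f) :=
    DLHens.henselianLocalRing f hfloc
  -- maps to `A`
  have hexA : ∀ i, ∃! g : Hens.Henselization (L i) →+* A,
      g.comp (algebraMap (L i) (Hens.Henselization (L i))) = lam i := fun i =>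
    Hensel.IsHenselization.universal (R := L i) (S := Hens.Henselization (L i)) A (lam i)
      (hlam i)
  let φ : ∀ i, Hens.Henselization (L i) →+* A := fun i => (hexA i).choose
  have hφ : ∀ i, (φ i).comp (algebraMap (L i) (Hens.Henselization (L i))) = lam i := fun i =>
    (hexA i).choose_spec.1
  have hφcompat : ∀ i j (h : i ≤ j), (φ j).comp (f i j h) = φ i := by
    intro i j h
    have e1 : ((φ j).comp (f i j h)).comp (algebraMap (L i) (Hens.Henselization (L i))) =
        lam i := by
      rw [RingHom.comp_assoc, hf, ← RingHom.comp_assoc, hφ]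
      ext x
      exact hcompat i j h x
    refine hens_ext (R := L i) _ _ (by rw [e1]; exact hlam i) ?_
    rw [e1, hφ]
  let α : DirectLimit (fun i => Hens.Henselization (L i)) f →+* A :=
    DirectLimit.Ring.lift (fun i => Hens.Henselization (L i)) f A φ
      (fun i j h x => DFunLike.congr_fun (hφcompat i j h) x)
  -- map from the colimit of the `L i`
  let γ : DirectLimit L τ →+* DirectLimit (fun i => Hens.Henselization (L i)) f :=
    DirectLimit.Ring.lift L τ _
      (fun i => (DirectLimit.Ring.of (fun i => Hens.Henselization (L i)) f i).comp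
        (algebraMap (L i) (Hens.Henselization (L i))))
      (fun i j h x => by
        simp only [RingHom.comp_apply]
        have := DFunLike.congr_fun (hf i j h) x
        simp only [RingHom.comp_apply] at this
        rw [← this]
        exact DLHens.of_f f h _)
  let Λ : DirectLimit L τ ≃+* A := RingEquiv.ofBijective _ hbij
  have hαγ : ∀ z, α (γ z) = Λ z := by
    intro z
    obtain ⟨i, x, rfl⟩ := DLHens.exists_of τ z
    change φ i (algebraMap (L i) (Hens.Henselization (L i)) x) = lam i x
    exact DFunLike.congr_fun (hφ i) x
  let β : A →+* DirectLimit (fun i => Hens.Henselization (L i)) f :=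
    γ.comp Λ.symm.toRingHom
  have hαβ : ∀ a, α (β a) = a := by
    intro a
    change α (γ (Λ.symm a)) = a
    rw [hαγ, RingEquiv.apply_symm_apply]
  have hβlam : ∀ i x, β (lam i x) =
      DirectLimit.Ring.of (fun i => Hens.Henselization (L i)) f i
        (algebraMap (L i) (Hens.Henselization (L i)) x) := by
    intro i x
    have : Λ.symm (lam i x) = DirectLimit.Ring.of L τ i x := by
      rw [RingEquiv.symm_apply_eq]; rfl
    change γ (Λ.symm (lam i x)) = _
    rw [this]; rfl
  have hβα : ∀ c, β (α c) = c := by
    have key : β.comp α = RingHom.id _ := by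
      refine DirectLimit.Ring.hom_ext _ fun i => ?_
      have hofloc : IsLocalHom
          ((DirectLimit.Ring.of (fun i => Hens.Henselization (L i)) f i).comp
            (algebraMap (L i) (Hens.Henselization (L i)))) := by
        haveI := DLHens.isLocalHom_of f hfloc i
        infer_instance
      have e1 : ((β.comp α).comp
          (DirectLimit.Ring.of (fun i => Hens.Henselization (L i)) f i)).comp
          (algebraMap (L i) (Hens.Henselization (L i))) =
          (DirectLimit.Ring.of (fun i => Hens.Henselization (L i)) f i).comp
            (algebraMap (L i) (Hens.Henselization (L i))) := by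
        ext x
        simp only [RingHom.comp_apply]
        have h1 : α (DirectLimit.Ring.of (fun i => Hens.Henselization (L i)) f i
            (algebraMap (L i) (Hens.Henselization (L i)) x)) = lam i x :=
          DFunLike.congr_fun (hφ i) x
        rw [h1, hβlam]
      refine hens_ext (R := L i) _ _ (by rw [e1]; exact hofloc) ?_
      rw [e1, RingHom.id_comp]
    intro c
    exact DFunLike.congr_fun key c
  exact ⟨RingEquiv.ofRingHom β α (RingHom.ext hβα) (RingHom.ext hαβ)⟩

end Colimit

end Groth.Agent.Lib.Helper48.HensColim
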