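import Mathlib
import Groth.Prelude.Def_Found
import Groth.Agent.Lib.Helper48.HenselizationColimit
import Groth.Agent.Lib.Helper48.HenselizationGRing
import Groth.Agent.H8.ExcellentLocalization
import Groth.Agent.H8.GRingDimOne
import Groth.Agent.S0599

/-!
# A henselian local ring is a directed colimit of henselian local G-rings
-/

set_option autoImplicit false

namespace Groth.Agent.Lib.Helper48.HensColim

universe u

open Groth.Agent.Lib.Helper9

/-- `ULift ℤ` is a G-ring. -/
theorem isGRing_ulift_int : CAlg.IsGRing (ULift.{u} ℤ) := by
  haveI : IsDomain (ULift.{u} ℤ) := (ULift.ringEquiv (R := ℤ)).toMulEquiv.isDomain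
  haveI : CharZero (ULift.{u} ℤ) := by
    refine ⟨fun a b h => ?_⟩
    have := congrArg (ULift.ringEquiv (R := ℤ)) h
    simpa using this
  haveI : IsPrincipalIdealRing (ULift.{u} ℤ) :=
    IsPrincipalIdealRing.of_surjective (ULift.ringEquiv (R := ℤ)).symm.toRingHom
      (ULift.ringEquiv (R := ℤ)).symm.surjective
  exact Groth.Agent.H8.GRing.isGRing_of_isDedekindDomain_charZero _

/-- A finitely generated `ℤ`-algebra is a G-ring. -/
theorem isGRing_of_finiteType_int (B : Type u) [CommRing B] [Algebra.FiniteType ℤ B] :
    CAlg.IsGRing B := by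
  letI : Algebra (ULift.{u} ℤ) B := ULift.algebra' ℤ B
  haveI : IsScalarTower ℤ (ULift.{u} ℤ) B := ⟨fun n z a => by
    change (n * z.down) • a = n • (z.down • a)
    rw [mul_smul]⟩
  haveI : Algebra.FiniteType (ULift.{u} ℤ) B :=
    Algebra.FiniteType.of_restrictScalars_finiteType ℤ (ULift.{u} ℤ) B
  exact Groth.Agent.S0599.result (ULift.{u} ℤ) isGRing_ulift_int B

section Concrete

variable (A : Type u) [CommRing A] [IsLocalRing A]

/-- The subring generated by a finite set. -/
abbrev sub (s : Finset A) : Subalgebra ℤ A := Algebra.adjoin ℤ (s : Set A)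

/-- The trace of the maximal ideal on a finitely generated subring. -/
abbrev pr (s : Finset A) : Ideal (sub A s) :=
  (IsLocalRing.maximalIdeal A).comap (algebraMap (sub A s) A)

/-- The local ring of the finitely generated subring at the trace of the maximal ideal. -/
abbrev Loc (s : Finset A) : Type u := Localization.AtPrime (pr A s)

instance (s : Finset A) : Algebra.FiniteType ℤ (sub A s) :=
  (Subalgebra.fg_iff_finiteType _).mp (Subalgebra.fg_adjoin_finset s)

theorem isGRing_Loc (s : Finset A) : CAlg.IsGRing (Loc A s) :=
  Groth.Agent.H8.GRing.isGRing_localization (sub A s) (isGRing_of_finiteType_int (sub A s))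
    (pr A s).primeCompl

instance (s : Finset A) : IsNoetherianRing (Loc A s) := (isGRing_Loc A s).1

omit [IsLocalRing A] in
theorem sub_mono {s t : Finset A} (h : s ≤ t) : sub A s ≤ sub A t :=
  Algebra.adjoin_mono (Finset.coe_subset.mpr h)

/-- inclusion of finitely generated subrings -/
noncomputable def incl {s t : Finset A} (h : s ≤ t) : sub A s →+* sub A t :=
  (Subalgebra.inclusion (sub_mono A h)).toRingHom

omit [IsLocalRing A] in
theorem incl_apply {s t : Finset A} (h : s ≤ t) (x : sub A s) :
    ((incl A h x : sub A t) : A) = (x : A) := by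
  show ((Subalgebra.inclusion (sub_mono A h) x : sub A t) : A) = x
  exact Subalgebra.coe_inclusion _ x

omit [IsLocalRing A] in
theorem algebraMap_incl {s t : Finset A} (h : s ≤ t) (x : sub A s) :
    algebraMap (sub A t) A (incl A h x) = algebraMap (sub A s) A x :=
  incl_apply A h x

theorem pr_eq {s t : Finset A} (h : s ≤ t) : pr A s = (pr A t).comap (incl A h) := by
  ext x
  rw [Ideal.mem_comap, Ideal.mem_comap, Ideal.mem_comap, algebraMap_incl]

/-- transition maps of the local rings -/
noncomputable def trans (s t : Finset A) (h : s ≤ t) : Loc A s →+* Loc A t :=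
  Localization.localRingHom (pr A s) (pr A t) (incl A h) (pr_eq A h)

theorem isLocalHom_trans (s t : Finset A) (h : s ≤ t) : IsLocalHom (trans A s t h) :=
  Localization.isLocalHom_localRingHom _ _ _ _

theorem isUnit_algebraMap_of_mem_primeCompl (s : Finset A) (y : (pr A s).primeCompl) :
    IsUnit (algebraMap (sub A s) A y) := by
  have h := y.2
  by_contra hnu
  exact h ((IsLocalRing.mem_maximalIdeal _).mpr hnu)

/-- the map of the local ring of a finitely generated subring to `A` -/
noncomputable def lam (s : Finset A) : Loc A s →+* A :=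
  IsLocalization.lift (M := (pr A s).primeCompl) (g := algebraMap (sub A s) A)
    (isUnit_algebraMap_of_mem_primeCompl A s)

theorem lam_algebraMap (s : Finset A) (x : sub A s) :
    lam A s (algebraMap (sub A s) (Loc A s) x) = (x : A) :=
  IsLocalization.lift_eq _ x

theorem isLocalHom_lam (s : Finset A) : IsLocalHom (lam A s) := by
  refine ⟨fun x hx => ?_⟩
  obtain ⟨a, v, rfl⟩ := IsLocalization.exists_mk'_eq (pr A s).primeCompl x
  rw [IsLocalization.AtPrime.isUnit_mk'_iff (Loc A s) (pr A s)]
  have h1 : algebraMap (sub A s) A a =
      algebraMap (sub A s) A v * lam A s (IsLocalization.mk' (Loc A s) a v) :=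
    (IsLocalization.lift_mk'_spec _ _ _ _).mp rfl
  have h2 : IsUnit (algebraMap (sub A s) A a) := by
    rw [h1]
    exact (isUnit_algebraMap_of_mem_primeCompl A s v).mul hx
  intro ha
  exact (IsLocalRing.mem_maximalIdeal _).mp ha h2

theorem lam_injective (s : Finset A) : Function.Injective (lam A s) := by
  rw [injective_iff_map_eq_zero]
  intro x hx
  obtain ⟨a, v, rfl⟩ := IsLocalization.exists_mk'_eq (pr A s).primeCompl x
  have h1 : algebraMap (sub A s) A a =
      algebraMap (sub A s) A v * lam A s (IsLocalization.mk' (Loc A s) a v) :=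
    (IsLocalization.lift_mk'_spec _ _ _ _).mp rfl
  rw [hx, mul_zero] at h1
  have h2 : a = 0 := Subtype.ext h1
  rw [h2, IsLocalization.mk'_zero]

theorem lam_trans (s t : Finset A) (h : s ≤ t) (x : Loc A s) :
    lam A t (trans A s t h x) = lam A s x := by
  have : (lam A t).comp (trans A s t h) = lam A s := by
    refine IsLocalization.ringHom_ext (pr A s).primeCompl ?_
    ext a
    simp only [RingHom.comp_apply]
    rw [trans, Localization.localRingHom_to_map, lam_algebraMap, lam_algebraMap]
    rfl
  exact DFunLike.congr_fun this x

omit [IsLocalRing A] in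
theorem incl_self (s : Finset A) (a : sub A s) : incl A (le_refl s) a = a :=
  Subtype.ext (incl_apply A _ a)

omit [IsLocalRing A] in
theorem incl_incl {s t r : Finset A} (hst : s ≤ t) (htr : t ≤ r) (a : sub A s) :
    incl A htr (incl A hst a) = incl A (hst.trans htr) a :=
  Subtype.ext (by rw [incl_apply, incl_apply, incl_apply])

theorem trans_self (s : Finset A) : trans A s s le_rfl = RingHom.id _ := by
  refine Localization.localRingHom_unique _ _ _ _ fun a => ?_
  rw [incl_self, RingHom.id_apply]

theorem trans_trans {s t r : Finset A} (hst : s ≤ t) (htr : t ≤ r) :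
    trans A s r (hst.trans htr) = (trans A t r htr).comp (trans A s t hst) := by
  refine Localization.localRingHom_unique _ _ _ _ fun a => ?_
  rw [RingHom.comp_apply, trans, trans, Localization.localRingHom_to_map,
    Localization.localRingHom_to_map, incl_incl]

instance : DirectedSystem (Loc A) (fun s t h => trans A s t h) := by
  constructor
  · intro s x
    change trans A s s le_rfl x = x
    rw [trans_self, RingHom.id_apply]
  · intro r t s hst htr x
    change trans A t r htr (trans A s t hst x) = trans A s r (hst.trans htr) x
    rw [trans_trans A hst htr, RingHom.comp_apply]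

end Concrete

/-- Every henselian local ring is the colimit of a directed system of henselian local G-rings with
local transition maps. -/
theorem exists_directLimit_henselian_gRing (A : Type u) [CommRing A] [HenselianLocalRing A] :
    ∃ (ι : Type u) (_ : Preorder ι) (_ : IsDirectedOrder ι) (_ : Nonempty ι) (G : ι → Type u)
      (_ : ∀ i, CommRing (G i)) (f : ∀ i j : ι, i ≤ j → (G i →+* G j))
      (_ : DirectedSystem G (fun i j h => f i j h)),
      (∀ i, HenselianLocalRing (G i) ∧ CAlg.IsGRing (G i)) ∧
      (∀ (i j : ι) (h : i ≤ j), IsLocalHom (f i j h)) ∧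
      Nonempty (A ≃+* DirectLimit G f) := by
  classical
  have hbij : Function.Bijective (DirectLimit.Ring.lift (Loc A) (trans A) A (lam A)
      (lam_trans A)) := by
    constructor
    · intro z w hzw
      obtain ⟨i, x, y, rfl, rfl⟩ := DirectLimit.exists_eq_mk₂ (f := fun s t h => trans A s t h) z w
      have : lam A i x = lam A i y := hzw
      rw [lam_injective A i this]
    · intro a
      refine ⟨DirectLimit.Ring.of (Loc A) (trans A) {a}
        (algebraMap (sub A {a}) (Loc A {a})
          ⟨a, Algebra.subset_adjoin (by simp)⟩), ?_⟩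
      change lam A {a} _ = a
      rw [lam_algebraMap]
  obtain ⟨f, hds, hfloc, he⟩ := exists_ringEquiv_directLimit_henselization (Loc A) (trans A)
    (isLocalHom_trans A) A (lam A) (isLocalHom_lam A) (lam_trans A) hbij
  refine ⟨Finset A, inferInstance, inferInstance, inferInstance,
    fun s => Hens.Henselization (Loc A s), fun s => inferInstance, f, hds, fun s => ⟨?_, ?_⟩,
    hfloc, he⟩
  · infer_instance
  · exact Groth.Agent.Lib.Helper48.isGRing_of_isHenselization (Loc A s)
      (Hens.Henselization (Loc A s)) (isGRing_Loc A s)

end Groth.Agent.Lib.Helper48.HensColim
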