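import Mathlib
import Groth.Prelude
import Groth.Agent.Lib.Helper48.HenselianFormalFibres

/-!
# Fraction fields of a henselian local domain and of its completion (EGA IV 18.9.3-type)

For a henselian Noetherian local domain `A` with geometrically normal formal fibres, with `K = Frac A`
and `L = Frac Â`: `L ⊗[K] K'` is a domain for every finite `K'/K`; hence `L/K` is geometrically reduced
(separable) and `K` is algebraically closed in `L`.
-/

set_option autoImplicit false
set_option linter.style.haveILetI false
universe u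
open TensorProduct IsLocalRing IntermediateField

namespace Groth.Agent.Lib.Helper48

/-- Variant of the main lemma for a domain `A` with an arbitrary fraction field `K`: for a finite
extension `K'` of `K`, the ring `K' ⊗[A] Â` is a domain. -/
theorem isDomain_tensor_cpl_of_finite_fractionField (A : Type u) [CommRing A]
    [HenselianLocalRing A] [IsNoetherianRing A] [IsDomain A]
    (hA : EGA4.HasGeomNormalFormalFibres A)
    (K : Type u) [Field K] [Algebra A K] [IsFractionRing A K]
    (K' : Type u) [Field K'] [Algebra K K'] [Module.Finite K K']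
    [Algebra A K'] [IsScalarTower A K K'] :
    IsDomain (K' ⊗[A] EGA4.Cpl A) := by
  have hNag : CAlg.IsNagata A := isNagata_of_hasGeomReducedFormalFibres A
    (hasGeomReducedFormalFibres_of_hasGeomNormalFormalFibres hA)
  have hinj : Function.Injective (algebraMap A K') := by
    rw [IsScalarTower.algebraMap_eq A K K']
    exact (algebraMap K K').injective.comp (IsFractionRing.injective A K)
  haveI : Algebra.EssFiniteType A K := Algebra.EssFiniteType.of_isLocalization K (nonZeroDivisors A)
  haveI : Algebra.EssFiniteType A K' := Algebra.EssFiniteType.comp A K K'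
  haveI hfin' : Module.Finite A (integralClosure A K') :=
    finite_integralClosure_of_isN2_of_essFiniteType_field
      (isN2_of_isNagata_of_isDomain hNag) hinj
  haveI : IsIntegrallyClosed (integralClosure A K') :=
    integralClosure.isIntegrallyClosedOfFiniteExtension K
  haveI : IsFractionRing (integralClosure A K') K' :=
    integralClosure.isFractionRing_of_finite_extension K K'
  haveI : IsLocalRing (integralClosure A K') :=
    Groth.Agent.Lib.Helper36.Olivier.isLocalRing_of_isIntegral_of_isDomain A
      (integralClosure A K')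
  exact isDomain_tensor_cpl_of_normal_local_finite A hA (integralClosure A K') K'

/-- With `K = Frac A`, `L = Frac Â`: `L ⊗[K] K'` is a domain for every finite extension `K'/K`. -/
theorem isDomain_fractionField_cpl_tensor_of_finite
    (A : Type u) [CommRing A] [HenselianLocalRing A] [IsNoetherianRing A] [IsDomain A]
    (hA : EGA4.HasGeomNormalFormalFibres A)
    (K L : Type u) [Field K] [Field L] [Algebra A K] [IsFractionRing A K]
    [Algebra (EGA4.Cpl A) L] [IsFractionRing (EGA4.Cpl A) L] [Algebra K L] [Algebra A L]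
    [IsScalarTower A K L] [IsScalarTower A (EGA4.Cpl A) L]
    (K' : Type u) [Field K'] [Algebra K K'] [Module.Finite K K'] :
    IsDomain (L ⊗[K] K') := by
  letI : Algebra A K' := ((algebraMap K K').comp (algebraMap A K)).toAlgebra
  haveI : IsScalarTower A K K' := IsScalarTower.of_algebraMap_eq (fun _ => rfl)
  haveI hD : IsDomain (K' ⊗[A] EGA4.Cpl A) :=
    isDomain_tensor_cpl_of_finite_fractionField A hA K K'
  haveI hD' : IsDomain (EGA4.Cpl A ⊗[A] K') :=
    MulEquiv.isDomain (K' ⊗[A] EGA4.Cpl A)
      (Algebra.TensorProduct.comm A (EGA4.Cpl A) K').toMulEquiv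
  haveI : IsLocalization (Algebra.algebraMapSubmonoid (EGA4.Cpl A ⊗[A] K')
      (nonZeroDivisors (EGA4.Cpl A))) ((EGA4.Cpl A ⊗[A] K') ⊗[EGA4.Cpl A] L) :=
    IsLocalization.tensor L (nonZeroDivisors (EGA4.Cpl A))
  have hinjK : Function.Injective (algebraMap A K') := by
    rw [IsScalarTower.algebraMap_eq A K K']
    exact (algebraMap K K').injective.comp (IsFractionRing.injective A K)
  have hinj : Function.Injective (algebraMap (EGA4.Cpl A) (EGA4.Cpl A ⊗[A] K')) := by
    have := Algebra.TensorProduct.includeLeft_injective (R := A) (S := A) (A := EGA4.Cpl A)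
      (B := K') hinjK
    exact this
  have hle : Algebra.algebraMapSubmonoid (EGA4.Cpl A ⊗[A] K') (nonZeroDivisors (EGA4.Cpl A)) ≤
      nonZeroDivisors (EGA4.Cpl A ⊗[A] K') := by
    rintro _ ⟨a', ha', rfl⟩
    apply mem_nonZeroDivisors_of_ne_zero
    rw [Ne, map_eq_zero_iff _ hinj]
    exact nonZeroDivisors.ne_zero ha'
  haveI : IsDomain ((EGA4.Cpl A ⊗[A] K') ⊗[EGA4.Cpl A] L) :=
    IsLocalization.isDomain_of_le_nonZeroDivisors ((EGA4.Cpl A ⊗[A] K') ⊗[EGA4.Cpl A] L) hle
  let e1 : (EGA4.Cpl A ⊗[A] K') ⊗[EGA4.Cpl A] L ≃+* L ⊗[EGA4.Cpl A] (EGA4.Cpl A ⊗[A] K') :=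
    (Algebra.TensorProduct.comm (EGA4.Cpl A) (EGA4.Cpl A ⊗[A] K') L).toRingEquiv
  let e2 : L ⊗[EGA4.Cpl A] (EGA4.Cpl A ⊗[A] K') ≃+* L ⊗[A] K' :=
    (Algebra.TensorProduct.cancelBaseChange A (EGA4.Cpl A) (EGA4.Cpl A) L K').toRingEquiv
  let e3 : L ⊗[K] K' ≃+* L ⊗[A] K' :=
    (IsLocalization.algebraTensorEquiv (nonZeroDivisors A) K L K').toRingEquiv
  let e : L ⊗[K] K' ≃+* (EGA4.Cpl A ⊗[A] K') ⊗[EGA4.Cpl A] L :=
    e3.trans (e2.symm.trans e1.symm)
  exact MulEquiv.isDomain ((EGA4.Cpl A ⊗[A] K') ⊗[EGA4.Cpl A] L) e.toMulEquiv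

/-- If `L ⊗[K] K'` is a domain for every finite extension `K'/K`, then `L/K` is geometrically reduced
and `K` is algebraically closed in `L`. -/
theorem isGeometricallyReduced_and_algClosed_of_forall_finite_isDomain {K L : Type u} [Field K]
    [Field L] [Algebra K L]
    (key : ∀ (K' : Type u) [Field K'] [Algebra K K'], Module.Finite K K' → IsDomain (L ⊗[K] K')) :
    Algebra.IsGeometricallyReduced K L ∧
      ∀ x : L, IsAlgebraic K x → x ∈ Set.range (algebraMap K L) := by
  refine ⟨isGeometricallyReduced_of_forall_finite (fun k' _ _ hfin => ?_), fun x hx => ?_⟩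
  · haveI := key k' hfin
    exact isReduced_of_injective (Algebra.TensorProduct.comm K k' L).toRingEquiv.toRingHom
      (Algebra.TensorProduct.comm K k' L).injective
  · haveI : FiniteDimensional K K⟮x⟯ := IntermediateField.adjoin.finiteDimensional hx.isIntegral
    haveI hD : IsDomain (L ⊗[K] K⟮x⟯) := key K⟮x⟯ inferInstance
    have hT : @IsField (L ⊗[K] K⟮x⟯) CommRing.toCommSemiring.toSemiring :=
      isField_of_isIntegral_of_isField' (R := L) (Field.toIsField L)
    let μ : L ⊗[K] K⟮x⟯ →ₐ[L] L :=
      Algebra.TensorProduct.lift (AlgHom.id L L) (K⟮x⟯.val) (fun _ _ => Commute.all _ _)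
    have hμinj : Function.Injective μ := by
      rw [injective_iff_map_eq_zero]
      intro z hz
      by_contra hne
      obtain ⟨w, hw⟩ := hT.mul_inv_cancel hne
      have hw' : z * w = (1 : L ⊗[K] K⟮x⟯) := hw
      have h1 : μ (z * w) = μ z * μ w := μ.map_mul z w
      have h2 : μ (1 : L ⊗[K] K⟮x⟯) = 1 := μ.map_one
      rw [hw', h2, hz, zero_mul] at h1
      exact one_ne_zero h1
    have h1 : Module.finrank L (L ⊗[K] K⟮x⟯) ≤ Module.finrank L L :=
      LinearMap.finrank_le_finrank_of_injective (f := μ.toLinearMap) hμinj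
    rw [Module.finrank_self, Module.finrank_baseChange] at h1
    have h2 : Module.finrank K K⟮x⟯ = 1 :=
      le_antisymm h1 (Module.finrank_pos)
    have h3 : K⟮x⟯ = ⊥ := IntermediateField.finrank_eq_one_iff.mp h2
    have h4 : x ∈ (⊥ : IntermediateField K L) := h3 ▸ IntermediateField.mem_adjoin_simple_self K x
    exact IntermediateField.mem_bot.mp h4

/-- **EGA IV 18.9.3-type**: for a henselian Noetherian local domain `A` with geometrically normal
formal fibres, `Frac Â` is separable over `Frac A` and `Frac A` is algebraically closed in it. -/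
theorem isGeometricallyReduced_and_algClosed_fractionField_cpl
    (A : Type u) [CommRing A] [HenselianLocalRing A] [IsNoetherianRing A] [IsDomain A]
    (hA : EGA4.HasGeomNormalFormalFibres A)
    (K L : Type u) [Field K] [Field L] [Algebra A K] [IsFractionRing A K]
    [Algebra (EGA4.Cpl A) L] [IsFractionRing (EGA4.Cpl A) L] [Algebra K L] [Algebra A L]
    [IsScalarTower A K L] [IsScalarTower A (EGA4.Cpl A) L] :
    Algebra.IsGeometricallyReduced K L ∧
      ∀ x : L, IsAlgebraic K x → x ∈ Set.range (algebraMap K L) :=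
  isGeometricallyReduced_and_algClosed_of_forall_finite_isDomain (fun K' _ _ hfin =>
    haveI := hfin
    isDomain_fractionField_cpl_tensor_of_finite A hA K L K')

end Groth.Agent.Lib.Helper48
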