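import Mathlib
import Groth.Agent.Lib.Helper48.EtaleFibreProp
import Groth.Agent.Lib.Helper48.HenselianFormalFibres
import Groth.Agent.Lib.Helper9.Hens.NoetherianHens
import Groth.Agent.Lib.Helper9.Hens.Unique
import Groth.Agent.Lib.Helper9.Hens.LocalFlat
import Groth.Agent.Lib.Helper47.CompletionIso
import Groth.Agent.Lib.Helper18.ComplMap
import Groth.Agent.Lib.Helper24.SmoothNormal
import Groth.Agent.Lib.Helper50.NormalBC
import Groth.Agent.Lib.Helper29.UnibranchCatenary
import Groth.Agent.Lib.Helper29.CompDim
import Groth.Agent.S2636

/-!
# Henselization and geometrically normal formal fibres (helper48)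

* the henselization of a Noetherian local ring with geometrically normal formal fibres has
  geometrically normal formal fibres;
* hence it is universally catenary (all `Ŝ/qŜ` are domains).
-/

set_option autoImplicit false
set_option linter.style.haveILetI false
set_option linter.unusedSectionVars false
universe u

open TensorProduct IsLocalRing

namespace Groth.Agent.Lib.Helper48

open Groth.Agent.Lib.Helper9

section

variable (R S : Type u) [CommRing R] [IsLocalRing R] [IsNoetherianRing R] [CommRing S]
  [IsLocalRing S] [Algebra R S] [IsLocalHom (algebraMap R S)]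

set_option maxHeartbeats 800000 in
/-- Geometric normality of formal fibres passes along a flat local map `R → S` of Noetherian local
rings with `𝔪_R S = 𝔪_S`, trivial residue extension and `S` covered by étale `R`-algebras. -/
theorem hasGeomNormalFormalFibres_of_isEtaleCoveredFin [IsNoetherianRing S] [Module.Flat R S]
    (hS : IsEtaleCoveredFin R S)
    (hm : (maximalIdeal R).map (algebraMap R S) = maximalIdeal S)
    (hk : Function.Bijective (ResidueField.map (algebraMap R S)))
    (hR : EGA4.HasGeomNormalFormalFibres R) : EGA4.HasGeomNormalFormalFibres S := by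
  haveI : IsScalarTower R S (AdicCompletion (maximalIdeal S) S) :=
    IsScalarTower.of_algebraMap_eq fun _ => rfl
  let ψ : AdicCompletion (maximalIdeal R) R →+* AdicCompletion (maximalIdeal S) S :=
    FSch.complMap (maximalIdeal R) (maximalIdeal S) (algebraMap R S) hm.le
  have hψ : ψ.comp (algebraMap R (AdicCompletion (maximalIdeal R) R)) =
      (algebraMap S (AdicCompletion (maximalIdeal S) S)).comp (algebraMap R S) :=
    RingHom.ext fun x => Groth.Agent.Lib.Helper18.complMap_of (maximalIdeal R) (maximalIdeal S)
      (algebraMap R S) hm.le x
  have hbij : Function.Bijective ψ :=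
    Groth.Agent.Lib.Helper47.completion_map_bijective R S hm hk ψ hψ
  let e : AdicCompletion (maximalIdeal R) R ≃ₐ[R] AdicCompletion (maximalIdeal S) S :=
    AlgEquiv.ofBijective ⟨ψ, fun r => RingHom.congr_fun hψ r⟩ hbij
  intro q _
  refine fiber_prop_of_isEtaleCoveredFin (T := AdicCompletion (maximalIdeal S) S)
    (fun X _ => EGA4.IsNormalRing X)
    (fun e h => Groth.Agent.Lib.Helper50.isNormalRing_of_ringEquiv e h)
    (fun M _ h => Groth.Agent.Lib.Helper24.isNormalRing_of_isLocalization M h) hS q ?_
  intro l _ _ hl
  have h1 := hR (q.under R) l hl
  let e' : l ⊗[(q.under R).ResidueField] ((q.under R).ResidueField ⊗[R]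
        AdicCompletion (maximalIdeal R) R) ≃ₐ[l]
      l ⊗[(q.under R).ResidueField] ((q.under R).ResidueField ⊗[R]
        AdicCompletion (maximalIdeal S) S) :=
    Algebra.TensorProduct.congr AlgEquiv.refl (Algebra.TensorProduct.congr AlgEquiv.refl e)
  exact Groth.Agent.Lib.Helper50.isNormalRing_of_ringEquiv e'.toRingEquiv h1

/-- The henselization of a Noetherian local ring with geometrically normal formal fibres has
geometrically normal formal fibres. -/
theorem hasGeomNormalFormalFibres_of_isHenselization [Hensel.IsHenselization R S]
    (hR : EGA4.HasGeomNormalFormalFibres R) : EGA4.HasGeomNormalFormalFibres S := by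
  haveI : IsNoetherianRing S := (isNoetherianRing_iff_of_isHenselization R S).mp inferInstance
  haveI : Module.Flat R S := Hens.flat_of_isHenselization R S
  exact hasGeomNormalFormalFibres_of_isEtaleCoveredFin R S
    (isEtaleCoveredFin_of_isHenselization R S)
    (Hens.map_maximalIdeal_of_isHenselization R S)
    (Hens.residueField_map_bijective_of_isHenselization R S) hR

end

/-- A henselian Noetherian local ring with geometrically normal formal fibres is universally
catenary. -/
theorem isUniversallyCatenary_of_henselian_of_hasGeomNormalFormalFibres (S : Type u) [CommRing S]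
    [HenselianLocalRing S] [IsNoetherianRing S] (hS : EGA4.HasGeomNormalFormalFibres S) :
    CAlg.IsUniversallyCatenary S := by
  refine Groth.Agent.S2636.result S (fun q hq => ?_)
  haveI : IsLocalRing (S ⧸ q) := inferInstance
  letI : HenselianLocalRing (S ⧸ q) := Groth.Agent.Lib.Helper29.henselianLocalRing_quotient' q
  have h1 : EGA4.HasGeomNormalFormalFibres (S ⧸ q) :=
    Groth.Agent.Lib.Helper29.hasGeomNormalFormalFibres_of_surjective S (S ⧸ q)
      Ideal.Quotient.mk_surjective hS
  haveI : IsDomain (EGA4.Cpl (S ⧸ q)) := isDomain_cpl_of_henselian (S ⧸ q) h1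
  exact Groth.Agent.Lib.Helper29.isEquidim_of_isDomain _

/-- **The henselization of a Noetherian local ring with geometrically normal formal fibres is
universally catenary.** -/
theorem isUniversallyCatenary_of_isHenselization (A S : Type u) [CommRing A]
    [IsLocalRing A] [IsNoetherianRing A] [CommRing S] [IsLocalRing S] [Algebra A S]
    [IsLocalHom (algebraMap A S)] [Hensel.IsHenselization A S]
    (hA : EGA4.HasGeomNormalFormalFibres A) : CAlg.IsUniversallyCatenary S := by
  haveI : IsNoetherianRing S := (isNoetherianRing_iff_of_isHenselization A S).mp inferInstance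
  letI : HenselianLocalRing S := Hensel.IsHenselization.henselian (R := A)
  exact isUniversallyCatenary_of_henselian_of_hasGeomNormalFormalFibres S
    (hasGeomNormalFormalFibres_of_isHenselization A S hA)

end Groth.Agent.Lib.Helper48
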