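import Mathlib

/-!
# A discrete valuation ring criterion via integral closedness in an overring
-/

set_option autoImplicit false
universe u
open IsLocalRing

namespace Groth.Agent.Lib.Helper48

/-- A Noetherian local ring whose maximal ideal is generated by a nonzerodivisor is a discrete
valuation ring. -/
theorem isDiscreteValuationRing_of_maximalIdeal_eq_span {D : Type*} [CommRing D] [IsLocalRing D]
    [IsNoetherianRing D] (π : D) (hπ : maximalIdeal D = Ideal.span {π})
    (hnzd : π ∈ nonZeroDivisors D) :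
    ∃ _ : IsDomain D, IsDiscreteValuationRing D := by
  have hK : ⨅ n, (maximalIdeal D) ^ n = ⊥ :=
    Ideal.iInf_pow_eq_bot_of_isLocalRing _ (IsLocalRing.maximalIdeal.isMaximal D).ne_top
  have hpow : ∀ n, (maximalIdeal D) ^ n = Ideal.span {π ^ n} := fun n => by
    rw [hπ, Ideal.span_singleton_pow]
  have hπn : ∀ n, π ^ n ≠ 0 := by
    intro n h
    have h1 : π ^ n ∈ nonZeroDivisors D := pow_mem hnzd n
    rw [h] at h1
    exact zero_notMem_nonZeroDivisors h1
  have key : ∀ a : D, a ≠ 0 → ∃ (n : ℕ) (u : D), IsUnit u ∧ a = u * π ^ n := by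
    intro a ha
    have h1 : ∃ n, a ∉ (maximalIdeal D) ^ n := by
      by_contra hcon
      push Not at hcon
      have : a ∈ ⨅ n, (maximalIdeal D) ^ n := by
        rw [Ideal.mem_iInf]; exact hcon
      rw [hK] at this
      exact ha this
    classical
    have hn := Nat.find_spec h1
    have hmin := fun m => Nat.find_min (H := h1) (m := m)
    obtain ⟨n, hn'⟩ : ∃ n, Nat.find h1 = n + 1 := by
      rcases Nat.exists_eq_succ_of_ne_zero (n := Nat.find h1) (fun h0 => by
        rw [h0, pow_zero, Ideal.one_eq_top] at hn; exact hn trivial) with ⟨n, hn'⟩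
      exact ⟨n, hn'⟩
    have h2 : a ∈ (maximalIdeal D) ^ n := by
      by_contra h3
      exact hmin n (by omega) h3
    rw [hpow, Ideal.mem_span_singleton'] at h2
    obtain ⟨u, hu⟩ := h2
    refine ⟨n, u, ?_, hu.symm⟩
    by_contra hnu
    have hum : u ∈ maximalIdeal D := (mem_maximalIdeal _).mpr hnu
    rw [hπ, Ideal.mem_span_singleton'] at hum
    obtain ⟨v, hv⟩ := hum
    apply hn
    rw [hn', hpow, Ideal.mem_span_singleton']
    exact ⟨v, by rw [← hu, ← hv, pow_succ]; ring⟩
  haveI : NoZeroDivisors D := by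
    refine ⟨fun {a b} hab => ?_⟩
    by_contra hcon
    push Not at hcon
    obtain ⟨n, u, hu, rfl⟩ := key a hcon.1
    obtain ⟨m, v, hv, rfl⟩ := key b hcon.2
    have h1 : (u * v) * π ^ (n + m) = 0 := by rw [← hab, pow_add]; ring
    have h2 : π ^ (n + m) = 0 := (hu.mul hv).mul_right_eq_zero.mp h1
    exact hπn _ h2
  haveI : IsDomain D := NoZeroDivisors.to_isDomain D
  refine ⟨inferInstance, ?_⟩
  have hprin : (maximalIdeal D).IsPrincipal := ⟨⟨π, hπ⟩⟩
  haveI : IsPrincipalIdealRing D :=
    ((tfae_of_isNoetherianRing_of_isLocalRing_of_isDomain D).out 4 0).mp hprin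
  refine { not_a_field' := ?_ }
  rw [hπ]
  intro h
  rw [Ideal.span_singleton_eq_bot] at h
  exact hπn 1 (by rw [pow_one]; exact h)

/-- **Local DVR criterion.**  `D` a Noetherian local ring, integrally closed in an overring `T` in
which some `t ∈ m_D` with `m_D ⊆ √(t)` becomes invertible.  Then `D` is a discrete valuation
ring. -/
theorem isDiscreteValuationRing_of_integrallyClosedIn_of_isUnit {D T : Type*} [CommRing D]
    [IsLocalRing D] [IsNoetherianRing D] [CommRing T] (ι : D →+* T)
    (hinj : Function.Injective ι)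
    (hic : ∀ z : T, ι.IsIntegralElem z → z ∈ Set.range ι)
    (t : D) (ht : t ∈ maximalIdeal D) (hu : IsUnit (ι t))
    (hrad : maximalIdeal D ≤ (Ideal.span {t}).radical) :
    ∃ _ : IsDomain D, IsDiscreteValuationRing D := by
  classical
  letI : Algebra D T := ι.toAlgebra
  obtain ⟨t', ht'⟩ := hu.exists_right_inv
  obtain ⟨n₀, hn₀⟩ := Ideal.exists_pow_le_of_le_radical_of_fg hrad
    (IsNoetherian.noetherian _)
  have hex : ∃ n, maximalIdeal D ^ n ≤ Ideal.span {t} := ⟨n₀, hn₀⟩
  have hn := Nat.find_spec hex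
  obtain ⟨k, hk⟩ : ∃ k, Nat.find hex = k + 1 := by
    refine Nat.exists_eq_succ_of_ne_zero (fun h0 => ?_)
    rw [h0, pow_zero, Ideal.one_eq_top, top_le_iff, Ideal.span_singleton_eq_top] at hn
    exact (mem_maximalIdeal _).mp ht hn
  have hnot : ¬ maximalIdeal D ^ k ≤ Ideal.span {t} := Nat.find_min hex (by omega)
  obtain ⟨y, hym, hyt⟩ := SetLike.not_le_iff_exists.mp hnot
  obtain ⟨z, hz⟩ : ∃ z : T, z = ι y * t' := ⟨_, rfl⟩
  have hzm : ∀ x ∈ maximalIdeal D, ∃ d : D, ι d = z * ι x := by
    intro x hx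
    have h1 : y * x ∈ maximalIdeal D ^ (k + 1) := by
      rw [pow_succ]; exact Ideal.mul_mem_mul hym hx
    have h2 : y * x ∈ Ideal.span {t} := hn (hk ▸ h1)
    obtain ⟨d, hd⟩ := Ideal.mem_span_singleton'.mp h2
    refine ⟨d, ?_⟩
    calc ι d = ι d * (ι t * t') := by rw [ht', mul_one]
      _ = ι (d * t) * t' := by rw [map_mul]; ring
      _ = z * ι x := by rw [hd, map_mul, hz]; ring
  have hz_not : z ∉ Set.range ι := by
    rintro ⟨d, hd⟩
    apply hyt
    rw [Ideal.mem_span_singleton']
    refine ⟨d, hinj ?_⟩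
    rw [map_mul, hd, hz, mul_assoc, mul_comm t', ht', mul_one]
  by_cases hall : ∀ x ∈ maximalIdeal D, ∀ d : D, ι d = z * ι x → d ∈ maximalIdeal D
  · exfalso
    apply hz_not
    apply hic
    show IsIntegral D z
    -- the module `N = ι(m)`
    obtain ⟨N, hN⟩ : ∃ N : Submodule D T,
        N = Submodule.map (Algebra.linearMap D T) (maximalIdeal D) := ⟨_, rfl⟩
    have hNfg : N.FG := by
      rw [hN]; exact Submodule.FG.map _ (IsNoetherian.noetherian _)
    have hzN : ∀ w ∈ N, z * w ∈ N := by
      intro w hw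
      rw [hN] at hw ⊢
      obtain ⟨x, hx, rfl⟩ := hw
      obtain ⟨d, hd⟩ := hzm x hx
      exact ⟨d, hall x hx d hd, hd⟩
    have htN : ι t ∈ N := by rw [hN]; exact ⟨t, ht, rfl⟩
    have hpowN : ∀ j : ℕ, z ^ j * ι t ∈ N := by
      intro j
      induction j with
      | zero => rw [pow_zero, one_mul]; exact htN
      | succ j ih => rw [pow_succ', mul_assoc]; exact hzN _ ih
    obtain ⟨N', hN'⟩ : ∃ N' : Submodule D T, N' = Submodule.map (LinearMap.mulLeft D t') N :=
      ⟨_, rfl⟩
    have hN'fg : N'.FG := by rw [hN']; exact hNfg.map _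
    have hpowN' : ∀ j : ℕ, z ^ j ∈ N' := by
      intro j
      rw [hN']
      refine ⟨z ^ j * ι t, hpowN j, ?_⟩
      rw [LinearMap.mulLeft_apply, mul_comm t', mul_assoc, ht', mul_one]
    have hle : Subalgebra.toSubmodule (Algebra.adjoin D {z}) ≤ N' := by
      intro w hw
      rw [Subalgebra.mem_toSubmodule, Algebra.adjoin_singleton_eq_range_aeval] at hw
      obtain ⟨p, rfl⟩ := hw
      show Polynomial.aeval z p ∈ N'
      rw [Polynomial.aeval_eq_sum_range]
      exact Submodule.sum_mem _ (fun i _ => Submodule.smul_mem _ _ (hpowN' i))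
    haveI : IsNoetherian D N' := isNoetherian_of_fg_of_noetherian N' hN'fg
    have hfg : (Subalgebra.toSubmodule (Algebra.adjoin D {z})).FG :=
      isNoetherian_submodule.mp ‹IsNoetherian D N'› _ hle
    exact IsIntegral.of_mem_of_fg (Algebra.adjoin D {z}) hfg z (Algebra.subset_adjoin rfl)
  · push Not at hall
    obtain ⟨x₀, hx₀, d₀, hd₀, hd₀m⟩ := hall
    have hd₀u : IsUnit d₀ := by
      by_contra h; exact hd₀m ((mem_maximalIdeal _).mpr h)
    obtain ⟨e₀, he₀⟩ := hd₀u.exists_right_inv
    have hπm : x₀ * e₀ ∈ maximalIdeal D := Ideal.mul_mem_right _ _ hx₀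
    have hzπ : z * ι (x₀ * e₀) = 1 := by
      rw [map_mul, ← mul_assoc, ← hd₀, ← map_mul, he₀, map_one]
    refine isDiscreteValuationRing_of_maximalIdeal_eq_span (x₀ * e₀) ?_ ?_
    · apply le_antisymm
      · intro x hx
        obtain ⟨d, hd⟩ := hzm x hx
        rw [Ideal.mem_span_singleton']
        refine ⟨d, hinj ?_⟩
        rw [map_mul, hd, mul_assoc, mul_comm (ι x), ← mul_assoc, hzπ, one_mul]
      · rw [Ideal.span_singleton_le_iff_mem]; exact hπm
    · rw [mem_nonZeroDivisors_iff_right]
      intro a ha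
      apply hinj
      rw [map_zero]
      have h1 : ι a * ι (x₀ * e₀) = 0 := by rw [← map_mul, ha, map_zero]
      calc ι a = ι a * (z * ι (x₀ * e₀)) := by rw [hzπ, mul_one]
        _ = z * (ι a * ι (x₀ * e₀)) := by ring
        _ = 0 := by rw [h1, mul_zero]

/-- **DVR criterion at a prime.**  `D₀` Noetherian, integrally closed in an overring `R`; `p` a
prime of `D₀`, `t ∈ p` lying in no smaller prime, and `t ∣ s` in `R` for some `s ∉ p`.  Then
`(D₀)_p` is a discrete valuation ring. -/
theorem isDiscreteValuationRing_atPrime_of_integrallyClosedIn {D₀ R : Type*} [CommRing D₀]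
    [IsNoetherianRing D₀] [CommRing R] [Algebra D₀ R]
    (hinj : Function.Injective (algebraMap D₀ R))
    (hic : ∀ r : R, IsIntegral D₀ r → r ∈ Set.range (algebraMap D₀ R))
    (p : Ideal D₀) [p.IsPrime]
    (t s : D₀) (w : R) (htp : t ∈ p) (hsp : s ∉ p) (hw : algebraMap D₀ R t * w = algebraMap D₀ R s)
    (hmin : ∀ P : Ideal D₀, P.IsPrime → P ≤ p → t ∈ P → P = p) :
    ∃ _ : IsDomain (Localization.AtPrime p), IsDiscreteValuationRing (Localization.AtPrime p) := by
  classical
  refine isDiscreteValuationRing_of_integrallyClosedIn_of_isUnit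
    (algebraMap (Localization.AtPrime p)
      (Localization (Algebra.algebraMapSubmonoid R p.primeCompl)))
    (localizationAlgebra_injective _ _ hinj) ?_ (algebraMap D₀ (Localization.AtPrime p) t)
    ((IsLocalization.AtPrime.to_map_mem_maximal_iff _ p t).mpr htp) ?_ ?_
  · -- integrally closed
    intro z hz
    have hz' : IsIntegral (Localization.AtPrime p) z := hz
    obtain ⟨m, hm⟩ := IsIntegral.exists_multiple_integral_of_isLocalization p.primeCompl z hz'
    obtain ⟨⟨r₁, s₁⟩, hr₁⟩ :=
      IsLocalization.surj (Algebra.algebraMapSubmonoid R p.primeCompl) (m • z)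
    obtain ⟨m₂, hm₂, hs₁⟩ := s₁.2
    have hr₁' : algebraMap R (Localization (Algebra.algebraMapSubmonoid R p.primeCompl)) r₁ =
        (m • z) * algebraMap D₀ (Localization (Algebra.algebraMapSubmonoid R p.primeCompl)) m₂ := by
      rw [IsScalarTower.algebraMap_apply D₀ R, hs₁]
      exact hr₁.symm
    have hint : IsIntegral D₀
        (algebraMap R (Localization (Algebra.algebraMapSubmonoid R p.primeCompl)) r₁) := by
      rw [hr₁']
      exact hm.mul isIntegral_algebraMap
    obtain ⟨m₃, hm₃, hint₃⟩ := IsLocalization.exists_isIntegral_smul_of_isIntegral_map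
      (Sₘ := Localization (Algebra.algebraMapSubmonoid R p.primeCompl)) p.primeCompl hint
    obtain ⟨a, ha⟩ := hic _ hint₃
    refine ⟨IsLocalization.mk' (Localization.AtPrime p) a
      (⟨(m : D₀) * m₂ * m₃, mul_mem (mul_mem m.2 hm₂) hm₃⟩ : p.primeCompl), ?_⟩
    have hunit : IsUnit (algebraMap D₀ (Localization (Algebra.algebraMapSubmonoid R p.primeCompl))
        ((m : D₀) * m₂ * m₃)) := by
      rw [IsScalarTower.algebraMap_apply D₀ (Localization.AtPrime p)]
      exact (IsLocalization.map_units (Localization.AtPrime p)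
        (⟨(m : D₀) * m₂ * m₃, mul_mem (mul_mem m.2 hm₂) hm₃⟩ : p.primeCompl)).map _
    apply hunit.mul_left_injective
    show algebraMap (Localization.AtPrime p) _ (IsLocalization.mk' (Localization.AtPrime p) a _) *
      algebraMap D₀ _ ((m : D₀) * m₂ * m₃) = z * algebraMap D₀ _ ((m : D₀) * m₂ * m₃)
    have e1 : algebraMap (Localization.AtPrime p)
        (Localization (Algebra.algebraMapSubmonoid R p.primeCompl))
        (IsLocalization.mk' (Localization.AtPrime p) a
          (⟨(m : D₀) * m₂ * m₃, mul_mem (mul_mem m.2 hm₂) hm₃⟩ : p.primeCompl)) *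
        algebraMap D₀ _ ((m : D₀) * m₂ * m₃) =
        algebraMap D₀ (Localization (Algebra.algebraMapSubmonoid R p.primeCompl)) a := by
      rw [IsScalarTower.algebraMap_apply D₀ (Localization.AtPrime p)
        (Localization (Algebra.algebraMapSubmonoid R p.primeCompl)) ((m : D₀) * m₂ * m₃),
        ← map_mul]
      have := IsLocalization.mk'_spec (Localization.AtPrime p) a
        (⟨(m : D₀) * m₂ * m₃, mul_mem (mul_mem m.2 hm₂) hm₃⟩ : p.primeCompl)
      rw [this, ← IsScalarTower.algebraMap_apply]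
    rw [e1]
    have e2 : algebraMap D₀ (Localization (Algebra.algebraMapSubmonoid R p.primeCompl)) a =
        algebraMap R _ (m₃ • r₁) := by
      rw [IsScalarTower.algebraMap_apply D₀ R, ha]
    rw [e2, Algebra.smul_def, map_mul, hr₁', ← IsScalarTower.algebraMap_apply D₀ R,
      map_mul, map_mul, Submonoid.smul_def, Algebra.smul_def]
    ring
  · -- `t` becomes a unit
    rw [← IsScalarTower.algebraMap_apply, IsScalarTower.algebraMap_apply D₀ R]
    have h1 : IsUnit (algebraMap R (Localization (Algebra.algebraMapSubmonoid R p.primeCompl))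
        (algebraMap D₀ R t) * algebraMap R _ w) := by
      rw [← map_mul, hw]
      exact IsLocalization.map_units _
        (⟨algebraMap D₀ R s, s, hsp, rfl⟩ : Algebra.algebraMapSubmonoid R p.primeCompl)
    exact isUnit_of_mul_isUnit_left h1
  · rw [Ideal.radical_eq_sInf]
    refine le_sInf (fun Q hQ => ?_)
    obtain ⟨hQle, hQp⟩ := hQ
    haveI := hQp
    have htQ : algebraMap D₀ (Localization.AtPrime p) t ∈ Q :=
      hQle (Ideal.mem_span_singleton_self _)
    have hP : (Q.comap (algebraMap D₀ (Localization.AtPrime p))) ≤ p := by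
      intro x hx
      by_contra hxp
      have hxu : IsUnit (algebraMap D₀ (Localization.AtPrime p) x) :=
        IsLocalization.map_units (Localization.AtPrime p) (⟨x, hxp⟩ : p.primeCompl)
      exact hQp.ne_top (Ideal.eq_top_of_isUnit_mem _ hx hxu)
    have hPp := hmin _ (Ideal.comap_isPrime _ _) hP htQ
    rw [← Localization.AtPrime.map_eq_maximalIdeal, Ideal.map_le_iff_le_comap]
    exact hPp.ge

end Groth.Agent.Lib.Helper48
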