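import Mathlib
import Groth.Prelude
import Groth.Agent.Lib.Helper48.CompleteLocalH1

/-!
# Local-to-global principle for finiteness of `H^1_I(A)` (helper48)

For a Noetherian domain `A` and a nonzero ideal `I`, `H^1_I(A)` is finite as soon as
`H^1_{qA_q}(A_q)` is finite for every prime `q ⊇ I` (`finite_H1_of_forall_localCond` together with
the bridge `localCond_of_finite_H1`).  With the completion criterion of `CompleteLocalH1` this gives
Kollár's criterion (Stacks 0BK3-type statements).
-/

set_option autoImplicit false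
set_option linter.style.haveILetI false
set_option linter.unusedSectionVars false
universe u

namespace Groth.Agent.Lib.Helper48

open Groth.Agent.Lib.Helper60 LocCoh CategoryTheory IsLocalRing

/-- Every element of `H^1_J(M)` is killed by a power of `J`. -/
theorem exists_pow_smul_H1_eq_zero {B : Type u} [CommRing B] [IsNoetherianRing B] (J : Ideal B)
    (M : Type u) [AddCommGroup M] [Module B M] (h : LocCoh.H J 1 M) :
    ∃ n : ℕ, ∀ a ∈ J ^ n, a • h = 0 := by
  obtain ⟨y, rfl⟩ := dtToH1_surjective J (ModuleCat.of B M) h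
  obtain ⟨n, f, rfl⟩ := dtMk_surj J (ModuleCat.of B M) y
  refine ⟨n, fun a ha => ?_⟩
  rw [← map_smul, smul_dtMk_eq_toDT J M f a ha, dtToH1_toDT]

/-- If `H^1_J(M)` is finite, it is killed by a power of `J`. -/
theorem exists_pow_smul_H1_eq_zero_of_finite {B : Type u} [CommRing B] [IsNoetherianRing B]
    (J : Ideal B) (M : Type u) [AddCommGroup M] [Module B M]
    (hfin : Module.Finite B (LocCoh.H J 1 M)) :
    ∃ N : ℕ, ∀ a ∈ J ^ N, ∀ h : LocCoh.H J 1 M, a • h = 0 := by
  classical
  obtain ⟨s, hs⟩ := (Module.Finite.fg_top : (⊤ : Submodule B (LocCoh.H J 1 M)).FG)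
  choose n hn using exists_pow_smul_H1_eq_zero J M
  refine ⟨s.sup n, fun a ha h => ?_⟩
  have hmem : h ∈ Submodule.span B (s : Set (LocCoh.H J 1 M)) := by rw [hs]; trivial
  clear hs
  induction hmem using Submodule.span_induction with
  | mem y hy => exact hn y a (Ideal.pow_le_pow_right (Finset.le_sup hy) ha)
  | zero => rw [smul_zero]
  | add y z _ _ ihy ihz => rw [smul_add, ihy, ihz, add_zero]
  | smul r y _ ih => rw [smul_comm, ih, smul_zero]

/-- **Converse bound**: if `H^1_J(B)` is finite for a Noetherian domain `B`, a uniform power of `J`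
multiplies every element of the fraction field which is a section over `D(J)` into `B`. -/
theorem exists_pow_mul_mem_range_of_finite_H1 (B : Type u) [CommRing B] [IsDomain B]
    [IsNoetherianRing B] (J : Ideal B) (hJ0 : J ≠ ⊥) (L : Type*) [Field L] [Algebra B L]
    [IsFractionRing B L] (hfin : Module.Finite B (LocCoh.H J 1 B)) :
    ∃ N : ℕ, ∀ z : L, (∃ k : ℕ, ∀ a ∈ J ^ k, ∃ b : B, algebraMap B L b = algebraMap B L a * z) →
      ∀ a ∈ J ^ N, ∃ b : B, algebraMap B L b = algebraMap B L a * z := by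
  classical
  have hinj : Function.Injective (algebraMap B L) := IsFractionRing.injective B L
  obtain ⟨N, hN⟩ := exists_pow_smul_H1_eq_zero_of_finite J B hfin
  refine ⟨N, fun z hz a ha => ?_⟩
  obtain ⟨k, hk⟩ := hz
  choose! g hg using hk
  let f : ↥(J ^ k) →ₗ[B] B :=
    { toFun := fun w => g w.1
      map_add' := by
        intro w w'
        apply hinj
        rw [map_add, hg _ w.2, hg _ w'.2, hg _ (w + w').2, Submodule.coe_add, map_add, add_mul]
      map_smul' := by
        intro r w
        apply hinj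
        rw [RingHom.id_apply, smul_eq_mul, map_mul, hg _ w.2, hg _ (r • w).2, Submodule.coe_smul,
          smul_eq_mul, map_mul, mul_assoc] }
  have hf : ∀ w : ↥(J ^ k), algebraMap B L (f w) = algebraMap B L w.1 * z := fun w => hg _ w.2
  have h0 := hN a ha (dtToH1 J (ModuleCat.of B B) (dtMk J (ModuleCat.of B B) k f))
  rw [← map_smul] at h0
  have hmem : a • dtMk J (ModuleCat.of B B) k f ∈ LinearMap.ker (dtToH1 J (ModuleCat.of B B)) := h0
  rw [ker_dtToH1] at hmem
  obtain ⟨b, hb⟩ := hmem
  refine ⟨b, ?_⟩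
  rw [toDT_eq_dtMk, ← dtMk_smul, dtMk_eq_iff] at hb
  obtain ⟨m, h0m, hkm, hres⟩ := hb
  have hJm : J ^ m ≠ ⊥ := pow_ne_zero m (show J ≠ 0 from hJ0)
  obtain ⟨w, hw, hwne⟩ := Submodule.exists_mem_ne_zero_of_ne_bot hJm
  have h1 := congrArg (fun φ => φ ⟨w, hw⟩) hres
  simp only [dtRes_apply, LinearMap.coe_comp, Function.comp_apply, Submodule.coe_subtype,
    LinearMap.flip_apply, LinearMap.lsmul_apply, LinearMap.smul_apply, smul_eq_mul] at h1
  -- h1 : w * b = a * f ⟨w, _⟩
  have h2 := congrArg (algebraMap B L) h1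
  rw [map_mul, map_mul, hf] at h2
  have hwK : algebraMap B L w ≠ 0 := by rwa [Ne, map_eq_zero_iff _ hinj]
  have h3 : algebraMap B L w * algebraMap B L b = algebraMap B L w * (algebraMap B L a * z) := by
    rw [h2]; ring
  exact mul_left_cancel₀ hwK h3

section Core

variable (A : Type u) [CommRing A] [IsDomain A] [IsNoetherianRing A]

/-- `{r : r x ∈ A_q}` as a set. -/
def locDenomSet (q : Ideal A) (x : FractionRing A) : Set A :=
  {r | ∃ s : A, s ∉ q ∧ s * r ∈ denomIdeal A x}

/-- `{r : r x ∈ A_q}` as an ideal. -/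
def locDenom (q : Ideal A) [hq : q.IsPrime] (x : FractionRing A) : Ideal A where
  carrier := locDenomSet A q x
  zero_mem' := ⟨1, (Ideal.ne_top_iff_one q).mp hq.ne_top, by rw [mul_zero]; exact Ideal.zero_mem _⟩
  add_mem' := by
    rintro r r' ⟨s, hs, hsr⟩ ⟨s', hs', hsr'⟩
    refine ⟨s * s', hq.mul_notMem hs hs', ?_⟩
    have : s * s' * (r + r') = s' * (s * r) + s * (s' * r') := by ring
    rw [this]
    exact Ideal.add_mem _ (Ideal.mul_mem_left _ _ hsr) (Ideal.mul_mem_left _ _ hsr')
  smul_mem' := by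
    rintro t r ⟨s, hs, hsr⟩
    refine ⟨s, hs, ?_⟩
    have : s * (t • r) = t * (s * r) := by rw [smul_eq_mul]; ring
    rw [this]
    exact Ideal.mul_mem_left _ _ hsr

theorem mem_locDenom (q : Ideal A) [hq : q.IsPrime] (x : FractionRing A) (r : A) :
    r ∈ locDenom A q x ↔ ∃ s : A, s ∉ q ∧ s * r ∈ denomIdeal A x := Iff.rfl

theorem denomIdeal_le_locDenom (q : Ideal A) [hq : q.IsPrime] (x : FractionRing A) :
    denomIdeal A x ≤ locDenom A q x := fun r hr =>
  ⟨1, (Ideal.ne_top_iff_one q).mp hq.ne_top, by rwa [one_mul]⟩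

/-- The local condition at `q`: a uniform power of `q` multiplies into `A_q` every element of the
fraction field that some power of `q` multiplies into `A_q` (finiteness of `H^1_{qA_q}(A_q)`). -/
def LocalCond (q : Ideal A) : Prop :=
  ∃ N : ℕ, ∀ x : FractionRing A, (∃ k : ℕ, ∀ a ∈ q ^ k, a ∈ locDenomSet A q x) →
    ∀ a ∈ q ^ N, a ∈ locDenomSet A q x

/-- `denomIdeal (r • x) = (denomIdeal x : r)`. -/
theorem mem_denomIdeal_smul (x : FractionRing A) (r t : A) :
    t ∈ denomIdeal A (algebraMap A (FractionRing A) r * x) ↔ t * r ∈ denomIdeal A x := by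
  rw [mem_denomIdeal, mem_denomIdeal]
  constructor
  · rintro ⟨a, ha⟩
    exact ⟨a, by rw [ha, map_mul]; ring⟩
  · rintro ⟨a, ha⟩
    exact ⟨a, by rw [ha, map_mul]; ring⟩

/-- If `x ∉ A`, the denominator ideal of `x` is contained in a prime denominator ideal. -/
theorem exists_prime_denomIdeal_ge (x : FractionRing A) (hx : denomIdeal A x ≠ ⊤) :
    ∃ P : Ideal A, P.IsPrime ∧ (∃ y : FractionRing A, P = denomIdeal A y) ∧ denomIdeal A x ≤ P := by
  let T := FractionRing A ⧸ LinearMap.range (Algebra.linearMap A (FractionRing A))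
  have hcolon : ∀ y : FractionRing A, (⊥ : Submodule A T).colon {Submodule.Quotient.mk y} =
      denomIdeal A y := by
    intro y
    ext r
    rw [Submodule.mem_colon_singleton, Submodule.mem_bot, ← Submodule.Quotient.mk_smul,
      Submodule.Quotient.mk_eq_zero, mem_denomIdeal]
    constructor
    · rintro ⟨a, ha⟩
      exact ⟨a, by rw [← Algebra.smul_def]; exact ha⟩
    · rintro ⟨a, ha⟩
      exact ⟨a, by rw [Algebra.smul_def]; exact ha⟩
  have hx0 : (Submodule.Quotient.mk x : T) ≠ 0 := by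
    intro h0
    apply hx
    rw [← hcolon x, h0, Ideal.eq_top_iff_one, Submodule.mem_colon_singleton, smul_zero]
    exact Submodule.zero_mem _
  obtain ⟨P, hP, hle⟩ := exists_le_isAssociatedPrime_of_isNoetherianRing A
    (Submodule.Quotient.mk x : T) hx0
  obtain ⟨hPp, m, hm⟩ := isAssociatedPrime_iff.mp hP
  obtain ⟨y, rfl⟩ := Submodule.Quotient.mk_surjective _ m
  exact ⟨P, hPp, ⟨y, by rw [hm, hcolon]⟩, by rw [← hcolon x]; exact hle⟩

/-- A prime denominator ideal containing `c ≠ 0` is an associated prime of `A/cA`. -/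
theorem denomIdeal_mem_associatedPrimes (c : A) (hc : c ≠ 0) (P : Ideal A) (hP : P.IsPrime)
    (y : FractionRing A) (hy : P = denomIdeal A y) (hcP : c ∈ P) :
    P ∈ associatedPrimes A (A ⧸ Ideal.span {c}) := by
  have hinjK : Function.Injective (algebraMap A (FractionRing A)) :=
    IsFractionRing.injective A (FractionRing A)
  have hcK : algebraMap A (FractionRing A) c ≠ 0 := by rwa [Ne, map_eq_zero_iff _ hinjK]
  obtain ⟨a, ha⟩ := (mem_denomIdeal y c).mp (hy ▸ hcP)
  refine isAssociatedPrime_iff.mpr ⟨hP, Ideal.Quotient.mk _ a, ?_⟩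
  ext t
  rw [Submodule.mem_colon_singleton, Submodule.mem_bot, hy, mem_denomIdeal]
  have hsm : t • (Ideal.Quotient.mk (Ideal.span {c}) a) = Ideal.Quotient.mk _ (t * a) := rfl
  rw [hsm, Ideal.Quotient.eq_zero_iff_mem, Ideal.mem_span_singleton']
  constructor
  · rintro ⟨b, hb⟩
    refine ⟨b, hinjK ?_⟩
    rw [map_mul, map_mul, ha, hb]
    ring
  · rintro ⟨b, hb⟩
    refine ⟨b, ?_⟩
    have h1 := congrArg (algebraMap A (FractionRing A)) hb
    rw [map_mul, map_mul, ha] at h1
    have h2 : algebraMap A (FractionRing A) c * algebraMap A (FractionRing A) b =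
        algebraMap A (FractionRing A) c * (algebraMap A (FractionRing A) t * y) := by
      rw [mul_comm, h1]; ring
    exact mul_left_cancel₀ hcK h2

/-- If all associated primes of `A/D` contain `I₁`, a power of `I₁` lies in `D`. -/
theorem exists_pow_le_of_forall_associatedPrimes (D I₁ : Ideal A)
    (h : ∀ P ∈ associatedPrimes A (A ⧸ D), I₁ ≤ P) : ∃ m : ℕ, I₁ ^ m ≤ D := by
  apply Ideal.exists_pow_le_of_le_radical_of_fg _ (IsNoetherian.noetherian I₁)
  rw [Ideal.radical_eq_sInf]
  refine le_sInf ?_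
  rintro p ⟨hDp, hp⟩
  haveI := hp
  obtain ⟨p', hp', hp'p⟩ := Ideal.exists_minimalPrimes_le hDp
  have h1 : p' ∈ associatedPrimes A (A ⧸ D) := by
    apply Module.associatedPrimes.minimalPrimes_annihilator_subset_associatedPrimes A (A ⧸ D)
    rw [Ideal.annihilator_quotient]
    exact hp'
  exact (h p' h1).trans hp'p

/-- Associated primes of `A / locDenom q x`. -/
theorem associatedPrimes_quotient_locDenom (q : Ideal A) [hq : q.IsPrime] (x : FractionRing A)
    (P : Ideal A) (hP : P ∈ associatedPrimes A (A ⧸ locDenom A q x)) :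
    P ≤ q ∧ (∃ y : FractionRing A, P = denomIdeal A y) ∧ locDenom A q x ≤ P := by
  classical
  obtain ⟨hPp, m, hm⟩ := isAssociatedPrime_iff.mp hP
  obtain ⟨r, rfl⟩ := Ideal.Quotient.mk_surjective m
  have hmem : ∀ t : A, t ∈ P ↔ t * r ∈ locDenom A q x := by
    intro t
    rw [hm, Submodule.mem_colon_singleton, Submodule.mem_bot]
    have hsm : t • (Ideal.Quotient.mk (locDenom A q x) r) = Ideal.Quotient.mk _ (t * r) := rfl
    rw [hsm, Ideal.Quotient.eq_zero_iff_mem]
  have hr : r ∉ locDenom A q x := by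
    intro hr
    apply hPp.ne_top
    rw [Ideal.eq_top_iff_one, hmem, one_mul]
    exact hr
  have hle : locDenom A q x ≤ P := fun t ht => (hmem t).mpr (Ideal.mul_mem_right _ _ ht)
  have hPq : P ≤ q := by
    intro t ht
    by_contra htq
    obtain ⟨s, hs, hsr⟩ := (hmem t).mp ht
    apply hr
    refine ⟨s * t, hq.mul_notMem hs htq, ?_⟩
    rwa [mul_assoc]
  refine ⟨hPq, ?_, hle⟩
  -- P is a denominator ideal
  obtain ⟨G, hG⟩ := (IsNoetherian.noetherian P : P.FG)
  have h1 : ∀ g ∈ G, ∃ s : A, s ∉ q ∧ s * (g * r) ∈ denomIdeal A x := by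
    intro g hg
    exact (hmem g).mp (hG ▸ Ideal.subset_span hg)
  choose! σ hσ using h1
  have hs : (∏ g ∈ G, σ g) ∉ q := by
    intro h
    obtain ⟨g, hg, hgq⟩ := (Ideal.IsPrime.prod_mem_iff).mp h
    exact (hσ g hg).1 hgq
  refine ⟨algebraMap A (FractionRing A) ((∏ g ∈ G, σ g) * r) * x, ?_⟩
  apply le_antisymm
  · rw [← hG, Ideal.span_le]
    intro g hg
    rw [SetLike.mem_coe, mem_denomIdeal_smul]
    obtain ⟨u, hu⟩ := Finset.dvd_prod_of_mem σ hg
    have : g * ((∏ g ∈ G, σ g) * r) = u * (σ g * (g * r)) := by rw [hu]; ring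
    rw [this]
    exact Ideal.mul_mem_left _ _ (hσ g hg).2
  · intro t ht
    rw [mem_denomIdeal_smul] at ht
    rw [hmem]
    refine ⟨∏ g ∈ G, σ g, hs, ?_⟩
    have : (∏ g ∈ G, σ g) * (t * r) = t * ((∏ g ∈ G, σ g) * r) := by ring
    rw [this]
    exact ht

/-- The finite set of prime denominator ideals containing `I`. -/
def assSet (I : Ideal A) : Set (Ideal A) :=
  {P | P.IsPrime ∧ I ≤ P ∧ ∃ y : FractionRing A, P = denomIdeal A y}

theorem assSet_finite (I : Ideal A) (hI : I ≠ ⊥) : (assSet A I).Finite := by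
  obtain ⟨c, hcI, hc⟩ := Submodule.exists_mem_ne_zero_of_ne_bot hI
  refine (associatedPrimes.finite A (A ⧸ Ideal.span {c})).subset ?_
  rintro P ⟨hP, hIP, y, hy⟩
  exact denomIdeal_mem_associatedPrimes A c hc P hP y hy (hIP hcI)

/-- The primes of `assSet` at which `x` is not a local section. -/
def badSet (I : Ideal A) (x : FractionRing A) : Set (Ideal A) :=
  {P | P ∈ assSet A I ∧ ¬ ∃ s : A, s ∉ P ∧ s ∈ denomIdeal A x}

theorem badSet_subset (I : Ideal A) (x : FractionRing A) : badSet A I x ⊆ assSet A I :=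
  fun _ h => h.1

theorem denomIdeal_eq_top_of_badSet_eq_empty (I : Ideal A) (x : FractionRing A)
    (hx : ∃ k : ℕ, I ^ k ≤ denomIdeal A x) (hbad : badSet A I x = ∅) : denomIdeal A x = ⊤ := by
  by_contra hne
  obtain ⟨P, hP, hy, hle⟩ := exists_prime_denomIdeal_ge A x hne
  obtain ⟨k, hk⟩ := hx
  have hIP : I ≤ P := hP.le_of_pow_le (hk.trans hle)
  have hPQ : P ∈ assSet A I := ⟨hP, hIP, hy⟩
  have hnb : P ∉ badSet A I x := by rw [hbad]; exact Set.notMem_empty _
  have : ∃ s : A, s ∉ P ∧ s ∈ denomIdeal A x := by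
    by_contra hcon
    exact hnb ⟨hPQ, hcon⟩
  obtain ⟨s, hs, hsx⟩ := this
  exact hs (hle hsx)

theorem main_induction (I : Ideal A) (hI : I ≠ ⊥) (c : A) (hcI : c ∈ I) (N₀ : ℕ)
    (hN₀ : ∀ q ∈ assSet A I, ∀ x : FractionRing A, (∃ k : ℕ, ∀ a ∈ q ^ k, a ∈ locDenomSet A q x) →
      ∀ a ∈ q ^ N₀, a ∈ locDenomSet A q x) (n : ℕ) :
    ∀ x : FractionRing A, (∃ k : ℕ, I ^ k ≤ denomIdeal A x) → (badSet A I x).ncard ≤ n →
      c ^ (n * N₀) ∈ denomIdeal A x := by
  have hQfin := assSet_finite A I hI
  induction n with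
  | zero =>
    intro x hx hcard
    have hfin : (badSet A I x).Finite := hQfin.subset (badSet_subset A I x)
    have hempty : badSet A I x = ∅ := by
      rw [← Set.ncard_eq_zero hfin]
      omega
    rw [denomIdeal_eq_top_of_badSet_eq_empty A I x hx hempty]
    trivial
  | succ n ih =>
    intro x hx hcard
    have hfin : (badSet A I x).Finite := hQfin.subset (badSet_subset A I x)
    by_cases hempty : badSet A I x = ∅
    · rw [denomIdeal_eq_top_of_badSet_eq_empty A I x hx hempty]
      trivial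
    · obtain ⟨q, hqmin⟩ := hfin.exists_minimal (Set.nonempty_iff_ne_empty.mpr hempty)
      have hqbad : q ∈ badSet A I x := hqmin.1
      obtain ⟨⟨hqp, hIq, hqy⟩, hqx⟩ := hqbad
      haveI := hqp
      obtain ⟨k, hk⟩ := hx
      -- all associated primes of `A / locDenom q x` equal `q`
      have hass : ∀ P ∈ associatedPrimes A (A ⧸ locDenom A q x), q ≤ P := by
        intro P hP
        obtain ⟨hPq, hPy, hle⟩ := associatedPrimes_quotient_locDenom A q x P hP
        have hPp : P.IsPrime := hP.isPrime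
        have hIP : I ≤ P := hPp.le_of_pow_le ((hk.trans (denomIdeal_le_locDenom A q x)).trans hle)
        have hPbad : P ∈ badSet A I x := by
          refine ⟨⟨hPp, hIP, hPy⟩, ?_⟩
          rintro ⟨s, hs, hsx⟩
          exact hs (hle (denomIdeal_le_locDenom A q x hsx))
        exact hqmin.2 hPbad hPq
      obtain ⟨m, hm⟩ := exists_pow_le_of_forall_associatedPrimes A (locDenom A q x) q hass
      have h1 := hN₀ q ⟨hqp, hIq, hqy⟩ x ⟨m, fun a ha => hm ha⟩ (c ^ N₀)
        (Ideal.pow_mem_pow (hIq hcI) N₀)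
      obtain ⟨s, hs, hsc⟩ := h1
      -- y = c^N₀ x
      have hy1 : ∃ k : ℕ, I ^ k ≤ denomIdeal A (algebraMap A (FractionRing A) (c ^ N₀) * x) := by
        refine ⟨k, fun t ht => ?_⟩
        rw [mem_denomIdeal_smul]
        exact Ideal.mul_mem_right _ _ (hk ht)
      have hsub : badSet A I (algebraMap A (FractionRing A) (c ^ N₀) * x) ⊆ badSet A I x \ {q} := by
        rintro P ⟨hPQ, hPy⟩
        refine ⟨⟨hPQ, ?_⟩, ?_⟩
        · rintro ⟨t, ht, htx⟩
          apply hPy
          refine ⟨t, ht, ?_⟩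
          rw [mem_denomIdeal_smul]
          exact Ideal.mul_mem_right _ _ htx
        · rintro rfl
          apply hPy
          exact ⟨s, hs, by rw [mem_denomIdeal_smul]; exact hsc⟩
      have hcard' : (badSet A I (algebraMap A (FractionRing A) (c ^ N₀) * x)).ncard ≤ n := by
        have h2 := Set.ncard_le_ncard hsub (hfin.sdiff)
        have hqmem : q ∈ badSet A I x := ⟨⟨hqp, hIq, hqy⟩, hqx⟩
        have h3 := Set.ncard_sdiff_singleton_add_one hqmem hfin
        omega
      have h4 := ih _ hy1 hcard'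
      rw [mem_denomIdeal_smul] at h4
      have : c ^ ((n + 1) * N₀) = c ^ (n * N₀) * c ^ N₀ := by ring
      rw [this]
      exact h4

/-- **Local-to-global principle** for finiteness of `H^1_I(A)` over a Noetherian domain. -/
theorem finite_H1_of_forall_localCond (I : Ideal A) (hI : I ≠ ⊥)
    (h : ∀ q : Ideal A, q.IsPrime → I ≤ q → LocalCond A q) :
    Module.Finite A (LocCoh.H I 1 A) := by
  classical
  obtain ⟨c, hcI, hc⟩ := Submodule.exists_mem_ne_zero_of_ne_bot hI
  have hQfin := assSet_finite A I hI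
  have h1 : ∀ q ∈ assSet A I, ∃ N : ℕ, ∀ x : FractionRing A,
      (∃ k : ℕ, ∀ a ∈ q ^ k, a ∈ locDenomSet A q x) → ∀ a ∈ q ^ N, a ∈ locDenomSet A q x :=
    fun q hq => h q hq.1 hq.2.1
  choose! ν hν using h1
  have hN₀ : ∀ q ∈ assSet A I, ∀ x : FractionRing A,
      (∃ k : ℕ, ∀ a ∈ q ^ k, a ∈ locDenomSet A q x) →
        ∀ a ∈ q ^ (hQfin.toFinset.sup ν), a ∈ locDenomSet A q x := by
    intro q hq x hx a ha
    exact hν q hq x hx a
      (Ideal.pow_le_pow_right (Finset.le_sup (hQfin.mem_toFinset.mpr hq)) ha)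
  have hfin : Module.Finite A (openSectionsSubalgebra A I) := by
    refine finite_openSections_of_forall_mul_mem A I
      (c ^ ((assSet A I).ncard * hQfin.toFinset.sup ν)) (pow_ne_zero _ hc) (fun x hx => ?_)
    exact main_induction A I hI c hcI _ hN₀ _ x
      (exists_pow_le_denomIdeal_of_mem_openSections A I x hx)
      (Set.ncard_le_ncard (badSet_subset A I x) hQfin)
  exact finite_H1_of_finite_openSections A I hI hfin

/-- **Bridge**: finiteness of `H^1` of a model `R` of `A_q` at the extended ideal gives the local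
condition at `q`. -/
theorem localCond_of_finite_H1 (q : Ideal A) [hq : q.IsPrime] (hq0 : q ≠ ⊥) (R : Type u)
    [CommRing R] [Algebra A R] [IsLocalization.AtPrime R q]
    (hfin : Module.Finite R (LocCoh.H (q.map (algebraMap A R)) 1 R)) : LocalCond A q := by
  classical
  have hle : q.primeCompl ≤ nonZeroDivisors A := q.primeCompl_le_nonZeroDivisors
  haveI : IsDomain R := IsLocalization.isDomain_of_le_nonZeroDivisors (M := q.primeCompl) R hle
  haveI : IsNoetherianRing R := IsLocalization.isNoetherianRing q.primeCompl R inferInstance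
  have hinjR : Function.Injective (algebraMap A R) :=
    IsLocalization.injective (M := q.primeCompl) R hle
  have hunits : ∀ y : q.primeCompl, IsUnit (algebraMap A (FractionRing A) y) := by
    intro y
    apply IsUnit.mk0
    rw [Ne, map_eq_zero_iff _ (IsFractionRing.injective A (FractionRing A))]
    rintro h0
    exact y.2 (h0 ▸ q.zero_mem)
  letI : Algebra R (FractionRing A) :=
    (IsLocalization.lift (M := q.primeCompl) (S := R) (g := algebraMap A (FractionRing A))
      hunits).toAlgebra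
  haveI : IsScalarTower A R (FractionRing A) :=
    IsScalarTower.of_algebraMap_eq (fun x => (IsLocalization.lift_eq hunits x).symm)
  haveI : IsFractionRing R (FractionRing A) :=
    IsFractionRing.isFractionRing_of_isDomain_of_isLocalization q.primeCompl R (FractionRing A)
  have hJ0 : q.map (algebraMap A R) ≠ ⊥ := by
    obtain ⟨a, haq, ha0⟩ := Submodule.exists_mem_ne_zero_of_ne_bot hq0
    intro h0
    have : algebraMap A R a ∈ q.map (algebraMap A R) := Ideal.mem_map_of_mem _ haq
    rw [h0, Ideal.mem_bot] at this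
    exact ha0 (hinjR (this.trans (map_zero _).symm))
  obtain ⟨N, hN⟩ := exists_pow_mul_mem_range_of_finite_H1 R (q.map (algebraMap A R)) hJ0
    (FractionRing A) hfin
  refine ⟨N, fun x hx a ha => ?_⟩
  obtain ⟨k, hk⟩ := hx
  have hkey : ∀ a' ∈ (q.map (algebraMap A R)) ^ k, ∃ b : R,
      algebraMap R (FractionRing A) b = algebraMap R (FractionRing A) a' * x := by
    intro a' ha'
    rw [← Ideal.map_pow] at ha'
    change a' ∈ Ideal.span _ at ha'
    induction ha' using Submodule.span_induction with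
    | mem a' ha' =>
      obtain ⟨a₀, ha₀, rfl⟩ := ha'
      obtain ⟨s, hs, hsa⟩ := hk a₀ ha₀
      obtain ⟨b₀, hb₀⟩ := (mem_denomIdeal x (s * a₀)).mp hsa
      refine ⟨IsLocalization.mk' R b₀ (⟨s, hs⟩ : q.primeCompl), ?_⟩
      have hsK : algebraMap A (FractionRing A) s ≠ 0 := by
        rw [Ne, map_eq_zero_iff _ (IsFractionRing.injective A (FractionRing A))]
        rintro rfl
        exact hs q.zero_mem
      have h1 : IsLocalization.mk' R b₀ (⟨s, hs⟩ : q.primeCompl) * algebraMap A R s =
          algebraMap A R b₀ := IsLocalization.mk'_spec R b₀ ⟨s, hs⟩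
      have h2 := congrArg (algebraMap R (FractionRing A)) h1
      rw [map_mul, ← IsScalarTower.algebraMap_apply, ← IsScalarTower.algebraMap_apply, hb₀,
        map_mul] at h2
      rw [← IsScalarTower.algebraMap_apply]
      have h3 : algebraMap A (FractionRing A) s *
          algebraMap R (FractionRing A) (IsLocalization.mk' R b₀ (⟨s, hs⟩ : q.primeCompl)) =
          algebraMap A (FractionRing A) s * (algebraMap A (FractionRing A) a₀ * x) := by
        rw [mul_comm, h2]; ring
      exact mul_left_cancel₀ hsK h3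
    | zero => exact ⟨0, by rw [map_zero, zero_mul]⟩
    | add y z _ _ ihy ihz =>
      obtain ⟨b, hb⟩ := ihy
      obtain ⟨b', hb'⟩ := ihz
      exact ⟨b + b', by rw [map_add, map_add, hb, hb', add_mul]⟩
    | smul r y _ ih =>
      obtain ⟨b, hb⟩ := ih
      exact ⟨r * b, by rw [smul_eq_mul, map_mul, map_mul, hb, mul_assoc]⟩
  have ha' : algebraMap A R a ∈ (q.map (algebraMap A R)) ^ N := by
    rw [← Ideal.map_pow]
    exact Ideal.mem_map_of_mem _ ha
  obtain ⟨b, hb⟩ := hN x ⟨k, hkey⟩ _ ha'
  obtain ⟨⟨b₀, s⟩, hbs⟩ := IsLocalization.surj q.primeCompl b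
  simp only at hbs
  refine ⟨s.1, s.2, (mem_denomIdeal x (s.1 * a)).mpr ⟨b₀, ?_⟩⟩
  have h2 := congrArg (algebraMap R (FractionRing A)) hbs
  rw [map_mul, ← IsScalarTower.algebraMap_apply, ← IsScalarTower.algebraMap_apply, hb,
    ← IsScalarTower.algebraMap_apply] at h2
  rw [← h2, map_mul]
  ring

end Core

end Groth.Agent.Lib.Helper48
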