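import Mathlib
import Groth.Prelude
import Groth.Agent.Lib.Helper48.LocalGlobalH1

/-!
# Kollár's criterion for finiteness of `H^1_I(M)` (helper48)
-/

set_option autoImplicit false
set_option linter.style.haveILetI false
universe u

namespace Groth.Agent.Lib.Helper48

open LocCoh IsLocalRing
open scoped TensorProduct

/-- For a Noetherian local ring `R`: if every associated prime `P` of `R̂` has `dim R̂/P ≥ 2`,
then `H^1_m(R)` is finite. -/
theorem finite_H1_maximalIdeal_self_of_completion (R : Type u) [CommRing R] [IsNoetherianRing R]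
    [IsLocalRing R]
    (h : ∀ P ∈ associatedPrimes (EGA4.Cpl R) (EGA4.Cpl R),
      (2 : WithBot ℕ∞) ≤ ringKrullDim (EGA4.Cpl R ⧸ P)) :
    Module.Finite R (LocCoh.H (maximalIdeal R) 1 R) := by
  rw [← isCoherentPushCompl_iff_finite_H1, isCoherentPushCompl_maximalIdeal_iff_ass_completion]
  intro p' hp' _
  have e : (EGA4.Cpl R) ⊗[R] R ≃ₗ[EGA4.Cpl R] EGA4.Cpl R :=
    TensorProduct.AlgebraTensorModule.rid R (EGA4.Cpl R) (EGA4.Cpl R)
  rw [LinearEquiv.AssociatedPrimes.eq e] at hp'
  exact h p' hp'

/-- **Kollár's criterion, domain case** (Stacks 0BK3-type). -/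
theorem finite_H1_of_completion_assoc_dim_ge_two (A : Type u) [CommRing A] [IsDomain A]
    [IsNoetherianRing A] (I : Ideal A) (hI : I ≠ ⊥)
    (h : ∀ (q : PrimeSpectrum A), I ≤ q.asIdeal →
      ∀ P ∈ associatedPrimes (EGA4.Cpl (Localization.AtPrime q.asIdeal))
        (EGA4.Cpl (Localization.AtPrime q.asIdeal)),
        (2 : WithBot ℕ∞) ≤ ringKrullDim (EGA4.Cpl (Localization.AtPrime q.asIdeal) ⧸ P)) :
    Module.Finite A (LocCoh.H I 1 A) := by
  refine finite_H1_of_forall_localCond A I hI (fun q hq hIq => ?_)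
  haveI := hq
  have hq0 : q ≠ ⊥ := fun h0 => hI (le_bot_iff.mp (h0 ▸ hIq))
  refine localCond_of_finite_H1 A q hq0 (Localization.AtPrime q) ?_
  rw [Localization.AtPrime.map_eq_maximalIdeal]
  exact finite_H1_maximalIdeal_self_of_completion _ (h ⟨q, hq⟩ hIq)

/-- Variant with the completion taken along an ideal equal to the maximal ideal. -/
theorem finite_H1_maximalIdeal_self_of_completion' (R : Type u) [CommRing R] [IsNoetherianRing R]
    [IsLocalRing R] (J : Ideal R) (hJ : J = maximalIdeal R)
    (h : ∀ P ∈ associatedPrimes (AdicCompletion J R) (AdicCompletion J R),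
      (2 : WithBot ℕ∞) ≤ ringKrullDim (AdicCompletion J R ⧸ P)) :
    Module.Finite R (LocCoh.H (maximalIdeal R) 1 R) := by
  subst hJ
  exact finite_H1_maximalIdeal_self_of_completion R h

/-- **Kollár's criterion, sufficiency** (affine form). -/
theorem finite_H1_of_kollar_condition (A : Type u) [CommRing A] [IsNoetherianRing A] (I : Ideal A)
    (M : Type u) [AddCommGroup M] [Module A M] [Module.Finite A M]
    (h : ∀ p : Ideal A, p ∈ associatedPrimes A M → ¬ I ≤ p → ∀ (q : PrimeSpectrum A),
      p ≤ q.asIdeal → I ≤ q.asIdeal →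
      ∀ P ∈ associatedPrimes
        (AdicCompletion ((IsLocalRing.maximalIdeal (Localization.AtPrime q.asIdeal)).map
          (Ideal.Quotient.mk (p.map (algebraMap A (Localization.AtPrime q.asIdeal)))))
          (Localization.AtPrime q.asIdeal ⧸ p.map (algebraMap A (Localization.AtPrime q.asIdeal))))
        (AdicCompletion ((IsLocalRing.maximalIdeal (Localization.AtPrime q.asIdeal)).map
          (Ideal.Quotient.mk (p.map (algebraMap A (Localization.AtPrime q.asIdeal)))))
          (Localization.AtPrime q.asIdeal ⧸ p.map (algebraMap A (Localization.AtPrime q.asIdeal)))),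
        (2 : WithBot ℕ∞) ≤ ringKrullDim
          (AdicCompletion ((IsLocalRing.maximalIdeal (Localization.AtPrime q.asIdeal)).map
            (Ideal.Quotient.mk (p.map (algebraMap A (Localization.AtPrime q.asIdeal)))))
            (Localization.AtPrime q.asIdeal ⧸ p.map (algebraMap A (Localization.AtPrime q.asIdeal)))
            ⧸ P)) :
    Module.Finite A (LocCoh.H I 1 M) := by
  refine finite_H1_of_forall_associatedPrimes I M (fun p hp => ?_)
  haveI hpp : p.IsPrime := hp.isPrime
  by_cases hIp : I ≤ p
  · exact finite_H1_quotient_of_le I p hIp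
  rw [finite_H1_quotient_iff]
  have hI' : I.map (Ideal.Quotient.mk p) ≠ ⊥ := by
    intro h0
    rw [Ideal.map_eq_bot_iff_le_ker, Ideal.mk_ker] at h0
    exact hIp h0
  refine finite_H1_of_forall_localCond (A ⧸ p) _ hI' (fun Q hQ hI'Q => ?_)
  haveI := hQ
  have hQ0 : Q ≠ ⊥ := fun h0 => hI' (le_bot_iff.mp (h0 ▸ hI'Q))
  -- the prime of `A` below `Q`
  obtain ⟨q, hq⟩ : ∃ q : Ideal A, q = Q.comap (Ideal.Quotient.mk p) := ⟨_, rfl⟩
  haveI hqp : q.IsPrime := hq ▸ Ideal.comap_isPrime _ _
  have hpq : p ≤ q := by
    rw [hq]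
    intro a ha
    rw [Ideal.mem_comap, Ideal.Quotient.eq_zero_iff_mem.mpr ha]
    exact Q.zero_mem
  have hIq : I ≤ q := by
    rw [hq]
    exact Ideal.map_le_iff_le_comap.mp hI'Q
  have hM : Algebra.algebraMapSubmonoid (A ⧸ p) q.primeCompl = Q.primeCompl := by
    ext d
    constructor
    · rintro ⟨s, hs, rfl⟩
      intro hd
      apply hs
      rw [hq]
      exact hd
    · intro hd
      obtain ⟨a, rfl⟩ := Ideal.Quotient.mk_surjective d
      refine ⟨a, ?_, rfl⟩
      intro ha
      apply hd
      rw [hq] at ha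
      exact ha
  haveI hloc : IsLocalization.AtPrime
      (Localization.AtPrime q ⧸ p.map (algebraMap A (Localization.AtPrime q))) Q := by
    have : IsLocalization (Algebra.algebraMapSubmonoid (A ⧸ p) q.primeCompl)
      (Localization.AtPrime q ⧸ p.map (algebraMap A (Localization.AtPrime q))) := inferInstance
    rw [hM] at this
    exact this
  haveI : IsLocalRing (Localization.AtPrime q ⧸ p.map (algebraMap A (Localization.AtPrime q))) :=
    IsLocalization.AtPrime.isLocalRing _ Q
  refine localCond_of_finite_H1 (A ⧸ p) Q hQ0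
    (Localization.AtPrime q ⧸ p.map (algebraMap A (Localization.AtPrime q))) ?_
  rw [IsLocalization.AtPrime.map_eq_maximalIdeal Q
    (Localization.AtPrime q ⧸ p.map (algebraMap A (Localization.AtPrime q)))]
  have hne : p.map (algebraMap A (Localization.AtPrime q)) ≠ ⊤ := by
    intro htop
    have : Nontrivial (Localization.AtPrime q ⧸ p.map (algebraMap A (Localization.AtPrime q))) :=
      inferInstance
    exact (Ideal.Quotient.nontrivial_iff.mp this) htop
  exact finite_H1_maximalIdeal_self_of_completion' _ _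
    (maximalIdeal_map_quotient (Localization.AtPrime q) _ hne)
    (h p hp hIp ⟨q, hqp⟩ hpq hIq)

end Groth.Agent.Lib.Helper48
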