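import Mathlib
import Groth.Agent.Lib.Helper48.LimitSmooth

/-! Maps between base changes along a path system (helper48). -/

namespace Groth.Agent.Lib.Helper48

open TensorProduct

namespace AlgPathSystem

variable {ι : Type*} {R : Type*} [CommRing R] {T : ι → Type*}
  [∀ i, CommRing (T i)] [∀ i, Algebra R (T i)] {L : Type*} [CommRing L] [Algebra R L]
  {γ : ∀ i, T i →ₐ[R] L} {Tr : ∀ i j, (T i →ₐ[R] T j) → Prop}

variable {B C : Type*} [CommRing B] [CommRing C] [Algebra R B] [Algebra R C]

theorem dmap_natural' (u : B →ₐ[R] C) {S₁ S₂ : Type*} [CommRing S₁] [CommRing S₂] [Algebra R S₁]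
    [Algebra R S₂] (φ : S₁ →ₐ[R] S₂) (z : S₁ ⊗[R] B) :
    dmap C φ (Algebra.TensorProduct.map (AlgHom.id R S₁) u z) =
      Algebra.TensorProduct.map (AlgHom.id R S₂) u (dmap B φ z) := by
  induction z using TensorProduct.induction_on with
  | zero => simp
  | tmul t c => simp [dmap]
  | add x y hx hy => rw [map_add, map_add, map_add, map_add, hx, hy]

/-- Two maps `B → C` whose base changes to the colimit agree have equal base changes at a finite
stage (and all later ones), for `B` of finite type. -/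
theorem exists_map_eq [Algebra.FiniteType R B] (h : AlgPathSystem R T L γ Tr) (u u' : B →ₐ[R] C)
    (hL : Algebra.TensorProduct.map (AlgHom.id R L) u =
      Algebra.TensorProduct.map (AlgHom.id R L) u') (i₀ : ι) :
    ∃ i φ₀, Tr i₀ i φ₀ ∧ ∀ j φ, Tr i j φ →
      Algebra.TensorProduct.map (AlgHom.id R (T j)) u =
        Algebra.TensorProduct.map (AlgHom.id R (T j)) u' := by
  classical
  obtain ⟨s, hs⟩ := (Algebra.FiniteType.out : (⊤ : Subalgebra R B).FG)
  obtain ⟨i, φ₀, hφ₀, hi⟩ := h.kill_finset_tensor C i₀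
    (s.image fun b => (1 : T i₀) ⊗ₜ[R] u b - 1 ⊗ₜ u' b) (by
      intro y hy
      obtain ⟨b, -, rfl⟩ := Finset.mem_image.mp hy
      have := congr($hL (1 ⊗ₜ b))
      simp only [Algebra.TensorProduct.map_tmul, AlgHom.id_apply] at this
      rw [map_sub, dmap, Algebra.TensorProduct.map_tmul, Algebra.TensorProduct.map_tmul, map_one,
        AlgHom.id_apply, AlgHom.id_apply, this, sub_self])
  refine ⟨i, φ₀, hφ₀, fun j φ hφ => ?_⟩
  apply Algebra.TensorProduct.ext
  · ext t
    simp
  · refine AlgHom.ext_of_adjoin_eq_top hs fun b hb => ?_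
    have h1 := hi _ (Finset.mem_image_of_mem _ hb)
    have h2 := congrArg (dmap C φ) h1
    simp only [dmap, map_sub, Algebra.TensorProduct.map_tmul, map_one, AlgHom.id_apply, map_zero,
      sub_eq_zero] at h2
    simpa using h2

/-- A map `B → C` with `C` of finite type whose base change to the colimit is surjective has
surjective base change at a finite stage (and all later ones). -/
theorem exists_map_surjective [Algebra.FiniteType R C] (h : AlgPathSystem R T L γ Tr)
    (u : B →ₐ[R] C) (hL : Function.Surjective (Algebra.TensorProduct.map (AlgHom.id R L) u))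
    (i₀ : ι) :
    ∃ i φ₀, Tr i₀ i φ₀ ∧ ∀ j φ, Tr i j φ →
      Function.Surjective (Algebra.TensorProduct.map (AlgHom.id R (T j)) u) := by
  classical
  obtain ⟨s, hs⟩ := (Algebra.FiniteType.out : (⊤ : Subalgebra R C).FG)
  choose z hz using fun c : C => hL (1 ⊗ₜ c)
  obtain ⟨k, _, ⟨φ₁, hφ₁, rfl⟩, hk⟩ := (h.rTensor B).lift_finset (s.image z) i₀
  choose! w hw using hk
  obtain ⟨i, φ₂, hφ₂, hi⟩ := h.kill_finset_tensor C k
    (s.image fun c => Algebra.TensorProduct.map (AlgHom.id R (T k)) u (w (z c)) - 1 ⊗ₜ c) (by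
      intro y hy
      obtain ⟨c, hc, rfl⟩ := Finset.mem_image.mp hy
      rw [map_sub, dmap_natural', hw _ (Finset.mem_image_of_mem _ hc), hz]
      simp [dmap])
  refine ⟨i, φ₂.comp φ₁, h.trans hφ₁ hφ₂, fun j φ hφ => ?_⟩
  have hfun : ∀ x, Algebra.TensorProduct.map (AlgHom.id (T j) (T j)) u x =
      Algebra.TensorProduct.map (AlgHom.id R (T j)) u x := by
    intro x
    induction x using TensorProduct.induction_on with
    | zero => simp
    | tmul t c => simp
    | add x y hx hy => rw [map_add, map_add, hx, hy]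
  have htop := Algebra.TensorProduct.adjoin_one_tmul_image_eq_top (A := T j) (s : Set C) hs
  have hrange : (Algebra.TensorProduct.map (AlgHom.id (T j) (T j)) u).range = ⊤ := by
    rw [eq_top_iff, ← htop, Algebra.adjoin_le_iff]
    rintro _ ⟨c, hc, rfl⟩
    have h1 := hi _ (Finset.mem_image_of_mem _ hc)
    have h2 := congrArg (dmap C φ) h1
    rw [map_sub, map_sub, map_zero, sub_eq_zero, dmap_natural', dmap_natural'] at h2
    refine ⟨dmap B φ (dmap B φ₂ (w (z c))), ?_⟩
    change Algebra.TensorProduct.map (AlgHom.id (T j) (T j)) u _ = (1 : T j) ⊗ₜ[R] c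
    rw [hfun, h2]
    simp [dmap]
  intro y
  obtain ⟨x, hx⟩ := (hrange ▸ Algebra.mem_top : y ∈ (Algebra.TensorProduct.map
    (AlgHom.id (T j) (T j)) u).range)
  exact ⟨x, by rw [← hfun]; exact hx⟩

end AlgPathSystem

section DirectLimit

variable {ι : Type*} [Preorder ι] [Nonempty ι] [IsDirectedOrder ι] (G : ι → Type*)
  [∀ i, CommRing (G i)] (f : ∀ i j, i ≤ j → G i →+* G j)
  [DirectedSystem G (fun i j h => f i j h)]
  (A : Type*) [CommRing A] [∀ i, Algebra A (G i)]

/-- The transition maps of a directed system of `A`-algebras as algebra maps. -/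
def dlTrans (hf : ∀ i j (h : i ≤ j), (f i j h).comp (algebraMap A (G i)) = algebraMap A (G j))
    {i j : ι} (h : i ≤ j) : G i →ₐ[A] G j :=
  { f i j h with commutes' := fun a => congr($(hf i j h) a) }

variable [Algebra A (Ring.DirectLimit G (fun i j h => f i j h))]

omit [Nonempty ι] [DirectedSystem G (fun i j h => f i j h)] in
theorem dl_commutes
    (hf : ∀ i j (h : i ≤ j), (f i j h).comp (algebraMap A (G i)) = algebraMap A (G j)) (l : ι)
    (halg : algebraMap A (Ring.DirectLimit G (fun i j h => f i j h)) =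
      (Ring.DirectLimit.of G (fun i j h => f i j h) l).comp (algebraMap A (G l)))
    (i : ι) (a : A) :
    Ring.DirectLimit.of G (fun i j h => f i j h) i (algebraMap A (G i) a) =
      algebraMap A (Ring.DirectLimit G (fun i j h => f i j h)) a := by
  obtain ⟨k, hik, hlk⟩ := directed_of (· ≤ ·) i l
  rw [halg, RingHom.comp_apply, ← Ring.DirectLimit.of_f (f := fun i j h => f i j h) hik,
    ← Ring.DirectLimit.of_f (f := fun i j h => f i j h) hlk]
  have h1 := congr($(hf i k hik) a)
  have h2 := congr($(hf l k hlk) a)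
  simp only [RingHom.comp_apply] at h1 h2
  rw [h1, h2]

/-- The canonical maps to the direct limit as algebra maps. -/
noncomputable def dlOf
    (hf : ∀ i j (h : i ≤ j), (f i j h).comp (algebraMap A (G i)) = algebraMap A (G j)) (l : ι)
    (halg : algebraMap A (Ring.DirectLimit G (fun i j h => f i j h)) =
      (Ring.DirectLimit.of G (fun i j h => f i j h) l).comp (algebraMap A (G l)))
    (i : ι) : G i →ₐ[A] Ring.DirectLimit G (fun i j h => f i j h) :=
  { Ring.DirectLimit.of G (fun i j h => f i j h) i with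
    commutes' := fun a => dl_commutes G f A hf l halg i a }

theorem algPathSystem_directLimit
    (hf : ∀ i j (h : i ≤ j), (f i j h).comp (algebraMap A (G i)) = algebraMap A (G j)) (l : ι)
    (halg : algebraMap A (Ring.DirectLimit G (fun i j h => f i j h)) =
      (Ring.DirectLimit.of G (fun i j h => f i j h) l).comp (algebraMap A (G l))) :
    AlgPathSystem A G (Ring.DirectLimit G (fun i j h => f i j h)) (dlOf G f A hf l halg)
      (fun i j φ => ∃ h : i ≤ j, φ = dlTrans G f A hf h) := by
  refine ⟨?_, ?_, ?_, ?_, ?_⟩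
  · rintro i j _ ⟨h, rfl⟩
    ext x
    exact Ring.DirectLimit.of_f (f := fun i j h => f i j h) h x
  · rintro i j k _ _ ⟨h₁, rfl⟩ ⟨h₂, rfl⟩
    refine ⟨h₁.trans h₂, ?_⟩
    ext x
    exact DirectedSystem.map_map (f := fun i j h => f i j h) h₁ h₂ x
  · intro i j
    obtain ⟨k, hik, hjk⟩ := directed_of (· ≤ ·) i j
    exact ⟨k, _, _, ⟨hik, rfl⟩, ⟨hjk, rfl⟩⟩
  · intro n
    obtain ⟨i, x, hx⟩ := Ring.DirectLimit.exists_of n
    exact ⟨i, x, hx⟩
  · intro i x hx
    obtain ⟨j, hij, hj⟩ := Ring.DirectLimit.of.zero_exact (f' := f) hx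
    exact ⟨j, _, ⟨hij, rfl⟩, hj⟩

end DirectLimit

end Groth.Agent.Lib.Helper48
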