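import Mathlib
import Groth.Agent.Lib.Helper9.Hens.FibreRing

/-!
# Localizing an algebra covered by étale algebras (helper48)

For an `A`-algebra `B` and a prime `n` of `B` with `m = n ∩ A`, we study the local homomorphism
`A_m → B_n` (generalizing helper8's `H8/AdicMaxLocal` from the adic completion to any algebra).
-/

set_option autoImplicit false
set_option linter.style.haveILetI false
set_option linter.unusedSectionVars false
universe u

open IsLocalRing TensorProduct

namespace Groth.Agent.Lib.Helper48.LocCover

open Groth.Agent.Lib.Helper9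

variable (A B : Type u) [CommRing A] [CommRing B] [Algebra A B] (n : Ideal B) [hn : n.IsPrime]

/-- the canonical algebra structure `A_m → B_n`, `m = n ∩ A` -/
noncomputable abbrev locAlgebra :
    Algebra (Localization.AtPrime (n.comap (algebraMap A B))) (Localization.AtPrime n) :=
  (Localization.localRingHom (n.comap (algebraMap A B)) n (algebraMap A B) rfl).toAlgebra

theorem isScalarTower_loc :
    letI := locAlgebra A B n
    IsScalarTower A (Localization.AtPrime (n.comap (algebraMap A B))) (Localization.AtPrime n) := by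
  letI := locAlgebra A B n
  refine IsScalarTower.of_algebraMap_eq fun a => ?_
  change _ = Localization.localRingHom _ n (algebraMap A B) rfl (algebraMap A _ a)
  rw [Localization.localRingHom_to_map]
  rfl

theorem isLocalHom_loc :
    letI := locAlgebra A B n
    IsLocalHom (algebraMap (Localization.AtPrime (n.comap (algebraMap A B)))
      (Localization.AtPrime n)) :=
  Localization.isLocalHom_localRingHom _ _ _ rfl

theorem map_maximalIdeal_loc (h1 : (n.comap (algebraMap A B)).map (algebraMap A B) = n) :
    letI := locAlgebra A B n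
    (maximalIdeal (Localization.AtPrime (n.comap (algebraMap A B)))).map
      (algebraMap (Localization.AtPrime (n.comap (algebraMap A B)))
        (Localization.AtPrime n)) = maximalIdeal (Localization.AtPrime n) := by
  letI := locAlgebra A B n
  haveI := isScalarTower_loc A B n
  rw [← Localization.AtPrime.map_eq_maximalIdeal, ← Localization.AtPrime.map_eq_maximalIdeal,
    Ideal.map_map, ← IsScalarTower.algebraMap_eq,
    IsScalarTower.algebraMap_eq A B (Localization.AtPrime n), ← Ideal.map_map, h1]

theorem residueField_map_bijective_loc (h2 : ∀ b : B, ∃ a : A, b - algebraMap A B a ∈ n) :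
    letI := locAlgebra A B n
    haveI : IsLocalHom (algebraMap (Localization.AtPrime (n.comap (algebraMap A B)))
      (Localization.AtPrime n)) := isLocalHom_loc A B n
    Function.Bijective (ResidueField.map (algebraMap
      (Localization.AtPrime (n.comap (algebraMap A B))) (Localization.AtPrime n))) := by
  letI := locAlgebra A B n
  haveI : IsLocalHom (algebraMap (Localization.AtPrime (n.comap (algebraMap A B)))
      (Localization.AtPrime n)) := isLocalHom_loc A B n
  haveI := isScalarTower_loc A B n
  refine ⟨RingHom.injective _, fun x => ?_⟩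
  obtain ⟨y, rfl⟩ := residue_surjective x
  obtain ⟨b, s, rfl⟩ := IsLocalization.exists_mk'_eq n.primeCompl y
  obtain ⟨a, ha⟩ := h2 b
  obtain ⟨a', ha'⟩ := h2 (s : B)
  have ha'm : a' ∈ (n.comap (algebraMap A B)).primeCompl := by
    intro h
    have h1 : algebraMap A B a' ∈ n := h
    have h2 := n.add_mem ha' h1
    rw [sub_add_cancel] at h2
    exact s.2 h2
  refine ⟨residue _ (IsLocalization.mk' _ a ⟨a', ha'm⟩), ?_⟩
  rw [ResidueField.map_residue]
  rw [← sub_eq_zero, ← map_sub, residue_eq_zero_iff]
  change Localization.localRingHom _ n (algebraMap A B) rfl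
    (IsLocalization.mk' _ a ⟨a', ha'm⟩) - _ ∈ _
  rw [Localization.localRingHom_mk', ← IsLocalization.mk'_sub,
    IsLocalization.AtPrime.mk'_mem_maximal_iff (Localization.AtPrime n) n]
  have e : algebraMap A B a * (s : B) - b * algebraMap A B a' =
      algebraMap A B a * ((s : B) - algebraMap A B a') -
      (b - algebraMap A B a) * algebraMap A B a' := by ring
  change algebraMap A B a * (s : B) - b * algebraMap A B a' ∈ n
  rw [e]
  exact n.sub_mem (n.mul_mem_left _ ha') (n.mul_mem_right _ ha)

theorem flat_loc [Module.Flat A B] :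
    letI := locAlgebra A B n
    Module.Flat (Localization.AtPrime (n.comap (algebraMap A B))) (Localization.AtPrime n) := by
  letI := locAlgebra A B n
  haveI : n.LiesOver (n.comap (algebraMap A B)) := ⟨rfl⟩
  haveI : Localization.AtPrime.IsLiesOverAlgebra (n.comap (algebraMap A B)) n := ⟨rfl⟩
  infer_instance

set_option maxHeartbeats 800000 in
/-- Being covered by étale algebras passes to localizations. -/
theorem isEtaleCoveredFin_loc (h : IsEtaleCoveredFin A B) :
    letI := locAlgebra A B n
    IsEtaleCoveredFin (Localization.AtPrime (n.comap (algebraMap A B)))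
      (Localization.AtPrime n) := by
  letI := locAlgebra A B n
  haveI := isScalarTower_loc A B n
  intro l x
  classical
  choose b s hbs using fun i => IsLocalization.exists_mk'_eq n.primeCompl (x i)
  let y : Fin (l + l) → B := Fin.append b (fun i => (s i : B))
  obtain ⟨E, _, _, _, φ, hφ⟩ := h (l + l) y
  have hφ1 : ∀ i : Fin l, ∃ β : E, φ β = b i := fun i => by
    obtain ⟨β, hβ⟩ := hφ (Fin.castAdd l i)
    exact ⟨β, by
      have h1 : φ β = y (Fin.castAdd l i) := hβ
      rw [h1]; exact Fin.append_left b _ i⟩
  have hφ2 : ∀ i : Fin l, ∃ σ : E, φ σ = (s i : B) := fun i => by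
    obtain ⟨σ, hσ⟩ := hφ (Fin.natAdd l i)
    exact ⟨σ, by
      have h1 : φ σ = y (Fin.natAdd l i) := hσ
      rw [h1]; exact Fin.append_right b _ i⟩
  choose β hβ using hφ1
  choose σ hσ using hφ2
  set σ₀ : E := ∏ i, σ i with hσ₀
  -- the map `E_σ₀ → B_n`
  have hσ₀n : φ σ₀ ∈ n.primeCompl := by
    rw [hσ₀, map_prod]
    refine Submonoid.prod_mem _ fun i _ => ?_
    rw [hσ i]
    exact (s i).2
  have hunit : ∀ z : Submonoid.powers σ₀,
      IsUnit (((IsScalarTower.toAlgHom A B (Localization.AtPrime n)).comp φ) z) := by
    rintro ⟨_, k, rfl⟩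
    show IsUnit (algebraMap B (Localization.AtPrime n) (φ (σ₀ ^ k)))
    rw [map_pow, map_pow]
    exact (IsLocalization.map_units (Localization.AtPrime n) ⟨φ σ₀, hσ₀n⟩).pow k
  let ψ : Localization.Away σ₀ →ₐ[A] Localization.AtPrime n :=
    IsLocalization.liftAlgHom (M := Submonoid.powers σ₀) hunit
  have hψ : ∀ e : E, ψ (algebraMap E (Localization.Away σ₀) e) =
      algebraMap B (Localization.AtPrime n) (φ e) := by
    intro e
    show IsLocalization.lift hunit (algebraMap E (Localization.Away σ₀) e) = _
    rw [IsLocalization.lift_eq]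
    rfl
  let Ψ : (Localization.AtPrime (n.comap (algebraMap A B))) ⊗[A] (Localization.Away σ₀)
      →ₐ[Localization.AtPrime (n.comap (algebraMap A B))] Localization.AtPrime n :=
    Algebra.TensorProduct.lift (Algebra.ofId _ _) ψ (fun _ _ => Commute.all _ _)
  refine ⟨(Localization.AtPrime (n.comap (algebraMap A B))) ⊗[A] (Localization.Away σ₀),
    inferInstance, inferInstance, inferInstance, Ψ, fun i => ?_⟩
  -- `σ i` is a unit in `E_σ₀`
  have hui : IsUnit (algebraMap E (Localization.Away σ₀) (σ i)) := by
    refine isUnit_of_dvd_unit (map_dvd _ (Finset.dvd_prod_of_mem σ (Finset.mem_univ i)))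
      (IsLocalization.Away.algebraMap_isUnit σ₀)
  refine ⟨1 ⊗ₜ (algebraMap E (Localization.Away σ₀) (β i) * ↑(hui.unit⁻¹)), ?_⟩
  show Ψ (1 ⊗ₜ (algebraMap E (Localization.Away σ₀) (β i) * ↑(hui.unit⁻¹))) = x i
  rw [← hbs i, IsLocalization.eq_mk'_iff_mul_eq]
  have h1 : Ψ (1 ⊗ₜ (algebraMap E (Localization.Away σ₀) (β i) * ↑(hui.unit⁻¹))) =
      ψ (algebraMap E (Localization.Away σ₀) (β i) * ↑(hui.unit⁻¹)) := by
    simp [Ψ]
  rw [h1, ← hσ i, ← hψ (σ i), ← map_mul, mul_assoc]
  have h2 : (↑(hui.unit⁻¹) : Localization.Away σ₀) * algebraMap E (Localization.Away σ₀) (σ i) = 1 := by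
    have := hui.unit.inv_mul
    rwa [IsUnit.unit_spec] at this
  rw [h2, mul_one, hψ, hβ]

end Groth.Agent.Lib.Helper48.LocCover
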