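import Mathlib
import Groth.Agent.Lib.Helper48.NagataLocal
import Groth.Agent.Lib.Helper48.SchemeImage2

universe u

namespace Groth.Agent.Lib.Helper48

open AlgebraicGeometry CategoryTheory

/-- For a prime `p` of the coordinate ring of an affine open `U` of `X`, the closure of the
corresponding point with its reduced structure is an integral closed subscheme of `X` whose sections
over (the preimage of) `U` are `Γ(X, U) ⧸ p`. -/
theorem exists_integral_closedSubscheme (X : Scheme.{u}) (U : X.Opens) (hU : IsAffineOpen U)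
    (p : Ideal Γ(X, U)) [hp : p.IsPrime] :
    ∃ (Z : Scheme.{u}) (i : Z ⟶ X) (_ : IsClosedImmersion i) (_ : IsIntegral Z)
      (_ : Nonempty (i ⁻¹ᵁ U)), IsAffineOpen (i ⁻¹ᵁ U) ∧ Nonempty (Γ(X, U) ⧸ p ≃+* Γ(Z, i ⁻¹ᵁ U)) := by
  obtain ⟨x, hx⟩ : ∃ x : X, x = hU.fromSpec ⟨p, hp⟩ := ⟨_, rfl⟩
  obtain ⟨C, hC⟩ : ∃ C : TopologicalSpace.Closeds X, C = ⟨closure {x}, isClosed_closure⟩ := ⟨_, rfl⟩
  obtain ⟨I, hI⟩ : ∃ I : X.IdealSheafData, I = Scheme.IdealSheafData.vanishingIdeal C := ⟨_, rfl⟩
  have hrange : Set.range I.subschemeι = closure {x} := by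
    rw [I.range_subschemeι, hI, Scheme.IdealSheafData.coe_support_vanishingIdeal, hC]
    rfl
  haveI : IsReduced I.subscheme := isReduced_subscheme_of_isRadical I (fun V => by
    rw [hI, Scheme.IdealSheafData.vanishingIdeal_ideal]
    exact PrimeSpectrum.isRadical_vanishingIdeal _)
  haveI : IrreducibleSpace I.subscheme := by
    have e : I.subscheme ≃ₜ Set.range I.subschemeι :=
      I.subschemeι.isEmbedding.toHomeomorph
    rw [e.irreducibleSpace_iff, hrange]
    exact Subtype.irreducibleSpace isIrreducible_singleton.closure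
  haveI : IsIntegral I.subscheme := isIntegral_of_irreducibleSpace_of_isReduced _
  have hker : RingHom.ker (I.subschemeι.app U).hom = p := by
    rw [I.ker_subschemeι_app ⟨U, hU⟩, hI, Scheme.IdealSheafData.vanishingIdeal_ideal]
    have h1 : hU.fromSpec ⁻¹' (C : Set X) = closure {(⟨p, hp⟩ : PrimeSpectrum Γ(X, U))} := by
      rw [hC]
      show hU.fromSpec ⁻¹' (closure {x}) = _
      rw [hU.fromSpec.isOpenEmbedding.isOpenMap.preimage_closure_eq_closure_preimage
        hU.fromSpec.continuous]
      congr 1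
      ext y
      simp only [Set.mem_preimage, Set.mem_singleton_iff, hx]
      exact ⟨fun h => hU.fromSpec.isOpenEmbedding.injective h, fun h => by rw [h]⟩
    refine (congrArg PrimeSpectrum.vanishingIdeal h1).trans ?_
    rw [PrimeSpectrum.vanishingIdeal_closure, PrimeSpectrum.vanishingIdeal_singleton]
  have hxU : x ∈ U := by
    have := Set.mem_range_self (f := hU.fromSpec) ⟨p, hp⟩
    rw [hU.range_fromSpec] at this
    rw [hx]
    exact this
  have hxr : x ∈ Set.range I.subschemeι := hrange ▸ subset_closure (Set.mem_singleton x)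
  obtain ⟨z, hz⟩ := hxr
  refine ⟨I.subscheme, I.subschemeι, inferInstance, inferInstance,
    ⟨⟨z, show I.subschemeι z ∈ U from hz ▸ hxU⟩⟩, hU.preimage I.subschemeι, ⟨?_⟩⟩
  exact (Ideal.quotEquivOfEq hker.symm).trans
    (RingHom.quotientKerEquivOfSurjective (I.subschemeι.app_surjective U hU))

end Groth.Agent.Lib.Helper48
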