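import Mathlib
import Groth.Prelude
import Groth.Agent.Lib.Helper48.NagataNormalization
import Groth.Agent.Lib.Helper48.Japanese

set_option autoImplicit false
set_option linter.style.haveILetI false
universe u
open CategoryTheory AlgebraicGeometry

namespace Groth.Agent.Lib.Helper48

/-- The normalization of an integral scheme is finite as soon as the rings of sections of its
nonempty affine opens are N-1. -/
theorem isFinite_normalizationι_of_isN1 (X : Scheme.{u}) [IsIntegral X]
    [QuasiCompact (X.fromSpecStalk (genericPoint X))]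
    [QuasiSeparated (X.fromSpecStalk (genericPoint X))]
    (h : ∀ (U : X.Opens) (_ : IsAffineOpen U) [Nonempty U], CAlg.IsN1 Γ(X, U)) :
    IsFinite (Curv2.normalizationι X) := by
  unfold Curv2.normalizationι
  refine isFinite_fromNormalization_of_finite _ (fun U hU => ?_)
  by_cases hne : (U : Set X).Nonempty
  · haveI : Nonempty U := hne.to_subtype
    have hgen : genericPoint X ∈ U :=
      ((genericPoint_spec X).mem_open_set_iff U.isOpen).mpr (by simpa using hne)
    haveI := functionField_isFractionRing_of_isAffineOpen X U hU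
    have hN1 : Module.Finite Γ(X, U) (integralClosure Γ(X, U) (FractionRing Γ(X, U))) := h U hU
    have h1 : Module.Finite Γ(X, U) (integralClosure Γ(X, U) X.functionField) :=
      finite_integralClosure_of_algEquiv (FractionRing.algEquiv Γ(X, U) X.functionField) hN1
    -- identify `Γ(Spec K, j⁻¹ U)` with `K`
    have hle : (⊤ : (Spec (X.presheaf.stalk (genericPoint X))).Opens) ≤
        (X.fromSpecStalk (genericPoint X)) ⁻¹ᵁ U := by
      intro y _
      show X.fromSpecStalk (genericPoint X) y ∈ U
      have h2 : X.fromSpecStalk (genericPoint X) y ⤳ genericPoint X := by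
        have : X.fromSpecStalk (genericPoint X) y ∈ Set.range (X.fromSpecStalk (genericPoint X)) :=
          ⟨y, rfl⟩
        rw [Scheme.range_fromSpecStalk] at this
        exact this
      exact h2.mem_open U.isOpen hgen
    obtain ⟨eIso, heIso⟩ : ∃ eIso : X.presheaf.stalk (genericPoint X) ≅
        Γ(Spec (X.presheaf.stalk (genericPoint X)), (X.fromSpecStalk (genericPoint X)) ⁻¹ᵁ U),
        eIso.hom = (Scheme.ΓSpecIso (X.presheaf.stalk (genericPoint X))).inv ≫
          (Spec (X.presheaf.stalk (genericPoint X))).presheaf.map (homOfLE le_top).op := by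
      refine ⟨(Scheme.ΓSpecIso (X.presheaf.stalk (genericPoint X))).symm ≪≫
        ⟨(Spec (X.presheaf.stalk (genericPoint X))).presheaf.map (homOfLE le_top).op,
         (Spec (X.presheaf.stalk (genericPoint X))).presheaf.map (homOfLE hle).op, ?_, ?_⟩, rfl⟩
      · rw [← Functor.map_comp]
        have : (homOfLE (le_top : (X.fromSpecStalk (genericPoint X)) ⁻¹ᵁ U ≤ ⊤)).op ≫
            (homOfLE hle).op = 𝟙 _ := Quiver.Hom.unop_inj (Subsingleton.elim _ _)
        rw [this, CategoryTheory.Functor.map_id]
      · rw [← Functor.map_comp]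
        have : (homOfLE hle).op ≫
            (homOfLE (le_top : (X.fromSpecStalk (genericPoint X)) ⁻¹ᵁ U ≤ ⊤)).op = 𝟙 _ :=
          Quiver.Hom.unop_inj (Subsingleton.elim _ _)
        rw [this, CategoryTheory.Functor.map_id]
    have happ := Scheme.fromSpecStalk_app (X := X) (U := U) (x := genericPoint X) hgen
    letI := ((X.fromSpecStalk (genericPoint X)).app U).hom.toAlgebra
    let eAlg : X.functionField ≃ₐ[Γ(X, U)]
        Γ(Spec (X.presheaf.stalk (genericPoint X)), (X.fromSpecStalk (genericPoint X)) ⁻¹ᵁ U) :=
      AlgEquiv.ofRingEquiv (f := eIso.commRingCatIsoToRingEquiv) (fun x => by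
        show eIso.hom.hom ((X.presheaf.germ U (genericPoint X) _).hom x) =
          ((X.fromSpecStalk (genericPoint X)).app U).hom x
        rw [happ, heIso]
        rfl)
    exact finite_integralClosure_of_algEquiv eAlg h1
  · have hbot : U = ⊥ := by
      ext x
      simp only [TopologicalSpace.Opens.coe_bot, Set.mem_empty_iff_false, iff_false]
      exact fun hx => hne ⟨x, hx⟩
    subst hbot
    letI := ((X.fromSpecStalk (genericPoint X)).app ⊥).hom.toAlgebra
    haveI : Subsingleton (integralClosure Γ(X, (⊥ : X.Opens))
        Γ(Spec (X.presheaf.stalk (genericPoint X)), X.fromSpecStalk (genericPoint X) ⁻¹ᵁ ⊥)) :=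
      Module.subsingleton Γ(X, (⊥ : X.Opens)) _
    exact Module.Finite.of_finite

end Groth.Agent.Lib.Helper48
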