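import Mathlib
import Groth.Prelude
import Groth.Agent.Lib.Helper48.NormalizationN1
import Groth.Agent.Lib.Helper48.CompletionN1
import Groth.Agent.Lib.Helper48.FieldJapanese
import Groth.Agent.Lib.Helper55.PullbackChart
import Groth.Agent.Lib.Helper50.StalkBC

set_option autoImplicit false
set_option linter.style.haveILetI false
universe u
open CategoryTheory CategoryTheory.Limits AlgebraicGeometry TensorProduct IsLocalRing

namespace Groth.Agent.Lib.Helper48

/-- If `t` is a nonzerodivisor of `C` and all localizations of `C` at primes not containing `t` are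
reduced, then `C` is reduced. -/
theorem isReduced_of_isReduced_atPrime_of_notMem {C : Type*} [CommRing C] (t : C)
    (ht : t ∈ nonZeroDivisors C)
    (h : ∀ (P : Ideal C) [P.IsPrime], t ∉ P → IsReduced (Localization.AtPrime P)) :
    IsReduced C := by
  refine ⟨fun c hc => ?_⟩
  obtain ⟨I, hI⟩ : ∃ I : Ideal C, ∀ s, s ∈ I ↔ s * c = 0 :=
    ⟨LinearMap.ker (LinearMap.toSpanSingleton C C c), fun s => by
      rw [LinearMap.mem_ker, LinearMap.toSpanSingleton_apply, smul_eq_mul]⟩
  have hrad : t ∈ I.radical := by
    by_contra htr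
    rw [Ideal.radical_eq_sInf, Ideal.mem_sInf] at htr
    push Not at htr
    obtain ⟨P, ⟨hIP, hP⟩, htP⟩ := htr
    haveI := hP
    haveI := h P htP
    have h0 : algebraMap C (Localization.AtPrime P) c = 0 := (hc.map _).eq_zero
    rw [IsLocalization.map_eq_zero_iff P.primeCompl] at h0
    obtain ⟨s, hs⟩ := h0
    exact s.2 (hIP ((hI _).mpr hs))
  obtain ⟨k, hk⟩ := hrad
  rw [hI] at hk
  exact (mul_right_mem_nonZeroDivisors_eq_zero_iff (pow_mem ht k)).mp (by rwa [mul_comm] at hk)

/-- A domain of finite type over a Noetherian local ring `A` on which the maximal ideal of `A`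
vanishes is N-1. -/
theorem isN1_of_finiteType_of_maximalIdeal_eq_zero {A B : Type u} [CommRing A] [IsLocalRing A]
    [CommRing B] [IsDomain B] [Algebra A B] [Algebra.FiniteType A B]
    (h : ∀ a ∈ maximalIdeal A, algebraMap A B a = 0) : CAlg.IsN1 B := by
  letI : Algebra (ResidueField A) B :=
    (Ideal.Quotient.lift (maximalIdeal A) (algebraMap A B) h).toAlgebra
  haveI : IsScalarTower A (ResidueField A) B := IsScalarTower.of_algebraMap_eq (fun x => rfl)
  haveI : Algebra.FiniteType (ResidueField A) B :=
    Algebra.FiniteType.of_restrictScalars_finiteType A (ResidueField A) B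
  exact finite_integralClosure_of_finiteType_field (ResidueField A) B (FractionRing B)
    (FractionRing B)

/-- Normalization is finite when the base change to the completion is normal off the closed
fibre. -/
theorem isFinite_normalizationι_of_normal_off_closedFibre (A : Type u) [CommRing A]
    [IsLocalRing A] [IsNoetherianRing A]
    (X : Scheme.{u}) [IsIntegral X] (f : X ⟶ Spec (CommRingCat.of A)) [LocallyOfFiniteType f]
    [QuasiCompact (X.fromSpecStalk (genericPoint X))]
    [QuasiSeparated (X.fromSpecStalk (genericPoint X))]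
    (hY : ∀ y : ↥(Curv2.bcCpl A f),
      (Curv2.bcCplSnd A f).base y ≠ IsLocalRing.closedPoint (Curv2.cpl A) →
      IsDomain ((Curv2.bcCpl A f).presheaf.stalk y) ∧
        IsIntegrallyClosed ((Curv2.bcCpl A f).presheaf.stalk y)) :
    IsFinite (Curv2.normalizationι X) := by
  refine isFinite_normalizationι_of_isN1 X (fun V hV _ => ?_)
  haveI : IsOpenImmersion hV.fromSpec := hV.isOpenImmersion_fromSpec
  obtain ⟨ψ, hψ⟩ : ∃ ψ : CommRingCat.of A ⟶ Γ(X, V), Spec.map ψ = hV.fromSpec ≫ f :=
    ⟨Spec.preimage _, Spec.map_preimage _⟩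
  letI : Algebra A Γ(X, V) := ψ.hom.toAlgebra
  have hft : ψ.hom.FiniteType := by
    rw [← HasRingHomProperty.Spec_iff (P := @LocallyOfFiniteType), hψ]; infer_instance
  haveI : Algebra.FiniteType A Γ(X, V) := hft
  by_cases hcase : ∀ a ∈ maximalIdeal A, algebraMap A Γ(X, V) a = 0
  · exact isN1_of_finiteType_of_maximalIdeal_eq_zero (A := A) hcase
  · push Not at hcase
    obtain ⟨a, ham, ha0⟩ := hcase
    refine isN1_of_isReduced_tensor_adicCompletion (A := A) ?_
    haveI : IsNoetherianRing (AdicCompletion (maximalIdeal A) A) :=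
      Groth.Agent.S0543.result A (maximalIdeal A)
    have hnzd : algebraMap Γ(X, V) (Γ(X, V) ⊗[A] AdicCompletion (maximalIdeal A) A)
        (algebraMap A Γ(X, V) a) ∈
        nonZeroDivisors (Γ(X, V) ⊗[A] AdicCompletion (maximalIdeal A) A) := by
      have hreg : IsSMulRegular (Γ(X, V) ⊗[A] AdicCompletion (maximalIdeal A) A)
          (algebraMap Γ(X, V) (Γ(X, V) ⊗[A] AdicCompletion (maximalIdeal A) A)
            (algebraMap A Γ(X, V) a)) :=
        IsSMulRegular.of_flat (fun x y hxy => mul_left_cancel₀ ha0 hxy)
      rw [mem_nonZeroDivisors_iff_right]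
      intro z hz
      apply hreg
      simpa [mul_comm] using hz
    refine isReduced_of_isReduced_atPrime_of_notMem _ hnzd (fun P hP htP => ?_)
    -- the chart
    have ha : hV.fromSpec ≫ f = Spec.map (CommRingCat.ofHom (algebraMap A Γ(X, V))) := hψ.symm
    have hb : 𝟙 (Spec (CommRingCat.of (AdicCompletion (maximalIdeal A) A))) ≫
        Spec.map (CommRingCat.ofHom (algebraMap A (AdicCompletion (maximalIdeal A) A))) =
        Spec.map (CommRingCat.ofHom (algebraMap A (AdicCompletion (maximalIdeal A) A))) :=
      Category.id_comp _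
    obtain ⟨j, hjdef⟩ : ∃ j : Spec (CommRingCat.of
        (Γ(X, V) ⊗[A] AdicCompletion (maximalIdeal A) A)) ⟶ Curv2.bcCpl A f,
        j = Groth.Agent.Lib.Helper55.pullbackChart f
          (Spec.map (CommRingCat.ofHom (algebraMap A (AdicCompletion (maximalIdeal A) A))))
          hV.fromSpec (𝟙 _) ha hb := ⟨_, rfl⟩
    haveI : IsOpenImmersion j := by rw [hjdef]; infer_instance
    have hsnd : j ≫ Curv2.bcCplSnd A f = Spec.map (CommRingCat.ofHom
        ((Algebra.TensorProduct.includeRight : AdicCompletion (maximalIdeal A) A →ₐ[A]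
          Γ(X, V) ⊗[A] AdicCompletion (maximalIdeal A) A) :
          AdicCompletion (maximalIdeal A) A →+* _)) := by
      rw [hjdef]
      have := Groth.Agent.Lib.Helper55.pullbackChart_snd f
        (Spec.map (CommRingCat.ofHom (algebraMap A (AdicCompletion (maximalIdeal A) A))))
        hV.fromSpec (𝟙 _) ha hb
      rw [Category.comp_id] at this
      exact this
    have hne : (Curv2.bcCplSnd A f).base (j ⟨P, hP⟩) ≠
        IsLocalRing.closedPoint (Curv2.cpl A) := by
      intro heq
      have h1 : (Curv2.bcCplSnd A f).base (j ⟨P, hP⟩) = PrimeSpectrum.comap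
          ((Algebra.TensorProduct.includeRight : AdicCompletion (maximalIdeal A) A →ₐ[A]
            Γ(X, V) ⊗[A] AdicCompletion (maximalIdeal A) A) :
            AdicCompletion (maximalIdeal A) A →+* _) ⟨P, hP⟩ := by
        have := congrArg (fun g => g.base ⟨P, hP⟩) hsnd
        exact this
      rw [h1] at heq
      have h2 : algebraMap A (AdicCompletion (maximalIdeal A) A) a ∈
          maximalIdeal (AdicCompletion (maximalIdeal A) A) := by
        rw [mem_maximalIdeal, mem_nonunits_iff]
        intro hu
        exact (mem_maximalIdeal _).mp ham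
          (isUnit_of_map_unit (algebraMap A (AdicCompletion (maximalIdeal A) A)) a hu)
      have h3 : (Algebra.TensorProduct.includeRight : AdicCompletion (maximalIdeal A) A →ₐ[A]
          Γ(X, V) ⊗[A] AdicCompletion (maximalIdeal A) A)
          (algebraMap A (AdicCompletion (maximalIdeal A) A) a) ∈ P := by
        have h5 : algebraMap A (AdicCompletion (maximalIdeal A) A) a ∈
            (PrimeSpectrum.comap
              ((Algebra.TensorProduct.includeRight : AdicCompletion (maximalIdeal A) A →ₐ[A]
                Γ(X, V) ⊗[A] AdicCompletion (maximalIdeal A) A) :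
                AdicCompletion (maximalIdeal A) A →+* _) ⟨P, hP⟩).asIdeal := by
          rw [heq]; exact h2
        exact h5
      apply htP
      have h4 : algebraMap Γ(X, V) (Γ(X, V) ⊗[A] AdicCompletion (maximalIdeal A) A)
          (algebraMap A Γ(X, V) a) =
          (Algebra.TensorProduct.includeRight : AdicCompletion (maximalIdeal A) A →ₐ[A]
            Γ(X, V) ⊗[A] AdicCompletion (maximalIdeal A) A)
            (algebraMap A (AdicCompletion (maximalIdeal A) A) a) := by
        rw [← IsScalarTower.algebraMap_apply A Γ(X, V), AlgHom.commutes]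
      rw [h4]; exact h3
    haveI := (hY (j ⟨P, hP⟩) hne).1
    obtain ⟨e2⟩ := Groth.Agent.Lib.Helper50.nonempty_ringEquiv_stalk_spec
      (Γ(X, V) ⊗[A] AdicCompletion (maximalIdeal A) A) ⟨P, hP⟩
    obtain ⟨Q, hQ⟩ : ∃ Q : ↥(Spec (CommRingCat.of
        (Γ(X, V) ⊗[A] AdicCompletion (maximalIdeal A) A))), Q = ⟨P, hP⟩ := ⟨_, rfl⟩
    have e1 := (asIso (j.stalkMap Q)).commRingCatIsoToRingEquiv
    rw [hQ] at e1
    exact isReduced_of_injective (e1.symm.toRingHom.comp e2.symm.toRingHom)
      (e1.symm.injective.comp e2.symm.injective)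

end Groth.Agent.Lib.Helper48
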