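import Mathlib
import Groth.Agent.Lib.Helper48.IntegrallyClosedDVR
import Groth.Agent.Lib.Helper48.NagataNormalization

/-!
# Local rings of a relative normalization at codimension-one points missed by the source

If `τ : Y ⟶ N` is a morphism, `W ⊆ N` an affine open with Noetherian coordinate ring which is
integrally closed in `Γ(Y, V)` for a qcqs open `V ⊆ τ⁻¹ W`, then the local ring of `N` at a point
`x' ∈ W` of dimension one which is not in the image of `τ` is a discrete valuation ring.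
-/

set_option autoImplicit false
universe u
open AlgebraicGeometry CategoryTheory

namespace Groth.Agent.Lib.Helper48

/-- In a Noetherian ring, a prime of height one contains an element lying in no strictly smaller
prime. -/
theorem exists_mem_prime_of_height_eq_one {D₀ : Type*} [CommRing D₀] [IsNoetherianRing D₀]
    (p : Ideal D₀) [hp : p.IsPrime] (h1 : p.height = 1) :
    ∃ t ∈ p, ∀ P : Ideal D₀, P.IsPrime → P ≤ p → t ∈ P → P = p := by
  classical
  have hfin : (minimalPrimes D₀).Finite := minimalPrimes.finite_of_isNoetherianRing D₀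
  have hnot : ¬ ((p : Set D₀) ⊆ ⋃ q ∈ (hfin.toFinset : Set (Ideal D₀)), (q : Set D₀)) := by
    rw [Ideal.subset_union_prime (f := fun q : Ideal D₀ => q) ⊥ ⊥ (fun q hq _ _ => by
      rw [Set.Finite.mem_toFinset] at hq; exact hq.1.1)]
    rintro ⟨q, hq, hpq⟩
    rw [Set.Finite.mem_toFinset] at hq
    have : p = q := le_antisymm hpq (hq.2 ⟨hp, bot_le⟩ hpq)
    have h0 : p.height = 0 := by rw [Ideal.height_eq_zero_iff, this]; exact hq
    rw [h1] at h0
    exact one_ne_zero h0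
  rw [Set.not_subset] at hnot
  obtain ⟨t, htp, htq⟩ := hnot
  refine ⟨t, htp, fun P hP hPp htP => ?_⟩
  by_contra hne
  have hlt : P < p := lt_of_le_of_ne hPp hne
  haveI := hP
  have h2 : P.height < p.height := Ideal.height_strict_mono_of_isPrime hlt
  rw [h1, Order.lt_one_iff, Ideal.height_eq_zero_iff] at h2
  apply htq
  rw [Set.mem_iUnion₂]
  exact ⟨P, by rw [Finset.mem_coe, Set.Finite.mem_toFinset]; exact h2, htP⟩

/-- Ring-level: if no prime of `B` contracts to a prime inside `p` containing `t`, then `φ t`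
divides the image of some `s ∉ p`. -/
theorem exists_mul_eq_of_forall_prime {D B : Type*} [CommRing D] [CommRing B] (φ : D →+* B)
    (p : Ideal D) [p.IsPrime] (t : D)
    (h : ∀ q : Ideal B, q.IsPrime → t ∈ q.comap φ → ¬ (q.comap φ ≤ p)) :
    ∃ (s : D) (b : B), s ∉ p ∧ φ t * b = φ s := by
  by_contra hcon
  push Not at hcon
  have hdisj : Disjoint ((Ideal.span {φ t} : Ideal B) : Set B)
      ((p.primeCompl.map φ : Submonoid B) : Set B) := by
    rw [Set.disjoint_left]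
    rintro x hx1 hx2
    rw [SetLike.mem_coe, Ideal.mem_span_singleton'] at hx1
    obtain ⟨b, rfl⟩ := hx1
    rw [SetLike.mem_coe, Submonoid.mem_map] at hx2
    obtain ⟨s, hs, hsb⟩ := hx2
    exact hcon s b hs (by rw [hsb, mul_comm])
  obtain ⟨q, hq, hle, hqd⟩ := Ideal.exists_le_prime_disjoint _ _ hdisj
  refine h q hq (hle (Ideal.subset_span rfl)) (fun d hd => ?_)
  by_contra hdp
  exact Set.disjoint_left.mp hqd hd (Submonoid.mem_map.mpr ⟨d, hdp, rfl⟩)

/-- per-piece statement -/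
theorem exists_basicOpen_le_of_notMem_range {Y N : Scheme.{u}} (τ : Y ⟶ N) {W : N.Opens}
    (hW : IsAffineOpen W) {V : Y.Opens} (hVW : V ≤ τ ⁻¹ᵁ W)
    (x' : N) (hxW : x' ∈ W) (hx' : x' ∉ Set.range τ.base) (t : Γ(N, W))
    (ht : ∀ P : Ideal Γ(N, W), P.IsPrime → P ≤ (hW.primeIdealOf ⟨x', hxW⟩).asIdeal → t ∈ P →
      P = (hW.primeIdealOf ⟨x', hxW⟩).asIdeal)
    (i : Y.Opens) (hi : IsAffineOpen i) (hiV : i ≤ V) :
    ∃ s : Γ(N, W), s ∉ (hW.primeIdealOf ⟨x', hxW⟩).asIdeal ∧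
      i ⊓ Y.basicOpen ((τ.appLE W V hVW).hom s) ≤ Y.basicOpen ((τ.appLE W V hVW).hom t) := by
  have hres : ∀ d : Γ(N, W), (τ.appLE W i (hiV.trans hVW)).hom d =
      (Y.presheaf.map (homOfLE hiV).op).hom ((τ.appLE W V hVW).hom d) := by
    intro d
    rw [← Scheme.Hom.appLE_map τ hVW (homOfLE hiV).op]
    rfl
  obtain ⟨s, b, hs, hsb⟩ := exists_mul_eq_of_forall_prime (τ.appLE W i (hiV.trans hVW)).hom
    (hW.primeIdealOf ⟨x', hxW⟩).asIdeal t (by
      intro q hq htq hle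
      apply hx'
      obtain ⟨Q, hQ⟩ : ∃ Q : ↥(Spec Γ(Y, i)), Q = (⟨q, hq⟩ : PrimeSpectrum Γ(Y, i)) := ⟨_, rfl⟩
      refine ⟨hi.fromSpec Q, ?_⟩
      have h1 := IsAffineOpen.SpecMap_appLE_fromSpec τ hW hi (hiV.trans hVW)
      have h2 : τ (hi.fromSpec Q) =
          hW.fromSpec (Spec.map (τ.appLE W i (hiV.trans hVW)) Q) := by
        rw [← Scheme.Hom.comp_apply, ← h1, Scheme.Hom.comp_apply]
      refine h2.trans ?_
      have h3 : Spec.map (τ.appLE W i (hiV.trans hVW)) Q = hW.primeIdealOf ⟨x', hxW⟩ := by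
        apply PrimeSpectrum.ext
        subst hQ
        exact ht _ (Ideal.IsPrime.comap _) hle htq
      rw [h3]
      exact hW.fromSpec_primeIdealOf ⟨x', hxW⟩)
  refine ⟨s, hs, ?_⟩
  have e1 : i ⊓ Y.basicOpen ((τ.appLE W V hVW).hom s) =
      Y.basicOpen ((τ.appLE W i (hiV.trans hVW)).hom s) := by
    rw [hres, ← Scheme.basicOpen_res]
  have e2 : i ⊓ Y.basicOpen ((τ.appLE W V hVW).hom t) =
      Y.basicOpen ((τ.appLE W i (hiV.trans hVW)).hom t) := by
    rw [hres, ← Scheme.basicOpen_res]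
  rw [e1, ← hsb, Scheme.basicOpen_mul, ← e2]
  exact inf_le_left.trans inf_le_right

/-- global: a single `s ∉ p'` with `D(ρ s) ⊆ D(ρ t)`. -/
theorem exists_basicOpen_le_of_notMem_range_of_isCompact {Y N : Scheme.{u}} (τ : Y ⟶ N)
    {W : N.Opens}
    (hW : IsAffineOpen W) {V : Y.Opens} (hVc : IsCompact (V : Set Y)) (hVW : V ≤ τ ⁻¹ᵁ W)
    (x' : N) (hxW : x' ∈ W) (hx' : x' ∉ Set.range τ.base) (t : Γ(N, W))
    (ht : ∀ P : Ideal Γ(N, W), P.IsPrime → P ≤ (hW.primeIdealOf ⟨x', hxW⟩).asIdeal → t ∈ P →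
      P = (hW.primeIdealOf ⟨x', hxW⟩).asIdeal) :
    ∃ s : Γ(N, W), s ∉ (hW.primeIdealOf ⟨x', hxW⟩).asIdeal ∧
      Y.basicOpen ((τ.appLE W V hVW).hom s) ≤ Y.basicOpen ((τ.appLE W V hVW).hom t) := by
  classical
  obtain ⟨S, hS, hVS⟩ := isCompact_iff_finite_and_eq_biUnion_affineOpens.mp hVc
  have hle : ∀ i ∈ S, (i : Y.Opens) ≤ V := fun i hi => by
    rw [hVS]; exact le_iSup₂ (f := fun (i : Y.affineOpens) (_ : i ∈ S) => (i : Y.Opens)) i hi
  have hpiece : ∀ i : Y.affineOpens, ∃ s : Γ(N, W), i ∈ S →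
      (s ∉ (hW.primeIdealOf ⟨x', hxW⟩).asIdeal ∧
      (i : Y.Opens) ⊓ Y.basicOpen ((τ.appLE W V hVW).hom s) ≤
        Y.basicOpen ((τ.appLE W V hVW).hom t)) := by
    intro i
    by_cases hi : i ∈ S
    · obtain ⟨s, hs1, hs2⟩ := exists_basicOpen_le_of_notMem_range τ hW hVW x' hxW hx' t ht i.1 i.2
        (hle i hi)
      exact ⟨s, fun _ => ⟨hs1, hs2⟩⟩
    · exact ⟨0, fun h => absurd h hi⟩
  choose sf hsf using hpiece
  refine ⟨∏ i ∈ hS.toFinset, sf i, ?_, ?_⟩
  · intro hmem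
    haveI : (hW.primeIdealOf ⟨x', hxW⟩).asIdeal.IsPrime := (hW.primeIdealOf ⟨x', hxW⟩).isPrime
    obtain ⟨i, hi, him⟩ := (Ideal.IsPrime.prod_mem_iff).mp hmem
    exact (hsf i (hS.mem_toFinset.mp hi)).1 him
  · intro y hy
    have hyV : y ∈ V := Y.basicOpen_le _ hy
    rw [hVS] at hyV
    simp only [TopologicalSpace.Opens.mem_iSup] at hyV
    obtain ⟨i, hi, hyi⟩ := hyV
    refine (hsf i hi).2 ⟨hyi, ?_⟩
    have hdvd : sf i ∣ ∏ j ∈ hS.toFinset, sf j :=
      Finset.dvd_prod_of_mem _ (hS.mem_toFinset.mpr hi)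
    obtain ⟨c, hc⟩ := hdvd
    rw [hc, map_mul, Scheme.basicOpen_mul] at hy
    exact hy.1

/-- On a qcqs open, `D(b) ⊆ D(a)` implies `a ∣ b ^ n` for some `n`. -/
theorem exists_mul_eq_pow_of_basicOpen_le {Y : Scheme.{u}} {V : Y.Opens}
    (hVc : IsCompact (V : Set Y)) (hVqs : IsQuasiSeparated (V : Set Y)) (a b : Γ(Y, V))
    (hab : Y.basicOpen b ≤ Y.basicOpen a) : ∃ (n : ℕ) (w : Γ(Y, V)), a * w = b ^ n := by
  have hu : IsUnit ((Y.presheaf.map (homOfLE (Y.basicOpen_le b)).op).hom a) := by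
    have h1 : IsUnit ((Y.presheaf.map (homOfLE (Y.basicOpen_le a)).op).hom a) :=
      RingedSpace.isUnit_res_basicOpen _ a
    have h2 : (Y.presheaf.map (homOfLE (Y.basicOpen_le b)).op).hom a =
        (Y.presheaf.map (homOfLE hab).op).hom ((Y.presheaf.map (homOfLE (Y.basicOpen_le a)).op).hom a) := by
      rw [← CommRingCat.comp_apply, ← Functor.map_comp]
      rfl
    rw [h2]
    exact h1.map _
  obtain ⟨z, hz⟩ := hu.exists_right_inv
  obtain ⟨n, y, hy⟩ := exists_eq_pow_mul_of_isCompact_of_isQuasiSeparated Y V hVc hVqs b z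
  have hy' : (Y.presheaf.map (homOfLE (Y.basicOpen_le b)).op).hom y =
      ((Y.presheaf.map (homOfLE (Y.basicOpen_le b)).op).hom b) ^ n * z := hy
  have hfg : (a * y) |_ Y.basicOpen b = (b ^ n) |_ Y.basicOpen b := by
    show (Y.presheaf.map (homOfLE (Y.basicOpen_le b)).op).hom (a * y) =
      (Y.presheaf.map (homOfLE (Y.basicOpen_le b)).op).hom (b ^ n)
    rw [map_mul, map_pow, hy', mul_comm _ z, ← mul_assoc, hz, one_mul]
  obtain ⟨k, hk⟩ := exists_of_res_eq_of_qcqs hVc hVqs hfg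
  refine ⟨k + n, b ^ k * y, ?_⟩
  rw [pow_add, ← hk]
  ring

/-- **Key lemma.** `τ : Y ⟶ N`, `W ⊆ N` affine with Noetherian coordinate ring, `V ⊆ τ⁻¹ W` a qcqs
open such that `Γ(N, W) → Γ(Y, V)` is injective with integrally closed image.  If `x' ∈ W` is a
point with one-dimensional local ring not in the image of `τ`, then `𝒪_{N,x'}` is a DVR. -/
theorem isDiscreteValuationRing_stalk_of_integrallyClosedIn {Y N : Scheme.{u}} (τ : Y ⟶ N)
    {W : N.Opens} (hW : IsAffineOpen W) [IsNoetherianRing Γ(N, W)] {V : Y.Opens}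
    (hVc : IsCompact (V : Set Y)) (hVqs : IsQuasiSeparated (V : Set Y)) (hVW : V ≤ τ ⁻¹ᵁ W)
    (hinj : Function.Injective (τ.appLE W V hVW).hom)
    (hic : ∀ r : Γ(Y, V), (τ.appLE W V hVW).hom.IsIntegralElem r →
      r ∈ Set.range (τ.appLE W V hVW).hom)
    (x' : N) (hxW : x' ∈ W) (hx' : x' ∉ Set.range τ.base)
    (hdim : ringKrullDim (N.presheaf.stalk x') = 1) :
    ∃ _ : IsDomain (N.presheaf.stalk x'), IsDiscreteValuationRing (N.presheaf.stalk x') := by
  haveI hpp : (hW.primeIdealOf ⟨x', hxW⟩).asIdeal.IsPrime := (hW.primeIdealOf ⟨x', hxW⟩).isPrime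
  letI := N.presheaf.algebra_section_stalk ⟨x', hxW⟩
  haveI hloc : IsLocalization.AtPrime (N.presheaf.stalk x') (hW.primeIdealOf ⟨x', hxW⟩).asIdeal :=
    hW.isLocalization_stalk ⟨x', hxW⟩
  have hht : (hW.primeIdealOf ⟨x', hxW⟩).asIdeal.height = 1 := by
    have h1 := IsLocalization.AtPrime.ringKrullDim_eq_height (hW.primeIdealOf ⟨x', hxW⟩).asIdeal
      (N.presheaf.stalk x')
    rw [hdim] at h1
    exact_mod_cast h1.symm
  obtain ⟨t, htp, hmin⟩ := exists_mem_prime_of_height_eq_one _ hht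
  obtain ⟨s, hsp, hsub⟩ :=
    exists_basicOpen_le_of_notMem_range_of_isCompact τ hW hVc hVW x' hxW hx' t hmin
  obtain ⟨n, w, hw⟩ := exists_mul_eq_pow_of_basicOpen_le hVc hVqs _ _ hsub
  letI : Algebra Γ(N, W) Γ(Y, V) := (τ.appLE W V hVW).hom.toAlgebra
  obtain ⟨hdom, hdvr⟩ := isDiscreteValuationRing_atPrime_of_integrallyClosedIn
    (D₀ := Γ(N, W)) (R := Γ(Y, V)) hinj hic (hW.primeIdealOf ⟨x', hxW⟩).asIdeal t (s ^ n) w htp
    (fun h => hsp (Ideal.IsPrime.mem_of_pow_mem hpp n h))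
    (by rw [RingHom.algebraMap_toAlgebra, map_pow]; exact hw) hmin
  let e : Localization.AtPrime (hW.primeIdealOf ⟨x', hxW⟩).asIdeal ≃+* N.presheaf.stalk x' :=
    (IsLocalization.algEquiv (hW.primeIdealOf ⟨x', hxW⟩).asIdeal.primeCompl _ _).toRingEquiv
  haveI : IsDomain (N.presheaf.stalk x') := e.symm.injective.isDomain
  exact ⟨inferInstance, IsDiscreteValuationRing.RingEquivClass.isDiscreteValuationRing e⟩

/-- Stacks 0AVK-type statement: for `f : Y ⟶ X` of finite type with `Y` reduced and `X` Nagata, the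
local ring of the relative normalization at a one-dimensional point with empty fibre is a DVR. -/
theorem isDiscreteValuationRing_stalk_normalization {X Y : Scheme.{u}} (f : Y ⟶ X)
    [LocallyOfFiniteType f] [QuasiCompact f] [QuasiSeparated f] [IsReduced Y]
    (hX : ∀ U : X.affineOpens, CAlg.IsNagata Γ(X, U))
    (x' : ↥f.normalization) (hdim : ringKrullDim (f.normalization.presheaf.stalk x') = 1)
    (hx' : x' ∉ Set.range f.toNormalization.base) :
    ∃ _ : IsDomain (f.normalization.presheaf.stalk x'),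
      IsDiscreteValuationRing (f.normalization.presheaf.stalk x') := by
  obtain ⟨U, hU, hxU⟩ : ∃ U : X.Opens, IsAffineOpen U ∧ f.fromNormalization.base x' ∈ U := by
    obtain ⟨_, ⟨U, hU : IsAffineOpen U, rfl⟩, hxU, -⟩ :=
      X.isBasis_affineOpens.exists_subset_of_mem_open
        (Set.mem_univ (f.fromNormalization.base x')) isOpen_univ
    exact ⟨U, hU, hxU⟩
  have hW : IsAffineOpen (f.fromNormalization ⁻¹ᵁ U) := hU.preimage f.fromNormalization
  have hxW : x' ∈ f.fromNormalization ⁻¹ᵁ U := hxU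
  haveI hfin : IsFinite f.fromNormalization := isFinite_fromNormalization_of_finiteType_nagata f hX
  haveI : IsNoetherianRing Γ(X, U) := (hX ⟨U, hU⟩).1
  have hfinapp : (f.fromNormalization.app U).hom.Finite := IsFinite.finite_app (f := f.fromNormalization) U hU
  haveI : IsNoetherianRing Γ(f.normalization, f.fromNormalization ⁻¹ᵁ U) := by
    letI := (f.fromNormalization.app U).hom.toAlgebra
    haveI : Module.Finite Γ(X, U) Γ(f.normalization, f.fromNormalization ⁻¹ᵁ U) := hfinapp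
    exact Algebra.FiniteType.isNoetherianRing Γ(X, U) _
  have hVW : f ⁻¹ᵁ U ≤ f.toNormalization ⁻¹ᵁ (f.fromNormalization ⁻¹ᵁ U) := by
    simp [← Scheme.Hom.comp_preimage]
  letI : Algebra Γ(X, U) Γ(Y, f ⁻¹ᵁ U) := (f.app U).hom.toAlgebra
  have hval := f.normalizationObjIso_hom_val hU
  have hρ : ∀ d, (f.toNormalization.appLE _ _ hVW).hom d =
      ((f.normalizationObjIso hU).hom d : Γ(Y, f ⁻¹ᵁ U)) := by
    intro d
    rw [← hval]
    rfl
  refine isDiscreteValuationRing_stalk_of_integrallyClosedIn f.toNormalization hW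
    (f.isCompact_preimage hU.isCompact) (f.isQuasiSeparated_preimage hU.isQuasiSeparated) hVW
    ?_ ?_ x' hxW hx' hdim
  · intro a b hab
    rw [hρ, hρ] at hab
    exact (ConcreteCategory.bijective_of_isIso (f.normalizationObjIso hU).hom).1
      (Subtype.ext hab)
  · intro r hr
    obtain ⟨P, hPm, hP⟩ := hr
    have hcomp : (algebraMap (integralClosure Γ(X, U) Γ(Y, f ⁻¹ᵁ U)) Γ(Y, f ⁻¹ᵁ U)).comp
        (f.normalizationObjIso hU).hom.hom = (f.toNormalization.appLE _ _ hVW).hom := by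
      ext d
      exact (hρ d).symm
    have h1 : IsIntegral (integralClosure Γ(X, U) Γ(Y, f ⁻¹ᵁ U)) r := by
      refine ⟨P.map (f.normalizationObjIso hU).hom.hom, hPm.map _, ?_⟩
      rw [Polynomial.eval₂_map, hcomp]
      exact hP
    have h2 : IsIntegral Γ(X, U) r := isIntegral_trans r h1
    obtain ⟨d, hd⟩ := (ConcreteCategory.bijective_of_isIso (f.normalizationObjIso hU).hom).2
      (⟨r, h2⟩ : integralClosure Γ(X, U) Γ(Y, f ⁻¹ᵁ U))
    refine ⟨d, ?_⟩
    rw [hρ]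
    exact congrArg Subtype.val hd

end Groth.Agent.Lib.Helper48
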