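import Mathlib
import Groth.Prelude
import Groth.Agent.Lib.Helper48.NormalizationN1
import Groth.Agent.Lib.Helper48.CompletionN1

set_option autoImplicit false
set_option linter.style.haveILetI false
universe u
open CategoryTheory AlgebraicGeometry TensorProduct IsLocalRing

namespace Groth.Agent.Lib.Helper48

/-- Normalization is finite for integral schemes locally of finite type over an analytically
unramified Noetherian local ring which are generically étale over it. -/
theorem isFinite_normalizationι_of_isReduced_adicCompletion_of_etale (A : Type u) [CommRing A]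
    [IsLocalRing A] [IsNoetherianRing A]
    [IsReduced (AdicCompletion (IsLocalRing.maximalIdeal A) A)]
    (X : Scheme.{u}) [IsIntegral X] (f : X ⟶ Spec (CommRingCat.of A)) [LocallyOfFiniteType f]
    (U : X.Opens) (hU : genericPoint X ∈ U) [Etale (U.ι ≫ f)]
    [QuasiCompact (X.fromSpecStalk (genericPoint X))]
    [QuasiSeparated (X.fromSpecStalk (genericPoint X))] :
    IsFinite (Curv2.normalizationι X) := by
  refine isFinite_normalizationι_of_isN1 X (fun V hV _ => ?_)
  obtain ⟨φ, hφ⟩ : ∃ φ : A →+* Γ(X, V), φ = (f.appLE ⊤ V le_top).hom.comp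
      (Scheme.ΓSpecIso (CommRingCat.of A)).inv.hom := ⟨_, rfl⟩
  letI : Algebra A Γ(X, V) := φ.toAlgebra
  have hft : φ.FiniteType := by
    rw [hφ]
    refine RingHom.FiniteType.comp ?_ ?_
    · exact HasRingHomProperty.appLE (P := @LocallyOfFiniteType) f inferInstance
        ⟨⊤, isAffineOpen_top _⟩ ⟨V, hV⟩ le_top
    · exact RingHom.FiniteType.of_surjective _
        (Scheme.ΓSpecIso (CommRingCat.of A)).symm.commRingCatIsoToRingEquiv.surjective
  haveI : Algebra.FiniteType A Γ(X, V) := hft
  have hgenV : genericPoint X ∈ V :=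
    ((genericPoint_spec X).mem_open_set_iff V.isOpen).mpr (by simpa using ‹Nonempty V›)
  obtain ⟨g, hgU, hgen_g⟩ := hV.exists_basicOpen_le (V := U) ⟨genericPoint X, hU⟩ hgenV
  have hg0 : g ≠ 0 := by
    rintro rfl
    rw [Scheme.basicOpen_zero] at hgen_g
    exact hgen_g
  haveI := hV.isLocalization_basicOpen g
  letI : Algebra A Γ(X, X.basicOpen g) :=
    ((algebraMap Γ(X, V) Γ(X, X.basicOpen g)).comp φ).toAlgebra
  haveI : IsScalarTower A Γ(X, V) Γ(X, X.basicOpen g) :=
    IsScalarTower.of_algebraMap_eq (fun x => rfl)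
  have hW : IsAffineOpen (X.basicOpen g) := hV.basicOpen g
  haveI : Algebra.Etale A Γ(X, X.basicOpen g) := by
    haveI : IsAffine (X.basicOpen g).toScheme := hW
    haveI : Etale ((X.basicOpen g).ι ≫ f) := by
      have : (X.basicOpen g).ι ≫ f = X.homOfLE hgU ≫ (U.ι ≫ f) := by
        rw [← Category.assoc, Scheme.homOfLE_ι]
      rw [this]; infer_instance
    have h1 : RingHom.Etale (((X.basicOpen g).ι ≫ f).appLE ⊤ ⊤ le_top).hom :=
      HasRingHomProperty.appLE (P := @Etale) _ inferInstance
        ⟨⊤, isAffineOpen_top _⟩ ⟨⊤, isAffineOpen_top _⟩ le_top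
    have h2 : ((X.basicOpen g).ι ≫ f).appLE ⊤ ⊤ le_top =
        f.appLE ⊤ (X.basicOpen g) le_top ≫
          (X.basicOpen g).ι.appLE (X.basicOpen g) ⊤ (X.basicOpen g).ι_preimage_self.ge :=
      (Scheme.Hom.appLE_comp_appLE _ _ _ _ _ _ _).symm
    rw [h2, CommRingCat.hom_comp, RingHom.Etale.respectsIso.cancel_right_isIso] at h1
    rw [← RingHom.etale_algebraMap]
    have h3 : algebraMap A Γ(X, X.basicOpen g) = (f.appLE ⊤ (X.basicOpen g) le_top).hom.comp
        (Scheme.ΓSpecIso (CommRingCat.of A)).inv.hom := by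
      have h4 : f.appLE ⊤ V le_top ≫ X.presheaf.map (homOfLE (X.basicOpen_le g)).op =
          f.appLE ⊤ (X.basicOpen g) le_top := Scheme.Hom.appLE_map f _ _
      show (algebraMap Γ(X, V) Γ(X, X.basicOpen g)).comp φ = _
      rw [hφ, ← RingHom.comp_assoc, ← h4]
      rfl
    rw [h3]
    exact RingHom.Etale.respectsIso.2 _
      (Scheme.ΓSpecIso (CommRingCat.of A)).symm.commRingCatIsoToRingEquiv h1
  exact isN1_of_isReduced_tensor_adicCompletion
    (isReduced_tensor_adicCompletion_of_etale_away (A := A) g hg0 Γ(X, X.basicOpen g))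

end Groth.Agent.Lib.Helper48
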