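import Mathlib
import Groth.Agent.Lib.Helper48.NagataLocal
import Groth.Agent.Lib.Helper48.NagataFiniteType
import Groth.Agent.Lib.Helper48.NormalizationN1
import Groth.Agent.Lib.Helper48.AnalyticallyUnramified
import Groth.Agent.Lib.Helper93.BlowUpProper
import Groth.Agent.Lib.Helper38.NormSch2

/-!
# Normalized blow-ups of Nagata schemes
-/

set_option autoImplicit false
universe u
open AlgebraicGeometry CategoryTheory

namespace Groth.Agent.Lib.Helper48

/-- A scheme locally of finite type over a Nagata scheme is Nagata. -/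
theorem isNagata_affineOpens_of_locallyOfFiniteType {Z X : Scheme.{u}} (g : Z ⟶ X)
    [LocallyOfFiniteType g] (hN : ∀ U : X.affineOpens, CAlg.IsNagata Γ(X, U.1))
    (V : Z.Opens) (hV : IsAffineOpen V) : CAlg.IsNagata Γ(Z, V) := by
  have key : ∀ z : Z, ∃ W : Z.Opens, IsAffineOpen W ∧ z ∈ W ∧ CAlg.IsNagata Γ(Z, W) := by
    intro z
    obtain ⟨_, ⟨U, hU : IsAffineOpen U, rfl⟩, hzU, -⟩ :=
      X.isBasis_affineOpens.exists_subset_of_mem_open (Set.mem_univ (g z)) isOpen_univ
    obtain ⟨_, ⟨W, hW : IsAffineOpen W, rfl⟩, hzW, hWU⟩ :=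
      Z.isBasis_affineOpens.exists_subset_of_mem_open (show z ∈ ((g ⁻¹ᵁ U : Z.Opens) : Set Z) from hzU)
        (g ⁻¹ᵁ U).isOpen
    refine ⟨W, hW, hzW, ?_⟩
    have hft := g.finiteType_appLE hU hW hWU
    letI := (g.appLE U W hWU).hom.toAlgebra
    haveI : Algebra.FiniteType Γ(X, U) Γ(Z, W) := hft
    exact isNagata_of_finiteType (R := Γ(X, U)) (hN ⟨U, hU⟩)
  choose W hWaff hzW hWN using key
  refine isNagata_affineOpen_of_cover Z W ?_ hWaff hWN V hV
  exact eq_top_iff.mpr fun z _ => TopologicalSpace.Opens.mem_iSup.mpr ⟨z, hzW z⟩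

/-- The normalization of an integral Nagata scheme is finite. -/
theorem isFinite_normalizationι_of_isNagata (X : Scheme.{u}) [IsIntegral X]
    [QuasiCompact (X.fromSpecStalk (genericPoint X))]
    [QuasiSeparated (X.fromSpecStalk (genericPoint X))]
    (hN : ∀ U : X.affineOpens, CAlg.IsNagata Γ(X, U.1)) :
    IsFinite (Curv2.normalizationι X) := by
  refine isFinite_normalizationι_of_isN1 X (fun U hU _ => ?_)
  exact isN1_of_isN2 (isN2_of_isNagata_of_isDomain (hN ⟨U, hU⟩))

/-- The normalized blow-up of an integral locally Noetherian Nagata scheme is normal, Nagata and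
proper over the base. -/
theorem normalizedBlowup_proper_of_nagata (X : Scheme.{u}) [IsIntegral X] [IsLocallyNoetherian X]
    (hN : ∀ U : X.affineOpens, CAlg.IsNagata Γ(X, U.1)) (K : X.IdealSheafData)
    (X' : Scheme.{u}) (b : X' ⟶ X) (hb : BlowUp.IsBlowUp b K) [IsIntegral X']
    [QuasiCompact (X'.fromSpecStalk (genericPoint X'))]
    [QuasiSeparated (X'.fromSpecStalk (genericPoint X'))] :
    Pi1.IsNormalScheme (Curv2.normalization X') ∧
      (∀ U : (Curv2.normalization X').affineOpens, CAlg.IsNagata Γ(Curv2.normalization X', U.1)) ∧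
      IsProper (Curv2.normalizationι X' ≫ b) := by
  have hK : BlowUp.IsFiniteTypeIdeal K := fun U => by
    haveI : IsNoetherianRing Γ(X, U.1) := IsLocallyNoetherian.component_noetherian U
    exact (isNoetherianRing_iff_ideal_fg _).mp inferInstance _
  haveI hbp : IsProper b := Groth.Agent.Lib.Helper93.BlowUpProper.isProper_of_isBlowUp K hK b hb
  have hN' : ∀ U : X'.affineOpens, CAlg.IsNagata Γ(X', U.1) := fun U =>
    isNagata_affineOpens_of_locallyOfFiniteType b hN U.1 U.2
  haveI hfin : IsFinite (Curv2.normalizationι X') := isFinite_normalizationι_of_isNagata X' hN'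
  refine ⟨Groth.Agent.Lib.Helper38.NormSch.isNormalScheme X', fun U => ?_, inferInstance⟩
  exact isNagata_affineOpens_of_locallyOfFiniteType (Curv2.normalizationι X') hN' U.1 U.2

end Groth.Agent.Lib.Helper48
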