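import Mathlib
import Groth.Agent.Lib.Helper48.HenselizationGRing
import Groth.Agent.Lib.Helper48.LocalizedCover
import Groth.Agent.Lib.Helper9.Hens.PairNoetherian

/-!
# The henselization of a pair `(A, I)` with `A` a G-ring is a G-ring (helper48)
-/

set_option autoImplicit false
set_option linter.style.haveILetI false
set_option linter.unusedSectionVars false
universe u

open TensorProduct IsLocalRing

namespace Groth.Agent.Lib.Helper48

open Groth.Agent.Lib.Helper9 Groth.Agent.Lib.Helper48.LocCover

/-- **The henselization of a pair `(A, I)` with `A` a G-ring is a G-ring.** -/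
theorem isGRing_of_isPairHenselization (A : Type u) [CommRing A] (hA : CAlg.IsGRing A)
    (I : Ideal A) (B : Type u) [CommRing B] [Algebra A B]
    (hB : Hens2.IsPairHenselization A I B) : CAlg.IsGRing B := by
  haveI : IsNoetherianRing A := hA.1
  haveI : IsNoetherianRing B := Hens.isNoetherianRing_of_isPairHenselization hB
  haveI : Module.Flat A B := Hens.flat_of_isPairHenselization hB
  rw [Groth.Agent.S2047.result]
  intro n hn
  have hIB : I.map (algebraMap A B) ≤ n := by
    have h1 : I.map (algebraMap A B) ≤ Ideal.jacobson ⊥ := hB.1.jac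
    refine h1.trans ?_
    rw [Ideal.jacobson]
    exact sInf_le ⟨bot_le, hn⟩
  have h2 : ∀ b : B, ∃ a : A, b - algebraMap A B a ∈ n := fun b => by
    obtain ⟨a, ha⟩ := Hens.exists_sub_mem_map_of_isPairHenselization hB b
    exact ⟨a, hIB ha⟩
  have h1 : (n.comap (algebraMap A B)).map (algebraMap A B) = n := by
    refine le_antisymm Ideal.map_comap_le fun b hb => ?_
    obtain ⟨a, ha⟩ := Hens.exists_sub_mem_map_of_isPairHenselization hB b
    have ha' : algebraMap A B a ∈ n := by
      have := n.sub_mem hb (hIB ha)
      rwa [sub_sub_cancel] at this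
    have hI : I.map (algebraMap A B) ≤ (n.comap (algebraMap A B)).map (algebraMap A B) :=
      Ideal.map_mono (Ideal.map_le_iff_le_comap.mp hIB)
    have := Ideal.add_mem _ (Ideal.mem_map_of_mem (algebraMap A B)
      (show a ∈ n.comap (algebraMap A B) from ha')) (hI ha)
    rwa [add_sub_cancel] at this
  letI := locAlgebra A B n
  haveI := isLocalHom_loc A B n
  haveI := flat_loc A B n
  haveI : IsNoetherianRing (Localization.AtPrime (n.comap (algebraMap A B))) :=
    IsLocalization.isNoetherianRing (n.comap (algebraMap A B)).primeCompl _ inferInstance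
  haveI : IsNoetherianRing (Localization.AtPrime n) :=
    IsLocalization.isNoetherianRing n.primeCompl _ inferInstance
  exact isRegularHom_cpl_of_isEtaleCoveredFin (Localization.AtPrime (n.comap (algebraMap A B)))
    (Localization.AtPrime n)
    (isEtaleCoveredFin_loc A B n (Hens.isEtaleCoveredFin_of_isPairHenselization hB))
    (map_maximalIdeal_loc A B n h1) (residueField_map_bijective_loc A B n h2)
    (hA.2 (n.comap (algebraMap A B)))

end Groth.Agent.Lib.Helper48
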