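/-
Helper library (helper48): properness over a neighbourhood of a point from Chow data.

`isProper_iff_isClosed_range_of_chow` is copied from `Groth.Agent.Lib.Helper14.ConsProper`
(helper14) to avoid its large import closure.
-/
import Mathlib

set_option autoImplicit false
universe u
open CategoryTheory Limits AlgebraicGeometry Topology MorphismProperty

namespace Groth.Agent.Lib.Helper48.ProperNhd

/-- Given Chow data `X ←π− X' −j→ P −p→ Y` for `f : X ⟶ Y` (`π` proper surjective, `j` an
immersion, `p` proper), a base change `f₁` of `f` is proper iff the base change `j₁` of `j`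
has closed range. (helper14) -/
theorem isProper_iff_isClosed_range_of_chow {X Y X' P Y₁ X₁ P₁ X'₁ : Scheme.{u}}
    (f : X ⟶ Y) (π : X' ⟶ X) (j : X' ⟶ P) (p : P ⟶ Y) (w : j ≫ p = π ≫ f)
    [IsSeparated f] [LocallyOfFiniteType f] [QuasiCompact f] [IsProper π] [Surjective π]
    [IsImmersion j] [IsProper p]
    {b : Y₁ ⟶ Y} {eX : X₁ ⟶ X} {f₁ : X₁ ⟶ Y₁} {eP : P₁ ⟶ P} {p₁ : P₁ ⟶ Y₁}
    {eX' : X'₁ ⟶ X'} {j₁ : X'₁ ⟶ P₁}
    (hf : IsPullback eX f₁ f b) (hp : IsPullback eP p₁ p b) (hj : IsPullback eX' j₁ j eP) :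
    IsProper f₁ ↔ IsClosed (Set.range j₁) := by
  have hw : (eX' ≫ π) ≫ f = (j₁ ≫ p₁) ≫ b := by
    rw [Category.assoc, ← w, ← Category.assoc, hj.w, Category.assoc, hp.w, Category.assoc]
  let π₁ : X'₁ ⟶ X₁ := hf.lift (eX' ≫ π) (j₁ ≫ p₁) hw
  have h1 : π₁ ≫ eX = eX' ≫ π := hf.lift_fst _ _ hw
  have h2 : π₁ ≫ f₁ = j₁ ≫ p₁ := hf.lift_snd _ _ hw
  have hbig : IsPullback eX' (π₁ ≫ f₁) (π ≫ f) b := by
    rw [h2, ← w]
    exact hj.paste_vert hp
  have hπ : IsPullback eX' π₁ π eX := IsPullback.of_bot hbig h1.symm hf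
  have i1 : IsProper π₁ := MorphismProperty.of_isPullback hπ inferInstance
  have i2 : Surjective π₁ := MorphismProperty.of_isPullback hπ inferInstance
  have i3 : IsSeparated f₁ := MorphismProperty.of_isPullback hf inferInstance
  have i4 : LocallyOfFiniteType f₁ := MorphismProperty.of_isPullback hf inferInstance
  have i5 : IsImmersion j₁ := MorphismProperty.of_isPullback hj inferInstance
  have i6 : IsProper p₁ := MorphismProperty.of_isPullback hp inferInstance
  constructor
  · intro hf₁
    have k1 : IsProper (j₁ ≫ p₁) := by rw [← h2]; infer_instance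
    have k2 : IsProper j₁ := IsProper.of_comp j₁ p₁
    exact j₁.isClosedMap.isClosed_range
  · intro hcl
    have k1 : IsClosedImmersion j₁ := IsClosedImmersion.of_isPreimmersion _ hcl
    have k2 : UniversallyClosed (π₁ ≫ f₁) := by rw [h2]; infer_instance
    have k3 : UniversallyClosed f₁ := UniversallyClosed.of_comp_surjective π₁ f₁
    exact {}

/-- Given Chow data for `f`, if no point of the boundary `closure (range j) \ range j` lies over
`y`, then `f` is proper over an open neighbourhood of `y`. -/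
theorem exists_nhd_isProper_of_chow {X Y X' P : Scheme.{u}}
    (f : X ⟶ Y) (π : X' ⟶ X) (j : X' ⟶ P) (p : P ⟶ Y) (w : j ≫ p = π ≫ f)
    [IsSeparated f] [LocallyOfFiniteType f] [QuasiCompact f] [IsProper π] [Surjective π]
    [IsImmersion j] [IsProper p] (y : Y)
    (hy : ∀ b ∈ closure (Set.range j) \ Set.range j, p b ≠ y) :
    ∃ U : Y.Opens, y ∈ U ∧ IsProper (f ∣_ U) := by
  have hB : IsClosed (closure (Set.range j) \ Set.range j) := by
    have := j.isLocallyClosed_range.isOpen_coborder
    rw [coborder] at this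
    simpa using this.isClosed_compl
  have hpB : IsClosed (p '' (closure (Set.range j) \ Set.range j)) := p.isClosedMap _ hB
  let U : Y.Opens := ⟨(p '' (closure (Set.range j) \ Set.range j))ᶜ, hpB.isOpen_compl⟩
  have hyU : y ∈ U := by
    rintro ⟨b, hb, hby⟩
    exact hy b hb hby
  refine ⟨U, hyU, ?_⟩
  rw [isProper_iff_isClosed_range_of_chow f π j p w (isPullback_morphismRestrict f U).flip
    (isPullback_morphismRestrict p U).flip (isPullback_morphismRestrict j (p ⁻¹ᵁ U)).flip]
  have hrange : Set.range (j ∣_ (p ⁻¹ᵁ U)) =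
      (Subtype.val : (p ⁻¹ᵁ U : Set P) → P) ⁻¹' closure (Set.range j) := by
    rw [morphismRestrict_base]
    erw [Set.range_restrictPreimage]
    ext ⟨b, hbU⟩
    simp only [Set.mem_preimage]
    constructor
    · intro hb
      exact subset_closure hb
    · intro hb
      by_contra hnot
      exact hbU ⟨b, ⟨hb, hnot⟩, rfl⟩
  rw [hrange]
  exact isClosed_closure.preimage continuous_subtype_val

end Groth.Agent.Lib.Helper48.ProperNhd
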