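/-
Helper library (helper48): a separated morphism of finite type over a Noetherian scheme is proper
over a neighbourhood of `y` as soon as DVR points centred over `y` lift (EGA IV 15.7-type
criteria). Core lemma, via Chow's lemma (S0025) and helper78's DVR through a specialization.
-/
import Mathlib
import Groth.Agent.Lib.Helper48.ProperNhd1
import Groth.Agent.Lib.Helper17.ProjSpaceProper
import Groth.Agent.Lib.Helper78.DVRScheme
import Groth.Agent.S0025

set_option autoImplicit false
universe u
open CategoryTheory Limits AlgebraicGeometry Topology MorphismProperty TopologicalSpace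

namespace Groth.Agent.Lib.Helper48.ProperNhd

/-- In a Noetherian quasi-sober T0 space there is a finite set of maximal points of which every
point is a specialization. -/
theorem exists_maximal_points (X : Type*) [TopologicalSpace X] [NoetherianSpace X] [QuasiSober X]
    [T0Space X] : ∃ M : Set X, M.Finite ∧ (∀ x, ∃ m ∈ M, m ⤳ x) ∧
      (∀ m ∈ M, ∀ d, d ⤳ m → d = m) := by
  refine ⟨(fun x => closure {x}) ⁻¹' irreducibleComponents X, ?_, ?_, ?_⟩
  · refine Set.Finite.preimage (Set.injOn_of_injective ?_)
      NoetherianSpace.finite_irreducibleComponents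
    intro x x' hxx'
    dsimp only at hxx'
    refine (Specializes.antisymm ?_ ?_).eq
    · rw [specializes_iff_closure_subset, hxx']
    · rw [specializes_iff_closure_subset, hxx']
  · intro x
    obtain ⟨m, hm⟩ := QuasiSober.sober (isIrreducible_irreducibleComponent (x := x))
      isClosed_irreducibleComponent
    refine ⟨m, ?_, ?_⟩
    · change closure {m} ∈ irreducibleComponents X
      rw [hm.def]
      exact irreducibleComponent_mem_irreducibleComponents x
    · rw [specializes_iff_mem_closure, hm.def]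
      exact mem_irreducibleComponent
  · intro m hm d hdm
    have hm' : Maximal IsIrreducible (closure {m}) := hm
    have hle : closure {m} ≤ closure {d} := specializes_iff_closure_subset.mp hdm
    have heq := hm'.eq_of_le (isIrreducible_singleton.closure) hle
    refine (Specializes.antisymm hdm ?_).eq
    rw [specializes_iff_closure_subset, heq]

open Scheme in
/-- The residue field map of a preimmersion is bijective. -/
theorem residueFieldMap_bijective_of_isPreimmersion {X Y : Scheme.{u}} (i : X ⟶ Y)
    [IsPreimmersion i] (x : X) : Function.Bijective (i.residueFieldMap x).hom := by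
  refine ⟨(i.residueFieldMap x).hom.injective, ?_⟩
  intro z
  obtain ⟨z', rfl⟩ := X.residue_surjective x z
  obtain ⟨w, rfl⟩ := i.stalkMap_surjective x z'
  refine ⟨Y.residue (i x) w, ?_⟩
  have := congrArg (fun φ => φ.hom w) (Scheme.residue_residueFieldMap i x)
  simpa using this

set_option backward.isDefEq.respectTransparency false in
/-- If `π` restricts to an isomorphism over the open `U`, its residue field maps at points over `U`
are bijective. -/
theorem residueFieldMap_bijective_of_isIso_morphismRestrict {X Y : Scheme.{u}} (π : X ⟶ Y)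
    (U : Y.Opens) [IsIso (π ∣_ U)] (t : X) (ht : π t ∈ U) :
    Function.Bijective (π.residueFieldMap t).hom := by
  let t' : (π ⁻¹ᵁ U).toScheme := ⟨t, ht⟩
  have h1 := Scheme.Hom.residueFieldMap_congr (morphismRestrict_ι π U).symm t'
  rw [Scheme.residueFieldMap_comp, Scheme.residueFieldMap_comp] at h1
  have hiso : IsIso (π.residueFieldMap ((π ⁻¹ᵁ U).ι t')) := by
    have : IsIso (π.residueFieldMap ((π ⁻¹ᵁ U).ι t') ≫ (π ⁻¹ᵁ U).ι.residueFieldMap t') := by
      rw [h1]
      haveI : IsOpenImmersion (π ∣_ U) := inferInstance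
      haveI : IsIso (Scheme.Hom.residueFieldMap (π ∣_ U) t') := inferInstance
      haveI : IsIso (Scheme.Hom.residueFieldMap U.ι ((π ∣_ U) t')) := inferInstance
      infer_instance
    exact IsIso.of_isIso_comp_right _ ((π ⁻¹ᵁ U).ι.residueFieldMap t')
  exact ConcreteCategory.bijective_of_isIso (π.residueFieldMap ((π ⁻¹ᵁ U).ι t'))

/-- The DVR lifting hypothesis for `f` at the point `y`, tested on rational points at points of
`D`. -/
def DVRLifting {X Y : Scheme.{u}} (f : X ⟶ Y) (y : Y) (D : Set X) : Prop :=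
  ∀ (A : Type u) [CommRing A] [IsDomain A] [IsDiscreteValuationRing A] (K : Type u) [Field K]
    [Algebra A K] [IsFractionRing A K]
    (a : Spec (CommRingCat.of K) ⟶ X) (g : Spec (CommRingCat.of A) ⟶ Y),
    a ≫ f = Spec.map (CommRingCat.ofHom (algebraMap A K)) ≫ g →
    g (IsLocalRing.closedPoint A) = y →
    ∀ d ∈ D, ∀ e : X.residueField d ≅ CommRingCat.of K,
      a = Spec.map e.hom ≫ X.fromSpecResidueField d →
    ∃ l : Spec (CommRingCat.of A) ⟶ X,
      Spec.map (CommRingCat.ofHom (algebraMap A K)) ≫ l = a ∧ l ≫ f = g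

theorem exists_nhd_isProper_of_dvrLifting_of_isNoetherian {X Y : Scheme.{u}} [IsNoetherian Y]
    (f : X ⟶ Y) [IsSeparated f] [LocallyOfFiniteType f] [QuasiCompact f] (y : Y) (D : Set X)
    (hD : ∀ x : X, ∃ d ∈ D, d ⤳ x) (H : DVRLifting f y D) :
    ∃ U : Y.Opens, y ∈ U ∧ IsProper (f ∣_ U) := by
  obtain ⟨n, X', π, j, hj, hw, hπ, hπs, U₀, hU₀d, hU₀iso⟩ := Groth.Agent.S0025.result f
  let p : CohB1.ProjSpaceOver n Y ⟶ Y := CohB1.ProjSpaceOver.toBase n Y
  have hp : IsProper p := Groth.Agent.Lib.Helper17.ProjSpaceProper.isProper_toBase n Y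
  haveI : IsLocallyNoetherian X := LocallyOfFiniteType.isLocallyNoetherian f
  haveI : CompactSpace X := QuasiCompact.compactSpace_of_compactSpace f
  haveI : IsNoetherian X := {}
  -- maximal points
  obtain ⟨M, hMfin, hMgen, hMmax⟩ := exists_maximal_points X
  have hMD : M ⊆ D := fun m hm => by
    obtain ⟨d, hd, hdm⟩ := hD m
    rwa [← hMmax m hm d hdm]
  let M₀ : Set X := M ∩ U₀
  have hM₀fin : M₀.Finite := hMfin.subset Set.inter_subset_left
  have hM₀gen : ∀ x : X, ∃ m ∈ M₀, m ⤳ x := by
    have hsub : closure (U₀ : Set X) ⊆ ⋃ m ∈ M₀, closure {m} := by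
      refine closure_minimal ?_ (hM₀fin.isClosed_biUnion fun _ _ => isClosed_closure)
      intro x hx
      obtain ⟨m, hm, hmx⟩ := hMgen x
      have hmU : m ∈ U₀ := hmx.mem_open U₀.2 hx
      exact Set.mem_biUnion (⟨hm, hmU⟩ : m ∈ M₀) (specializes_iff_mem_closure.mp hmx)
    intro x
    have hx : x ∈ closure (U₀ : Set X) := hU₀d x
    obtain ⟨m, hm, hxm⟩ := Set.mem_iUnion₂.mp (hsub hx)
    exact ⟨m, hm, specializes_iff_mem_closure.mpr hxm⟩
  -- the finite set of points of X' over M₀
  let T : Set X' := π ⁻¹' M₀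
  have hTfin : T.Finite := by
    refine Set.Finite.preimage ?_ hM₀fin
    intro t₁ ht₁ t₂ ht₂ h12
    have h1 : t₁ ∈ π ⁻¹ᵁ U₀ := ht₁.2
    have h2 : t₂ ∈ π ⁻¹ᵁ U₀ := ht₂.2
    have hinj := (π ∣_ U₀).isOpenEmbedding.injective
    have : (⟨t₁, h1⟩ : (π ⁻¹ᵁ U₀).toScheme) = ⟨t₂, h2⟩ := by
      apply hinj
      apply Subtype.ext
      exact (morphismRestrict_base_coe π U₀ ⟨t₁, h1⟩).trans
        (h12.trans (morphismRestrict_base_coe π U₀ ⟨t₂, h2⟩).symm)
    exact congrArg Subtype.val this
  -- the closed subscheme X'' of X' on the closure of T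
  let C : Closeds X' := ⟨closure T, isClosed_closure⟩
  let I : X'.IdealSheafData := Scheme.IdealSheafData.vanishingIdeal C
  let i : I.subscheme ⟶ X' := I.subschemeι
  have hri : Set.range i = closure T := by
    rw [I.range_subschemeι]
    exact Scheme.IdealSheafData.coe_support_vanishingIdeal C
  let π'' : I.subscheme ⟶ X := i ≫ π
  let j'' : I.subscheme ⟶ CohB1.ProjSpaceOver n Y := i ≫ j
  have w'' : j'' ≫ p = π'' ≫ f := by
    simp only [π'', j'', Category.assoc]
    rw [hw]
  haveI : IsProper π'' := inferInstance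
  haveI : IsImmersion j'' := inferInstance
  haveI hsurj : Surjective π'' := by
    constructor
    intro x
    obtain ⟨m, hm, hmx⟩ := hM₀gen x
    have hcl : IsClosed (Set.range π'') := π''.isClosedMap.isClosed_range
    refine hcl.stableUnderSpecialization hmx ?_
    obtain ⟨t, ht⟩ := π.surjective m
    have htT : t ∈ T := by
      show π t ∈ M₀
      rw [ht]; exact hm
    obtain ⟨t'', ht''⟩ : t ∈ Set.range i := hri ▸ subset_closure htT
    refine ⟨t'', ?_⟩
    show π (i t'') = m
    rw [ht'', ht]
  apply exists_nhd_isProper_of_chow f π'' j'' p w'' y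
  rintro b ⟨hbcl, hbn⟩ hpb
  have h1 : closure (Set.range j'') ⊆ ⋃ t ∈ T, closure {j t} := by
    have hrj : Set.range j'' = j '' (closure T) := by
      rw [← hri]
      ext z
      constructor
      · rintro ⟨s, rfl⟩
        exact ⟨i s, ⟨s, rfl⟩, rfl⟩
      · rintro ⟨_, ⟨s, rfl⟩, rfl⟩
        exact ⟨s, rfl⟩
    rw [hrj]
    calc closure (j '' closure T) ⊆ closure (closure (j '' T)) :=
          closure_mono (image_closure_subset_closure_image j.continuous)
      _ = closure (j '' T) := closure_closure
      _ = closure (⋃ t ∈ T, {j t}) := by rw [Set.image_eq_iUnion]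
      _ = ⋃ t ∈ T, closure {j t} := hTfin.closure_biUnion _
  obtain ⟨t, htT, hbt⟩ := Set.mem_iUnion₂.mp (h1 hbcl)
  obtain ⟨t'', rfl⟩ : t ∈ Set.range i := hri ▸ subset_closure htT
  have hsp : j'' t'' ⤳ b := specializes_iff_mem_closure.mpr hbt
  have hne : b ≠ j'' t'' := fun h => hbn ⟨t'', h.symm⟩
  haveI : LocallyOfFiniteType j'' := by
    haveI : LocallyOfFiniteType (j'' ≫ p) := by rw [w'']; infer_instance
    exact locallyOfFiniteType_of_comp j'' p
  haveI : IsLocallyNoetherian (CohB1.ProjSpaceOver n Y) :=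
    LocallyOfFiniteType.isLocallyNoetherian p
  obtain ⟨A, h, hdvr, hcl, hcomm⟩ :=
    Groth.Agent.Lib.Helper78.exists_dvr_specialization j'' t'' b hsp hne
  -- apply the lifting hypothesis
  haveI hiso : IsIso (π''.residueFieldMap t'') := by
    have : π''.residueFieldMap t'' = π.residueFieldMap (i t'') ≫ i.residueFieldMap t'' :=
      Scheme.residueFieldMap_comp i π t''
    rw [this]
    have h1 : IsIso (i.residueFieldMap t'') :=
      (ConcreteCategory.isIso_iff_bijective _).mpr
        (residueFieldMap_bijective_of_isPreimmersion i t'')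
    have h2 : IsIso (π.residueFieldMap (i t'')) :=
      (ConcreteCategory.isIso_iff_bijective _).mpr
        (residueFieldMap_bijective_of_isIso_morphismRestrict π U₀ (i t'') htT.2)
    exact IsIso.comp_isIso' h2 h1
  let e : X.residueField (π'' t'') ≅ CommRingCat.of (I.subscheme.residueField t'') :=
    asIso (π''.residueFieldMap t'')
  have ha : I.subscheme.fromSpecResidueField t'' ≫ π'' =
      Spec.map e.hom ≫ X.fromSpecResidueField (π'' t'') := by
    rw [← Scheme.Hom.SpecMap_residueFieldMap_fromSpecResidueField]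
    rfl
  have hc1 : (I.subscheme.fromSpecResidueField t'' ≫ π'') ≫ f =
      Spec.map (CommRingCat.ofHom (algebraMap A (I.subscheme.residueField t''))) ≫ h ≫ p := by
    rw [Category.assoc, ← w'', ← Category.assoc, ← hcomm, Category.assoc]
    rfl
  have hc2 : (h ≫ p) (IsLocalRing.closedPoint A) = y := by
    show p (h (IsLocalRing.closedPoint ↥A)) = y
    rw [hcl, hpb]
  obtain ⟨l, hl1, hl2⟩ := H A (I.subscheme.residueField t'')
    (I.subscheme.fromSpecResidueField t'' ≫ π'') (h ≫ p) hc1 hc2 (π'' t'') (hMD htT.1) e ha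
  -- lift to X'' by properness of π''
  have hex : ValuativeCriterion.Existence π'' :=
    (UniversallyClosed.eq_valuativeCriterion ▸ (inferInstance : UniversallyClosed π'')).1
  let sq : ValuativeCommSq π'' :=
    @ValuativeCommSq.mk _ _ π'' A _ inferInstance inferInstance
      (I.subscheme.residueField t'') _ _ _ (I.subscheme.fromSpecResidueField t'') l ⟨hl1.symm⟩
  obtain ⟨l'', hl''1, hl''2⟩ := (hex sq).exists_lift
  -- uniqueness for the separated morphism p
  have hu := IsSeparated.valuativeCriterion p
  have wsq : (I.subscheme.fromSpecResidueField t'' ≫ j'') ≫ p =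
      Spec.map (CommRingCat.ofHom (algebraMap A (I.subscheme.residueField t''))) ≫ h ≫ p := by
    rw [← hcomm, Category.assoc]
    rfl
  let sq2 : ValuativeCommSq p :=
    @ValuativeCommSq.mk _ _ p A _ inferInstance inferInstance
      (I.subscheme.residueField t'') _ _ _ (I.subscheme.fromSpecResidueField t'' ≫ j'') (h ≫ p)
      ⟨wsq⟩
  have := hu sq2
  let L₁ : sq2.commSq.LiftStruct := ⟨l'' ≫ j'', by
    rw [← Category.assoc]
    exact congrArg (· ≫ j'') hl''1, by
    rw [Category.assoc, w'', ← Category.assoc]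
    exact (congrArg (· ≫ f) hl''2).trans hl2⟩
  let L₂ : sq2.commSq.LiftStruct := ⟨h, hcomm, rfl⟩
  have hlh : l'' ≫ j'' = h := congrArg CommSq.LiftStruct.l (Subsingleton.elim L₁ L₂)
  apply hbn
  refine ⟨l'' (IsLocalRing.closedPoint A), ?_⟩
  rw [← hcl, ← hlh]
  rfl

end Groth.Agent.Lib.Helper48.ProperNhd
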