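/-
Helper library (helper48): properness near a point from DVR liftings, over a locally Noetherian
base (reduction of `ProperNhd2` to an affine neighbourhood).
-/
import Mathlib
import Groth.Agent.Lib.Helper48.ProperNhd2

set_option autoImplicit false
universe u
open CategoryTheory Limits AlgebraicGeometry Topology MorphismProperty TopologicalSpace

namespace Groth.Agent.Lib.Helper48.ProperNhd

/-- The DVR lifting hypothesis restricts to opens of the base. -/
theorem DVRLifting.restrict {X Y : Scheme.{u}} {f : X ⟶ Y} {y : Y} {D : Set X}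
    (H : DVRLifting f y D) (V : Y.Opens) (hy : y ∈ V) :
    DVRLifting (f ∣_ V) ⟨y, hy⟩ ((f ⁻¹ᵁ V).ι ⁻¹' D) := by
  intro A _ _ _ K _ _ _ a g hcomm hcl d hd e ha
  let ι := (f ⁻¹ᵁ V).ι
  let e' : X.residueField (ι d) ≅ CommRingCat.of K := asIso (ι.residueFieldMap d) ≪≫ e
  have ha' : a ≫ ι = Spec.map e'.hom ≫ X.fromSpecResidueField (ι d) := by
    calc a ≫ ι = Spec.map e.hom ≫
          (f ⁻¹ᵁ V).toScheme.fromSpecResidueField d ≫ ι := by rw [ha, Category.assoc]
      _ = Spec.map e.hom ≫ Spec.map (ι.residueFieldMap d) ≫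
          X.fromSpecResidueField (ι d) := by
        rw [Scheme.Hom.SpecMap_residueFieldMap_fromSpecResidueField]
      _ = Spec.map (ι.residueFieldMap d ≫ e.hom) ≫
          X.fromSpecResidueField (ι d) := by rw [Spec.map_comp, Category.assoc]
      _ = _ := rfl
  have hc1 : (a ≫ ι) ≫ f = Spec.map (CommRingCat.ofHom (algebraMap A K)) ≫ g ≫ V.ι := by
    rw [Category.assoc, ← morphismRestrict_ι, ← Category.assoc, hcomm, Category.assoc]
  have hc2 : (g ≫ V.ι) (IsLocalRing.closedPoint A) = y := by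
    show V.ι (g (IsLocalRing.closedPoint A)) = y
    rw [hcl]
    rfl
  obtain ⟨l, hl1, hl2⟩ := H A K (a ≫ ι) (g ≫ V.ι) hc1 hc2 (ι d) hd e' ha'
  have hpb := (isPullback_morphismRestrict f V).flip
  refine ⟨hpb.lift l g hl2, ?_, hpb.lift_snd l g hl2⟩
  rw [← cancel_mono ι, Category.assoc, hpb.lift_fst, hl1]

/-- A separated morphism of finite type over a locally Noetherian scheme is proper over a
neighbourhood of `y` as soon as (rational) DVR points centred over `y` at points of `D` lift,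
where `D` is a set of points of which every point of `X` is a specialization. -/
theorem exists_nhd_isProper_of_dvrLifting {X Y : Scheme.{u}} [IsLocallyNoetherian Y]
    (f : X ⟶ Y) [IsSeparated f] [LocallyOfFiniteType f] [QuasiCompact f] (y : Y) (D : Set X)
    (hD : ∀ x : X, ∃ d ∈ D, d ⤳ x) (H : DVRLifting f y D) :
    ∃ U : Y.Opens, y ∈ U ∧ IsProper (f ∣_ U) := by
  obtain ⟨_, ⟨V₀, hV, rfl⟩, hyV, -⟩ :=
    Y.isBasis_affineOpens.exists_subset_of_mem_open (Set.mem_univ y) isOpen_univ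
  let V : Y.Opens := V₀
  haveI : IsAffine V.toScheme := hV
  haveI : IsNoetherian V.toScheme := {}
  have hD' : ∀ x : (f ⁻¹ᵁ V).toScheme, ∃ d ∈ (f ⁻¹ᵁ V).ι ⁻¹' D, d ⤳ x := by
    intro x
    obtain ⟨d, hd, hdx⟩ := hD ((f ⁻¹ᵁ V).ι x)
    have hdV : d ∈ f ⁻¹ᵁ V := hdx.mem_open (f ⁻¹ᵁ V).2 x.2
    refine ⟨⟨d, hdV⟩, hd, ?_⟩
    exact (subtype_specializes_iff _ _).mpr hdx
  obtain ⟨U', hyU', hprop⟩ := exists_nhd_isProper_of_dvrLifting_of_isNoetherian (f ∣_ V) ⟨y, hyV⟩
    ((f ⁻¹ᵁ V).ι ⁻¹' D) hD' (H.restrict V hyV)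
  refine ⟨V.ι ''ᵁ U', ⟨⟨y, hyV⟩, hyU', rfl⟩, ?_⟩
  exact (MorphismProperty.arrow_mk_iso_iff @IsProper (morphismRestrictRestrict f V U')).mp hprop

end Groth.Agent.Lib.Helper48.ProperNhd
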