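/-
Helper library (helper48): auxiliary lemmas for the DVR criteria for properness near a point:
lifting through closed immersions from reduced schemes, uniqueness of rational `K`-points,
the residue field at the generic point of `Spec R` is the fraction field.
-/
import Mathlib

set_option autoImplicit false
universe u
open CategoryTheory Limits AlgebraicGeometry Topology MorphismProperty TopologicalSpace

namespace Groth.Agent.Lib.Helper48.ProperNhd

/-- A morphism from a reduced scheme whose range lies in the range of a closed immersion factors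
through the closed immersion. -/
theorem exists_lift_of_isReduced {T S' C : Scheme.{u}} [IsReduced T] (g : T ⟶ S') (c : C ⟶ S')
    [IsClosedImmersion c] (h : Set.range g ⊆ Set.range c) : ∃ g' : T ⟶ C, g' ≫ c = g := by
  haveI : Surjective (pullback.fst g c) := ⟨fun t => by
    obtain ⟨z, hz⟩ := h ⟨t, rfl⟩
    obtain ⟨w, hw1, hw2⟩ := Scheme.Pullback.exists_preimage_pullback t z hz.symm
    exact ⟨w, hw1⟩⟩
  haveI : IsIso (pullback.fst g c) := isIso_of_isClosedImmersion_of_surjective _
  exact ⟨inv (pullback.fst g c) ≫ pullback.snd g c, by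
    rw [Category.assoc, ← pullback.condition, IsIso.inv_hom_id_assoc]⟩

/-- Two `K`-points of `P` with the same image point `x'` and the same composition with `q` agree,
if the residue field map of `q` at `x'` is surjective. -/
theorem eq_of_residueFieldMap_surjective {P S : Scheme.{u}} (q : P ⟶ S) {K : Type u} [Field K]
    (τ₁ τ₂ : Spec (CommRingCat.of K) ⟶ P) (hq : τ₁ ≫ q = τ₂ ≫ q) (x' : P)
    (h1 : τ₁ (IsLocalRing.closedPoint K) = x') (h2 : τ₂ (IsLocalRing.closedPoint K) = x')
    (hsurj : Function.Surjective (q.residueFieldMap x').hom) :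
    τ₁ = τ₂ := by
  obtain ⟨r₁, h₁⟩ : ∃ r : P.residueField x' ⟶ CommRingCat.of K,
      Spec.map r ≫ P.fromSpecResidueField x' = τ₁ := by
    subst h1
    exact ⟨_, Scheme.descResidueField_stalkClosedPointTo_fromSpecResidueField K P τ₁⟩
  obtain ⟨r₂, h₂⟩ : ∃ r : P.residueField x' ⟶ CommRingCat.of K,
      Spec.map r ≫ P.fromSpecResidueField x' = τ₂ := by
    subst h2
    exact ⟨_, Scheme.descResidueField_stalkClosedPointTo_fromSpecResidueField K P τ₂⟩
  have gen : ∀ r : P.residueField x' ⟶ CommRingCat.of K,
      Spec.map (q.residueFieldMap x' ≫ r) ≫ S.fromSpecResidueField (q x') =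
        (Spec.map r ≫ P.fromSpecResidueField x') ≫ q := by
    intro r
    rw [Spec.map_comp, Category.assoc, Scheme.Hom.SpecMap_residueFieldMap_fromSpecResidueField,
      Category.assoc]
  have key : q.residueFieldMap x' ≫ r₁ = q.residueFieldMap x' ≫ r₂ := by
    apply Spec.map_injective
    rw [← cancel_mono (S.fromSpecResidueField (q x')), gen, gen, h₁, h₂, hq]
  have hr : r₁ = r₂ := by
    haveI : Epi (q.residueFieldMap x') := ConcreteCategory.epi_of_surjective _ hsurj
    exact (cancel_epi _).mp key
  rw [← h₁, ← h₂, hr]

/-- The canonical ring map from `R` to the stalk of `Spec R` at `z`. -/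
noncomputable def toStalk' (R : Type u) [CommRing R] (z : Spec (CommRingCat.of R)) :
    CommRingCat.of R ⟶ (Spec (CommRingCat.of R)).presheaf.stalk z :=
  StructureSheaf.toStalk R z

/-- The canonical ring map from `R` to the residue field of `Spec R` at `z`. -/
noncomputable def toResidueField (R : Type u) [CommRing R] (z : Spec (CommRingCat.of R)) :
    CommRingCat.of R ⟶ (Spec (CommRingCat.of R)).residueField z :=
  toStalk' R z ≫ (Spec (CommRingCat.of R)).residue z

theorem SpecMap_toResidueField (R : Type u) [CommRing R] (z : Spec (CommRingCat.of R)) :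
    Spec.map (toResidueField R z) = (Spec (CommRingCat.of R)).fromSpecResidueField z := by
  rw [toResidueField, Spec.map_comp, Scheme.fromSpecResidueField, Spec.fromSpecStalk_eq']
  rfl

/-- For a domain `R` and the point `z` of `Spec R` with `z.asIdeal = ⊥`, the residue field at `z`
is a fraction field of `R`. -/
theorem isFractionRing_residueField_of_asIdeal_eq_bot {R : Type u} [CommRing R] [IsDomain R]
    (z : Spec (CommRingCat.of R)) (hz : z.asIdeal = ⊥) :
    letI := (toResidueField R z).hom.toAlgebra
    IsFractionRing R ((Spec (CommRingCat.of R)).residueField z) := by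
  letI := (toResidueField R z).hom.toAlgebra
  haveI : (PrimeSpectrum.asIdeal z).IsPrime := PrimeSpectrum.isPrime z
  letI : Algebra R ((Spec (CommRingCat.of R)).presheaf.stalk z) :=
    StructureSheaf.stalkAlgebra R z
  haveI : IsLocalization.AtPrime ((Spec (CommRingCat.of R)).presheaf.stalk z) z.asIdeal :=
    StructureSheaf.IsLocalization.to_stalk R z
  have hmap : ∀ r : R, algebraMap R ((Spec (CommRingCat.of R)).residueField z) r =
      (Spec (CommRingCat.of R)).residue z
        (algebraMap R ((Spec (CommRingCat.of R)).presheaf.stalk z) r) := fun r => rfl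
  have hinj : Function.Injective (algebraMap R ((Spec (CommRingCat.of R)).residueField z)) := by
    rw [injective_iff_map_eq_zero]
    intro r hr
    rw [hmap] at hr
    have hmem : algebraMap R ((Spec (CommRingCat.of R)).presheaf.stalk z) r ∈
        IsLocalRing.maximalIdeal ((Spec (CommRingCat.of R)).presheaf.stalk z) :=
      (IsLocalRing.residue_eq_zero_iff _).mp hr
    have := (IsLocalization.AtPrime.to_map_mem_maximal_iff
      ((Spec (CommRingCat.of R)).presheaf.stalk z) z.asIdeal r).mp hmem
    rw [hz] at this
    exact this
  haveI : FaithfulSMul R ((Spec (CommRingCat.of R)).residueField z) :=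
    (faithfulSMul_iff_algebraMap_injective R _).mpr hinj
  refine IsFractionRing.of_field (R := R) (K := (Spec (CommRingCat.of R)).residueField z)
    fun u => ?_
  obtain ⟨s, rfl⟩ := (Spec (CommRingCat.of R)).residue_surjective z u
  obtain ⟨a, b, rfl⟩ := IsLocalization.exists_mk'_eq z.asIdeal.primeCompl s
  refine ⟨a, b, ?_⟩
  have hb : (b : R) ≠ 0 := by
    intro hb0
    have := b.2
    rw [hb0] at this
    exact this (Ideal.zero_mem _)
  have hb' : algebraMap R ((Spec (CommRingCat.of R)).residueField z) b ≠ 0 :=
    fun h => hb (hinj (h.trans (map_zero _).symm))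
  rw [eq_div_iff hb', hmap, hmap, ← map_mul]
  congr 1
  exact IsLocalization.mk'_spec _ a b

end Groth.Agent.Lib.Helper48.ProperNhd
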