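/-
Helper library (helper48): the two directions of the EGA IV 15.7-type criterion "the closure of
`Z` is proper over `Y` at `y` iff rational points over generic points of DVRs centred at `y`
lie on sections" (S4978).
-/
import Mathlib
import Groth.Agent.Lib.Helper48.ProperNhd3
import Groth.Agent.Lib.Helper48.ProperNhd4

set_option autoImplicit false
universe u
open CategoryTheory Limits AlgebraicGeometry Topology MorphismProperty TopologicalSpace

namespace Groth.Agent.Lib.Helper48.ProperNhd


/-- If the reduced closed subscheme on the trace of `W` over `U` is proper over `U ∋ y`, then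
rational points over the generic point of a DVR centred at `y` which project into `W` lie on
sections. -/
theorem exists_section_of_isProper_vanishingIdeal {X Y : Scheme.{u}} (f : X ⟶ Y) (W : Set X)
    (U : Y.Opens) (y : Y) (hyU : y ∈ U) (hC : IsClosed ((f ⁻¹ᵁ U).ι.base ⁻¹' W))
    (hprop : IsProper ((Scheme.IdealSheafData.vanishingIdeal
        (⟨(f ⁻¹ᵁ U).ι.base ⁻¹' W, hC⟩ : TopologicalSpace.Closeds ↥(f ⁻¹ᵁ U))).subschemeι ≫
          (f ∣_ U)))
    (A' : Type u) [CommRing A'] [IsDomain A'] [IsDiscreteValuationRing A']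
    (g : Spec (CommRingCat.of A') ⟶ Y) (hg : g.base (IsLocalRing.closedPoint A') = y)
    (x' : ↥(pullback f g)) (hx'W : (pullback.fst f g).base x' ∈ W)
    (hx'η : (pullback.snd f g).base x' = genericPoint (Spec (CommRingCat.of A')))
    (hbij : Function.Bijective ((pullback.snd f g).residueFieldMap x').hom) :
    ∃ s : Spec (CommRingCat.of A') ⟶ pullback f g, s ≫ pullback.snd f g = 𝟙 _ ∧
      x' ∈ Set.range s.base := by
  -- g factors through U
  have hgU : Set.range g ⊆ Set.range U.ι := by
    rw [Scheme.Opens.range_ι]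
    rintro _ ⟨z, rfl⟩
    have hsp : z ⤳ IsLocalRing.closedPoint A' := IsLocalRing.specializes_closedPoint z
    have := hsp.map g.continuous
    refine this.mem_open U.2 ?_
    show g.base (IsLocalRing.closedPoint A') ∈ U
    rw [hg]; exact hyU
  let gU : Spec (CommRingCat.of A') ⟶ U.toScheme := IsOpenImmersion.lift U.ι g hgU
  have hgU' : gU ≫ U.ι = g := IsOpenImmersion.lift_fac U.ι g hgU
  -- the fraction field
  let z : Spec (CommRingCat.of A') := (pullback.snd f g).base x'
  have hz : z.asIdeal = ⊥ := by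
    have : z = genericPoint (Spec (CommRingCat.of A')) := hx'η
    rw [this, genericPoint_eq_bot_of_affine]
    rfl
  letI : Algebra A' ((Spec (CommRingCat.of A')).residueField z) :=
    (toResidueField A' z).hom.toAlgebra
  haveI : IsFractionRing A' ((Spec (CommRingCat.of A')).residueField z) :=
    isFractionRing_residueField_of_asIdeal_eq_bot z hz
  haveI hiso : IsIso ((pullback.snd f g).residueFieldMap x') :=
    (ConcreteCategory.isIso_iff_bijective _).mpr hbij
  let P := pullback f g
  let c₁ : Spec ((Spec (CommRingCat.of A')).residueField z) ⟶ P :=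
    Spec.map (inv ((pullback.snd f g).residueFieldMap x')) ≫ P.fromSpecResidueField x'
  have hc₁snd : c₁ ≫ pullback.snd f g = Spec.map (toResidueField A' z) := by
    rw [SpecMap_toResidueField]
    simp only [c₁, Category.assoc]
    rw [← Scheme.Hom.SpecMap_residueFieldMap_fromSpecResidueField, ← Category.assoc,
      ← Spec.map_comp, IsIso.hom_inv_id, Spec.map_id, Category.id_comp]
  -- the K-point of f⁻¹U
  have hpb := (isPullback_morphismRestrict f U).flip
  have w1 : (c₁ ≫ pullback.fst f g) ≫ f = (c₁ ≫ pullback.snd f g ≫ gU) ≫ U.ι := by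
    simp only [Category.assoc]
    rw [pullback.condition, hgU']
  let a₁ : Spec ((Spec (CommRingCat.of A')).residueField z) ⟶ (f ⁻¹ᵁ U).toScheme :=
    hpb.lift (c₁ ≫ pullback.fst f g) (c₁ ≫ pullback.snd f g ≫ gU) w1
  have ha₁1 : a₁ ≫ (f ⁻¹ᵁ U).ι = c₁ ≫ pullback.fst f g := hpb.lift_fst _ _ w1
  have ha₁2 : a₁ ≫ f ∣_ U = c₁ ≫ pullback.snd f g ≫ gU := hpb.lift_snd _ _ w1
  -- factor through the reduced closed subscheme
  let I := Scheme.IdealSheafData.vanishingIdeal (X := (f ⁻¹ᵁ U).toScheme)
    (⟨(f ⁻¹ᵁ U).ι.base ⁻¹' W, hC⟩ : TopologicalSpace.Closeds ↥(f ⁻¹ᵁ U))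
  have hrI : Set.range I.subschemeι = (f ⁻¹ᵁ U).ι.base ⁻¹' W := by
    rw [I.range_subschemeι]
    exact Scheme.IdealSheafData.coe_support_vanishingIdeal _
  have hc₁pt : ∀ t, c₁ t = x' := by
    intro t
    show (P.fromSpecResidueField x') _ = x'
    exact Scheme.fromSpecResidueField_apply _ _
  have hra₁ : Set.range a₁ ⊆ Set.range I.subschemeι := by
    rw [hrI]
    rintro _ ⟨t, rfl⟩
    show (f ⁻¹ᵁ U).ι (a₁ t) ∈ W
    have : (f ⁻¹ᵁ U).ι (a₁ t) = (pullback.fst f g) (c₁ t) := by
      have := congrArg (fun φ => φ.base t) ha₁1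
      exact this
    rw [this, hc₁pt]
    exact hx'W
  obtain ⟨a₂, ha₂⟩ := exists_lift_of_isReduced a₁ I.subschemeι hra₁
  -- valuative criterion
  have hex : ValuativeCriterion.Existence (I.subschemeι ≫ f ∣_ U) :=
    (UniversallyClosed.eq_valuativeCriterion ▸
      (inferInstance : UniversallyClosed (I.subschemeι ≫ f ∣_ U))).1
  have wsq : a₂ ≫ (I.subschemeι ≫ f ∣_ U) = Spec.map (CommRingCat.ofHom (algebraMap A'
      ((Spec (CommRingCat.of A')).residueField z))) ≫ gU := by
    rw [← Category.assoc, ha₂, ha₁2, ← Category.assoc, hc₁snd]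
    rfl
  let sq : ValuativeCommSq (I.subschemeι ≫ f ∣_ U) :=
    @ValuativeCommSq.mk _ _ (I.subschemeι ≫ f ∣_ U) A' _ inferInstance inferInstance
      ((Spec (CommRingCat.of A')).residueField z) _ _ _ a₂ gU ⟨wsq⟩
  obtain ⟨lU, hlU1, hlU2⟩ := (hex sq).exists_lift
  let l : Spec (CommRingCat.of A') ⟶ X := lU ≫ I.subschemeι ≫ (f ⁻¹ᵁ U).ι
  have hlf : l ≫ f = 𝟙 _ ≫ g := by
    simp only [l, Category.assoc]
    rw [← morphismRestrict_ι, ← Category.assoc I.subschemeι, ← Category.assoc lU, hlU2, hgU',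
      Category.id_comp]
  have h3 : Spec.map (toResidueField A' z) ≫ lU = a₂ := hlU1
  refine ⟨pullback.lift l (𝟙 _) hlf, pullback.lift_snd _ _ _, ?_⟩
  have hs1 : pullback.lift l (𝟙 _) hlf ≫ pullback.fst f g = l := pullback.lift_fst _ _ _
  have hs2 : pullback.lift l (𝟙 _) hlf ≫ pullback.snd f g = 𝟙 _ := pullback.lift_snd _ _ _
  generalize pullback.lift l (𝟙 _) hlf = s at hs1 hs2 ⊢
  have hc : c₁ = (c₁ ≫ pullback.snd f g) ≫ s := by
    clear_value c₁
    apply pullback.hom_ext
    · calc c₁ ≫ pullback.fst f g = a₁ ≫ (f ⁻¹ᵁ U).ι := ha₁1.symm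
        _ = a₂ ≫ I.subschemeι ≫ (f ⁻¹ᵁ U).ι := by rw [← ha₂, Category.assoc]
        _ = (Spec.map (toResidueField A' z) ≫ lU) ≫ I.subschemeι ≫ (f ⁻¹ᵁ U).ι := by rw [h3]
        _ = (c₁ ≫ pullback.snd f g) ≫ l := by rw [hc₁snd, Category.assoc]
        _ = ((c₁ ≫ pullback.snd f g) ≫ s) ≫ pullback.fst f g := by
          rw [Category.assoc (c₁ ≫ pullback.snd f g) s, hs1]
    · rw [Category.assoc, hs2, Category.comp_id]
  obtain ⟨t⟩ : Nonempty (Spec ((Spec (CommRingCat.of A')).residueField z)) := inferInstance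
  refine ⟨(c₁ ≫ pullback.snd f g) t, ?_⟩
  rw [← hc₁pt t]
  exact (congrArg (fun φ => φ.base t) hc).symm



/-- The section hypothesis of EGA IV 15.7-type criteria gives the DVR lifting property of the
closure of `Z` (given as a closed immersion `ιW` with range `closure Z`), tested at points of `Z`.
-/
theorem dvrLifting_of_sections {X Y : Scheme.{u}} (f : X ⟶ Y) (Z : Set X) (y : Y)
    (Hyp : ∀ (A' : Type u) [CommRing A'] [IsDomain A'] [IsDiscreteValuationRing A']
      (g : Spec (CommRingCat.of A') ⟶ Y), g.base (IsLocalRing.closedPoint A') = y →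
      ∀ x' : ↥(pullback f g), (pullback.fst f g).base x' ∈ Z →
        (pullback.snd f g).base x' = genericPoint (Spec (CommRingCat.of A')) →
        Function.Bijective ((pullback.snd f g).residueFieldMap x').hom →
        ∃ s : Spec (CommRingCat.of A') ⟶ pullback f g, s ≫ pullback.snd f g = 𝟙 _ ∧
          x' ∈ Set.range s.base)
    {C : Scheme.{u}} (ιW : C ⟶ X) [IsClosedImmersion ιW] (hrange : Set.range ιW = closure Z) :
    DVRLifting (ιW ≫ f) y (ιW ⁻¹' Z) := by
  intro A _ _ _ K _ _ _ a g hcomm hcl d hd e ha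
  -- the K-point of the pullback
  have hcomm' : (a ≫ ιW) ≫ f = Spec.map (CommRingCat.ofHom (algebraMap A K)) ≫ g := by
    rw [Category.assoc, hcomm]
  let σ : Spec (CommRingCat.of K) ⟶ pullback f g :=
    pullback.lift (a ≫ ιW) (Spec.map (CommRingCat.ofHom (algebraMap A K))) hcomm'
  have hσ1 : σ ≫ pullback.fst f g = a ≫ ιW := pullback.lift_fst _ _ _
  have hσ2 : σ ≫ pullback.snd f g = Spec.map (CommRingCat.ofHom (algebraMap A K)) :=
    pullback.lift_snd _ _ _
  let pt : Spec (CommRingCat.of K) := IsLocalRing.closedPoint K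
  let x' : ↥(pullback f g) := σ pt
  have hapt : a pt = d := by
    rw [ha]
    show (C.fromSpecResidueField d) ((Spec.map e.hom) pt) = d
    exact Scheme.fromSpecResidueField_apply _ _
  have hx'Z : (pullback.fst f g).base x' ∈ Z := by
    have : (pullback.fst f g) x' = ιW (a pt) := congrArg (fun φ => φ.base pt) hσ1
    show (pullback.fst f g) x' ∈ Z
    rw [this, hapt]
    exact hd
  have hsndx' : (pullback.snd f g) x' =
      (Spec.map (CommRingCat.ofHom (algebraMap A K))) pt := congrArg (fun φ => φ.base pt) hσ2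
  have hx'η : (pullback.snd f g).base x' = genericPoint (Spec (CommRingCat.of A)) := by
    show (pullback.snd f g) x' = _
    rw [hsndx', genericPoint_eq_bot_of_affine]
    apply PrimeSpectrum.ext
    show Ideal.comap (algebraMap A K) (IsLocalRing.maximalIdeal K) = ⊥
    rw [IsLocalRing.maximalIdeal_eq_bot, ← RingHom.ker_eq_comap_bot, RingHom.ker_eq_bot_iff_eq_zero]
    intro r hr
    exact (IsFractionRing.injective A K) (hr.trans (map_zero _).symm)
  -- bijectivity of the residue field map
  haveI : IsPreimmersion (Spec.map (CommRingCat.ofHom (algebraMap A K))) :=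
    IsPreimmersion.of_isLocalization (nonZeroDivisors A)
  have hbij0 := residueFieldMap_bijective_of_isPreimmersion
    (Spec.map (CommRingCat.ofHom (algebraMap A K))) pt
  have hcomp0 : Function.Bijective ((σ ≫ pullback.snd f g).residueFieldMap pt).hom := by
    rw [hσ2]
    exact hbij0
  have hbij : Function.Bijective ((pullback.snd f g).residueFieldMap x').hom := by
    refine ⟨((pullback.snd f g).residueFieldMap x').hom.injective, ?_⟩
    intro w
    have hcomp : Function.Bijective ((pullback.snd f g).residueFieldMap (σ pt) ≫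
        σ.residueFieldMap pt).hom := by
      rw [← Scheme.residueFieldMap_comp]
      exact hcomp0
    obtain ⟨v, hv⟩ := hcomp.2 ((σ.residueFieldMap pt).hom w)
    refine ⟨v, ?_⟩
    apply (σ.residueFieldMap pt).hom.injective
    exact hv
  obtain ⟨s, hs1, hs2⟩ := Hyp A g hcl x' hx'Z hx'η hbij
  -- s maps the generic point to x'
  have hsη : s ((Spec.map (CommRingCat.ofHom (algebraMap A K))) pt) = x' := by
    obtain ⟨z₀, hz₀⟩ := hs2
    have h1 : (pullback.snd f g) (s z₀) = z₀ := congrArg (fun φ => φ.base z₀) hs1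
    have hz₀' : s z₀ = x' := hz₀
    rw [← hsndx', ← hz₀', h1]
  -- the two K-points agree
  have hτ : Spec.map (CommRingCat.ofHom (algebraMap A K)) ≫ s = σ := by
    apply eq_of_residueFieldMap_surjective (pullback.snd f g) _ _ _ x' hsη rfl hbij.2
    rw [Category.assoc, hs1, Category.comp_id, hσ2]
  -- factor through the closed subscheme
  let l₀ : Spec (CommRingCat.of A) ⟶ X := s ≫ pullback.fst f g
  have hl₀η : l₀ ((Spec.map (CommRingCat.ofHom (algebraMap A K))) pt) ∈ Z := by
    show (pullback.fst f g) (s _) ∈ Z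
    rw [hsη]
    exact hx'Z
  have hrl₀ : Set.range l₀ ⊆ Set.range ιW := by
    rw [hrange]
    rintro _ ⟨z, rfl⟩
    have hsp : (Spec.map (CommRingCat.ofHom (algebraMap A K))) pt ⤳ z := by
      have hgen : (Spec.map (CommRingCat.ofHom (algebraMap A K))) pt =
          genericPoint (Spec (CommRingCat.of A)) := hsndx'.symm.trans hx'η
      rw [hgen]
      exact genericPoint_specializes z
    exact (hsp.map l₀.continuous).mem_closed isClosed_closure (subset_closure hl₀η)
  obtain ⟨l, hl⟩ := exists_lift_of_isReduced l₀ ιW hrl₀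
  refine ⟨l, ?_, ?_⟩
  · rw [← cancel_mono ιW, Category.assoc, hl, ← hσ1, ← hτ, Category.assoc]
  · rw [← Category.assoc, hl, Category.assoc, pullback.condition, ← Category.assoc, hs1,
      Category.id_comp]



/-- Transfer of properness from the restriction of a closed subscheme to the reduced closed
subscheme of the restriction. -/
theorem isProper_vanishingIdeal_of_isProper_restrict {X Y C : Scheme.{u}} (f : X ⟶ Y)
    (ιW : C ⟶ X) [IsClosedImmersion ιW] (U : Y.Opens) (W : Set X) (hW : Set.range ιW = W)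
    (hC : IsClosed ((f ⁻¹ᵁ U).ι.base ⁻¹' W)) (h : IsProper ((ιW ≫ f) ∣_ U)) :
    IsProper ((Scheme.IdealSheafData.vanishingIdeal
      (⟨(f ⁻¹ᵁ U).ι.base ⁻¹' W, hC⟩ : TopologicalSpace.Closeds ↥(f ⁻¹ᵁ U))).subschemeι ≫
        (f ∣_ U)) := by
  rw [morphismRestrict_comp] at h
  let k₀ := ιW ∣_ (f ⁻¹ᵁ U)
  let I := Scheme.IdealSheafData.vanishingIdeal (X := (f ⁻¹ᵁ U).toScheme)
    (⟨(f ⁻¹ᵁ U).ι.base ⁻¹' W, hC⟩ : TopologicalSpace.Closeds ↥(f ⁻¹ᵁ U))
  have hrk : Set.range k₀ = (f ⁻¹ᵁ U).ι.base ⁻¹' W := by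
    rw [morphismRestrict_base]
    erw [Set.range_restrictPreimage]
    rw [hW]
    rfl
  have hker : k₀.ker ≤ I.subschemeι.ker := by
    rw [Scheme.IdealSheafData.ker_subschemeι]
    refine Scheme.IdealSheafData.le_support_iff_le_vanishingIdeal.mp ?_
    intro x hx
    have hsupp : ((Scheme.Hom.ker k₀).support : Set _) = closure (Set.range k₀) :=
      Scheme.Hom.support_ker k₀
    show x ∈ ((Scheme.Hom.ker k₀).support : Set _)
    rw [hsupp, hrk]
    exact subset_closure hx
  let r := IsClosedImmersion.lift k₀ I.subschemeι hker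
  have hr : r ≫ k₀ = I.subschemeι := IsClosedImmersion.lift_fac k₀ I.subschemeι hker
  haveI : IsClosedImmersion (r ≫ k₀) := by rw [hr]; infer_instance
  haveI : IsClosedImmersion r := IsClosedImmersion.of_comp r k₀
  have : I.subschemeι ≫ f ∣_ U = r ≫ (k₀ ≫ f ∣_ U) := by rw [← Category.assoc, hr]
  rw [this]
  haveI : IsProper (k₀ ≫ f ∣_ U) := h
  infer_instance

/-- Every point of the closure of `Z` is a specialization of a point of `Z`, if `Z` contains the
maximal points of its closure (in a Noetherian scheme given by a closed immersion). -/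
theorem exists_mem_specializes_of_maximal {X C : Scheme.{u}} [IsNoetherian C] (ιW : C ⟶ X)
    [IsClosedImmersion ιW] (Z : Set X) (hrange : Set.range ιW = closure Z)
    (hZ : ∀ z ∈ closure Z, (∀ z' ∈ closure Z, z ∈ closure {z'} → z' = z) → z ∈ Z) (x : C) :
    ∃ d ∈ ιW ⁻¹' Z, d ⤳ x := by
  obtain ⟨M, -, hMgen, hMmax⟩ := exists_maximal_points C
  obtain ⟨m, hm, hmx⟩ := hMgen x
  refine ⟨m, ?_, hmx⟩
  apply hZ (ιW m) (hrange ▸ ⟨m, rfl⟩)
  intro z' hz' hzz'
  rw [← hrange] at hz'
  obtain ⟨d', rfl⟩ := hz'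
  have hsp : ιW d' ⤳ ιW m := specializes_iff_mem_closure.mpr hzz'
  have hsp' : d' ⤳ m := ιW.isEmbedding.isInducing.specializes_iff.mp hsp
  rw [hMmax m hm d' hsp']

end Groth.Agent.Lib.Helper48.ProperNhd
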