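/-
Helper library (helper48): the two directions of the EGA IV 15.7-type criterion "an integral
dominant separated finite type `f` is proper near `y` iff every DVR of the function field
dominating `O_{Y,y}` dominates some `O_{X,x}`" (S3434).
-/
import Mathlib
import Groth.Agent.Lib.Helper48.ProperNhd3
import Groth.Agent.Lib.Helper48.ProperNhd4

set_option autoImplicit false
universe u
open CategoryTheory Limits AlgebraicGeometry Topology MorphismProperty TopologicalSpace

namespace Groth.Agent.Lib.Helper48.ProperNhd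


/-- The existence part of the valuative criterion for a morphism which is universally closed over
an open `U` of the base, for valuation rings centred in `U`. -/
theorem exists_lift_of_universallyClosed_restrict {X Y : Scheme.{u}} (f : X ⟶ Y) (U : Y.Opens)
    [UniversallyClosed (f ∣_ U)] (R : Type u) [CommRing R] [IsDomain R] [ValuationRing R]
    (K : Type u) [Field K] [Algebra R K] [IsFractionRing R K]
    (i₁ : Spec (CommRingCat.of K) ⟶ X) (i₂ : Spec (CommRingCat.of R) ⟶ Y)
    (w : i₁ ≫ f = Spec.map (CommRingCat.ofHom (algebraMap R K)) ≫ i₂)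
    (hU : i₂ (IsLocalRing.closedPoint R) ∈ U) :
    ∃ l : Spec (CommRingCat.of R) ⟶ X,
      Spec.map (CommRingCat.ofHom (algebraMap R K)) ≫ l = i₁ ∧ l ≫ f = i₂ := by
  have hrU : Set.range i₂ ⊆ Set.range U.ι := by
    rw [Scheme.Opens.range_ι]
    rintro _ ⟨z, rfl⟩
    have hsp : z ⤳ IsLocalRing.closedPoint R := IsLocalRing.specializes_closedPoint z
    exact (hsp.map i₂.continuous).mem_open U.2 hU
  let gU : Spec (CommRingCat.of R) ⟶ U.toScheme := IsOpenImmersion.lift U.ι i₂ hrU
  have hgU : gU ≫ U.ι = i₂ := IsOpenImmersion.lift_fac U.ι i₂ hrU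
  have hpb := (isPullback_morphismRestrict f U).flip
  have w1 : i₁ ≫ f = (Spec.map (CommRingCat.ofHom (algebraMap R K)) ≫ gU) ≫ U.ι := by
    rw [Category.assoc, hgU, w]
  let a₁ : Spec (CommRingCat.of K) ⟶ (f ⁻¹ᵁ U).toScheme := hpb.lift i₁ _ w1
  have ha₁1 : a₁ ≫ (f ⁻¹ᵁ U).ι = i₁ := hpb.lift_fst _ _ w1
  have ha₁2 : a₁ ≫ f ∣_ U = Spec.map (CommRingCat.ofHom (algebraMap R K)) ≫ gU :=
    hpb.lift_snd _ _ w1
  have hex : ValuativeCriterion.Existence (f ∣_ U) :=
    (UniversallyClosed.eq_valuativeCriterion ▸ (inferInstance : UniversallyClosed (f ∣_ U))).1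
  let sq : ValuativeCommSq (f ∣_ U) :=
    @ValuativeCommSq.mk _ _ (f ∣_ U) R _ inferInstance inferInstance K _ _ _ a₁ gU ⟨ha₁2⟩
  obtain ⟨lU, hlU1, hlU2⟩ := (hex sq).exists_lift
  have h1 : Spec.map (CommRingCat.ofHom (algebraMap R K)) ≫ lU = a₁ := hlU1
  have h2 : lU ≫ f ∣_ U = gU := hlU2
  refine ⟨lU ≫ (f ⁻¹ᵁ U).ι, ?_, ?_⟩
  · rw [← Category.assoc, h1, ha₁1]
  · rw [Category.assoc, ← morphismRestrict_ι, ← Category.assoc, h2, hgU]

/-- Two morphisms from the spectrum of a local ring `A` which agree on the closed point and after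
restriction along an injective `A → K` agree. -/
theorem eq_of_comp_eq_of_closedPoint {Y : Scheme.{u}} {A K : Type u} [CommRing A] [IsLocalRing A]
    [CommRing K] [Algebra A K] (hinj : Function.Injective (algebraMap A K))
    (h₁ h₂ : Spec (CommRingCat.of A) ⟶ Y) (y₀ : Y)
    (hpt₁ : h₁ (IsLocalRing.closedPoint A) = y₀) (hpt₂ : h₂ (IsLocalRing.closedPoint A) = y₀)
    (hK : Spec.map (CommRingCat.ofHom (algebraMap A K)) ≫ h₁ =
      Spec.map (CommRingCat.ofHom (algebraMap A K)) ≫ h₂) : h₁ = h₂ := by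
  obtain ⟨γ₁, e₁⟩ : ∃ γ : Y.presheaf.stalk y₀ ⟶ CommRingCat.of A,
      Spec.map γ ≫ Y.fromSpecStalk y₀ = h₁ := by
    subst hpt₁
    exact ⟨_, Scheme.Spec_stalkClosedPointTo_fromSpecStalk h₁⟩
  obtain ⟨γ₂, e₂⟩ : ∃ γ : Y.presheaf.stalk y₀ ⟶ CommRingCat.of A,
      Spec.map γ ≫ Y.fromSpecStalk y₀ = h₂ := by
    subst hpt₂
    exact ⟨_, Scheme.Spec_stalkClosedPointTo_fromSpecStalk h₂⟩
  have key : γ₁ ≫ CommRingCat.ofHom (algebraMap A K) = γ₂ ≫ CommRingCat.ofHom (algebraMap A K) := by
    apply Spec.map_injective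
    rw [← cancel_mono (Y.fromSpecStalk y₀), Spec.map_comp, Spec.map_comp, Category.assoc,
      Category.assoc, e₁, e₂, hK]
  have hγ : γ₁ = γ₂ := by
    ext r
    apply hinj
    exact congrArg (fun φ => φ.hom r) key
  rw [← e₁, ← e₂, hγ]

/-- If `f` is universally closed over a neighbourhood of `y`, every valuation ring of the function
field dominating the local ring of `y` dominates the local ring of some point over `y`. -/
theorem exists_dominated_of_universallyClosed_restrict {X Y : Scheme.{u}} [IsIntegral X]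
    (f : X ⟶ Y) (y : Y) (hξ : f.base (genericPoint X) ⤳ y) (U : Y.Opens) (hyU : y ∈ U)
    [UniversallyClosed (f ∣_ U)] (A : ValuationSubring X.functionField)
    (h1 : ∀ r : Y.presheaf.stalk y,
      A.valuation ((Y.presheaf.stalkSpecializes hξ ≫ f.stalkMap (genericPoint X)) r) ≤ 1)
    (h2 : ∀ r ∈ IsLocalRing.maximalIdeal (Y.presheaf.stalk y),
      A.valuation ((Y.presheaf.stalkSpecializes hξ ≫ f.stalkMap (genericPoint X)) r) < 1) :
    ∃ x : X, f.base x = y ∧
      (∀ r : X.presheaf.stalk x,
        A.valuation (X.presheaf.stalkSpecializes (genericPoint_specializes x) r) ≤ 1) ∧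
      (∀ r ∈ IsLocalRing.maximalIdeal (X.presheaf.stalk x),
        A.valuation (X.presheaf.stalkSpecializes (genericPoint_specializes x) r) < 1) := by
  let θ : Y.presheaf.stalk y ⟶ X.presheaf.stalk (genericPoint X) :=
    Y.presheaf.stalkSpecializes hξ ≫ f.stalkMap (genericPoint X)
  let γ : Y.presheaf.stalk y →+* A :=
    θ.hom.codRestrict A.toSubring (fun r => (A.valuation_le_one_iff _).mp (h1 r))
  have hγθ : CommRingCat.ofHom γ ≫ CommRingCat.ofHom A.subtype = θ := by
    ext r
    rfl
  haveI hγloc : IsLocalHom γ := by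
    constructor
    intro r hr
    by_contra hnu
    have hmem : r ∈ IsLocalRing.maximalIdeal (Y.presheaf.stalk y) := hnu
    have hlt := h2 r hmem
    have : γ r ∈ IsLocalRing.maximalIdeal A := (A.valuation_lt_one_iff (γ r)).mpr hlt
    exact this hr
  let g : Spec (CommRingCat.of A) ⟶ Y := Spec.map (CommRingCat.ofHom γ) ≫ Y.fromSpecStalk y
  have hg : g (IsLocalRing.closedPoint A) = y := by
    show (Y.fromSpecStalk y) ((Spec.map (CommRingCat.ofHom γ)) (IsLocalRing.closedPoint A)) = y
    have : (Spec.map (CommRingCat.ofHom γ)) (IsLocalRing.closedPoint A) =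
        IsLocalRing.closedPoint (Y.presheaf.stalk y) := IsLocalRing.comap_closedPoint γ
    rw [this]
    exact Scheme.fromSpecStalk_closedPoint
  have w : X.fromSpecStalk (genericPoint X) ≫ f =
      Spec.map (CommRingCat.ofHom (algebraMap A X.functionField)) ≫ g := by
    have : CommRingCat.ofHom (algebraMap A X.functionField) = CommRingCat.ofHom A.subtype := rfl
    rw [this]
    simp only [g]
    rw [← Category.assoc, ← Spec.map_comp, hγθ]
    simp only [θ]
    rw [Spec.map_comp, Category.assoc, Scheme.SpecMap_stalkSpecializes_fromSpecStalk,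
      Scheme.SpecMap_stalkMap_fromSpecStalk]
  obtain ⟨l, hl1, hl2⟩ := exists_lift_of_universallyClosed_restrict f U A X.functionField
    (X.fromSpecStalk (genericPoint X)) g w (by rw [hg]; exact hyU)
  refine ⟨l (IsLocalRing.closedPoint A), ?_, ?_⟩
  · have : (l ≫ f) (IsLocalRing.closedPoint A) = g (IsLocalRing.closedPoint A) := by rw [hl2]
    exact this.trans hg
  let δ := Scheme.stalkClosedPointTo l
  have hδ : δ ≫ CommRingCat.ofHom A.subtype =
      X.presheaf.stalkSpecializes (genericPoint_specializes (l (IsLocalRing.closedPoint A))) := by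
    apply Spec.map_injective
    rw [← cancel_mono (X.fromSpecStalk _), Spec.map_comp, Category.assoc,
      Scheme.Spec_stalkClosedPointTo_fromSpecStalk, Scheme.SpecMap_stalkSpecializes_fromSpecStalk]
    exact hl1
  constructor
  · intro r
    have : X.presheaf.stalkSpecializes (genericPoint_specializes (l (IsLocalRing.closedPoint A))) r
        = ((δ r : A) : X.functionField) := (congrArg (fun φ => φ.hom r) hδ).symm
    rw [this]
    exact A.valuation_le_one _
  · intro r hr
    have : X.presheaf.stalkSpecializes (genericPoint_specializes (l (IsLocalRing.closedPoint A))) r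
        = ((δ r : A) : X.functionField) := (congrArg (fun φ => φ.hom r) hδ).symm
    rw [this]
    rw [← A.valuation_lt_one_iff]
    intro hu
    exact hr (isUnit_of_map_unit δ.hom r hu)

/-- The domination hypothesis of EGA IV 15.7-type criteria gives the DVR lifting property tested
at the generic point. -/
theorem dvrLifting_of_dominates {X Y : Scheme.{u}} [IsIntegral X] (f : X ⟶ Y) (y : Y)
    (hξ : f.base (genericPoint X) ⤳ y)
    (Hyp : ∀ A : ValuationSubring X.functionField, IsDiscreteValuationRing A →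
      (∀ r : Y.presheaf.stalk y,
        A.valuation ((Y.presheaf.stalkSpecializes hξ ≫ f.stalkMap (genericPoint X)) r) ≤ 1) →
      (∀ r ∈ IsLocalRing.maximalIdeal (Y.presheaf.stalk y),
        A.valuation ((Y.presheaf.stalkSpecializes hξ ≫ f.stalkMap (genericPoint X)) r) < 1) →
      ∃ x : X, f.base x = y ∧
        (∀ r : X.presheaf.stalk x,
          A.valuation (X.presheaf.stalkSpecializes (genericPoint_specializes x) r) ≤ 1) ∧
        (∀ r ∈ IsLocalRing.maximalIdeal (X.presheaf.stalk x),
          A.valuation (X.presheaf.stalkSpecializes (genericPoint_specializes x) r) < 1)) :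
    DVRLifting f y {genericPoint X} := by
  intro A _ _ _ K _ _ _ a g hcomm hcl d hd e ha
  obtain rfl : d = genericPoint X := hd
  -- the isomorphism of the function field with K
  haveI : IsIso (X.residue (genericPoint X)) := by
    rw [ConcreteCategory.isIso_iff_bijective]
    exact ⟨(X.residue (genericPoint X)).hom.injective, X.residue_surjective _⟩
  let ρ : X.functionField ≅ CommRingCat.of K := asIso (X.residue (genericPoint X)) ≪≫ e
  have hρa : Spec.map ρ.hom ≫ X.fromSpecStalk (genericPoint X) = a := by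
    rw [ha]
    simp only [ρ, Iso.trans_hom, asIso_hom, Spec.map_comp, Category.assoc]
    rfl
  have hρinj : Function.Injective ρ.hom.hom := ρ.hom.hom.injective
  have hρinvhom : ∀ k : K, ρ.hom.hom (ρ.inv.hom k) = k := fun k => by
    have := congrArg (fun φ => φ.hom k) ρ.inv_hom_id
    exact this
  have hinjA : Function.Injective (algebraMap A K) := IsFractionRing.injective A K
  -- the valuation subring of the function field
  let AK : ValuationSubring K := ValuationSubring.ofSubring (algebraMap A K).range (fun k =>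
    (ValuationRing.isInteger_or_isInteger A k).imp (fun ⟨r, hr⟩ => ⟨r, hr⟩)
      (fun ⟨r, hr⟩ => ⟨r, hr⟩))
  let A' : ValuationSubring X.functionField := AK.comap ρ.hom.hom
  have hmemA' : ∀ x : X.functionField, x ∈ A' ↔ ∃ r : A, algebraMap A K r = ρ.hom.hom x :=
    fun x => Iff.rfl
  -- the ring isomorphism A ≃ A'
  let ψ₀ : A →+* A' := (ρ.inv.hom.comp (algebraMap A K)).codRestrict A'.toSubring
    (fun r => (hmemA' _).mpr ⟨r, (hρinvhom _).symm⟩)
  have hψ₀ : ∀ r : A, ρ.hom.hom ((ψ₀ r : A') : X.functionField) = algebraMap A K r :=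
    fun r => hρinvhom _
  have hψ₀bij : Function.Bijective ψ₀ := by
    constructor
    · intro r r' hrr'
      apply hinjA
      rw [← hψ₀ r, ← hψ₀ r', hrr']
    · intro x
      obtain ⟨r, hr⟩ := (hmemA' x.1).mp x.2
      refine ⟨r, Subtype.ext (hρinj ?_)⟩
      rw [hψ₀ r, hr]
  let ψ : A ≃+* A' := RingEquiv.ofBijective ψ₀ hψ₀bij
  have hψ : ∀ r : A, ρ.hom.hom ((ψ r : A') : X.functionField) = algebraMap A K r := hψ₀
  have hψsymm : ∀ x : A', algebraMap A K (ψ.symm x) = ρ.hom.hom (x : X.functionField) := by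
    intro x
    rw [← hψ (ψ.symm x), ψ.apply_symm_apply]
  haveI hdvr' : IsDiscreteValuationRing A' := IsDiscreteValuationRing.RingEquivClass.isDiscreteValuationRing ψ
  -- domination of the local ring of y
  obtain ⟨γ, hγg, hγloc⟩ : ∃ γ : Y.presheaf.stalk y ⟶ CommRingCat.of A,
      Spec.map γ ≫ Y.fromSpecStalk y = g ∧ IsLocalHom γ.hom := by
    subst hcl
    exact ⟨_, Scheme.Spec_stalkClosedPointTo_fromSpecStalk g, inferInstance⟩
  obtain ⟨θ, hθdef⟩ : ∃ θ : Y.presheaf.stalk y ⟶ X.presheaf.stalk (genericPoint X),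
      θ = Y.presheaf.stalkSpecializes hξ ≫ f.stalkMap (genericPoint X) := ⟨_, rfl⟩
  have hθSpec : Spec.map θ ≫ Y.fromSpecStalk y = X.fromSpecStalk (genericPoint X) ≫ f := by
    rw [hθdef, Spec.map_comp, Category.assoc, Scheme.SpecMap_stalkSpecializes_fromSpecStalk,
      Scheme.SpecMap_stalkMap_fromSpecStalk]
  have hL : Spec.map (θ ≫ ρ.hom) ≫ Y.fromSpecStalk y = a ≫ f := by
    rw [Spec.map_comp, Category.assoc, hθSpec, ← Category.assoc, hρa]
  have hR : Spec.map (γ ≫ CommRingCat.ofHom (algebraMap A K)) ≫ Y.fromSpecStalk y = a ≫ f := by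
    rw [Spec.map_comp, Category.assoc, hγg, hcomm]
  have hθγ : θ ≫ ρ.hom = γ ≫ CommRingCat.ofHom (algebraMap A K) := by
    apply Spec.map_injective
    rw [← cancel_mono (Y.fromSpecStalk y), hL, hR]
  have hθγ' : ∀ r, ρ.hom.hom (θ.hom r) = algebraMap A K (γ.hom r) :=
    fun r => congrArg (fun φ => φ.hom r) hθγ
  have hθmem : ∀ r, θ.hom r ∈ A' := fun r => (hmemA' _).mpr ⟨γ.hom r, (hθγ' r).symm⟩
  have h1 : ∀ r : Y.presheaf.stalk y,
      A'.valuation ((Y.presheaf.stalkSpecializes hξ ≫ f.stalkMap (genericPoint X)) r) ≤ 1 := by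
    rw [← hθdef]
    exact fun r => (A'.valuation_le_one_iff _).mpr (hθmem r)
  have h2 : ∀ r ∈ IsLocalRing.maximalIdeal (Y.presheaf.stalk y),
      A'.valuation ((Y.presheaf.stalkSpecializes hξ ≫ f.stalkMap (genericPoint X)) r) < 1 := by
    rw [← hθdef]
    intro r hr
    have hmem : (⟨θ.hom r, hθmem r⟩ : A') ∈ IsLocalRing.maximalIdeal A' := by
      intro hu
      have hu' : IsUnit (ψ.symm ⟨θ.hom r, hθmem r⟩) := hu.map ψ.symm
      have heq : ψ.symm ⟨θ.hom r, hθmem r⟩ = γ.hom r := by
        apply hinjA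
        rw [hψsymm]
        exact hθγ' r
      rw [heq] at hu'
      exact hr (isUnit_of_map_unit γ.hom r hu')
    exact (A'.valuation_lt_one_iff ⟨θ.hom r, hθmem r⟩).mp hmem
  obtain ⟨x, hfx, hx1, hx2⟩ := Hyp A' hdvr' h1 h2
  -- the local homomorphism O_{X,x} → A
  let sp := X.presheaf.stalkSpecializes (genericPoint_specializes x)
  let δ' : X.presheaf.stalk x →+* A' :=
    sp.hom.codRestrict A'.toSubring (fun r => (A'.valuation_le_one_iff _).mp (hx1 r))
  let δ : X.presheaf.stalk x →+* A := ψ.symm.toRingHom.comp δ'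
  have hδ : ∀ r, algebraMap A K (δ r) = ρ.hom.hom (sp.hom r) := fun r => hψsymm (δ' r)
  haveI hδloc : IsLocalHom δ := by
    constructor
    intro r hr
    by_contra hnu
    have hmem : r ∈ IsLocalRing.maximalIdeal (X.presheaf.stalk x) := hnu
    have hlt := hx2 r hmem
    have hm' : δ' r ∈ IsLocalRing.maximalIdeal A' := (A'.valuation_lt_one_iff (δ' r)).mpr hlt
    have hu : IsUnit (ψ (δ r)) := hr.map ψ
    have : ψ (δ r) = δ' r := ψ.apply_symm_apply _
    rw [this] at hu
    exact hm' hu
  let l : Spec (CommRingCat.of A) ⟶ X := Spec.map (CommRingCat.ofHom δ) ≫ X.fromSpecStalk x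
  have hlx : l (IsLocalRing.closedPoint A) = x := by
    show (X.fromSpecStalk x) ((Spec.map (CommRingCat.ofHom δ)) (IsLocalRing.closedPoint A)) = x
    have : (Spec.map (CommRingCat.ofHom δ)) (IsLocalRing.closedPoint A) =
        IsLocalRing.closedPoint (X.presheaf.stalk x) := IsLocalRing.comap_closedPoint δ
    rw [this]
    exact Scheme.fromSpecStalk_closedPoint
  have hl1 : Spec.map (CommRingCat.ofHom (algebraMap A K)) ≫ l = a := by
    have hcomp : CommRingCat.ofHom δ ≫ CommRingCat.ofHom (algebraMap A K) = sp ≫ ρ.hom := by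
      ext r
      exact hδ r
    simp only [l]
    rw [← Category.assoc, ← Spec.map_comp, hcomp, Spec.map_comp, Category.assoc,
      Scheme.SpecMap_stalkSpecializes_fromSpecStalk, hρa]
  refine ⟨l, hl1, ?_⟩
  apply eq_of_comp_eq_of_closedPoint hinjA (l ≫ f) g y
  · show f (l (IsLocalRing.closedPoint A)) = _
    rw [hlx]
    exact hfx
  · exact hcl
  · rw [← Category.assoc, hl1, hcomm]

end Groth.Agent.Lib.Helper48.ProperNhd
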