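import Mathlib

set_option autoImplicit false
universe u

namespace Groth.Agent.Lib.Helper48

open AlgebraicGeometry CategoryTheory

/-- Points of a cartesian square of schemes surject onto the topological fibre product. -/
theorem isPullback_exists_preimage {X Y X' Y' : Scheme.{u}} {f : X ⟶ Y} {g : Y' ⟶ Y}
    {g' : X' ⟶ X} {f' : X' ⟶ Y'} (hsq : IsPullback g' f' f g) (x : X) (y : Y')
    (h : f x = g y) : ∃ z : X', g' z = x ∧ f' z = y := by
  obtain ⟨z, hz1, hz2⟩ := Scheme.Pullback.exists_preimage_pullback (f := f) (g := g) x y h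
  refine ⟨hsq.isoPullback.inv z, ?_, ?_⟩
  · rw [← Scheme.Hom.comp_apply, hsq.isoPullback_inv_fst, hz1]
  · rw [← Scheme.Hom.comp_apply, hsq.isoPullback_inv_snd, hz2]

end Groth.Agent.Lib.Helper48
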