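import Mathlib

universe u

namespace Groth.Agent.Lib.Helper48

open AlgebraicGeometry CategoryTheory Limits

/-- A point of a fibre is open in the fibre iff it is isolated in the set-theoretic fibre. -/
theorem isOpen_singleton_fiber_iff {X Y : Scheme.{u}} (f : X ⟶ Y) (y : Y) (z : f.fiber y) :
    IsOpen {z} ↔ ∃ U : Set X, IsOpen U ∧ f.fiberι y z ∈ U ∧
      ∀ w ∈ U, f w = y → w = f.fiberι y z := by
  have hemb := (f.fiberι y).isEmbedding
  have hrange := f.range_fiberι y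
  rw [hemb.isOpen_iff]
  constructor
  · rintro ⟨U, hU, hpre⟩
    refine ⟨U, hU, ?_, ?_⟩
    · have : z ∈ (f.fiberι y) ⁻¹' U := by rw [hpre]; rfl
      exact this
    · intro w hwU hw
      have hw' : w ∈ Set.range (f.fiberι y) := by rw [hrange]; exact hw
      obtain ⟨z₂, rfl⟩ := hw'
      have : z₂ ∈ (f.fiberι y) ⁻¹' U := hwU
      rw [hpre] at this
      rw [Set.mem_singleton_iff.mp this]
  · rintro ⟨U, hU, hzU, hiso⟩
    refine ⟨U, hU, ?_⟩
    ext z₂
    simp only [Set.mem_preimage, Set.mem_singleton_iff]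
    constructor
    · intro hz₂
      have h1 : f.fiberι y z₂ ∈ f ⁻¹' {y} := by rw [← hrange]; exact ⟨z₂, rfl⟩
      exact hemb.injective (hiso _ hz₂ h1)
    · rintro rfl
      exact hzU

/-- Quasi-finiteness at a point: the point is isolated in its fibre. -/
theorem quasiFiniteAt_iff_exists_isOpen {X Y : Scheme.{u}} (f : X ⟶ Y) [LocallyOfFiniteType f]
    (x : X) : f.QuasiFiniteAt x ↔ ∃ U : Set X, IsOpen U ∧ x ∈ U ∧ ∀ w ∈ U, f w = f x → w = x := by
  rw [Scheme.Hom.quasiFiniteAt_iff_isOpen_singleton_asFiber, isOpen_singleton_fiber_iff,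
    Scheme.Hom.fiberι_asFiber]

theorem quasiFiniteAt_of_baseChange {X S X' S' : Scheme.{u}} (f : X ⟶ S) [LocallyOfFiniteType f]
    (g : S' ⟶ S) (g' : X' ⟶ X) (f' : X' ⟶ S') (hsq : IsPullback g' f' f g) (x' : X')
    (hx' : f'.QuasiFiniteAt x') : f.QuasiFiniteAt (g' x') := by
  haveI : LocallyOfFiniteType f' := MorphismProperty.of_isPullback hsq ‹_›
  have hopen := Scheme.Hom.quasiFiniteAt_iff_isOpen_singleton_asFiber.mp hx'
  have hpb := isPullback_fiberToSpecResidueField_of_isPullback hsq (f' x')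
  obtain ⟨φ, hφ⟩ : ∃ φ : f'.fiber (f' x') ⟶ f.fiber (g (f' x')),
      φ = pullback.map f' (S'.fromSpecResidueField (f' x')) f
        (S.fromSpecResidueField (g (f' x'))) g' (Spec.map (g.residueFieldMap (f' x'))) g
        hsq.w.symm (by simp) := ⟨_, rfl⟩
  rw [← hφ] at hpb
  have hφι : φ ≫ f.fiberι (g (f' x')) = f'.fiberι (f' x') ≫ g' := by
    rw [hφ]
    exact pullback.lift_fst _ _ _
  haveI : UniversallyOpen (Spec.map (g.residueFieldMap (f' x'))) := inferInstance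
  haveI : UniversallyOpen φ := MorphismProperty.of_isPullback hpb.flip inferInstance
  have hopen2 := φ.isOpenMap _ hopen
  simp only [Set.image_singleton] at hopen2
  obtain ⟨U, hU, hxU, hiso⟩ := (isOpen_singleton_fiber_iff f _ _).mp hopen2
  have hpt : f.fiberι (g (f' x')) (φ (f'.asFiber x')) = g' x' := by
    rw [← Scheme.Hom.comp_apply, hφι, Scheme.Hom.comp_apply, Scheme.Hom.fiberι_asFiber]
  rw [hpt] at hxU hiso
  have hfx : f (g' x') = g (f' x') := by
    rw [← Scheme.Hom.comp_apply, ← Scheme.Hom.comp_apply, hsq.w]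
  rw [quasiFiniteAt_iff_exists_isOpen]
  exact ⟨U, hU, hxU, fun w hw hfw => hiso w hw (hfw.trans hfx)⟩

set_option maxHeartbeats 400000 in
theorem quasiFiniteAt_baseChange {X S X' S' : Scheme.{u}} (f : X ⟶ S) [LocallyOfFiniteType f]
    (g : S' ⟶ S) (g' : X' ⟶ X) (f' : X' ⟶ S') (hsq : IsPullback g' f' f g) (x' : X')
    (hx : f.QuasiFiniteAt (g' x')) : f'.QuasiFiniteAt x' := by
  have hP : IsPullback (g' ∣_ f.quasiFiniteLocus) ((g' ⁻¹ᵁ f.quasiFiniteLocus).ι ≫ f')
      (f.quasiFiniteLocus.ι ≫ f) g :=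
    (isPullback_morphismRestrict g' f.quasiFiniteLocus).paste_vert hsq
  have hq : LocallyQuasiFinite (f.quasiFiniteLocus.ι ≫ f) := inferInstance
  have hq' : LocallyQuasiFinite ((g' ⁻¹ᵁ f.quasiFiniteLocus).ι ≫ f') :=
    MorphismProperty.of_isPullback (P := @LocallyQuasiFinite) hP hq
  have hx'' : x' ∈ g' ⁻¹ᵁ f.quasiFiniteLocus := by
    rw [Scheme.Hom.mem_preimage]
    exact hx
  have h1 := ((g' ⁻¹ᵁ f.quasiFiniteLocus).ι ≫ f').quasiFiniteAt ⟨x', hx''⟩
  have h2 := (Scheme.Hom.quasiFiniteAt_comp_iff_of_isOpenImmersion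
    (f := (g' ⁻¹ᵁ f.quasiFiniteLocus).ι) (g := f') (x := ⟨x', hx''⟩)).mp h1
  exact h2

end Groth.Agent.Lib.Helper48
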