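import Mathlib
import Groth.Prelude.Def_Found

/-!
# N-2 ascends along quasi-finite finite type extensions of domains (Stacks 0333 style)

Via Zariski's main theorem (`Algebra.ZariskisMainProperty.of_finiteType`).
-/

universe u

namespace Groth.Agent.Lib.Helper48

/-- Consequence of Zariski's main theorem: if `A` is integrally closed in `L`, and `A → W → L` with
`W ⊆ L` of finite type and quasi-finite over `A`, then every prime of `W` avoids some `r ∈ A` a power
of which multiplies any given element of `W` into `A`. -/
theorem exists_pow_mul_mem_of_quasiFinite {A W L : Type*} [CommRing A] [CommRing W] [CommRing L]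
    [Algebra A W] [Algebra W L] [Algebra A L] [IsScalarTower A W L]
    (hWL : Function.Injective (algebraMap W L))
    (hcl : ∀ z : L, IsIntegral A z → z ∈ (algebraMap A L).range)
    [Algebra.FiniteType A W] [Algebra.QuasiFinite A W] (q : Ideal W) [q.IsPrime] :
    ∃ r : A, algebraMap A W r ∉ q ∧
      ∀ w : W, ∃ (m : ℕ) (a : A), algebraMap A W a = algebraMap A W r ^ m * w := by
  obtain ⟨r, hrq, hrint, hr⟩ := Algebra.zariskisMainProperty_iff.mp
    (Algebra.ZariskisMainProperty.of_finiteType (R := A) q)
  have key : ∀ w : W, IsIntegral A w → ∃ a : A, algebraMap A W a = w := by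
    intro w hw
    have h1 : IsIntegral A (algebraMap W L w) := hw.map (IsScalarTower.toAlgHom A W L)
    obtain ⟨a, ha⟩ := hcl _ h1
    refine ⟨a, hWL ?_⟩
    rw [← IsScalarTower.algebraMap_apply, ha]
  obtain ⟨r₀, rfl⟩ := key r hrint
  refine ⟨r₀, hrq, fun w => ?_⟩
  obtain ⟨m, hm⟩ := hr w
  obtain ⟨a, ha⟩ := key _ hm
  exact ⟨m, a, ha⟩

/-- Conductor argument: a subalgebra `T` of `W` such that every prime of `W` avoids an element
multiplying `W` into `T` is everything. -/
theorem subalgebra_eq_top_of_forall_prime {A W : Type*} [CommRing A] [CommRing W] [Algebra A W]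
    (T : Subalgebra A W)
    (h : ∀ (q : Ideal W) [q.IsPrime], ∃ c : W, c ∉ q ∧ ∀ w : W, c * w ∈ T) : T = ⊤ := by
  let I : Ideal W :=
    { carrier := {c | ∀ w : W, c * w ∈ T}
      zero_mem' := fun w => by rw [zero_mul]; exact T.zero_mem
      add_mem' := fun {a b} ha hb w => by rw [add_mul]; exact T.add_mem (ha w) (hb w)
      smul_mem' := fun v c hc w => by
        show v * c * w ∈ T
        rw [mul_comm v c, mul_assoc]; exact hc (v * w) }
  have hI : I = ⊤ := by
    by_contra hne
    obtain ⟨m, hm, hIm⟩ := Ideal.exists_le_maximal I hne
    obtain ⟨c, hcm, hc⟩ := h m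
    exact hcm (hIm hc)
  rw [eq_top_iff]
  intro w _
  have h1 : (1 : W) ∈ I := hI ▸ Submodule.mem_top
  have := h1 w
  rwa [one_mul] at this

/-- If `R ⊆ S` are domains, `S` of finite type and quasi-finite over `R`, `R` Noetherian and N-2, then
`S` is N-2. -/
theorem isN2_of_quasiFinite_extension {R S : Type u} [CommRing R] [IsDomain R] [IsNoetherianRing R]
    [CommRing S] [IsDomain S] [Algebra R S] (hinj : Function.Injective (algebraMap R S))
    [Algebra.FiniteType R S] [Algebra.QuasiFinite R S] (hR : CAlg.IsN2 R) : CAlg.IsN2 S := by
  intro L _ _ _ _ hfd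
  letI : Algebra R L := ((algebraMap S L).comp (algebraMap R S)).toAlgebra
  haveI : IsScalarTower R S L := IsScalarTower.of_algebraMap_eq' rfl
  have hSL : Function.Injective (algebraMap S L) := by
    rw [IsScalarTower.algebraMap_eq S (FractionRing S) L]
    exact (algebraMap (FractionRing S) L).injective.comp (IsFractionRing.injective S (FractionRing S))
  have hRL : Function.Injective (algebraMap R L) := hSL.comp hinj
  letI : Algebra (FractionRing R) L := (IsFractionRing.lift (g := algebraMap R L) hRL).toAlgebra
  haveI : IsScalarTower R (FractionRing R) L :=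
    IsScalarTower.of_algebraMap_eq (fun x => (IsFractionRing.lift_algebraMap hRL x).symm)
  -- finite dimensionality
  haveI : FiniteDimensional (FractionRing R) L := by
    haveI : Algebra.QuasiFinite S L := Algebra.QuasiFinite.trans S (FractionRing S) L
    haveI : Algebra.QuasiFinite R L := Algebra.QuasiFinite.trans R S L
    haveI : Algebra.QuasiFinite (FractionRing R) L :=
      Algebra.QuasiFinite.of_restrictScalars R (FractionRing R) L
    exact Module.Finite.of_quasiFinite
  haveI hfin : Module.Finite R (integralClosure R L) := hR L inferInstance
  haveI : IsNoetherianRing S := Algebra.FiniteType.isNoetherianRing R S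
  obtain ⟨s, hs⟩ := hfin.fg_top
  -- the image of the generators in L
  let sL : Set L := (fun a : integralClosure R L => (a : L)) '' (s : Set (integralClosure R L))
  have hsLfin : sL.Finite := s.finite_toSet.image _
  have hsLint : ∀ y ∈ sL, IsIntegral S y := by
    rintro _ ⟨a, -, rfl⟩
    exact IsIntegral.tower_top (R := R) a.2
  let T : Subalgebra S L := Algebra.adjoin S sL
  have hTfg : T.toSubmodule.FG := fg_adjoin_of_finite hsLfin hsLint
  -- R' ⊆ T
  have hR'T : ∀ y : L, y ∈ integralClosure R L → y ∈ T := by
    intro y hy
    have h1 : (⟨y, hy⟩ : integralClosure R L) ∈ Submodule.span R (s : Set (integralClosure R L)) := by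
      rw [hs]; trivial
    have h2 : ∀ a ∈ Submodule.span R (s : Set (integralClosure R L)), (a : L) ∈ T := by
      intro a ha
      induction ha using Submodule.span_induction with
      | mem a ha => exact Algebra.subset_adjoin ⟨a, ha, rfl⟩
      | zero => exact T.zero_mem
      | add a b _ _ iha ihb => exact T.add_mem iha ihb
      | smul r a _ iha =>
        have : ((r • a : integralClosure R L) : L) = algebraMap R S r • (a : L) := by
          rw [Algebra.smul_def, Algebra.smul_def]
          rfl
        rw [this]
        exact T.smul_mem iha _
    exact h2 _ h1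
  -- main claim
  have main : ∀ x : L, IsIntegral S x → x ∈ T := by
    intro x hx
    let W : Subalgebra S L := Algebra.adjoin S (insert x sL)
    have hWfg : W.toSubmodule.FG := fg_adjoin_of_finite (hsLfin.insert x) (by
      intro y hy
      rcases hy with rfl | hy
      · exact hx
      · exact hsLint y hy)
    haveI : Module.Finite S W := Module.Finite.iff_fg.mpr hWfg
    have hTW : T ≤ W := Algebra.adjoin_mono (Set.subset_insert _ _)
    have hxW : x ∈ W := Algebra.subset_adjoin (Set.mem_insert _ _)
    have hR'W : ∀ y : L, y ∈ integralClosure R L → y ∈ W := fun y hy => hTW (hR'T y hy)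
    -- the ring hom R' → W
    let φ : integralClosure R L →+* W :=
      { toFun := fun a => ⟨a.1, hR'W a.1 a.2⟩
        map_one' := rfl
        map_mul' := fun _ _ => rfl
        map_zero' := rfl
        map_add' := fun _ _ => rfl }
    letI : Algebra (integralClosure R L) W := φ.toAlgebra
    haveI : IsScalarTower (integralClosure R L) W L := IsScalarTower.of_algebraMap_eq' rfl
    haveI : IsScalarTower R (integralClosure R L) W := IsScalarTower.of_algebraMap_eq' (by
      ext r
      rfl)
    haveI : Algebra.QuasiFinite R W := Algebra.QuasiFinite.trans R S W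
    haveI : Algebra.QuasiFinite (integralClosure R L) W :=
      Algebra.QuasiFinite.of_restrictScalars R (integralClosure R L) W
    haveI : Algebra.FiniteType R W := Algebra.FiniteType.trans (S := S) inferInstance inferInstance
    haveI : Algebra.FiniteType (integralClosure R L) W :=
      Algebra.FiniteType.of_restrictScalars_finiteType R (integralClosure R L) W
    have hWL : Function.Injective (algebraMap W L) := Subtype.val_injective
    have hcl : ∀ z : L, IsIntegral (integralClosure R L) z →
        z ∈ (algebraMap (integralClosure R L) L).range := by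
      intro z hz
      have hz' : IsIntegral R z := isIntegral_trans (A := integralClosure R L) z hz
      exact ⟨⟨z, hz'⟩, rfl⟩
    -- module generators of W over S
    obtain ⟨g, hg⟩ := (inferInstance : Module.Finite S W).fg_top
    -- the subalgebra of W of elements lying in T
    let T' : Subalgebra S W := T.comap W.val
    have hT' : T' = ⊤ := by
      apply subalgebra_eq_top_of_forall_prime
      intro q hq
      obtain ⟨r, hrq, hr⟩ := exists_pow_mul_mem_of_quasiFinite (A := integralClosure R L)
        (W := W) (L := L) hWL hcl q
      choose m a ha using hr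
      let M : ℕ := g.sup m
      refine ⟨algebraMap (integralClosure R L) W r ^ M, fun h => hrq (hq.mem_of_pow_mem _ h), ?_⟩
      intro w
      have hw : w ∈ Submodule.span S (g : Set W) := by rw [hg]; trivial
      induction hw using Submodule.span_induction with
      | mem w hw =>
        have hle : m w ≤ M := Finset.le_sup hw
        have : algebraMap (integralClosure R L) W r ^ M * w =
            algebraMap (integralClosure R L) W (r ^ (M - m w) * a w) := by
          rw [map_mul, map_pow, ha w, ← mul_assoc, ← pow_add, Nat.sub_add_cancel hle]
        rw [this]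
        show ((r ^ (M - m w) * a w : integralClosure R L) : L) ∈ T
        exact hR'T _ (r ^ (M - m w) * a w).2
      | zero => rw [mul_zero]; exact T'.zero_mem
      | add a b _ _ iha ihb => rw [mul_add]; exact T'.add_mem iha ihb
      | smul c a _ iha =>
        rw [mul_smul_comm]
        exact T'.smul_mem iha c
    have : (⟨x, hxW⟩ : W) ∈ T' := by rw [hT']; trivial
    exact this
  haveI : Module.Finite S T := Module.Finite.iff_fg.mpr hTfg
  have hle : integralClosure S L ≤ T := fun x hx => main x hx
  exact Module.Finite.of_injective (Subalgebra.inclusion hle).toLinearMap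
    (Subalgebra.inclusion_injective hle)

end Groth.Agent.Lib.Helper48
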