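import Mathlib
import Groth.Prelude
import Groth.Agent.Lib.Helper48.Kollar
import Groth.Agent.Lib.Helper29.FlatAscent
import Groth.Agent.Lib.Helper29.Ratliff
import Groth.Agent.Lib.Helper29.DepthFinite
import Groth.Agent.Lib.Helper98.UnivCatenary

/-!
# Finiteness of `H^1_I(M)` from `(S_1)` formal fibres (Stacks 0BK1-type) (helper48)
-/

set_option autoImplicit false
set_option linter.style.haveILetI false
set_option linter.unusedSectionVars false
universe u

namespace Groth.Agent.Lib.Helper48

open LocCoh IsLocalRing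
open scoped TensorProduct

section FlatAss

variable {R S : Type u} [CommRing R] [CommRing S] [Algebra R S] [IsNoetherianRing R]
  [IsNoetherianRing S] [Module.Flat R S]

/-- If `r = (pS : z)` then the fibre local ring `S_r / p S_r` has depth zero. -/
theorem depth_fibLoc_eq_zero_of_colon (p : Ideal R) [p.IsPrime] (r : Ideal S) [r.IsPrime]
    [r.LiesOver p]
    [IsLocalRing (Localization.AtPrime r ⧸ p.map (algebraMap R (Localization.AtPrime r)))]
    (z : S) (hz : ∀ t : S, t ∈ r ↔ t * z ∈ p.map (algebraMap R S)) :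
    LocCoh.depth (Localization.AtPrime r ⧸ p.map (algebraMap R (Localization.AtPrime r)))
      (Localization.AtPrime r ⧸ p.map (algebraMap R (Localization.AtPrime r))) = 0 := by
  have hmapmap : p.map (algebraMap R (Localization.AtPrime r)) =
      (p.map (algebraMap R S)).map (algebraMap S (Localization.AtPrime r)) := by
    rw [Ideal.map_map, ← IsScalarTower.algebraMap_eq]
  -- the class of `z`
  have hζ : Ideal.Quotient.mk (p.map (algebraMap R (Localization.AtPrime r)))
      (algebraMap S (Localization.AtPrime r) z) ≠ 0 := by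
    intro h0
    rw [Ideal.Quotient.eq_zero_iff_mem, hmapmap,
      IsLocalization.mem_map_algebraMap_iff r.primeCompl] at h0
    obtain ⟨⟨⟨i, hi⟩, ⟨s, hs⟩⟩, h1⟩ := h0
    simp only at h1
    rw [← map_mul] at h1
    obtain ⟨⟨t, ht⟩, h2⟩ := (IsLocalization.eq_iff_exists r.primeCompl _).mp h1
    simp only at h2
    have h3 : (t * s) * z ∈ p.map (algebraMap R S) := by
      have : (t * s) * z = t * (z * s) := by ring
      rw [this, h2]
      exact Ideal.mul_mem_left _ _ hi
    have h4 := (hz (t * s)).mpr h3
    exact (r.primeCompl.mul_mem ht hs) h4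
  apply Groth.Agent.Lib.Helper29.depth_eq_zero_of_forall_not_isSMulRegular
  intro b hb hreg
  apply hζ
  apply hreg
  show b • _ = b • 0
  rw [smul_zero, smul_eq_mul]
  obtain ⟨β, rfl⟩ := Ideal.Quotient.mk_surjective b
  have hβ : β ∈ maximalIdeal (Localization.AtPrime r) := by
    by_contra hβ
    have hu : IsUnit β := by
      by_contra hnu
      exact hβ ((mem_maximalIdeal β).mpr hnu)
    have : IsUnit (Ideal.Quotient.mk (p.map (algebraMap R (Localization.AtPrime r))) β) :=
      hu.map _
    exact (mem_maximalIdeal _).mp hb this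
  obtain ⟨t, ⟨s, hs⟩, rfl⟩ := IsLocalization.exists_mk'_eq r.primeCompl β
  rw [IsLocalization.AtPrime.mk'_mem_maximal_iff (Localization.AtPrime r) r] at hβ
  rw [← map_mul, Ideal.Quotient.eq_zero_iff_mem, hmapmap]
  have h5 : IsLocalization.mk' (Localization.AtPrime r) t (⟨s, hs⟩ : r.primeCompl) *
      algebraMap S (Localization.AtPrime r) z =
      IsLocalization.mk' (Localization.AtPrime r) (t * z) (⟨s, hs⟩ : r.primeCompl) := by
    rw [IsLocalization.mk'_eq_mul_mk'_one t, IsLocalization.mk'_eq_mul_mk'_one (t * z), map_mul]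
    ring
  rw [h5, IsLocalization.mk'_mem_map_algebraMap_iff]
  exact ⟨1, r.primeCompl.one_mem, by rw [one_mul]; exact (hz t).mp hβ⟩

/-- **No embedded components along an `(S_1)` fibre**: for a flat map `R → S` of Noetherian rings
whose fibre over `p` satisfies `(S_1)`, every associated prime of `S/pS` is minimal over `pS`. -/
theorem mem_minimalPrimes_of_mem_associatedPrimes_of_hasSk_fiber (p : Ideal R) [p.IsPrime]
    (hfib : LocCoh.HasSk 1 (p.Fiber S) (p.Fiber S)) (P : Ideal S)
    (hP : P ∈ associatedPrimes S (S ⧸ p.map (algebraMap R S))) :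
    P ∈ (p.map (algebraMap R S)).minimalPrimes := by
  obtain ⟨hPp, m, hm⟩ := isAssociatedPrime_iff.mp hP
  obtain ⟨z, rfl⟩ := Ideal.Quotient.mk_surjective m
  have hz : ∀ t : S, t ∈ P ↔ t * z ∈ p.map (algebraMap R S) := by
    intro t
    rw [hm, Submodule.mem_colon_singleton, Submodule.mem_bot]
    have hsm : t • (Ideal.Quotient.mk (p.map (algebraMap R S)) z) =
        Ideal.Quotient.mk _ (t * z) := rfl
    rw [hsm, Ideal.Quotient.eq_zero_iff_mem]
  have hzn : z ∉ p.map (algebraMap R S) := by
    intro hzmem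
    apply hPp.ne_top
    rw [Ideal.eq_top_iff_one, hz, one_mul]
    exact hzmem
  have hle : p.map (algebraMap R S) ≤ P := fun t ht => (hz t).mpr (Ideal.mul_mem_right _ _ ht)
  have hover : P.LiesOver p := by
    refine ⟨?_⟩
    ext a
    rw [Ideal.under_def, Ideal.mem_comap]
    constructor
    · intro ha
      exact hle (Ideal.mem_map_of_mem _ ha)
    · intro ha
      by_contra hap
      have hreg : IsSMulRegular (R ⧸ p) a := by
        intro x y hxy
        obtain ⟨x, rfl⟩ := Ideal.Quotient.mk_surjective x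
        obtain ⟨y, rfl⟩ := Ideal.Quotient.mk_surjective y
        have h1 : Ideal.Quotient.mk p (a * x) = Ideal.Quotient.mk p (a * y) := hxy
        rw [Ideal.Quotient.eq, ← mul_sub] at h1
        rw [Ideal.Quotient.eq]
        exact (Ideal.IsPrime.mem_or_mem inferInstance h1).resolve_left hap
      have h2 : IsSMulRegular (S ⊗[R] (R ⧸ p)) (algebraMap R S a) :=
        hreg.of_flat_of_isBaseChange (TensorProduct.isBaseChange R (R ⧸ p) S)
      have h3 : IsSMulRegular (S ⧸ p.map (algebraMap R S)) (algebraMap R S a) :=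
        ((Algebra.TensorProduct.quotIdealMapEquivTensorQuot S p).toLinearEquiv.isSMulRegular_congr
          _).mpr h2
      apply hzn
      rw [← Ideal.Quotient.eq_zero_iff_mem]
      apply h3
      show algebraMap R S a • _ = algebraMap R S a • 0
      rw [smul_zero]
      have hsm : algebraMap R S a • (Ideal.Quotient.mk (p.map (algebraMap R S)) z) =
          Ideal.Quotient.mk _ (algebraMap R S a * z) := rfl
      rw [hsm, Ideal.Quotient.eq_zero_iff_mem]
      exact (hz _).mp ha
  haveI := hPp
  haveI := hover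
  obtain ⟨q', hq', rfl⟩ := Groth.Agent.Lib.Helper29.exists_fiber_prime p P
  haveI := hq'
  haveI hNF : IsNoetherianRing (p.Fiber S) := Groth.Agent.Lib.Helper29.isNoetherianRing_fiber R S p
  haveI hNq' : IsNoetherianRing (Localization.AtPrime q') :=
    IsLocalization.isNoetherianRing q'.primeCompl _ inferInstance
  let e := Groth.Agent.Lib.Helper29.fiberLocalizationEquiv p q'
  haveI hloc : IsLocalRing (Localization.AtPrime
      (q'.comap (Algebra.TensorProduct.includeRight : S →ₐ[R] p.Fiber S)) ⧸
      p.map (algebraMap R (Localization.AtPrime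
        (q'.comap (Algebra.TensorProduct.includeRight : S →ₐ[R] p.Fiber S))))) :=
    e.isLocalRing
  have h0 := depth_fibLoc_eq_zero_of_colon p
    (q'.comap (Algebra.TensorProduct.includeRight : S →ₐ[R] p.Fiber S)) z hz
  have hS1 := (Groth.Agent.Lib.Helper29.hasSk_self_iff 1 _).mp hfib q'
  rw [Groth.Agent.Lib.Helper29.depth_self_eq_of_ringEquiv (R := Localization.AtPrime q') e,
    h0] at hS1
  have hq0 : q'.height = 0 := by
    rcases le_total (1 : ℕ∞) q'.height with h | h
    · rw [min_eq_left (by exact_mod_cast h)] at hS1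
      exact absurd hS1 (by norm_num)
    · rw [min_eq_right (by exact_mod_cast h)] at hS1
      exact le_antisymm hS1 bot_le
  have h1 : ((maximalIdeal (Localization.AtPrime
      (q'.comap (Algebra.TensorProduct.includeRight : S →ₐ[R] p.Fiber S)) ⧸
      p.map (algebraMap R (Localization.AtPrime
        (q'.comap (Algebra.TensorProduct.includeRight : S →ₐ[R] p.Fiber S)))))).height :
          WithBot ℕ∞) = q'.height := by
    rw [IsLocalRing.maximalIdeal_height_eq_ringKrullDim, ← ringKrullDim_eq_of_ringEquiv e]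
    exact IsLocalization.AtPrime.ringKrullDim_eq_height q' (Localization.AtPrime q')
  have h2 : (maximalIdeal (Localization.AtPrime
      (q'.comap (Algebra.TensorProduct.includeRight : S →ₐ[R] p.Fiber S)) ⧸
      p.map (algebraMap R (Localization.AtPrime
        (q'.comap (Algebra.TensorProduct.includeRight : S →ₐ[R] p.Fiber S)))))).height =
          q'.height := by exact_mod_cast h1
  have hht : (q'.comap (Algebra.TensorProduct.includeRight : S →ₐ[R] p.Fiber S)).height =
      p.height := by
    rw [Groth.Agent.Lib.Helper29.height_eq_add_of_flat p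
      (q'.comap (Algebra.TensorProduct.includeRight : S →ₐ[R] p.Fiber S)), h2, hq0, add_zero]
  refine ⟨⟨hPp, hle⟩, fun P' hP' hP'le => ?_⟩
  obtain ⟨hP'p, hP'ge⟩ := hP'
  haveI := hP'p
  haveI hover' : P'.LiesOver p := by
    refine ⟨?_⟩
    ext a
    rw [Ideal.under_def, Ideal.mem_comap]
    constructor
    · intro ha
      exact hP'ge (Ideal.mem_map_of_mem _ ha)
    · intro ha
      have h3 := hP'le ha
      rw [hover.over, Ideal.under_def, Ideal.mem_comap]
      exact h3
  haveI : Nontrivial (Localization.AtPrime P' ⧸ p.map (algebraMap R (Localization.AtPrime P'))) :=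
    Groth.Agent.Lib.Helper29.nontrivial_fibLoc p P'
  have h5 := Groth.Agent.Lib.Helper29.height_eq_add_of_flat p P'
  by_contra hnle
  have hlt : P' < q'.comap (Algebra.TensorProduct.includeRight : S →ₐ[R] p.Fiber S) :=
    lt_of_le_of_ne hP'le (fun h => hnle (h ▸ le_rfl))
  have h6 := Ideal.height_strict_mono_of_isPrime hlt
  rw [hht, h5] at h6
  exact absurd h6 (not_lt.mpr le_self_add)

end FlatAss

/-- Localizations of universally catenary rings at primes are universally catenary. -/
theorem isUniversallyCatenary_localization_atPrime {A : Type u} [CommRing A]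
    (hA : CAlg.IsUniversallyCatenary A) (q : Ideal A) [q.IsPrime] :
    CAlg.IsUniversallyCatenary (Localization.AtPrime q) := by
  obtain ⟨hN, hcat⟩ := hA
  refine ⟨IsLocalization.isNoetherianRing q.primeCompl _ hN, ?_⟩
  intro S _ _ hft
  letI : Algebra A S := ((algebraMap (Localization.AtPrime q) S).comp
    (algebraMap A (Localization.AtPrime q))).toAlgebra
  haveI : IsScalarTower A (Localization.AtPrime q) S := IsScalarTower.of_algebraMap_eq' rfl
  exact Groth.Agent.Lib.Helper98.isCatenary_of_finiteType_over_localization q.primeCompl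
    (Localization.AtPrime q) hcat S hft

/-- For a universally catenary Noetherian local ring, a minimal prime `P` over `pR̂` has
`dim R̂/P = dim R/p` (formal catenarity, Ratliff). -/
theorem ringKrullDim_cpl_quotient_of_mem_minimalPrimes (R : Type u) [CommRing R]
    [IsNoetherianRing R] [IsLocalRing R] (hR : CAlg.IsUniversallyCatenary R) (p : Ideal R)
    [p.IsPrime] (P : Ideal (EGA4.Cpl R))
    (hP : P ∈ (p.map (algebraMap R (EGA4.Cpl R))).minimalPrimes) :
    ringKrullDim (EGA4.Cpl R ⧸ P) = ringKrullDim (R ⧸ p) := by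
  obtain ⟨Q₁, hQ₁, hdim⟩ := Groth.Agent.Lib.Helper29.exists_minimalPrimes_cpl_quotient R p P hP
  have heq := Groth.Agent.Lib.Helper29.isFormallyCatenary_of_isUniversallyCatenary R hR p
  have h1 : ringKrullDim (EGA4.Cpl (R ⧸ p) ⧸ Q₁) = ringKrullDim (EGA4.Cpl (R ⧸ p)) := heq Q₁ hQ₁
  have h2 : ringKrullDim (EGA4.Cpl (R ⧸ p)) = ringKrullDim (R ⧸ p) :=
    (Groth.Agent.Lib.Helper29.ringKrullDim_adicCompletion_eq_and_isRegularLocalRing_iff (R ⧸ p)
      (maximalIdeal (R ⧸ p)) (Ideal.IsPrime.ne_top inferInstance)).1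
  rw [← hdim, h1, h2]

/-- Height in `A/p` as an order height in `Set.Ici p`. -/
theorem height_eq_orderHeight_Ici {A : Type u} [CommRing A] (p : PrimeSpectrum A)
    (Q : Ideal (A ⧸ p.asIdeal)) [hQ : Q.IsPrime]
    (hpq : p ≤ ⟨Q.comap (Ideal.Quotient.mk p.asIdeal), inferInstance⟩) :
    Q.height = Order.height
      (⟨⟨Q.comap (Ideal.Quotient.mk p.asIdeal), inferInstance⟩, hpq⟩ : Set.Ici p) := by
  rw [PrimeSpectrum.height_eq_orderHeight ⟨Q, hQ⟩]
  have hset : PrimeSpectrum.zeroLocus (p.asIdeal : Set A) = Set.Ici p := by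
    ext q
    rw [PrimeSpectrum.mem_zeroLocus, Set.mem_Ici, SetLike.coe_subset_coe]
    exact Iff.rfl
  let e : PrimeSpectrum (A ⧸ p.asIdeal) ≃o Set.Ici p :=
    (Ideal.primeSpectrumQuotientOrderIsoZeroLocus p.asIdeal).trans (OrderIso.setCongr _ _ hset)
  rw [← Order.height_orderIso e]
  rfl

/-- **Stacks 0BK1-type**: over a universally catenary Noetherian ring whose local rings along
`V(I)` have `(S_1)` formal fibres, `H^1_I(M)` is finite under the codimension-two chain condition. -/
theorem finite_H1_of_dim_closure_ge_two (A : Type u) [CommRing A] [IsNoetherianRing A]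
    (hA : CAlg.IsUniversallyCatenary A) (I : Ideal A)
    (hF : ∀ q : PrimeSpectrum A, I ≤ q.asIdeal →
      EGA4.HasSnFormalFibres 1 (Localization.AtPrime q.asIdeal))
    (M : Type u) [AddCommGroup M] [Module A M] [Module.Finite A M]
    (h : ∀ (p q : PrimeSpectrum A) (hpq : p ≤ q), p.asIdeal ∈ associatedPrimes A M →
      ¬ I ≤ p.asIdeal → I ≤ q.asIdeal → (2 : ℕ∞) ≤ Order.height (⟨q, hpq⟩ : Set.Ici p)) :
    Module.Finite A (LocCoh.H I 1 M) := by
  refine finite_H1_of_forall_associatedPrimes I M (fun p hp => ?_)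
  haveI hpp : p.IsPrime := hp.isPrime
  by_cases hIp : I ≤ p
  · exact finite_H1_quotient_of_le I p hIp
  rw [finite_H1_quotient_iff]
  have hI' : I.map (Ideal.Quotient.mk p) ≠ ⊥ := by
    intro h0
    rw [Ideal.map_eq_bot_iff_le_ker, Ideal.mk_ker] at h0
    exact hIp h0
  refine finite_H1_of_forall_localCond (A ⧸ p) _ hI' (fun Q hQ hI'Q => ?_)
  haveI := hQ
  have hQ0 : Q ≠ ⊥ := fun h0 => hI' (le_bot_iff.mp (h0 ▸ hI'Q))
  have hpq : (⟨p, hpp⟩ : PrimeSpectrum A) ≤
      ⟨Q.comap (Ideal.Quotient.mk p), inferInstance⟩ := by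
    intro a ha
    show a ∈ Q.comap (Ideal.Quotient.mk p)
    rw [Ideal.mem_comap, Ideal.Quotient.eq_zero_iff_mem.mpr ha]
    exact Q.zero_mem
  have hht : (2 : ℕ∞) ≤ Q.height := by
    rw [height_eq_orderHeight_Ici ⟨p, hpp⟩ Q hpq]
    exact h ⟨p, hpp⟩ ⟨Q.comap (Ideal.Quotient.mk p), inferInstance⟩ hpq hp hIp
      (Ideal.map_le_iff_le_comap.mp hI'Q)
  -- the prime of `A` below `Q`
  obtain ⟨q, hq⟩ : ∃ q : Ideal A, q = Q.comap (Ideal.Quotient.mk p) := ⟨_, rfl⟩
  haveI hqp : q.IsPrime := hq ▸ Ideal.comap_isPrime _ _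
  have hIq : I ≤ q := by
    rw [hq]
    exact Ideal.map_le_iff_le_comap.mp hI'Q
  have hM : Algebra.algebraMapSubmonoid (A ⧸ p) q.primeCompl = Q.primeCompl := by
    ext d
    constructor
    · rintro ⟨s, hs, rfl⟩
      intro hd
      apply hs
      rw [hq]
      exact hd
    · intro hd
      obtain ⟨a, rfl⟩ := Ideal.Quotient.mk_surjective d
      refine ⟨a, ?_, rfl⟩
      intro ha
      apply hd
      rw [hq] at ha
      exact ha
  haveI hloc : IsLocalization.AtPrime
      (Localization.AtPrime q ⧸ p.map (algebraMap A (Localization.AtPrime q))) Q := by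
    have : IsLocalization (Algebra.algebraMapSubmonoid (A ⧸ p) q.primeCompl)
      (Localization.AtPrime q ⧸ p.map (algebraMap A (Localization.AtPrime q))) := inferInstance
    rw [hM] at this
    exact this
  haveI : IsLocalRing (Localization.AtPrime q ⧸ p.map (algebraMap A (Localization.AtPrime q))) :=
    IsLocalization.AtPrime.isLocalRing _ Q
  have hdimR : ringKrullDim
      (Localization.AtPrime q ⧸ p.map (algebraMap A (Localization.AtPrime q))) = Q.height :=
    IsLocalization.AtPrime.ringKrullDim_eq_height Q _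
  refine localCond_of_finite_H1 (A ⧸ p) Q hQ0
    (Localization.AtPrime q ⧸ p.map (algebraMap A (Localization.AtPrime q))) ?_
  rw [IsLocalization.AtPrime.map_eq_maximalIdeal Q
    (Localization.AtPrime q ⧸ p.map (algebraMap A (Localization.AtPrime q)))]
  have hne : p.map (algebraMap A (Localization.AtPrime q)) ≠ ⊤ := by
    intro htop
    have : Nontrivial (Localization.AtPrime q ⧸ p.map (algebraMap A (Localization.AtPrime q))) :=
      inferInstance
    exact (Ideal.Quotient.nontrivial_iff.mp this) htop
  haveI h𝔭 : (p.map (algebraMap A (Localization.AtPrime q))).IsPrime := by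
    have hdisj : Disjoint (q.primeCompl : Set A) (p : Set A) := by
      rw [Set.disjoint_left]
      intro a haq hap
      apply haq
      rw [hq]
      show Ideal.Quotient.mk p a ∈ Q
      rw [Ideal.Quotient.eq_zero_iff_mem.mpr hap]
      exact Q.zero_mem
    exact IsLocalization.isPrime_of_isPrime_disjoint q.primeCompl _ p hpp hdisj
  haveI hNq : IsNoetherianRing (Localization.AtPrime q) :=
    IsLocalization.isNoetherianRing q.primeCompl _ inferInstance
  rw [← maximalIdeal_map_quotient (Localization.AtPrime q) _ hne, ← finite_H1_quotient_iff,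
    ← isCoherentPushCompl_iff_finite_H1, isCoherentPushCompl_maximalIdeal_iff_ass_completion]
  intro P hP _
  haveI hNC : IsNoetherianRing (EGA4.Cpl (Localization.AtPrime q)) :=
    Groth.Agent.S0543.result _ _
  have hUC := isUniversallyCatenary_localization_atPrime hA q
  have hP' : P ∈ associatedPrimes (EGA4.Cpl (Localization.AtPrime q))
      (EGA4.Cpl (Localization.AtPrime q) ⧸ (p.map (algebraMap A (Localization.AtPrime q))).map
        (algebraMap (Localization.AtPrime q) (EGA4.Cpl (Localization.AtPrime q)))) := by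
    rw [LinearEquiv.AssociatedPrimes.eq (Algebra.TensorProduct.quotIdealMapEquivTensorQuot
      (EGA4.Cpl (Localization.AtPrime q))
      (p.map (algebraMap A (Localization.AtPrime q)))).toLinearEquiv]
    exact hP
  have hmin := mem_minimalPrimes_of_mem_associatedPrimes_of_hasSk_fiber
    (p.map (algebraMap A (Localization.AtPrime q)))
    (hF ⟨q, hqp⟩ hIq (p.map (algebraMap A (Localization.AtPrime q)))) P hP'
  rw [ringKrullDim_cpl_quotient_of_mem_minimalPrimes _ hUC _ P hmin, hdimR]
  have h' : ((2 : ℕ∞) : WithBot ℕ∞) ≤ ((Q.height : ℕ∞) : WithBot ℕ∞) := WithBot.coe_le_coe.mpr hht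
  exact h'

end Groth.Agent.Lib.Helper48
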