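import Mathlib

universe u

namespace Groth.Agent.Lib.Helper48

open AlgebraicGeometry CategoryTheory Limits

/-- The range of a section of a separated morphism over an open `V` is closed in `f ⁻¹ V`:
points of the closure lying over `V` are in the range. -/
theorem mem_range_of_mem_closure_section {X Y : Scheme.{u}} (f : X ⟶ Y) [IsSeparated f]
    (V : Y.Opens) (s : (↑V : Scheme.{u}) ⟶ X) (hs : s ≫ f = V.ι) (x : X)
    (hx : x ∈ closure (Set.range s)) (hxV : f x ∈ V) : x ∈ Set.range s := by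
  -- the lift of `s` to `f ⁻¹ V`
  have hrange : Set.range s ⊆ Set.range (f ⁻¹ᵁ V).ι := by
    rintro _ ⟨v, rfl⟩
    rw [Scheme.Opens.range_ι]
    change f (s v) ∈ V
    rw [← Scheme.Hom.comp_apply, hs]
    exact v.2
  let sV : (↑V : Scheme.{u}) ⟶ (f ⁻¹ᵁ V : X.Opens) := IsOpenImmersion.lift (f ⁻¹ᵁ V).ι s hrange
  have hsV : sV ≫ (f ⁻¹ᵁ V).ι = s := IsOpenImmersion.lift_fac _ _ _
  have hcomp : sV ≫ (f ∣_ V) = 𝟙 _ := by
    rw [← cancel_mono V.ι, Category.assoc, morphismRestrict_ι, ← Category.assoc, hsV, hs,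
      Category.id_comp]
  haveI : IsClosedImmersion (sV ≫ (f ∣_ V)) := by rw [hcomp]; infer_instance
  haveI : IsClosedImmersion sV := IsClosedImmersion.of_comp sV (f ∣_ V)
  have hclosed : IsClosed (Set.range sV) := sV.isClosedEmbedding.isClosed_range
  by_contra hnot
  -- an open neighbourhood of `x` missing the range of `s`
  have hopen : IsOpen ((f ⁻¹ᵁ V).ι '' (Set.range sV)ᶜ) :=
    (f ⁻¹ᵁ V).ι.isOpenEmbedding.isOpenMap _ hclosed.isOpen_compl
  have hxmem : x ∈ (f ⁻¹ᵁ V).ι '' (Set.range sV)ᶜ := by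
    refine ⟨⟨x, hxV⟩, ?_, rfl⟩
    rintro ⟨v, hv⟩
    apply hnot
    refine ⟨v, ?_⟩
    rw [← hsV, Scheme.Hom.comp_apply, hv]
    rfl
  obtain ⟨y, hy1, hy2⟩ := mem_closure_iff.mp hx _ hopen hxmem
  obtain ⟨w, hw, rfl⟩ := hy1
  obtain ⟨v, hv⟩ := hy2
  apply hw
  refine ⟨v, ?_⟩
  apply (f ⁻¹ᵁ V).ι.isOpenEmbedding.injective
  rw [← Scheme.Hom.comp_apply, hsV, hv]

theorem isIso_image_section_restrict {X Y : Scheme.{u}} (f : X ⟶ Y) [IsSeparated f]
    (V : Y.Opens) [QuasiCompact V.ι] (s : (↑V : Scheme.{u}) ⟶ X) (hs : s ≫ f = V.ι) :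
    IsIso ((s.imageι ≫ f) ∣_ V) := by
  haveI : IsImmersion (s ≫ f) := by rw [hs]; infer_instance
  haveI : IsImmersion s := IsImmersion.of_comp s f
  haveI : QuasiCompact (s ≫ f) := by rw [hs]; infer_instance
  haveI : QuasiCompact s := QuasiCompact.of_comp s f
  have hfac : s.toImage ≫ (s.imageι ≫ f) = V.ι := by
    rw [← Category.assoc, Scheme.Hom.toImage_imageι, hs]
  have hrange : Set.range s.toImage = Set.range ((s.imageι ≫ f) ⁻¹ᵁ V).ι := by
    rw [Scheme.Opens.range_ι]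
    apply Set.Subset.antisymm
    · rintro _ ⟨v, rfl⟩
      change (s.imageι ≫ f) (s.toImage v) ∈ V
      rw [← Scheme.Hom.comp_apply, hfac]
      exact v.2
    · intro z hz
      have hz' : f (s.imageι z) ∈ V := hz
      have hcl : s.imageι z ∈ closure (Set.range s) := by
        rw [← Scheme.Hom.support_ker, ← Scheme.IdealSheafData.range_subschemeι]
        exact ⟨z, rfl⟩
      obtain ⟨v, hv⟩ := mem_range_of_mem_closure_section f V s hs _ hcl hz'
      refine ⟨v, ?_⟩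
      apply s.imageι.isClosedEmbedding.injective
      rw [← Scheme.Hom.comp_apply, Scheme.Hom.toImage_imageι, hv]
  let e := IsOpenImmersion.isoOfRangeEq s.toImage ((s.imageι ≫ f) ⁻¹ᵁ V).ι hrange
  have he : e.hom ≫ ((s.imageι ≫ f) ⁻¹ᵁ V).ι = s.toImage :=
    IsOpenImmersion.isoOfRangeEq_hom_fac _ _ _
  have h1 : e.hom ≫ ((s.imageι ≫ f) ∣_ V) = 𝟙 _ := by
    rw [← cancel_mono V.ι, Category.assoc, morphismRestrict_ι, ← Category.assoc, he, hfac,
      Category.id_comp]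
  have h2 : (s.imageι ≫ f) ∣_ V = e.inv := by
    rw [← Category.id_comp ((s.imageι ≫ f) ∣_ V), ← e.inv_hom_id, Category.assoc, h1,
      Category.comp_id]
  rw [h2]
  infer_instance

end Groth.Agent.Lib.Helper48
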