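import Mathlib
import Groth.Prelude
import Groth.Agent.S0505
import Groth.Agent.Lib.Helper24.SmoothNormal
import Groth.Agent.Lib.Helper36.OlivierLocal
import Groth.Agent.Lib.Helper50.NormalBC
import Groth.Agent.Lib.Helper55.KrullDimIntegral

/-!
# Base change of a henselian normal local `k`-algebra to a separable algebraic extension of `k`
-/

set_option autoImplicit false
set_option linter.style.haveILetI false
universe u
open TensorProduct IsLocalRing

namespace Groth.Agent.Lib.Helper48.SepBC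

section levels

variable (k : Type u) [Field k] (R₀ : Type u) [CommRing R₀] [Algebra k R₀]
  (K : Type u) [Field K] [Algebra k K]

/-- The map `R₀ ⊗[k] F → R₀ ⊗[k] K` for an intermediate field `F`. -/
noncomputable abbrev lvl (F : IntermediateField k K) : R₀ ⊗[k] F →ₐ[R₀] R₀ ⊗[k] K :=
  Algebra.TensorProduct.map (AlgHom.id R₀ R₀) F.val

theorem lvl_injective (F : IntermediateField k K) : Function.Injective (lvl k R₀ K F) :=
  Module.Flat.lTensor_preserves_injective_linearMap (M := R₀) F.val.toLinearMap F.val.injective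

variable {k R₀ K}

theorem lvl_range_mono {F₁ F₂ : IntermediateField k K} (h : F₁ ≤ F₂) :
    Set.range (lvl k R₀ K F₁) ⊆ Set.range (lvl k R₀ K F₂) := by
  rintro x ⟨y, rfl⟩
  refine ⟨Algebra.TensorProduct.map (AlgHom.id R₀ R₀) (IntermediateField.inclusion h) y, ?_⟩
  rw [lvl, lvl, ← AlgHom.comp_apply, ← Algebra.TensorProduct.map_comp]
  rfl

theorem exists_finite_mem_range [Algebra.IsAlgebraic k K] (x : R₀ ⊗[k] K) :
    ∃ F : IntermediateField k K, FiniteDimensional k F ∧ x ∈ Set.range (lvl k R₀ K F) := by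
  induction x with
  | zero => exact ⟨⊥, inferInstance, 0, map_zero _⟩
  | tmul r c =>
    refine ⟨IntermediateField.adjoin k {c}, ?_, ?_⟩
    · exact IntermediateField.adjoin.finiteDimensional
        (Algebra.IsAlgebraic.isAlgebraic c).isIntegral
    · exact ⟨r ⊗ₜ[k] (⟨c, IntermediateField.mem_adjoin_simple_self k c⟩ :
        IntermediateField.adjoin k {c}), by simp [lvl]⟩
  | add x y hx hy =>
    obtain ⟨F₁, hF₁, x', hx'⟩ := hx
    obtain ⟨F₂, hF₂, y', hy'⟩ := hy
    haveI := hF₁
    haveI := hF₂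
    refine ⟨F₁ ⊔ F₂, inferInstance, ?_⟩
    obtain ⟨x'', hx''⟩ := lvl_range_mono (R₀ := R₀) (le_sup_left : F₁ ≤ F₁ ⊔ F₂) ⟨x', hx'⟩
    obtain ⟨y'', hy''⟩ := lvl_range_mono (R₀ := R₀) (le_sup_right : F₂ ≤ F₁ ⊔ F₂) ⟨y', hy'⟩
    exact ⟨x'' + y'', by rw [map_add, hx'', hy'']⟩

theorem exists_finite_subset_range [Algebra.IsAlgebraic k K] (s : Finset (R₀ ⊗[k] K)) :
    ∃ F : IntermediateField k K, FiniteDimensional k F ∧
      (s : Set (R₀ ⊗[k] K)) ⊆ Set.range (lvl k R₀ K F) := by
  classical
  induction s using Finset.induction_on with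
  | empty => exact ⟨⊥, inferInstance, by simp⟩
  | insert x s hxs ih =>
    obtain ⟨F₁, hF₁, h1⟩ := ih
    obtain ⟨F₂, hF₂, h2⟩ := exists_finite_mem_range (k := k) (R₀ := R₀) (K := K) x
    haveI := hF₁
    haveI := hF₂
    refine ⟨F₁ ⊔ F₂, inferInstance, fun y hy => ?_⟩
    rw [Finset.coe_insert, Set.mem_insert_iff] at hy
    rcases hy with rfl | hy
    · exact lvl_range_mono le_sup_right h2
    · exact lvl_range_mono le_sup_left (h1 hy)

end levels


/-- A local ring which is a directed union (along injective local homomorphisms) of henselian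
local rings is henselian. -/
theorem henselianLocalRing_of_directed {S : Type*} [CommRing S] [IsLocalRing S]
    {ι : Type*} (T : ι → Type*) [∀ i, CommRing (T i)] [∀ i, HenselianLocalRing (T i)]
    (ψ : ∀ i, T i →+* S) (hloc : ∀ i, IsLocalHom (ψ i))
    (hfin : ∀ s : Finset S, ∃ i, (s : Set S) ⊆ Set.range (ψ i)) :
    HenselianLocalRing S := by
  classical
  refine { is_henselian := ?_ }
  intro f hf a₀ h1 h2
  obtain ⟨i, hsub⟩ := hfin (insert a₀ f.coeffs)
  haveI := hloc i
  obtain ⟨b₀, hb₀⟩ := hsub (show a₀ ∈ ((insert a₀ f.coeffs : Finset S) : Set S) by simp)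
  have hlift : f ∈ Polynomial.lifts (ψ i) := by
    rw [Polynomial.lifts_iff_coeff_lifts]
    intro n
    by_cases h0 : f.coeff n = 0
    · exact ⟨0, by rw [map_zero, h0]⟩
    · refine hsub ?_
      simp only [Finset.coe_insert, Set.mem_insert_iff, Finset.mem_coe]
      right
      exact Polynomial.coeff_mem_coeffs h0
  obtain ⟨g, hg, -, hgm⟩ := Polynomial.lifts_and_degree_eq_and_monic hlift hf
  have e1 : ψ i (g.eval b₀) = f.eval a₀ := by
    rw [← hg, ← hb₀, Polynomial.eval_map, Polynomial.eval₂_hom]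
  have e2 : ψ i (g.derivative.eval b₀) = f.derivative.eval a₀ := by
    rw [← hg, ← hb₀, Polynomial.derivative_map, Polynomial.eval_map, Polynomial.eval₂_hom]
  have h1' : g.eval b₀ ∈ maximalIdeal (T i) := by
    rw [IsLocalRing.mem_maximalIdeal, mem_nonunits_iff]
    intro hu
    have := hu.map (ψ i)
    rw [e1] at this
    exact (IsLocalRing.mem_maximalIdeal _).mp h1 this
  have h2' : IsUnit (g.derivative.eval b₀) := by
    apply isUnit_of_map_unit (ψ i)
    rw [e2]
    exact h2
  obtain ⟨b, hb, hbb⟩ := HenselianLocalRing.is_henselian g hgm b₀ h1' h2'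
  refine ⟨ψ i b, ?_, ?_⟩
  · rw [Polynomial.IsRoot.def, ← hg, Polynomial.eval_map, Polynomial.eval₂_hom]
    rw [Polynomial.IsRoot.def] at hb
    rw [hb, map_zero]
  · rw [← hb₀, ← map_sub]
    rw [IsLocalRing.mem_maximalIdeal, mem_nonunits_iff]
    intro hu
    have hu' : IsUnit (b - b₀) := isUnit_of_map_unit (ψ i) _ hu
    exact (IsLocalRing.mem_maximalIdeal _).mp hbb hu'

section main

open Polynomial in
/-- **Main theorem.** `R₀` a henselian integrally closed local domain over a field `k` with residue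
field `k`, `K/k` a separable algebraic extension such that `R₀ ⊗[k] K` is a domain. Then
`R₀ ⊗[k] K` is a henselian local integrally closed domain of the same dimension, with residue
field `K`. -/
theorem henselian_normal_of_isSeparable (k : Type u) [Field k] (R₀ : Type u) [CommRing R₀]
    [IsDomain R₀] [HenselianLocalRing R₀] [Algebra k R₀] [IsIntegrallyClosed R₀]
    (hres : Function.Surjective (fun a : k => IsLocalRing.residue R₀ (algebraMap k R₀ a)))
    (K : Type u) [Field K] [Algebra k K] [Algebra.IsSeparable k K] [IsDomain (R₀ ⊗[k] K)] :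
    ∃ _ : HenselianLocalRing (R₀ ⊗[k] K),
      IsIntegrallyClosed (R₀ ⊗[k] K) ∧
      ringKrullDim (R₀ ⊗[k] K) = ringKrullDim R₀ ∧
      Function.Surjective (fun a : K => IsLocalRing.residue (R₀ ⊗[k] K)
        ((Algebra.TensorProduct.includeRight : K →ₐ[k] R₀ ⊗[k] K) a)) := by
  classical
  haveI : Algebra.IsAlgebraic k K := inferInstance
  haveI : Algebra.IsIntegral k K := inferInstance
  haveI : Algebra.IsIntegral R₀ (R₀ ⊗[k] K) := inferInstance
  have hinj : Function.Injective (algebraMap R₀ (R₀ ⊗[k] K)) :=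
    Algebra.TensorProduct.includeLeft_injective (S := R₀) (algebraMap k K).injective
  haveI hloc : IsLocalRing (R₀ ⊗[k] K) :=
    Groth.Agent.Lib.Helper36.Olivier.isLocalRing_of_isIntegral_of_isDomain R₀ _
  -- the finite levels
  have hlvl : ∀ F : IntermediateField k K, FiniteDimensional k F →
      ∃ _ : HenselianLocalRing (R₀ ⊗[k] F),
        IsDomain (R₀ ⊗[k] F) ∧ IsIntegrallyClosed (R₀ ⊗[k] F) := by
    intro F hF
    haveI := hF
    haveI : IsDomain (R₀ ⊗[k] F) :=
      (lvl_injective k R₀ K F).isDomain (lvl k R₀ K F).toRingHom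
    haveI : Algebra.IsIntegral R₀ (R₀ ⊗[k] F) := inferInstance
    haveI : IsLocalRing (R₀ ⊗[k] F) :=
      Groth.Agent.Lib.Helper36.Olivier.isLocalRing_of_isIntegral_of_isDomain R₀ (R₀ ⊗[k] F)
    haveI : Module.Finite R₀ (R₀ ⊗[k] F) := inferInstance
    have hH : HenselianLocalRing (R₀ ⊗[k] F) := Groth.Agent.S0505.result R₀ _
    haveI : Algebra.IsSeparable k F := Algebra.isSeparable_tower_bot_of_isSeparable k F K
    haveI : Algebra.FormallyEtale k F := Algebra.FormallyEtale.of_isSeparable k F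
    haveI : Algebra.FinitePresentation k F :=
      Algebra.FinitePresentation.of_finiteType.mp inferInstance
    haveI : Algebra.Etale k F := {}
    haveI : Algebra.Etale R₀ (R₀ ⊗[k] F) := inferInstance
    have hN : EGA4.IsNormalRing (R₀ ⊗[k] F) :=
      Groth.Agent.Lib.Helper24.isNormalRing_of_etale R₀ _
    refine ⟨hH, inferInstance, ?_⟩
    exact IsIntegrallyClosed.of_localization_maximal (fun p _ hp => (hN p).2)
  -- every element is congruent to an element of `K` modulo `m S`
  have hcong : ∀ x : R₀ ⊗[k] K, ∃ c : K, x - (1 : R₀) ⊗ₜ[k] c ∈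
      (maximalIdeal R₀).map (algebraMap R₀ (R₀ ⊗[k] K)) := by
    intro x
    induction x with
    | zero => exact ⟨0, by simp⟩
    | tmul r c =>
      obtain ⟨α, hα⟩ := hres (IsLocalRing.residue R₀ r)
      refine ⟨α • c, ?_⟩
      have h1 : r - algebraMap k R₀ α ∈ maximalIdeal R₀ := by
        rw [← Ideal.Quotient.eq_zero_iff_mem]
        change IsLocalRing.residue R₀ (r - algebraMap k R₀ α) = 0
        rw [map_sub, sub_eq_zero]
        exact hα.symm
      have h2 : r ⊗ₜ[k] c - (1 : R₀) ⊗ₜ[k] (α • c) =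
          algebraMap R₀ (R₀ ⊗[k] K) (r - algebraMap k R₀ α) * ((1 : R₀) ⊗ₜ[k] c) := by
        rw [Algebra.TensorProduct.algebraMap_apply, Algebra.TensorProduct.tmul_mul_tmul,
          Algebra.algebraMap_self, RingHom.id_apply, mul_one, one_mul, TensorProduct.sub_tmul,
          ← TensorProduct.smul_tmul, Algebra.smul_def, mul_one]
      rw [h2]
      exact Ideal.mul_mem_right _ _ (Ideal.mem_map_of_mem _ h1)
    | add x y hx hy =>
      obtain ⟨c, hc⟩ := hx
      obtain ⟨d, hd⟩ := hy
      refine ⟨c + d, ?_⟩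
      have : x + y - (1 : R₀) ⊗ₜ[k] (c + d) = (x - (1 : R₀) ⊗ₜ[k] c) + (y - (1 : R₀) ⊗ₜ[k] d) := by
        rw [TensorProduct.tmul_add]; ring
      rw [this]
      exact Ideal.add_mem _ hc hd
  have hmS : (maximalIdeal R₀).map (algebraMap R₀ (R₀ ⊗[k] K)) ≤ maximalIdeal (R₀ ⊗[k] K) := by
    haveI : FaithfulSMul R₀ (R₀ ⊗[k] K) := (faithfulSMul_iff_algebraMap_injective _ _).mpr hinj
    haveI : IsLocalHom (algebraMap R₀ (R₀ ⊗[k] K)) := inferInstance
    rw [Ideal.map_le_iff_le_comap]
    intro x hx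
    rw [Ideal.mem_comap, IsLocalRing.mem_maximalIdeal, mem_nonunits_iff]
    intro hu
    exact (IsLocalRing.mem_maximalIdeal _).mp hx (isUnit_of_map_unit _ _ hu)
  -- henselian
  have hH0 : HenselianLocalRing (R₀ ⊗[k] K) := by
    haveI hHF : ∀ F : {F : IntermediateField k K // FiniteDimensional k F},
        HenselianLocalRing (R₀ ⊗[k] F.1) := fun F => (hlvl F.1 F.2).choose
    refine henselianLocalRing_of_directed
      (S := R₀ ⊗[k] K)
      (T := fun F : {F : IntermediateField k K // FiniteDimensional k F} => R₀ ⊗[k] F.1)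
      (fun F => (lvl k R₀ K F.1).toRingHom) (fun F => ?_)
      (fun s => by
        obtain ⟨F, hF, hs⟩ := exists_finite_subset_range (k := k) (R₀ := R₀) (K := K) s
        exact ⟨⟨F, hF⟩, hs⟩)
    have hint : RingHom.IsIntegral (R := R₀ ⊗[k] F.1) (A := R₀ ⊗[k] K)
        (lvl k R₀ K F.1).toRingHom := by
      apply RingHom.IsIntegral.tower_top (algebraMap R₀ (R₀ ⊗[k] F.1))
      have : (lvl k R₀ K F.1).toRingHom.comp (algebraMap R₀ (R₀ ⊗[k] F.1)) =
          algebraMap R₀ (R₀ ⊗[k] K) := (lvl k R₀ K F.1).comp_algebraMap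
      rw [this]
      exact algebraMap_isIntegral_iff.mpr inferInstance
    exact hint.isLocalHom (lvl_injective k R₀ K F.1)
  have hH : HenselianLocalRing (R₀ ⊗[k] K) :=
    { toIsLocalRing := hloc, is_henselian := hH0.is_henselian }
  refine ⟨hH, ?_, ?_, ?_⟩
  · -- integrally closed
    haveI hdomF : ∀ F : {F : IntermediateField k K // FiniteDimensional k F},
        IsDomain (R₀ ⊗[k] F.1) := fun F =>
      (lvl_injective k R₀ K F.1).isDomain (lvl k R₀ K F.1).toRingHom
    haveI hicF : ∀ F : {F : IntermediateField k K // FiniteDimensional k F},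
        IsIntegrallyClosed (R₀ ⊗[k] F.1) := fun F => by
      obtain ⟨_, _, h⟩ := hlvl F.1 F.2
      exact h
    have key := Groth.Agent.Lib.Helper50.isDomain_and_isIntegrallyClosed_of_directed
      (R := R₀ ⊗[k] K)
      (S := fun F : {F : IntermediateField k K // FiniteDimensional k F} => R₀ ⊗[k] F.1)
      (fun F => (lvl k R₀ K F.1).toRingHom) (fun F => lvl_injective k R₀ K F.1)
      (fun s => by
        obtain ⟨F, hF, hs⟩ := exists_finite_subset_range (k := k) (R₀ := R₀) (K := K) s
        exact ⟨⟨F, hF⟩, hs⟩)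
    exact key.2
  · exact Groth.Agent.Lib.Helper55.ringKrullDim_eq_of_isIntegral_of_injective R₀ _ hinj
  · intro y
    obtain ⟨x, rfl⟩ := IsLocalRing.residue_surjective y
    obtain ⟨c, hc⟩ := hcong x
    refine ⟨c, ?_⟩
    have h3 : x - (1 : R₀) ⊗ₜ[k] c ∈ maximalIdeal (R₀ ⊗[k] K) := hmS hc
    have h4 : IsLocalRing.residue (R₀ ⊗[k] K) (x - (1 : R₀) ⊗ₜ[k] c) = 0 := by
      rw [IsLocalRing.residue_eq_zero_iff]
      exact h3
    rw [map_sub, sub_eq_zero] at h4
    simp only [Algebra.TensorProduct.includeRight_apply]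
    exact h4.symm

end main

end Groth.Agent.Lib.Helper48.SepBC
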