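import Mathlib
import Groth.Prelude.Def_Found
import Groth.Agent.Lib.Helper41.GeomRedSep
import Groth.Agent.H8.GRingDimOne

/-!
# Closed fibres with separable algebraic residue field extension are geometrically regular
-/

set_option autoImplicit false
set_option linter.style.haveILetI false
universe u

open TensorProduct IsLocalRing

namespace Groth.Agent.Lib.Helper48

/-- Transfer of separability along a commutative square of ring maps whose right vertical arrow is
surjective. -/
theorem isSeparable_of_surjective_square {k K k' K' : Type*} [Field k] [Field K] [Algebra k K]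
    [Field k'] [CommRing K'] [Algebra k' K']
    (e : k →+* k') (ρ : K →+* K')
    (hsq : ρ.comp (algebraMap k K) = (algebraMap k' K').comp e)
    (hρ : Function.Surjective ρ) [Algebra.IsSeparable k K] : Algebra.IsSeparable k' K' := by
  refine ⟨fun x => ?_⟩
  obtain ⟨b, rfl⟩ := hρ x
  have hb : IsSeparable k b := Algebra.IsSeparable.isSeparable k b
  have hp : (minpoly k b).Separable := hb
  have h0 : Polynomial.aeval (ρ b) ((minpoly k b).map e) = 0 := by
    rw [Polynomial.aeval_def, Polynomial.eval₂_map, ← hsq, ← Polynomial.hom_eval₂,
      ← Polynomial.aeval_def, minpoly.aeval, map_zero]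
  have hdvd : minpoly k' (ρ b) ∣ (minpoly k b).map e := minpoly.dvd k' (ρ b) h0
  exact (hp.map).of_dvd hdvd

/-- A separable algebraic field extension (the top ring only known to be a field) is geometrically
regular. -/
theorem isGeometricallyRegular_of_isField_of_isSeparable (k K : Type u) [Field k] [CommRing K]
    [Algebra k K] (hK : IsField K) [Algebra.IsSeparable k K] :
    CAlg.IsGeometricallyRegular k K := by
  letI : Field K := hK.toField
  haveI : Algebra.IsGeometricallyReduced k K :=
    Groth.Agent.Lib.Helper41.GeomRedSep.isGeometricallyReduced_of_isSeparable k K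
  exact Groth.Agent.H8.GRing.isGeometricallyRegular_of_isArtinianRing k K

section

variable (A B : Type u) [CommRing A] [CommRing B] [IsLocalRing A] [IsLocalRing B] [Algebra A B]
  [IsLocalHom (algebraMap A B)]

/-- For a local homomorphism `A → B` with `𝔪_A B = 𝔪_B` and separable algebraic residue field
extension, the closed fibre is geometrically regular over the residue field of `A`. -/
theorem isGeometricallyRegular_closedFibre_of_isSeparable
    [Nontrivial ((maximalIdeal A).Fiber B)]
    (hm : (maximalIdeal A).map (algebraMap A B) = maximalIdeal B)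
    [Algebra.IsSeparable (ResidueField A) (ResidueField B)] :
    CAlg.IsGeometricallyRegular (maximalIdeal A).ResidueField ((maximalIdeal A).Fiber B) := by
  -- the surjection `B → F`
  let ι : B →+* (maximalIdeal A).Fiber B :=
    (Algebra.TensorProduct.includeRight :
      B →ₐ[A] (maximalIdeal A).ResidueField ⊗[A] B).toRingHom
  have hι : ∀ b, ι b = (1 : (maximalIdeal A).ResidueField) ⊗ₜ[A] b := fun b => rfl
  have hιalg : ∀ a : A, ι (algebraMap A B a) =
      algebraMap (maximalIdeal A).ResidueField ((maximalIdeal A).Fiber B)
        (algebraMap A (maximalIdeal A).ResidueField a) := by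
    intro a
    rw [hι, Algebra.TensorProduct.algebraMap_apply, Algebra.algebraMap_self, RingHom.id_apply]
    calc (1 : (maximalIdeal A).ResidueField) ⊗ₜ[A] (algebraMap A B a)
        = (1 : (maximalIdeal A).ResidueField) ⊗ₜ[A] (a • (1 : B)) := by
          rw [Algebra.algebraMap_eq_smul_one]
      _ = (a • (1 : (maximalIdeal A).ResidueField)) ⊗ₜ[A] (1 : B) := by
          rw [TensorProduct.tmul_smul, TensorProduct.smul_tmul']
      _ = (algebraMap A (maximalIdeal A).ResidueField a) ⊗ₜ[A] (1 : B) := by
          rw [Algebra.algebraMap_eq_smul_one]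
  have hιsurj : Function.Surjective ι := by
    intro x
    obtain ⟨r, hr, s, hrs⟩ := Ideal.Fiber.exists_smul_eq_one_tmul (maximalIdeal A) x
    have hru : IsUnit r := by
      by_contra h
      exact hr ((mem_maximalIdeal r).mpr h)
    obtain ⟨u, rfl⟩ := hru
    refine ⟨(↑u⁻¹ : A) • s, ?_⟩
    rw [hι, TensorProduct.tmul_smul, ← hrs, smul_smul, Units.inv_mul, one_smul]
  have hιker : maximalIdeal B ≤ RingHom.ker ι := by
    rw [← hm, Ideal.map_le_iff_le_comap]
    intro a ha
    rw [Ideal.mem_comap, RingHom.mem_ker, hιalg,
      Ideal.algebraMap_residueField_eq_zero.mpr ha, map_zero]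
  let ρ : ResidueField B →+* (maximalIdeal A).Fiber B :=
    Ideal.Quotient.lift (maximalIdeal B) ι (fun b hb => hιker hb)
  have hρsurj : Function.Surjective ρ := by
    intro x
    obtain ⟨b, rfl⟩ := hιsurj x
    exact ⟨residue B b, rfl⟩
  let e : ResidueField A →+* (maximalIdeal A).ResidueField :=
    Ideal.Quotient.lift (maximalIdeal A) (algebraMap A (maximalIdeal A).ResidueField)
      (fun a ha => Ideal.algebraMap_residueField_eq_zero.mpr ha)
  have hsq : ρ.comp (algebraMap (ResidueField A) (ResidueField B)) =
      (algebraMap (maximalIdeal A).ResidueField ((maximalIdeal A).Fiber B)).comp e := by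
    refine Ideal.Quotient.ringHom_ext ?_
    ext a
    exact hιalg a
  haveI : Algebra.IsSeparable (maximalIdeal A).ResidueField ((maximalIdeal A).Fiber B) :=
    isSeparable_of_surjective_square e ρ hsq hρsurj
  have hρbij : Function.Bijective ρ := ⟨ρ.injective, hρsurj⟩
  have hF : IsField ((maximalIdeal A).Fiber B) :=
    (RingEquiv.ofBijective ρ hρbij).symm.toMulEquiv.isField (Field.toIsField (ResidueField B))
  exact isGeometricallyRegular_of_isField_of_isSeparable _ _ hF

end

end Groth.Agent.Lib.Helper48
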