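import Mathlib
import Groth.Agent.Lib.Helper98.LocalFlatNilp

/-! Étale lifting along square-zero thickenings (helper48). -/

namespace Groth.Agent.Lib.Helper48

open TensorProduct

section SquareZero

universe u v

variable {A' : Type u} [CommRing A'] {A : Type*} [CommRing A] [Algebra A' A]
  {B' : Type v} [CommRing B'] [Algebra A' B'] {B : Type*} [CommRing B] [Algebra B' B]
  [Algebra A B] [Algebra A' B] [IsScalarTower A' A B] [IsScalarTower A' B' B]

theorem rTensor_injective_of_baseChange
    (hinj : Function.Injective ((RingHom.ker (algebraMap A' A)).subtype.baseChange B')) :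
    Function.Injective ((RingHom.ker (algebraMap A' A)).subtype.rTensor B') := by
  intro x y hxy
  apply (TensorProduct.comm A' _ B').injective
  apply hinj
  have h1 : ∀ z, (RingHom.ker (algebraMap A' A)).subtype.baseChange B'
      (TensorProduct.comm A' _ B' z) = TensorProduct.comm A' A' B'
        ((RingHom.ker (algebraMap A' A)).subtype.rTensor B' z) := by
    intro z
    induction z using TensorProduct.induction_on with
    | zero => simp
    | tmul a b => simp
    | add a b ha hb => simp only [map_add, ha, hb]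
  rw [h1, h1, hxy]

/-- Flatness lifts along a square-zero (nilpotent) thickening. -/
theorem flat_of_squareZero (hA : Function.Surjective (algebraMap A' A))
    (hI : RingHom.ker (algebraMap A' A) ^ 2 = ⊥)
    (hB : Function.Surjective (algebraMap B' B))
    (hJI : RingHom.ker (algebraMap B' B) = (RingHom.ker (algebraMap A' A)).map (algebraMap A' B'))
    (hinj : Function.Injective ((RingHom.ker (algebraMap A' A)).subtype.baseChange B'))
    [Module.Flat A B] : Module.Flat A' B' := by
  obtain ⟨I, hIdef⟩ : ∃ I : Ideal A', I = RingHom.ker (algebraMap A' A) := ⟨_, rfl⟩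
  rw [← hIdef] at hI hJI hinj
  have hb := rTensor_injective_of_baseChange (A := A) (B' := B') (hIdef ▸ hinj)
  rw [← hIdef] at hb
  -- the quotient `Q = A' ⧸ I` is isomorphic to `A`
  let e : A' ⧸ I →+* A := Ideal.Quotient.lift I (algebraMap A' A) (fun a ha => by
    rw [hIdef] at ha; exact ha)
  have he : Function.Bijective e := by
    constructor
    · rw [injective_iff_map_eq_zero]
      intro q hq
      obtain ⟨a, rfl⟩ := Ideal.Quotient.mk_surjective q
      rw [Ideal.Quotient.eq_zero_iff_mem, hIdef]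
      exact hq
    · intro a
      obtain ⟨a', rfl⟩ := hA a
      exact ⟨Ideal.Quotient.mk I a', rfl⟩
  letI : Algebra (A' ⧸ I) A := e.toAlgebra
  haveI : IsScalarTower A' (A' ⧸ I) A := IsScalarTower.of_algebraMap_eq fun _ => rfl
  letI : Algebra (A' ⧸ I) B := ((algebraMap A B).comp e).toAlgebra
  haveI : IsScalarTower (A' ⧸ I) A B := IsScalarTower.of_algebraMap_eq fun _ => rfl
  haveI : IsScalarTower A' (A' ⧸ I) B := IsScalarTower.of_algebraMap_eq fun a => by
    change algebraMap A' B a = algebraMap A B (e (Ideal.Quotient.mk I a))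
    rw [IsScalarTower.algebraMap_apply A' A B]
    rfl
  haveI : Module.Flat (A' ⧸ I) A :=
    Module.Flat.of_linearEquiv (LinearEquiv.ofBijective (Algebra.linearMap (A' ⧸ I) A) he).symm
  haveI : Module.Flat (A' ⧸ I) B := Module.Flat.trans (A' ⧸ I) A B
  -- `Q ⊗ B' ≃ B`
  have hker : LinearMap.ker (IsScalarTower.toAlgHom A' B' B).toLinearMap =
      (I • ⊤ : Submodule A' B') := by
    rw [Ideal.smul_top_eq_map, ← hJI]
    rfl
  let ε₁ : (A' ⧸ I) ⊗[A'] B' ≃ₗ[A'] B' ⧸ (I • ⊤ : Submodule A' B') :=
    TensorProduct.quotTensorEquivQuotSMul B' I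
  let ε₂ : (B' ⧸ (I • ⊤ : Submodule A' B')) ≃ₗ[A'] B :=
    (Submodule.quotEquivOfEq _ _ hker.symm).trans
      ((IsScalarTower.toAlgHom A' B' B).toLinearMap.quotKerEquivOfSurjective hB)
  haveI : Module.Flat (A' ⧸ I) ((A' ⧸ I) ⊗[A'] B') :=
    Module.Flat.of_linearEquiv ((ε₁.trans ε₂).extendScalarsOfSurjective
      (Ideal.Quotient.mk_surjective (I := I)))
  exact Groth.Agent.Lib.Helper98.flat_of_nilpotent I B' hb 2 (by norm_num) hI

end SquareZero

section SquareZero3

variable {A' : Type*} [CommRing A'] {A : Type*} [CommRing A] [Algebra A' A]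
  {B' : Type*} [CommRing B'] [Algebra A' B'] {B : Type*} [CommRing B] [Algebra B' B]
  [Algebra A B] [Algebra A' B] [IsScalarTower A' A B] [IsScalarTower A' B' B]

open KaehlerDifferential in
/-- Formal unramifiedness lifts along a square-zero (nilpotent) thickening. -/
theorem formallyUnramified_of_squareZero (hA : Function.Surjective (algebraMap A' A))
    (hB : Function.Surjective (algebraMap B' B))
    (hJ : RingHom.ker (algebraMap B' B) ^ 2 = ⊥)
    (hJI : RingHom.ker (algebraMap B' B) = (RingHom.ker (algebraMap A' A)).map (algebraMap A' B'))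
    [Algebra.FormallyUnramified A B] : Algebra.FormallyUnramified A' B' := by
  haveI : Algebra.FormallyUnramified A' A :=
    Algebra.FormallyUnramified.of_surjective (Algebra.ofId A' A) hA
  haveI : Algebra.FormallyUnramified A' B := Algebra.FormallyUnramified.comp A' A B
  have hzero : ∀ j ∈ RingHom.ker (algebraMap B' B), (1 : B) ⊗ₜ[B'] D A' B' j = 0 := by
    intro j hj
    rw [hJI, Ideal.map] at hj
    induction hj using Submodule.span_induction with
    | mem x hx =>
      obtain ⟨i, -, rfl⟩ := hx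
      rw [Derivation.map_algebraMap, tmul_zero]
    | zero => rw [map_zero, tmul_zero]
    | add x y _ _ hx hy => rw [map_add, tmul_add, hx, hy, add_zero]
    | smul c x hx ih =>
      have hxJ : algebraMap B' B x = 0 := by
        have : x ∈ RingHom.ker (algebraMap B' B) := by rw [hJI, Ideal.map]; exact hx
        exact this
      rw [smul_eq_mul, Derivation.leibniz, tmul_add, tmul_smul, ih, smul_zero, zero_add,
        ← smul_tmul, Algebra.smul_def, mul_one, hxJ, zero_tmul]
  have hsub : Subsingleton (B ⊗[B'] Ω[B'⁄A']) := by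
    refine ⟨fun z w => ?_⟩
    suffices h : ∀ z : B ⊗[B'] Ω[B'⁄A'], z = 0 by rw [h z, h w]
    intro z
    have h1 : mapBaseChange A' B' B z = 0 := Subsingleton.elim _ _
    obtain ⟨c, rfl⟩ := (exact_kerCotangentToTensor_mapBaseChange A' B' B hB z).mp h1
    obtain ⟨j, rfl⟩ := Ideal.toCotangent_surjective _ c
    rw [kerCotangentToTensor_toCotangent]
    exact hzero j.1 j.2
  obtain ⟨J, hJdef⟩ : ∃ J : Ideal B', J = RingHom.ker (algebraMap B' B) := ⟨_, rfl⟩
  rw [← hJdef] at hJ
  let e : (B' ⧸ J) ≃ₗ[B'] B :=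
    (Submodule.quotEquivOfEq J (LinearMap.ker (Algebra.linearMap B' B)) (by
      rw [hJdef]; rfl)).trans ((Algebra.linearMap B' B).quotKerEquivOfSurjective hB)
  have hsub2 : Subsingleton (Ω[B'⁄A'] ⧸ (J • ⊤ : Submodule B' Ω[B'⁄A'])) :=
    ((TensorProduct.quotTensorEquivQuotSMul Ω[B'⁄A'] J).symm.trans
      (TensorProduct.congr e (LinearEquiv.refl B' _))).toEquiv.subsingleton
  have htop : (J • ⊤ : Submodule B' Ω[B'⁄A']) = ⊤ :=
    Submodule.Quotient.subsingleton_iff.mp hsub2
  have hbot : (⊤ : Submodule B' Ω[B'⁄A']) = ⊥ := by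
    calc (⊤ : Submodule B' Ω[B'⁄A']) = J • (J • ⊤ : Submodule B' Ω[B'⁄A']) := by rw [htop, htop]
      _ = (J ^ 2) • ⊤ := by rw [pow_two, Submodule.mul_smul]
      _ = ⊥ := by rw [hJ, Submodule.bot_smul]
  exact ⟨(Submodule.subsingleton_iff B').mp (subsingleton_of_bot_eq_top hbot.symm)⟩

end SquareZero3

section SquareZero2

variable {A' : Type*} [CommRing A'] {A : Type*} [CommRing A] [Algebra A' A]
  {B' : Type*} [CommRing B'] [Algebra A' B'] {B : Type*} [CommRing B] [Algebra B' B]
  [Algebra A B] [Algebra A' B] [IsScalarTower A' A B] [IsScalarTower A' B' B]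

/-- elements of `I` kill `J = I B'` when `I² = 0`. -/
theorem smul_eq_zero_of_mem_of_mem_map (I : Ideal A') (hI : I ^ 2 = ⊥) {i : A'} (hi : i ∈ I)
    {x : B'} (hx : x ∈ I.map (algebraMap A' B')) : i • x = 0 := by
  rw [Ideal.map] at hx
  induction hx using Submodule.span_induction with
  | mem x hx =>
    obtain ⟨i₂, hi₂, rfl⟩ := hx
    rw [Algebra.smul_def, ← map_mul]
    have : i * i₂ ∈ I ^ 2 := by rw [pow_two]; exact Ideal.mul_mem_mul hi hi₂
    rw [hI, Ideal.mem_bot] at this
    rw [this, map_zero]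
  | zero => rw [smul_zero]
  | add x y _ _ hx hy => rw [smul_add, hx, hy, add_zero]
  | smul c x _ ih => rw [smul_eq_mul, ← mul_smul_comm, ih, mul_zero]

/-- Lifting generators: `B'` is generated by lifts of generators of `B`. -/
theorem surjective_aeval_of_squareZero (hA : Function.Surjective (algebraMap A' A))
    (hI : RingHom.ker (algebraMap A' A) ^ 2 = ⊥)
    (hJI : RingHom.ker (algebraMap B' B) = (RingHom.ker (algebraMap A' A)).map (algebraMap A' B'))
    {n : ℕ} (f₀ : MvPolynomial (Fin n) A →ₐ[A] B) (hf₀ : Function.Surjective f₀)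
    (b' : Fin n → B') (hb' : ∀ k, algebraMap B' B (b' k) = f₀ (MvPolynomial.X k)) :
    (∀ p : MvPolynomial (Fin n) A', algebraMap B' B (MvPolynomial.aeval b' p) =
      f₀ (MvPolynomial.map (algebraMap A' A) p)) ∧
    (∀ x ∈ RingHom.ker (algebraMap B' B), ∃ p₂ ∈ (RingHom.ker (algebraMap A' A) •
      (⊤ : Submodule A' (MvPolynomial (Fin n) A'))), MvPolynomial.aeval b' p₂ = x) ∧
    Function.Surjective (MvPolynomial.aeval b' : MvPolynomial (Fin n) A' →ₐ[A'] B') := by
  obtain ⟨I, hIdef⟩ : ∃ I : Ideal A', I = RingHom.ker (algebraMap A' A) := ⟨_, rfl⟩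
  rw [← hIdef] at hI hJI ⊢
  obtain ⟨f', hf'⟩ : ∃ f' : MvPolynomial (Fin n) A' →ₐ[A'] B', f' = MvPolynomial.aeval b' :=
    ⟨_, rfl⟩
  rw [← hf']
  have hcompat : ∀ p : MvPolynomial (Fin n) A', algebraMap B' B (f' p) =
      f₀ (MvPolynomial.map (algebraMap A' A) p) := by
    intro p
    have : (algebraMap B' B).comp f'.toRingHom =
        f₀.toRingHom.comp (MvPolynomial.map (algebraMap A' A)) := by
      apply MvPolynomial.ringHom_ext
      · intro a
        simp only [RingHom.comp_apply, AlgHom.toRingHom_eq_coe, RingHom.coe_coe,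
          MvPolynomial.map_C]
        rw [← MvPolynomial.algebraMap_eq, AlgHom.commutes, ← MvPolynomial.algebraMap_eq,
          AlgHom.commutes, ← IsScalarTower.algebraMap_apply, ← IsScalarTower.algebraMap_apply]
      · intro k
        simp only [RingHom.comp_apply, AlgHom.toRingHom_eq_coe, RingHom.coe_coe,
          MvPolynomial.map_X]
        rw [hf', MvPolynomial.aeval_X, hb']
    exact congr($this p)
  have claim1 : ∀ b : B', ∃ p, b - f' p ∈ I.map (algebraMap A' B') := by
    intro b
    obtain ⟨q, hq⟩ := hf₀ (algebraMap B' B b)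
    obtain ⟨p, rfl⟩ := MvPolynomial.map_surjective _ hA q
    refine ⟨p, ?_⟩
    rw [← hJI, RingHom.mem_ker, map_sub, hcompat, hq, sub_self]
  have claim2 : ∀ x ∈ I.map (algebraMap A' B'),
      x ∈ I • (LinearMap.range f'.toLinearMap : Submodule A' B') := by
    intro x hx
    rw [Ideal.map] at hx
    induction hx using Submodule.span_induction with
    | mem x hx =>
      obtain ⟨i, hi, rfl⟩ := hx
      rw [Algebra.algebraMap_eq_smul_one]
      exact Submodule.smul_mem_smul hi ⟨1, by rw [AlgHom.toLinearMap_apply, map_one]⟩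
    | zero => exact zero_mem _
    | add x y _ _ hx hy => exact add_mem hx hy
    | smul c x _ ih =>
      obtain ⟨p, hp⟩ := claim1 c
      have h1 : f' p * x ∈ I • (LinearMap.range f'.toLinearMap : Submodule A' B') := by
        refine Submodule.smul_induction_on ih ?_ ?_
        · rintro i hi _ ⟨p₂, rfl⟩
          rw [mul_smul_comm]
          exact Submodule.smul_mem_smul hi ⟨p * p₂, by
            rw [AlgHom.toLinearMap_apply, AlgHom.toLinearMap_apply, map_mul]⟩
        · intro y z hy hz
          rw [mul_add]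
          exact add_mem hy hz
      have h2 : (c - f' p) * x = 0 := by
        refine Submodule.smul_induction_on ih ?_ ?_
        · rintro i hi r -
          rw [mul_smul_comm, mul_comm (c - f' p) r, ← mul_smul_comm,
            smul_eq_zero_of_mem_of_mem_map I hI hi hp, mul_zero]
        · intro y z hy hz
          rw [mul_add, hy, hz, add_zero]
      have : c • x = f' p * x + (c - f' p) * x := by rw [smul_eq_mul]; ring
      rw [this, h2, add_zero]
      exact h1
  have claim2' : ∀ x ∈ I.map (algebraMap A' B'), ∃ p₂ ∈ (I •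
      (⊤ : Submodule A' (MvPolynomial (Fin n) A'))), f' p₂ = x := by
    intro x hx
    refine Submodule.smul_induction_on (claim2 x hx) ?_ ?_
    · rintro i hi _ ⟨r, rfl⟩
      exact ⟨i • r, Submodule.smul_mem_smul hi Submodule.mem_top, map_smul _ _ _⟩
    · rintro y z ⟨p₁, hp₁, rfl⟩ ⟨p₂, hp₂, rfl⟩
      exact ⟨p₁ + p₂, add_mem hp₁ hp₂, map_add _ _ _⟩
  refine ⟨hcompat, fun x hx => claim2' x (hJI ▸ hx), fun b => ?_⟩
  obtain ⟨p, hp⟩ := claim1 b
  obtain ⟨p₂, -, hp₂⟩ := claim2' _ hp
  exact ⟨p + p₂, by rw [map_add, hp₂]; ring⟩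

end SquareZero2

end Groth.Agent.Lib.Helper48
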