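import Mathlib
import Groth.Agent.Lib.Helper48.SquareZeroEtale

namespace Groth.Agent.Lib.Helper48

open TensorProduct

section SquareZero

variable {A' : Type*} [CommRing A'] {A : Type*} [CommRing A] [Algebra A' A]
  {B' : Type*} [CommRing B'] [Algebra A' B'] {B : Type*} [CommRing B] [Algebra B' B]
  [Algebra A B] [Algebra A' B] [IsScalarTower A' A B] [IsScalarTower A' B' B]

/-- The flatness input: `I P' ∩ K' ⊆ I K'` for `K' = ker (P' → B')` when `I ⊗ B' → B'` is
injective. -/
theorem inf_le_mul_of_rTensor_injective (I : Ideal A')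
    (hb : Function.Injective (I.subtype.rTensor B'))
    {P' : Type*} [CommRing P'] [Algebra A' P'] (f' : P' →ₐ[A'] B') (hf' : Function.Surjective f') :
    I.map (algebraMap A' P') ⊓ RingHom.ker f'.toRingHom ≤
      I.map (algebraMap A' P') * RingHom.ker f'.toRingHom := by
  rintro y ⟨hyI, hyK⟩
  have hyI' : y ∈ (I • ⊤ : Submodule A' P') := by
    rw [Ideal.smul_top_eq_map]; exact hyI
  -- multiplication maps
  let μP : I ⊗[A'] P' →ₗ[A'] P' := (TensorProduct.lid A' P').toLinearMap ∘ₗ I.subtype.rTensor P'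
  let μB : I ⊗[A'] B' →ₗ[A'] B' := (TensorProduct.lid A' B').toLinearMap ∘ₗ I.subtype.rTensor B'
  have hμB : Function.Injective μB := (TensorProduct.lid A' B').injective.comp hb
  have hcomm : μB ∘ₗ (f'.toLinearMap.lTensor I) = f'.toLinearMap ∘ₗ μP := by
    apply TensorProduct.ext'
    intro i p
    simp [μB, μP]
  obtain ⟨t, ht⟩ : ∃ t, μP t = y := by
    refine Submodule.smul_induction_on hyI' ?_ ?_
    · intro i hi p _
      exact ⟨(⟨i, hi⟩ : I) ⊗ₜ p, by simp [μP]⟩
    · rintro _ _ ⟨t₁, rfl⟩ ⟨t₂, rfl⟩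
      exact ⟨t₁ + t₂, map_add _ _ _⟩
  have h0 : f'.toLinearMap.lTensor I t = 0 := by
    apply hμB
    rw [map_zero]
    have := congr($hcomm t)
    simp only [LinearMap.comp_apply] at this
    rw [this, ht]
    exact hyK
  have hex := lTensor_exact I (LinearMap.exact_subtype_ker_map f'.toLinearMap) hf'
  obtain ⟨s, hs⟩ := (hex t).mp h0
  rw [← ht, ← hs]
  clear hs h0 ht
  induction s using TensorProduct.induction_on with
  | zero => simp
  | tmul i k =>
    have : μP ((LinearMap.lTensor I (LinearMap.ker f'.toLinearMap).subtype) (i ⊗ₜ k)) =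
        algebraMap A' P' i.1 * k.1 := by
      simp [μP, Algebra.smul_def]
    rw [this]
    exact Ideal.mul_mem_mul (Ideal.mem_map_of_mem _ i.2) k.2
  | add s₁ s₂ h₁ h₂ =>
    rw [map_add, map_add]
    exact add_mem h₁ h₂

end SquareZero

end Groth.Agent.Lib.Helper48
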