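import Mathlib
import Groth.Agent.Lib.Helper48.SquareZeroEtale
import Groth.Agent.Lib.Helper48.SquareZeroEtale2

namespace Groth.Agent.Lib.Helper48

open TensorProduct

section SquareZero

universe u v

variable {A' : Type u} [CommRing A'] {A : Type*} [CommRing A] [Algebra A' A]
  {B' : Type v} [CommRing B'] [Algebra A' B'] {B : Type*} [CommRing B] [Algebra B' B]
  [Algebra A B] [Algebra A' B] [IsScalarTower A' A B] [IsScalarTower A' B' B]

/-- Finite presentation lifts along a square-zero thickening, given flatness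
(in the form `I ⊗ B' → B'` injective). -/
theorem finitePresentation_of_squareZero (hA : Function.Surjective (algebraMap A' A))
    (hI : RingHom.ker (algebraMap A' A) ^ 2 = ⊥)
    (hB : Function.Surjective (algebraMap B' B))
    (hJI : RingHom.ker (algebraMap B' B) = (RingHom.ker (algebraMap A' A)).map (algebraMap A' B'))
    (hb : Function.Injective ((RingHom.ker (algebraMap A' A)).subtype.rTensor B'))
    [Algebra.FinitePresentation A B] : Algebra.FinitePresentation A' B' := by
  classical
  obtain ⟨n, f₀, hf₀, gens, hgens⟩ := Algebra.FinitePresentation.out (R := A) (A := B)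
  choose b' hb' using fun k : Fin n => hB (f₀ (MvPolynomial.X k))
  obtain ⟨hcompat, hlift, hsurj⟩ := surjective_aeval_of_squareZero hA hI hJI f₀ hf₀ b' hb'
  obtain ⟨I, hIdef⟩ : ∃ I : Ideal A', I = RingHom.ker (algebraMap A' A) := ⟨_, rfl⟩
  rw [← hIdef] at hI hJI hb hlift
  obtain ⟨f', hf'⟩ : ∃ f' : MvPolynomial (Fin n) A' →ₐ[A'] B', f' = MvPolynomial.aeval b' :=
    ⟨_, rfl⟩
  rw [← hf'] at hcompat hlift hsurj
  obtain ⟨φ, hφdef⟩ : ∃ φ : MvPolynomial (Fin n) A' →+* MvPolynomial (Fin n) A,
    φ = MvPolynomial.map (algebraMap A' A) := ⟨_, rfl⟩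
  rw [← hφdef] at hcompat
  have hφ : Function.Surjective φ := hφdef ▸ MvPolynomial.map_surjective _ hA
  have hkerφ : RingHom.ker φ = I.map (algebraMap A' (MvPolynomial (Fin n) A')) := by
    rw [hφdef, MvPolynomial.ker_map, hIdef]
    rfl
  -- elements of the kernel of `f₀` lift to the kernel of `f'`
  have claim3 : ∀ q ∈ RingHom.ker f₀.toRingHom, ∃ x ∈ RingHom.ker f'.toRingHom, φ x = q := by
    intro q hq
    obtain ⟨p, rfl⟩ := hφ q
    have hpJ : f' p ∈ RingHom.ker (algebraMap B' B) := by
      rw [RingHom.mem_ker, hcompat]; exact hq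
    obtain ⟨p₂, hp₂, hp₂'⟩ := hlift _ hpJ
    have hφp₂ : φ p₂ = 0 := by
      have : p₂ ∈ RingHom.ker φ := by
        rw [hkerφ]
        have := Ideal.smul_top_eq_map (R := A') (S := MvPolynomial (Fin n) A') I
        rw [this] at hp₂
        exact hp₂
      exact this
    refine ⟨p - p₂, ?_, by rw [map_sub, hφp₂, sub_zero]⟩
    rw [RingHom.mem_ker]
    change f' (p - p₂) = 0
    rw [map_sub, hp₂', sub_self]
  choose! k hkK hkφ using claim3
  have hgens_mem : ∀ g ∈ gens, g ∈ RingHom.ker f₀.toRingHom := fun g hg =>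
    hgens ▸ Ideal.subset_span hg
  obtain ⟨K'', hK''⟩ : ∃ K'' : Ideal (MvPolynomial (Fin n) A'),
    K'' = Ideal.span ((gens.image k : Finset _) : Set (MvPolynomial (Fin n) A')) := ⟨_, rfl⟩
  have hK''le : K'' ≤ RingHom.ker f'.toRingHom := by
    rw [hK'', Ideal.span_le]
    intro x hx
    obtain ⟨g, hg, rfl⟩ := Finset.mem_image.mp hx
    exact hkK g (hgens_mem g hg)
  have hmapK'' : K''.map φ = RingHom.ker f₀.toRingHom := by
    rw [hK'', Ideal.map_span, ← hgens]
    congr 1
    ext q
    simp only [Finset.coe_image, Set.mem_image, Finset.mem_coe]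
    constructor
    · rintro ⟨_, ⟨g, hg, rfl⟩, rfl⟩
      rw [hkφ g (hgens_mem g hg)]; exact hg
    · intro hq
      exact ⟨k q, ⟨q, hq, rfl⟩, hkφ q (hgens_mem q hq)⟩
  have hflat := inf_le_mul_of_rTensor_injective I hb f' hsurj
  have claim4 : RingHom.ker f'.toRingHom ≤
      K'' ⊔ I.map (algebraMap A' (MvPolynomial (Fin n) A')) * RingHom.ker f'.toRingHom := by
    intro x hx
    have hφx : φ x ∈ K''.map φ := by
      rw [hmapK'', RingHom.mem_ker]
      change f₀ (φ x) = 0
      rw [← hcompat]
      have : f' x = 0 := hx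
      rw [this, map_zero]
    obtain ⟨y, hy, hyx⟩ := (Ideal.mem_map_iff_of_surjective φ hφ).mp hφx
    have hxy : x - y ∈ I.map (algebraMap A' (MvPolynomial (Fin n) A')) ⊓
        RingHom.ker f'.toRingHom := by
      refine ⟨?_, sub_mem hx (hK''le hy)⟩
      rw [← hkerφ]
      change x - y ∈ RingHom.ker φ
      rw [RingHom.mem_ker, map_sub, hyx, sub_self]
    have : x = y + (x - y) := by ring
    rw [this]
    exact Submodule.add_mem_sup hy (hflat hxy)
  have hII : I.map (algebraMap A' (MvPolynomial (Fin n) A')) *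
      I.map (algebraMap A' (MvPolynomial (Fin n) A')) = ⊥ := by
    rw [← Ideal.map_mul, ← pow_two, hI, Ideal.map_bot]
  have hle : RingHom.ker f'.toRingHom ≤ K'' := by
    refine claim4.trans (sup_le le_rfl ?_)
    calc I.map (algebraMap A' (MvPolynomial (Fin n) A')) * RingHom.ker f'.toRingHom
        ≤ I.map (algebraMap A' (MvPolynomial (Fin n) A')) *
          (K'' ⊔ I.map (algebraMap A' (MvPolynomial (Fin n) A')) * RingHom.ker f'.toRingHom) :=
          Ideal.mul_mono_right claim4
      _ = I.map (algebraMap A' (MvPolynomial (Fin n) A')) * K'' := by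
          rw [Ideal.mul_sup, ← mul_assoc, hII, Ideal.bot_mul, sup_bot_eq]
      _ ≤ K'' := Ideal.mul_le_right
  have hfg : (RingHom.ker f'.toRingHom).FG := by
    rw [le_antisymm hle hK''le, hK'']
    exact ⟨_, rfl⟩
  exact Algebra.FinitePresentation.of_surjective hsurj hfg

/-- **Étale lifting along a square-zero thickening.** -/
theorem etale_of_squareZero (hA : Function.Surjective (algebraMap A' A))
    (hI : RingHom.ker (algebraMap A' A) ^ 2 = ⊥)
    (hB : Function.Surjective (algebraMap B' B))
    (hJ : RingHom.ker (algebraMap B' B) ^ 2 = ⊥)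
    (hJI : RingHom.ker (algebraMap B' B) = (RingHom.ker (algebraMap A' A)).map (algebraMap A' B'))
    (hinj : Function.Injective ((RingHom.ker (algebraMap A' A)).subtype.baseChange B'))
    [Algebra.Etale A B] : Algebra.Etale A' B' := by
  haveI : Module.Flat A B := inferInstance
  haveI := flat_of_squareZero hA hI hB hJI hinj
  haveI := finitePresentation_of_squareZero hA hI hB hJI
    (rTensor_injective_of_baseChange (A := A) (B' := B') hinj)
  haveI := formallyUnramified_of_squareZero hA hB hJ hJI
  exact Algebra.Etale.of_formallyUnramified_of_flat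

end SquareZero

end Groth.Agent.Lib.Helper48
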