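import Mathlib
import Groth.Agent.Lib.Helper48.SeparableClosedFibre
import Groth.Agent.Lib.Helper48.EtaleFibreRegular
import Groth.Agent.Lib.Helper73.CplMap
import Groth.Agent.Lib.Helper29.CMLocusOpen
import Groth.Agent.Lib.Helper29.FibreDescent
import Groth.Agent.Lib.Helper29.CplFlat
import Groth.Agent.Lib.Helper9.Hens.NoetherianHens
import Groth.Agent.Lib.Helper9.HensK.StrictUnique
import Groth.Agent.H8.GRingLocal
import Groth.Agent.S0600
import Groth.Agent.S2047
import Groth.Agent.S2038
import Groth.Agent.S2039
import Groth.Agent.S9294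

/-!
# The strict henselization of a Noetherian local G-ring is a G-ring (helper48)
-/

set_option autoImplicit false
set_option linter.style.haveILetI false
set_option linter.unusedSectionVars false
universe u

open TensorProduct IsLocalRing

namespace Groth.Agent.Lib.Helper48

open Groth.Agent.Lib.Helper9 Groth.Agent.Lib.Helper73

section

variable (R S : Type u) [CommRing R] [IsLocalRing R] [IsNoetherianRing R] [CommRing S]
  [IsLocalRing S] [IsNoetherianRing S] [Algebra R S] [IsLocalHom (algebraMap R S)]

attribute [local instance] Groth.Agent.Lib.Helper73.CplMap.cplAlgebra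

theorem map_maximalIdeal_cpl (hm : (maximalIdeal R).map (algebraMap R S) = maximalIdeal S) :
    (maximalIdeal (EGA4.Cpl R)).map (algebraMap (EGA4.Cpl R) (EGA4.Cpl S)) =
      maximalIdeal (EGA4.Cpl S) := by
  change (maximalIdeal (EGA4.Cpl R)).map (CplMap.cplMap R S) = maximalIdeal (EGA4.Cpl S)
  rw [AdicCompletion.maximalIdeal_eq_map (R := R), Ideal.map_map, CplMap.cplMap_comp,
    ← Ideal.map_map, hm, AdicCompletion.maximalIdeal_eq_map (R := S)]

/-- If `R → S` is a flat local homomorphism of Noetherian local rings with `𝔪_R S = 𝔪_S` and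
separable algebraic residue field extension, then `R̂ → Ŝ` is a regular ring map. -/
theorem isRegularHom_cpl_cpl_of_isSeparable [Module.Flat R S]
    (hm : (maximalIdeal R).map (algebraMap R S) = maximalIdeal S)
    [Algebra.IsSeparable (ResidueField R) (ResidueField S)] :
    CAlg.IsRegularHom (EGA4.Cpl R) (EGA4.Cpl S) := by
  haveI : IsNoetherianRing (EGA4.Cpl R) := Groth.Agent.Lib.Helper29.isNoetherianRing_cpl R
  haveI : IsNoetherianRing (EGA4.Cpl S) := Groth.Agent.Lib.Helper29.isNoetherianRing_cpl S
  haveI : IsLocalHom (algebraMap (EGA4.Cpl R) (EGA4.Cpl S)) := CplMap.isLocalHom_cplMap R S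
  haveI : Module.Flat (EGA4.Cpl R) (EGA4.Cpl S) := CplMap.flat_cpl R S
  haveI : Module.FaithfullyFlat (EGA4.Cpl R) (EGA4.Cpl S) := CplMap.faithfullyFlat_cpl R S
  haveI : IsAdicComplete (maximalIdeal (EGA4.Cpl R)) (EGA4.Cpl R) :=
    Groth.Agent.Lib.Helper29.isAdicComplete_cpl R
  haveI : IsAdicComplete (maximalIdeal (EGA4.Cpl S)) (EGA4.Cpl S) :=
    Groth.Agent.Lib.Helper29.isAdicComplete_cpl S
  have hm' := map_maximalIdeal_cpl R S hm
  haveI : Algebra.IsSeparable (ResidueField (EGA4.Cpl R)) (ResidueField (EGA4.Cpl S)) := by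
    refine isSeparable_of_surjective_square
      (ResidueField.map (algebraMap R (EGA4.Cpl R)))
      (ResidueField.map (algebraMap S (EGA4.Cpl S))) ?_
      (AdicCompletion.residueField_map_bijective S).2
    refine Ideal.Quotient.ringHom_ext ?_
    ext a
    change residue (EGA4.Cpl S) (algebraMap S (EGA4.Cpl S) (algebraMap R S a)) =
      residue (EGA4.Cpl S) (CplMap.cplMap R S (algebraMap R (EGA4.Cpl R) a))
    have := RingHom.congr_fun (CplMap.cplMap_comp R S) a
    simp only [RingHom.comp_apply] at this
    rw [this]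
  haveI : Nontrivial ((maximalIdeal (EGA4.Cpl R)).Fiber (EGA4.Cpl S)) :=
    inferInstanceAs (Nontrivial ((maximalIdeal (EGA4.Cpl R)).ResidueField ⊗[EGA4.Cpl R]
      EGA4.Cpl S))
  have hgr := isGeometricallyRegular_closedFibre_of_isSeparable (EGA4.Cpl R) (EGA4.Cpl S) hm'
  have hfs := (Groth.Agent.S2038.result (A := EGA4.Cpl R) (B := EGA4.Cpl S)).mp
    ⟨inferInstance, hgr⟩
  exact (Groth.Agent.S2039.result (A := EGA4.Cpl R) (B := EGA4.Cpl S)).mpr hfs

/-- If moreover `R → R̂` is regular and `S` is covered by étale `R`-algebras, then `S → Ŝ` is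
regular. -/
theorem isRegularHom_cpl_of_isEtaleCoveredFin_of_isSeparable [Module.Flat R S]
    (hS : IsEtaleCoveredFin R S)
    (hm : (maximalIdeal R).map (algebraMap R S) = maximalIdeal S)
    [Algebra.IsSeparable (ResidueField R) (ResidueField S)]
    (hR : CAlg.IsRegularHom R (AdicCompletion (maximalIdeal R) R)) :
    CAlg.IsRegularHom S (AdicCompletion (maximalIdeal S) S) := by
  haveI : IsNoetherianRing (EGA4.Cpl S) := Groth.Agent.Lib.Helper29.isNoetherianRing_cpl S
  have h1 : CAlg.IsRegularHom (EGA4.Cpl R) (EGA4.Cpl S) :=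
    isRegularHom_cpl_cpl_of_isSeparable R S hm
  have hRT : CAlg.IsRegularHom R (EGA4.Cpl S) :=
    Groth.Agent.S9294.result R (EGA4.Cpl R) (EGA4.Cpl S) hR h1
      (fun p _ => Groth.Agent.Lib.Helper29.isNoetherianRing_fiber R _ p)
  haveI : Module.Flat S (AdicCompletion (maximalIdeal S) S) := inferInstance
  exact isRegularHom_of_isEtaleCoveredFin hS
    (fun q _ => Groth.Agent.Lib.Helper29.isNoetherianRing_fiber S _ q) hRT

end

section

variable (R S : Type u) [CommRing R] [IsLocalRing R] [IsNoetherianRing R] [CommRing S]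
  [IsLocalRing S] [Algebra R S] [IsLocalHom (algebraMap R S)]

/-- **The strict henselization of a Noetherian local G-ring is a G-ring.** -/
theorem isGRing_of_isStrictHenselization (hR : CAlg.IsGRing R)
    [hS : Hensel.IsStrictHenselization R S] : CAlg.IsGRing S := by
  haveI : IsNoetherianRing S :=
    (isNoetherianRing_iff_of_isStrictHenselization R S).mp inferInstance
  haveI : Module.Flat R S := HensK.flat_of_isStrictHenselization R S
  haveI : IsSepClosure (ResidueField R) (ResidueField S) := hS.isSepClosure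
  haveI : Algebra.IsSeparable (ResidueField R) (ResidueField S) := IsSepClosure.separable
  rw [Groth.Agent.S2047.result]
  intro m hmax
  have hmeq : m = maximalIdeal S := IsLocalRing.eq_maximalIdeal hmax
  subst hmeq
  have h1 : CAlg.IsRegularHom S (AdicCompletion (maximalIdeal S) S) :=
    isRegularHom_cpl_of_isEtaleCoveredFin_of_isSeparable R S
      (isEtaleCoveredFin_of_isStrictHenselization R S)
      (HensK.map_maximalIdeal_of_isStrictHenselization R S)
      (Groth.Agent.S0600.result R hR (maximalIdeal R))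
  haveI : IsNoetherianRing (Localization.AtPrime (maximalIdeal S)) :=
    IsLocalization.isNoetherianRing (maximalIdeal S).primeCompl _ inferInstance
  let e : S ≃ₐ[S] Localization.AtPrime (maximalIdeal S) :=
    IsLocalization.atUnits S (maximalIdeal S).primeCompl (fun x ↦ by simpa using! fun a ↦ a)
  exact Groth.Agent.H8.GRing.isRegularHom_cpl_of_ringEquiv e.symm.toRingEquiv h1

end

end Groth.Agent.Lib.Helper48
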