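import Mathlib
import Groth.Agent.Lib.Helper48.StrictHenselizationGRing
import Groth.Agent.Lib.Helper48.HenselizationNormalFibres
import Groth.Agent.H8.NormalHomPS
import Groth.Agent.S4696

/-!
# Strict henselization and geometrically normal formal fibres; extension of primes to
completion-isomorphic overrings (helper48)
-/

set_option autoImplicit false
set_option linter.style.haveILetI false
set_option linter.unusedSectionVars false
universe u

open TensorProduct IsLocalRing

namespace Groth.Agent.Lib.Helper48

open Groth.Agent.Lib.Helper9 Groth.Agent.Lib.Helper73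

section

variable (R S : Type u) [CommRing R] [IsLocalRing R] [IsNoetherianRing R] [CommRing S]
  [IsLocalRing S] [Algebra R S] [IsLocalHom (algebraMap R S)]

attribute [local instance] Groth.Agent.Lib.Helper73.CplMap.cplAlgebra

/-- Geometric normality of formal fibres passes along a flat local map `R → S` of Noetherian local
rings with `𝔪_R S = 𝔪_S`, separable algebraic residue extension and `S` covered by étale
`R`-algebras. -/
theorem hasGeomNormalFormalFibres_of_isEtaleCoveredFin_of_isSeparable [IsNoetherianRing S]
    [Module.Flat R S] (hS : IsEtaleCoveredFin R S)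
    (hm : (maximalIdeal R).map (algebraMap R S) = maximalIdeal S)
    [Algebra.IsSeparable (ResidueField R) (ResidueField S)]
    (hR : EGA4.HasGeomNormalFormalFibres R) : EGA4.HasGeomNormalFormalFibres S := by
  haveI : IsNoetherianRing (EGA4.Cpl R) := Groth.Agent.Lib.Helper29.isNoetherianRing_cpl R
  haveI : IsNoetherianRing (EGA4.Cpl S) := Groth.Agent.Lib.Helper29.isNoetherianRing_cpl S
  have h0 : EGA4.IsNormalHom R (EGA4.Cpl R) := ⟨inferInstance, hR⟩
  have h1 : CAlg.IsRegularHom (EGA4.Cpl R) (EGA4.Cpl S) :=
    isRegularHom_cpl_cpl_of_isSeparable R S hm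
  have h2 : EGA4.IsNormalHom (EGA4.Cpl R) (EGA4.Cpl S) :=
    Groth.Agent.H8.NormalHomPS.isNormalHom_of_isRegularHom h1
  have h3 : EGA4.IsNormalHom R (EGA4.Cpl S) :=
    Groth.Agent.S4696.result R (EGA4.Cpl R) (EGA4.Cpl S) h0 h2
  intro q _
  refine fiber_prop_of_isEtaleCoveredFin (T := AdicCompletion (maximalIdeal S) S)
    (fun X _ => EGA4.IsNormalRing X)
    (fun e h => Groth.Agent.Lib.Helper50.isNormalRing_of_ringEquiv e h)
    (fun M _ h => Groth.Agent.Lib.Helper24.isNormalRing_of_isLocalization M h) hS q ?_
  intro l _ _ hl
  exact h3.2 (q.under R) l hl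

/-- The strict henselization of a Noetherian local ring with geometrically normal formal fibres has
geometrically normal formal fibres. -/
theorem hasGeomNormalFormalFibres_of_isStrictHenselization
    [hS : Hensel.IsStrictHenselization R S]
    (hR : EGA4.HasGeomNormalFormalFibres R) : EGA4.HasGeomNormalFormalFibres S := by
  haveI : IsNoetherianRing S :=
    (isNoetherianRing_iff_of_isStrictHenselization R S).mp inferInstance
  haveI : Module.Flat R S := HensK.flat_of_isStrictHenselization R S
  haveI : IsSepClosure (ResidueField R) (ResidueField S) := hS.isSepClosure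
  haveI : Algebra.IsSeparable (ResidueField R) (ResidueField S) := IsSepClosure.separable
  exact hasGeomNormalFormalFibres_of_isEtaleCoveredFin_of_isSeparable R S
    (isEtaleCoveredFin_of_isStrictHenselization R S)
    (HensK.map_maximalIdeal_of_isStrictHenselization R S) hR

end

/-- For a henselian Noetherian local ring `A` with geometrically normal formal fibres, the
extension of a prime ideal to the completion is a prime ideal. -/
theorem map_isPrime_cpl_of_henselian (A : Type u) [CommRing A] [HenselianLocalRing A]
    [IsNoetherianRing A] (hA : EGA4.HasGeomNormalFormalFibres A) (p : Ideal A) [p.IsPrime] :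
    (p.map (algebraMap A (EGA4.Cpl A))).IsPrime := by
  haveI hflat : Module.Flat A (EGA4.Cpl A) := inferInstance
  haveI hD : IsDomain (TensorProduct A p.ResidueField (EGA4.Cpl A)) :=
    isDomain_tensor_cpl_of_finite_residueField A hA p p.ResidueField
  let φ : EGA4.Cpl A →ₐ[A] TensorProduct A p.ResidueField (EGA4.Cpl A) :=
    Algebra.TensorProduct.includeRight
  have hker : ∀ x : EGA4.Cpl A, φ x = 0 → x ∈ Ideal.map (algebraMap A (EGA4.Cpl A)) p := by
    intro x hx
    let ι : (A ⧸ p) →ₗ[A] p.ResidueField :=
      (IsScalarTower.toAlgHom A (A ⧸ p) p.ResidueField).toLinearMap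
    have hι : Function.Injective ι := by
      intro a b hab
      exact Ideal.injective_algebraMap_quotient_residueField p hab
    have hinj2 : Function.Injective (ι.rTensor (EGA4.Cpl A)) :=
      Module.Flat.rTensor_preserves_injective_linearMap ι hι
    have h1 : (ι.rTensor (EGA4.Cpl A)) (TensorProduct.tmul A (1 : A ⧸ p) x) = 0 := by
      rw [LinearMap.rTensor_tmul]
      have : ι 1 = 1 := by simp [ι]
      rw [this]
      exact hx
    have h2 : TensorProduct.tmul A (1 : A ⧸ p) x = 0 := hinj2 (by rw [h1, map_zero])
    have h3 := congrArg (TensorProduct.quotTensorEquivQuotSMul (EGA4.Cpl A) p) h2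
    rw [TensorProduct.quotTensorEquivQuotSMul_mk_one_tmul, map_zero,
      Submodule.Quotient.mk_eq_zero, Ideal.smul_top_eq_map] at h3
    exact h3
  have hker' : RingHom.ker φ.toRingHom = Ideal.map (algebraMap A (EGA4.Cpl A)) p := by
    apply le_antisymm
    · intro x hx
      exact hker x hx
    · rw [Ideal.map_le_iff_le_comap]
      intro r hr
      rw [Ideal.mem_comap, RingHom.mem_ker]
      change φ (algebraMap A (EGA4.Cpl A) r) = 0
      rw [AlgHom.commutes, Algebra.TensorProduct.algebraMap_apply]
      have : algebraMap A p.ResidueField r = 0 := by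
        rw [Ideal.algebraMap_residueField_eq_zero]
        exact hr
      rw [this, TensorProduct.zero_tmul]
  rw [← hker']
  exact RingHom.ker_isPrime _

/-- Let `S` be a henselian Noetherian local ring with geometrically normal formal fibres and `T` a
flat local Noetherian `S`-algebra with `𝔪_S T = 𝔪_T` and trivial residue extension (so `Ŝ ≅ T̂`).
Then the extension to `T` of every prime ideal of `S` is prime. -/
theorem map_isPrime_of_henselian_of_completion_iso (S T : Type u) [CommRing S]
    [HenselianLocalRing S] [IsNoetherianRing S] (hS : EGA4.HasGeomNormalFormalFibres S)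
    [CommRing T] [IsLocalRing T] [IsNoetherianRing T] [Algebra S T]
    [IsLocalHom (algebraMap S T)] [Module.Flat S T]
    (hm : (maximalIdeal S).map (algebraMap S T) = maximalIdeal T)
    (hk : Function.Bijective (ResidueField.map (algebraMap S T)))
    (q : Ideal S) [q.IsPrime] : (q.map (algebraMap S T)).IsPrime := by
  have hψ := CplMap.cplMap_comp S T
  have hbij : Function.Bijective (CplMap.cplMap S T) :=
    Groth.Agent.Lib.Helper47.completion_map_bijective S T hm hk (CplMap.cplMap S T) hψ
  let e : EGA4.Cpl S ≃+* EGA4.Cpl T := RingEquiv.ofBijective (CplMap.cplMap S T) hbij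
  haveI := map_isPrime_cpl_of_henselian S hS q
  haveI h1 : ((q.map (algebraMap S (EGA4.Cpl S))).map e).IsPrime := Ideal.map_isPrime_of_equiv e
  have h2 : (q.map (algebraMap S (EGA4.Cpl S))).map e =
      (q.map (algebraMap S T)).map (algebraMap T (EGA4.Cpl T)) := by
    change (q.map (algebraMap S (EGA4.Cpl S))).map (CplMap.cplMap S T) = _
    rw [Ideal.map_map, Ideal.map_map, hψ]
  haveI : Module.FaithfullyFlat T (EGA4.Cpl T) := Module.FaithfullyFlat.of_flat_of_isLocalHom
  have h3 : ((q.map (algebraMap S T)).map (algebraMap T (EGA4.Cpl T))).comap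
      (algebraMap T (EGA4.Cpl T)) = q.map (algebraMap S T) :=
    Ideal.comap_map_eq_self_of_faithfullyFlat _
  rw [← h3, ← h2]
  exact Ideal.comap_isPrime _ _

end Groth.Agent.Lib.Helper48
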