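import Mathlib
import Groth.Prelude.Def_Omega3

/-! Derivations out of a universal first order thickening (helper48). -/

namespace Groth.Agent.Lib.Helper48

universe u

open TrivSqZeroExt in
/-- Key lemma on universal first order thickenings `B' → B` of `B` over `A`: an `R`-derivation
`d₀ : A → N` into a `B'`-module killed by `ker (B' → B)` extends uniquely to an `R`-derivation
`B' → N`. -/
theorem existsUnique_derivation_of_isUnivThickeningRing
    {R A B B' N : Type u} [CommRing R] [CommRing A] [CommRing B] [CommRing B']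
    [Algebra R A] [Algebra A B] [Algebra A B'] [Algebra R B'] [IsScalarTower R A B']
    [Algebra B' B] [IsScalarTower A B' B]
    [AddCommGroup N] [Module B' N] [Module A N] [Module R N] [IsScalarTower A B' N]
    [IsScalarTower R A N] [IsScalarTower R B' N]
    (h : OmegaSh.IsUnivThickeningRing A B B' (IsScalarTower.toAlgHom A B' B))
    (hKN : ∀ k : B', algebraMap B' B k = 0 → ∀ n : N, k • n = 0)
    (d₀ : Derivation R A N) :
    ∃! δ : Derivation R B' N, ∀ a, δ (algebraMap A B' a) = d₀ a := by
  obtain ⟨hsurj, hsq, huniv⟩ := h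
  have hsurj' : Function.Surjective (algebraMap B' B) := hsurj
  have hKK : ∀ k₁ k₂ : B', algebraMap B' B k₁ = 0 → algebraMap B' B k₂ = 0 → k₁ * k₂ = 0 := by
    intro k₁ k₂ h₁ h₂
    have : k₁ * k₂ ∈ RingHom.ker (IsScalarTower.toAlgHom A B' B).toRingHom ^ 2 := by
      rw [pow_two]; exact Ideal.mul_mem_mul h₁ h₂
    rwa [hsq] at this
  letI : Module B'ᵐᵒᵖ N := Module.compHom N ((RingHom.id B').fromOpposite mul_comm)
  haveI : IsCentralScalar B' N := ⟨fun r m => rfl⟩
  -- the twisted algebra structure
  let ρ : A →+* TrivSqZeroExt B' N :=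
    { toFun := fun a => inl (algebraMap A B' a) + inr (d₀ a)
      map_one' := by simp
      map_mul' := fun a b => by
        ext
        · simp
        · simp only [snd_add, snd_inl, snd_inr, zero_add, snd_mul, fst_add, fst_inl, fst_inr,
            add_zero, Derivation.leibniz, op_smul_eq_smul, algebraMap_smul]
      map_zero' := by simp
      map_add' := fun a b => by
        ext
        · simp
        · simp }
  letI algC : Algebra A (TrivSqZeroExt B' N) := ρ.toAlgebra
  have hρ : ∀ r, algebraMap A (TrivSqZeroExt B' N) r = inl (algebraMap A B' r) + inr (d₀ r) :=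
    fun r => rfl
  -- the square zero ideal
  obtain ⟨I, hIdef⟩ : ∃ I : Ideal (TrivSqZeroExt B' N),
      I = Ideal.comap ((algebraMap B' B).comp (fstHom B' B' N).toRingHom) ⊥ := ⟨_, rfl⟩
  have hImem : ∀ x : TrivSqZeroExt B' N, x ∈ I ↔ algebraMap B' B x.fst = 0 := by
    intro x; rw [hIdef, Ideal.mem_comap, Ideal.mem_bot]; rfl
  have hI : I ^ 2 = ⊥ := by
    rw [eq_bot_iff, pow_two, Ideal.mul_le]
    intro x hx y hy
    rw [hImem] at hx hy
    rw [Ideal.mem_bot]
    ext
    · rw [fst_mul, fst_zero]; exact hKK _ _ hx hy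
    · rw [snd_mul, snd_zero, hKN _ hx, op_smul_eq_smul, hKN _ hy, add_zero]
  -- the map `B → C ⧸ I`
  let g : B' →+* TrivSqZeroExt B' N ⧸ I := (Ideal.Quotient.mk I).comp (inlHom B' N)
  have hg : RingHom.ker (algebraMap B' B) ≤ RingHom.ker g := by
    intro k hk
    rw [RingHom.mem_ker] at hk ⊢
    change Ideal.Quotient.mk I (inl k) = 0
    rw [Ideal.Quotient.eq_zero_iff_mem, hImem, fst_inl, hk]
  let a₀ : B →+* TrivSqZeroExt B' N ⧸ I := (algebraMap B' B).liftOfSurjective hsurj' ⟨g, hg⟩
  have ha₀ : ∀ x : B', a₀ (algebraMap B' B x) = Ideal.Quotient.mk I (inl x) := fun x =>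
    RingHom.liftOfSurjective_comp_apply (algebraMap B' B) hsurj' ⟨g, hg⟩ x
  have hinr : ∀ n : N, (inr n : TrivSqZeroExt B' N) ∈ I := fun n => by
    rw [hImem, fst_inr, map_zero]
  let a : B →ₐ[A] TrivSqZeroExt B' N ⧸ I :=
    { a₀ with
      commutes' := fun r => by
        change a₀ (algebraMap A B r) = Ideal.Quotient.mk I (algebraMap A (TrivSqZeroExt B' N) r)
        rw [IsScalarTower.algebraMap_apply A B' B, ha₀, hρ, map_add,
          Ideal.Quotient.eq_zero_iff_mem.mpr (hinr _), add_zero] }
  have ha : ∀ x : B', a (algebraMap B' B x) = Ideal.Quotient.mk I (inl x) := ha₀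
  obtain ⟨a', ha', huniq⟩ := huniv (TrivSqZeroExt B' N) I hI a
  have ha'mk : ∀ x : B', Ideal.Quotient.mk I (a' x) = Ideal.Quotient.mk I (inl x) := fun x => by
    have := congr($ha' x)
    simp only [AlgHom.comp_apply, Ideal.Quotient.mkₐ_eq_mk] at this
    rw [this]; exact ha x
  have hfst : ∀ (x : B') (n : N), (a' x).fst • n = x • n := fun x n => by
    have h1 := ha'mk x
    rw [Ideal.Quotient.eq, hImem, fst_sub, fst_inl] at h1
    have := hKN _ h1 n
    rwa [sub_smul, sub_eq_zero] at this
  have hcomm : ∀ r : A, a' (algebraMap A B' r) = inl (algebraMap A B' r) + inr (d₀ r) := fun r => by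
    rw [a'.commutes, hρ]
  -- the derivation
  let δl : B' →ₗ[R] N :=
    { toFun := fun x => (a' x).snd
      map_add' := fun x y => by rw [map_add, snd_add]
      map_smul' := fun r x => by
        rw [RingHom.id_apply, Algebra.smul_def, map_mul, snd_mul,
          IsScalarTower.algebraMap_apply R A B', hcomm, Derivation.map_algebraMap]
        simp only [inr_zero, add_zero, fst_inl, snd_inl, smul_zero]
        rw [← IsScalarTower.algebraMap_apply R A B', algebraMap_smul] }
  let δ : Derivation R B' N :=
    { δl with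
      map_one_eq_zero' := by
        change (a' 1).snd = 0
        rw [map_one, snd_one]
      leibniz' := fun x y => by
        change (a' (x * y)).snd = x • (a' y).snd + y • (a' x).snd
        rw [map_mul, snd_mul, hfst, op_smul_eq_smul, hfst] }
  have hδ : ∀ x, δ x = (a' x).snd := fun x => rfl
  refine ⟨δ, fun r => ?_, fun δ₁ hδ₁ => ?_⟩
  · rw [hδ, hcomm, snd_add, snd_inl, snd_inr, zero_add]
  · let b : B' →ₐ[A] TrivSqZeroExt B' N :=
      { toFun := fun x => inl x + inr (δ₁ x)
        map_one' := by simp
        map_mul' := fun x y => by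
          ext
          · simp
          · simp only [snd_add, snd_inl, snd_inr, zero_add, snd_mul, fst_add, fst_inl, fst_inr,
              add_zero, Derivation.leibniz, op_smul_eq_smul]
        map_zero' := by simp
        map_add' := fun x y => by
          ext
          · simp
          · simp
        commutes' := fun r => by rw [hρ, hδ₁] }
    have hb : b = a' := by
      apply huniq
      refine AlgHom.ext fun x => ?_
      simp only [AlgHom.comp_apply, Ideal.Quotient.mkₐ_eq_mk]
      change Ideal.Quotient.mk I (inl x + inr (δ₁ x)) = a (algebraMap B' B x)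
      rw [ha, map_add, Ideal.Quotient.eq_zero_iff_mem.mpr (hinr _), add_zero]
    refine Derivation.ext fun x => ?_
    rw [hδ, ← hb]
    change δ₁ x = (inl x + inr (δ₁ x) : TrivSqZeroExt B' N).snd
    rw [snd_add, snd_inl, snd_inr, zero_add]

open TensorProduct

theorem formallyUnramified_of_isUnivThickeningRing
    (A : Type u) [CommRing A] (B : Type u) [CommRing B]
    [Algebra A B] (B' : Type u) [CommRing B'] [Algebra A B']
    [Algebra B' B] [IsScalarTower A B' B]
    (h : OmegaSh.IsUnivThickeningRing A B B' (IsScalarTower.toAlgHom A B' B)) :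
    Algebra.FormallyUnramified A B' := by
  have hsq := h.2.1
  obtain ⟨K, hK⟩ : ∃ K : Ideal B', K = RingHom.ker (IsScalarTower.toAlgHom A B' B).toRingHom :=
    ⟨_, rfl⟩
  rw [← hK] at hsq
  have hKmem : ∀ k : B', algebraMap B' B k = 0 → k ∈ K := fun k hk => by rw [hK]; exact hk
  obtain ⟨N₀, hN₀⟩ : ∃ N₀ : Submodule B' (Ω[B'⁄A]), N₀ = K • ⊤ := ⟨_, rfl⟩
  have hKN : ∀ k : B', algebraMap B' B k = 0 → ∀ n : (Ω[B'⁄A]) ⧸ N₀, k • n = 0 := by
    intro k hk n
    obtain ⟨x, rfl⟩ := Submodule.Quotient.mk_surjective _ n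
    rw [← Submodule.Quotient.mk_smul, Submodule.Quotient.mk_eq_zero, hN₀]
    exact Submodule.smul_mem_smul (hKmem k hk) Submodule.mem_top
  obtain ⟨δ, -, huniq⟩ := existsUnique_derivation_of_isUnivThickeningRing (R := A) (A := A) h hKN
    (0 : Derivation A A ((Ω[B'⁄A]) ⧸ N₀))
  have h0 : (N₀.mkQ.compDer (KaehlerDifferential.D A B')) = 0 := by
    rw [huniq (N₀.mkQ.compDer (KaehlerDifferential.D A B')) (fun a => ?_), huniq 0 (fun a => ?_)]
    · simp
    · rw [Derivation.map_algebraMap]; rfl
  have hD : ∀ x, KaehlerDifferential.D A B' x ∈ N₀ := fun x => by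
    have := congr($h0 x)
    change Submodule.Quotient.mk (KaehlerDifferential.D A B' x) = 0 at this
    rwa [Submodule.Quotient.mk_eq_zero] at this
  have htop : N₀ = ⊤ := by
    rw [eq_top_iff, ← KaehlerDifferential.span_range_derivation, Submodule.span_le]
    rintro _ ⟨x, rfl⟩
    exact hD x
  have hbot : (⊤ : Submodule B' (Ω[B'⁄A])) = ⊥ := by
    calc (⊤ : Submodule B' (Ω[B'⁄A])) = K • (K • ⊤ : Submodule B' (Ω[B'⁄A])) := by
          rw [← hN₀, htop, ← hN₀, htop]
      _ = (K * K) • (⊤ : Submodule B' (Ω[B'⁄A])) := (Submodule.mul_smul _ _ _).symm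
      _ = ⊥ := by rw [← pow_two, hsq, Submodule.bot_smul]
  constructor
  exact ⟨fun x y => by
    have hx : x ∈ (⊤ : Submodule B' (Ω[B'⁄A])) := Submodule.mem_top
    have hy : y ∈ (⊤ : Submodule B' (Ω[B'⁄A])) := Submodule.mem_top
    rw [hbot, Submodule.mem_bot] at hx hy
    rw [hx, hy]⟩

theorem bijective_baseChange_mapBaseChange_of_isUnivThickeningRing
    (R : Type u) [CommRing R] (A : Type u) [CommRing A] [Algebra R A] (B : Type u) [CommRing B]
    [Algebra A B] (B' : Type u) [CommRing B'] [Algebra A B']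
    [Algebra R B'] [IsScalarTower R A B'] [Algebra B' B] [IsScalarTower A B' B]
    (h : OmegaSh.IsUnivThickeningRing A B B' (IsScalarTower.toAlgHom A B' B)) :
    Function.Bijective ((KaehlerDifferential.mapBaseChange R A B').baseChange B) := by
  haveI := formallyUnramified_of_isUnivThickeningRing A B B' h
  constructor
  · -- injectivity: construct a left inverse from a derivation
    letI : Algebra R B := ((algebraMap B' B).comp (algebraMap R B')).toAlgebra
    haveI : IsScalarTower R B' B := IsScalarTower.of_algebraMap_eq fun _ => rfl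
    have hKN : ∀ k : B', algebraMap B' B k = 0 →
        ∀ n : B ⊗[B'] (B' ⊗[A] Ω[A⁄R]), k • n = 0 := by
      intro k hk n
      rw [← algebraMap_smul B k n, hk, zero_smul]
    let ιN : Ω[A⁄R] →ₗ[A] B ⊗[B'] (B' ⊗[A] Ω[A⁄R]) :=
      { toFun := fun ω => (1 : B) ⊗ₜ[B'] ((1 : B') ⊗ₜ[A] ω)
        map_add' := fun x y => by rw [TensorProduct.tmul_add, TensorProduct.tmul_add]
        map_smul' := fun a x => by
          rw [RingHom.id_apply, TensorProduct.tmul_smul, TensorProduct.tmul_smul] }
    let d₀ : Derivation R A (B ⊗[B'] (B' ⊗[A] Ω[A⁄R])) :=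
      (ιN.compDer (KaehlerDifferential.D R A))
    obtain ⟨δ, hδ, -⟩ := existsUnique_derivation_of_isUnivThickeningRing h hKN d₀
    let L : B ⊗[B'] Ω[B'⁄R] →ₗ[B] B ⊗[B'] (B' ⊗[A] Ω[A⁄R]) :=
      LinearMap.liftBaseChange B δ.liftKaehlerDifferential
    have hL : L ∘ₗ ((KaehlerDifferential.mapBaseChange R A B').baseChange B) = LinearMap.id := by
      apply (LinearMap.liftBaseChangeEquiv B).symm.injective
      apply (LinearMap.liftBaseChangeEquiv B').symm.injective
      apply Derivation.liftKaehlerDifferential_unique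
      ext a
      change L (((KaehlerDifferential.mapBaseChange R A B').baseChange B)
        ((1 : B) ⊗ₜ[B'] ((1 : B') ⊗ₜ[A] KaehlerDifferential.D R A a))) =
          (1 : B) ⊗ₜ[B'] ((1 : B') ⊗ₜ[A] KaehlerDifferential.D R A a)
      rw [LinearMap.baseChange_tmul, KaehlerDifferential.mapBaseChange_tmul, one_smul,
        KaehlerDifferential.map_D]
      change (1 : B) • δ.liftKaehlerDifferential
        (KaehlerDifferential.D R B' (algebraMap A B' a)) = _
      rw [one_smul, Derivation.liftKaehlerDifferential_comp_D, hδ]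
      rfl
    exact Function.LeftInverse.injective (g := L) fun x => congr($hL x)
  · have hs : Function.Surjective (KaehlerDifferential.mapBaseChange R A B') := by
      rw [← LinearMap.range_eq_top, KaehlerDifferential.range_mapBaseChange, eq_top_iff]
      intro x _
      rw [LinearMap.mem_ker]
      exact Subsingleton.elim _ _
    rw [LinearMap.baseChange_eq_ltensor]
    exact LinearMap.lTensor_surjective _ hs

end Groth.Agent.Lib.Helper48
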