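import Mathlib
import Groth.Prelude.Def_Omega3

/-! Universal first order thickenings of rings localize (helper48). -/

namespace Groth.Agent.Lib.Helper48

universe u

/-- Universal first order thickenings localize: general form with submonoids `M' ⊆ B'`, `M ⊆ B`
such that `π` maps `M'` onto `M`. -/
theorem isUnivThickeningRing_localization {A B B' : Type u} [CommRing A] [CommRing B]
    [CommRing B'] [Algebra A B] [Algebra A B'] (π : B' →ₐ[A] B)
    (hπ : OmegaSh.IsUnivThickeningRing A B B' π)
    (M' : Submonoid B') (M : Submonoid B)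
    (hM1 : ∀ m' ∈ M', π m' ∈ M) (hM2 : ∀ m ∈ M, ∃ m' ∈ M', π m' = m)
    (BS B'S : Type u) [CommRing BS] [CommRing B'S]
    [Algebra B BS] [IsLocalization M BS]
    [Algebra B' B'S] [IsLocalization M' B'S]
    [Algebra A BS] [IsScalarTower A B BS] [Algebra A B'S] [IsScalarTower A B' B'S]
    (πS : B'S →ₐ[A] BS) (hπS : ∀ x : B', πS (algebraMap B' B'S x) = algebraMap B BS (π x)) :
    OmegaSh.IsUnivThickeningRing A BS B'S πS := by
  obtain ⟨hsurj, hsq, huniv⟩ := hπ
  refine ⟨?_, ?_, ?_⟩
  · intro y
    obtain ⟨b, m, rfl⟩ := IsLocalization.exists_mk'_eq M y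
    obtain ⟨m', hm', hm'eq⟩ := hM2 m m.2
    obtain ⟨b', rfl⟩ := hsurj b
    refine ⟨IsLocalization.mk' B'S b' ⟨m', hm'⟩, ?_⟩
    rw [IsLocalization.eq_mk'_iff_mul_eq, ← hm'eq, ← hπS, ← map_mul]
    have := IsLocalization.mk'_spec B'S b' ⟨m', hm'⟩
    rw [this, hπS]
  · have hker : RingHom.ker πS.toRingHom ≤ (RingHom.ker π.toRingHom).map (algebraMap B' B'S) := by
      intro x hx
      obtain ⟨b', m', rfl⟩ := IsLocalization.exists_mk'_eq M' x
      rw [IsLocalization.mk'_mem_map_algebraMap_iff M']
      have h1 : πS (algebraMap B' B'S b') = 0 := by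
        rw [← IsLocalization.mk'_spec B'S b' m', map_mul]
        have : πS (IsLocalization.mk' B'S b' m') = 0 := hx
        rw [this, zero_mul]
      rw [hπS, IsLocalization.map_eq_zero_iff M BS] at h1
      obtain ⟨t, ht⟩ := h1
      obtain ⟨t', ht', ht'eq⟩ := hM2 t t.2
      refine ⟨t', ht', ?_⟩
      rw [RingHom.mem_ker]
      change π (t' * b') = 0
      rw [map_mul, ht'eq, ht]
    rw [eq_bot_iff]
    calc RingHom.ker πS.toRingHom ^ 2
        ≤ ((RingHom.ker π.toRingHom).map (algebraMap B' B'S)) ^ 2 := Ideal.pow_right_mono hker 2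
      _ = ((RingHom.ker π.toRingHom) ^ 2).map (algebraMap B' B'S) := (Ideal.map_pow _ _ _).symm
      _ = ⊥ := by rw [hsq, Ideal.map_bot]
  · intro C _ _ I hI a
    let ι : B →ₐ[A] BS := IsScalarTower.toAlgHom A B BS
    let ι' : B' →ₐ[A] B'S := IsScalarTower.toAlgHom A B' B'S
    obtain ⟨a₀, ha₀, huniq₀⟩ := huniv C I hI (a.comp ι)
    have ha₀' : ∀ x, Ideal.Quotient.mk I (a₀ x) = a (algebraMap B BS (π x)) := fun x =>
      congr($ha₀ x)
    have hnil : IsNilpotent I := ⟨2, by rw [hI]; rfl⟩
    have hunit : ∀ y : M', IsUnit (a₀ y) := fun y => by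
      rw [← hnil.isUnit_quotient_mk_iff, ha₀']
      exact (IsLocalization.map_units BS ⟨π y, hM1 _ y.2⟩).map a
    let a' : B'S →ₐ[A] C := IsLocalization.liftAlgHom (M := M') (f := a₀) hunit
    have ha' : ∀ x, a' (algebraMap B' B'S x) = a₀ x := fun x => IsLocalization.lift_eq _ _
    refine ⟨a', ?_, ?_⟩
    · apply AlgHom.coe_ringHom_injective
      refine IsLocalization.ringHom_ext M' (RingHom.ext fun x => ?_)
      simp only [RingHom.comp_apply, AlgHom.coe_toRingHom, AlgHom.comp_apply,
        Ideal.Quotient.mkₐ_eq_mk, ha', ha₀', hπS]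
    · intro b hb
      have hb' : ∀ x, Ideal.Quotient.mk I (b x) = a (πS x) := fun x => congr($hb x)
      have h1 : b.comp ι' = a₀ := by
        apply huniq₀
        refine AlgHom.ext fun x => ?_
        simp only [AlgHom.comp_apply, Ideal.Quotient.mkₐ_eq_mk]
        rw [hb']
        change a (πS (algebraMap B' B'S x)) = a (algebraMap B BS (π x))
        rw [hπS]
      apply AlgHom.coe_ringHom_injective
      refine IsLocalization.ringHom_ext M' (RingHom.ext fun x => ?_)
      simp only [RingHom.comp_apply, AlgHom.coe_toRingHom, ha']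
      exact congr($h1 x)

/-- A universal first order thickening over `A` between `AS`-algebras, `AS` a localization of `A`,
is a universal first order thickening over `AS`. -/
theorem isUnivThickeningRing_of_isLocalization_base {A : Type u} [CommRing A] (S : Submonoid A)
    (AS : Type u) [CommRing AS] [Algebra A AS] [IsLocalization S AS]
    {B B' : Type u} [CommRing B] [CommRing B'] [Algebra A B] [Algebra A B'] [Algebra AS B]
    [Algebra AS B'] [IsScalarTower A AS B] [IsScalarTower A AS B']
    (π : B' →ₐ[AS] B) (hπ : OmegaSh.IsUnivThickeningRing A B B' (π.restrictScalars A)) :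
    OmegaSh.IsUnivThickeningRing AS B B' π := by
  obtain ⟨hsurj, hsq, huniv⟩ := hπ
  refine ⟨hsurj, hsq, ?_⟩
  intro C _ _ I hI a
  let : Algebra A C := Algebra.compHom C (algebraMap A AS)
  have : IsScalarTower A AS C := IsScalarTower.of_algebraMap_eq fun _ => rfl
  obtain ⟨a₀, ha₀, huniq⟩ := huniv C I hI (a.restrictScalars A)
  have ha₀' : ∀ x, Ideal.Quotient.mk I (a₀ x) = a (π x) := fun x => congr($ha₀ x)
  have hcomm : a₀.toRingHom.comp (algebraMap AS B') = algebraMap AS C := by
    refine IsLocalization.ringHom_ext S (RingHom.ext fun r => ?_)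
    simp only [RingHom.comp_apply, AlgHom.toRingHom_eq_coe, RingHom.coe_coe]
    rw [← IsScalarTower.algebraMap_apply A AS B', a₀.commutes,
      ← IsScalarTower.algebraMap_apply A AS C]
  let a' : B' →ₐ[AS] C := { a₀.toRingHom with commutes' := fun r => congr($hcomm r) }
  have ha' : ∀ x, a' x = a₀ x := fun x => rfl
  refine ⟨a', ?_, ?_⟩
  · refine AlgHom.ext fun x => ?_
    simp only [AlgHom.comp_apply, Ideal.Quotient.mkₐ_eq_mk, ha', ha₀']
  · intro b hb
    have h1 : b.restrictScalars A = a₀ := by
      apply huniq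
      refine AlgHom.ext fun x => ?_
      exact congr($hb x)
    refine AlgHom.ext fun x => ?_
    rw [ha', ← h1]; rfl

end Groth.Agent.Lib.Helper48
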