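import Mathlib
import Groth.Agent.S2363
import Groth.Agent.Lib.Helper20.DVRComplete

/-!
# Extending a DVR to a complete DVR with prescribed algebraically closed residue field
-/

set_option autoImplicit false
universe u
open IsLocalRing

namespace Groth.Agent.Lib.Helper48.UODvrFin

/-- A discrete valuation ring `A₀` and an algebraically closed extension `K` of its residue
field: there is a complete discrete valuation ring `A` with residue field `K` and an injective
local homomorphism `A₀ → A`. -/
theorem exists_complete_dvr_ext (A₀ : Type u) [CommRing A₀] [IsDomain A₀]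
    [IsDiscreteValuationRing A₀] (K : Type u) [Field K] [IsAlgClosed K]
    [Algebra (ResidueField A₀) K] :
    ∃ (A : Type u) (_ : CommRing A) (_ : IsDomain A) (_ : IsDiscreteValuationRing A)
      (ψ : A₀ →+* A),
      IsAdicComplete (maximalIdeal A) A ∧ IsAlgClosed (ResidueField A) ∧ IsLocalHom ψ ∧
      Function.Injective ψ ∧
      ∃ e : ResidueField A ≃+* K, ∀ a : A₀,
        e (residue A (ψ a)) = algebraMap (ResidueField A₀) K (residue A₀ a) := by
  obtain ⟨B, _, _, hBn, hBl, hloc, hflat, e, he⟩ := Groth.Agent.S2363.result (A := A₀) K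
  haveI := hBn; haveI := hBl; haveI := hloc; haveI := hflat
  obtain ⟨ϖ, hϖ⟩ := IsDiscreteValuationRing.exists_irreducible A₀
  -- the maximal ideal of `B`
  have hI : (maximalIdeal A₀).map (algebraMap A₀ B) = maximalIdeal B := by
    have hfield : IsField (B ⧸ (maximalIdeal A₀).map (algebraMap A₀ B)) :=
      e.toMulEquiv.isField (Field.toIsField K)
    have hmax : ((maximalIdeal A₀).map (algebraMap A₀ B)).IsMaximal :=
      Ideal.Quotient.maximal_of_isField _ hfield
    exact IsLocalRing.eq_maximalIdeal hmax
  have hmaxB : maximalIdeal B = Ideal.span {algebraMap A₀ B ϖ} := by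
    rw [← hI, hϖ.maximalIdeal_eq, Ideal.map_span, Set.image_singleton]
  haveI : Module.FaithfullyFlat A₀ B := Module.FaithfullyFlat.of_flat_of_isLocalHom
  have hinj : Function.Injective (algebraMap A₀ B) :=
    FaithfulSMul.algebraMap_injective A₀ B
  have hpow : ∀ n : ℕ, (algebraMap A₀ B ϖ) ^ n ≠ 0 := by
    intro n
    rw [← map_pow, Ne, ← map_zero (algebraMap A₀ B)]
    intro h
    exact pow_ne_zero n hϖ.ne_zero (hinj h)
  have hsep : (⨅ n : ℕ, Ideal.span {(algebraMap A₀ B ϖ) ^ n}) = (⊥ : Ideal B) := by
    have := Ideal.iInf_pow_eq_bot_of_isLocalRing (maximalIdeal B) (Ideal.IsPrime.ne_top inferInstance)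
    rw [← this]
    congr 1
    ext n
    rw [hmaxB, Ideal.span_singleton_pow]
  letI hBdom : IsDomain B := Groth.Agent.Lib.Helper20.DVRQuot.isDomain _ hmaxB hsep hpow
  haveI hBdvr : IsDiscreteValuationRing B :=
    Groth.Agent.Lib.Helper20.DVRQuot.isDiscreteValuationRing _ hmaxB hsep hpow
  -- the completion
  letI hTdom : IsDomain (Groth.Agent.Lib.Helper20.DVRComplete.T B) :=
    Groth.Agent.Lib.Helper20.DVRComplete.isDomain B
  haveI hTdvr : IsDiscreteValuationRing (Groth.Agent.Lib.Helper20.DVRComplete.T B) :=
    Groth.Agent.Lib.Helper20.DVRComplete.isDiscreteValuationRing B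
  -- residue fields
  have hbij := AdicCompletion.residueField_map_bijective B
  let e1 : ResidueField B ≃+* ResidueField (AdicCompletion (maximalIdeal B) B) :=
    RingEquiv.ofBijective _ hbij
  let e2 : ResidueField B ≃+* (B ⧸ (maximalIdeal A₀).map (algebraMap A₀ B)) :=
    Ideal.quotEquivOfEq hI.symm
  let eK : ResidueField (AdicCompletion (maximalIdeal B) B) ≃+* K := (e1.symm.trans e2).trans e
  haveI : IsAlgClosed (ResidueField (AdicCompletion (maximalIdeal B) B)) :=
    IsAlgClosed.of_ringEquiv K _ eK.symm
  refine ⟨AdicCompletion (maximalIdeal B) B, inferInstance, hTdom, hTdvr,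
    (algebraMap B (AdicCompletion (maximalIdeal B) B)).comp (algebraMap A₀ B), inferInstance,
    inferInstance, ?_, ?_, eK, ?_⟩
  · exact RingHom.isLocalHom_comp _ _
  · exact (Groth.Agent.Lib.Helper20.DVRComplete.algebraMap_injective B).comp hinj
  · intro a
    have h1 : residue (AdicCompletion (maximalIdeal B) B)
        (algebraMap B (AdicCompletion (maximalIdeal B) B) (algebraMap A₀ B a)) =
        e1 (residue B (algebraMap A₀ B a)) := by
      show _ = ResidueField.map _ (residue B _)
      rw [ResidueField.map_residue]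
    show e (e2 (e1.symm _)) = _
    rw [RingHom.comp_apply, h1, RingEquiv.symm_apply_apply]
    exact he a

end Groth.Agent.Lib.Helper48.UODvrFin
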