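import Mathlib
import Groth.Agent.H72.UODvr
import Groth.Agent.Lib.Helper48.UODvrFin1

/-!
# EGA IV 14.5.8, the direction "finite DVR liftings ⇒ universally open"
-/

set_option autoImplicit false
universe u
open CategoryTheory AlgebraicGeometry Limits IsLocalRing

namespace Groth.Agent.Lib.Helper48.UODvrFin

open Groth.Agent.H72.UODvr

/-- The lifting property of EGA IV 14.5.8. -/
def FinLift {X Y : Scheme.{u}} (f : X ⟶ Y) (x : X) : Prop :=
  ∀ (A : Type u) [CommRing A] [IsDomain A] [IsDiscreteValuationRing A]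
    [IsAdicComplete (IsLocalRing.maximalIdeal A) A] [IsAlgClosed (IsLocalRing.ResidueField A)]
    (g : Spec (CommRingCat.of A) ⟶ Y), g.base (IsLocalRing.closedPoint A) = f.base x →
    ∀ u₀ : Spec (CommRingCat.of (IsLocalRing.ResidueField A)) ⟶ X,
      u₀ ≫ f = Spec.map (CommRingCat.ofHom (IsLocalRing.residue A)) ≫ g → x ∈ Set.range u₀.base →
      ∃ (B : CommRingCat.{u}) (_ : IsDomain B) (_ : IsDiscreteValuationRing B) (φ : A →+* B)
        (_ : IsLocalHom φ) (v : Spec B ⟶ X),
        φ.Finite ∧ v ≫ f = Spec.map (CommRingCat.ofHom φ) ≫ g ∧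
        Spec.map (CommRingCat.ofHom (IsLocalRing.ResidueField.map φ)) ≫ u₀ =
          Spec.map (CommRingCat.ofHom (IsLocalRing.residue B)) ≫ v

/-- A finite local homomorphism from a DVR to a DVR is injective. -/
theorem injective_of_finite_of_dvr {A B : Type u} [CommRing A] [IsDomain A]
    [IsDiscreteValuationRing A] [CommRing B] [IsDomain B] [IsDiscreteValuationRing B]
    (φ : A →+* B) (hφ : φ.Finite) : Function.Injective φ := by
  rw [RingHom.injective_iff_ker_eq_bot]
  by_contra hne
  haveI : (RingHom.ker φ).IsPrime := RingHom.ker_isPrime φ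
  have hmax : (RingHom.ker φ).IsMaximal := Ring.DimensionLEOne.maximalOfPrime hne inferInstance
  have hint : φ.IsIntegral := hφ.to_isIntegral
  have hbot : (⊥ : Ideal B).IsMaximal := by
    haveI : ((⊥ : Ideal B).comap φ).IsMaximal := hmax
    exact Ideal.isMaximal_of_isIntegral_of_isMaximal_comap' φ hint ⊥ hmax
  exact IsDiscreteValuationRing.not_isField B (Ring.isField_iff_maximal_bot.mpr hbot)

theorem dvrCond_of_finLift {X Y : Scheme.{u}} (f : X ⟶ Y) (x : X) (H : FinLift f x) :
    DVRCond f x := by
  intro A₀ _ _ _ g₀ hg₀ x' hx' hx'cl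
  -- the residue field of `x'` as an extension of the residue field of `A₀`
  obtain ⟨ρ, hρ⟩ : ∃ ρ : A₀ →+* (pullback f g₀).residueField x',
      Spec.map (CommRingCat.ofHom ρ) = (pullback f g₀).fromSpecResidueField x' ≫ pullback.snd f g₀ :=
    ⟨(Spec.preimage ((pullback f g₀).fromSpecResidueField x' ≫ pullback.snd f g₀)).hom,
      Spec.map_preimage _⟩
  have hker : RingHom.ker ρ = maximalIdeal A₀ := by
    let s₀ : ↥(Spec ((pullback f g₀).residueField x')) :=
      (⟨⊥, Ideal.isPrime_bot⟩ : PrimeSpectrum ((pullback f g₀).residueField x'))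
    have h1 : (Spec.map (CommRingCat.ofHom ρ)) s₀ = closedPoint A₀ := by
      rw [hρ]
      show (pullback.snd f g₀) (((pullback f g₀).fromSpecResidueField x') s₀) = _
      rw [Scheme.fromSpecResidueField_apply, hx'cl]
    have h2 := congrArg PrimeSpectrum.asIdeal h1
    exact h2
  haveI : IsLocalHom ρ := by
    constructor
    intro a ha
    by_contra hna
    have : a ∈ maximalIdeal A₀ := (mem_maximalIdeal a).mpr hna
    rw [← hker, RingHom.mem_ker] at this
    rw [this] at ha
    exact not_isUnit_zero ha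
  let ρbar : ResidueField A₀ →+* (pullback f g₀).residueField x' := ResidueField.lift ρ
  let K := AlgebraicClosure ((pullback f g₀).residueField x')
  letI : Algebra (ResidueField A₀) K :=
    ((algebraMap ((pullback f g₀).residueField x') K).comp ρbar).toAlgebra
  obtain ⟨A, _, _, _, ψ, hcompl, hclosed, hψloc, hψinj, e, he⟩ := exists_complete_dvr_ext A₀ K
  haveI := hcompl; haveI := hclosed; haveI := hψloc
  -- the residue field point
  let θ : (pullback f g₀).residueField x' →+* ResidueField A :=
    (e.symm : K →+* ResidueField A).comp (algebraMap ((pullback f g₀).residueField x') K)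
  have hθρ : θ.comp ρ = (residue A).comp ψ := by
    ext a
    show e.symm (algebraMap _ K (ρ a)) = residue A (ψ a)
    rw [RingEquiv.symm_apply_eq, he a]
    rfl
  let c : Spec (CommRingCat.of (ResidueField A)) ⟶ pullback f g₀ :=
    Spec.map (CommRingCat.ofHom θ) ≫ (pullback f g₀).fromSpecResidueField x'
  have hc_pt : ∀ s, c s = x' := fun s => by
    show ((pullback f g₀).fromSpecResidueField x') _ = x'
    rw [Scheme.fromSpecResidueField_apply]
  have hc_snd : c ≫ pullback.snd f g₀ =
      Spec.map (CommRingCat.ofHom (residue A)) ≫ Spec.map (CommRingCat.ofHom ψ) := by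
    rw [Category.assoc, ← hρ, ← Spec.map_comp, ← Spec.map_comp, ← CommRingCat.ofHom_comp,
      ← CommRingCat.ofHom_comp, hθρ]
  let g : Spec (CommRingCat.of A) ⟶ Y := Spec.map (CommRingCat.ofHom ψ) ≫ g₀
  have hg : g.base (closedPoint A) = f.base x := by
    show g₀ ((Spec.map (CommRingCat.ofHom ψ)) (closedPoint A)) = _
    have : (Spec.map (CommRingCat.ofHom ψ)) (closedPoint A) = closedPoint A₀ :=
      IsLocalRing.comap_closedPoint ψ
    rw [this]
    exact hg₀
  have hu₀ : (c ≫ pullback.fst f g₀) ≫ f = Spec.map (CommRingCat.ofHom (residue A)) ≫ g := by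
    rw [Category.assoc, pullback.condition, ← Category.assoc, hc_snd, Category.assoc]
  have hxr : x ∈ Set.range (c ≫ pullback.fst f g₀).base := by
    let s₁ : ↥(Spec (CommRingCat.of (ResidueField A))) :=
      (⟨⊥, Ideal.isPrime_bot⟩ : PrimeSpectrum (ResidueField A))
    refine ⟨s₁, ?_⟩
    show (pullback.fst f g₀) (c s₁) = x
    rw [hc_pt, hx']
  obtain ⟨B, hBdom, hBdvr, φ, hφloc, v, hφfin, hv, hcl⟩ := H A g hg _ hu₀ hxr
  haveI := hBdom; haveI := hBdvr; haveI := hφloc
  have hφinj : Function.Injective φ := injective_of_finite_of_dvr φ hφfin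
  -- the morphism to the fibre product
  have hw : v ≫ f = (Spec.map (CommRingCat.ofHom φ) ≫ Spec.map (CommRingCat.ofHom ψ)) ≫ g₀ := by
    rw [hv, Category.assoc]
  let w : Spec B ⟶ pullback f g₀ := pullback.lift v _ hw
  have hw1 : w ≫ pullback.fst f g₀ = v := pullback.lift_fst _ _ _
  have hw2 : w ≫ pullback.snd f g₀ =
      Spec.map (CommRingCat.ofHom φ) ≫ Spec.map (CommRingCat.ofHom ψ) := pullback.lift_snd _ _ _
  -- the closed point goes to `x'`
  have hres : Spec.map (CommRingCat.ofHom (residue B)) ≫ w =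
      Spec.map (CommRingCat.ofHom (ResidueField.map φ)) ≫ c := by
    apply pullback.hom_ext
    · rw [Category.assoc, hw1, Category.assoc, ← hcl]
    · have hsq : Spec.map (CommRingCat.ofHom (residue B)) ≫ Spec.map (CommRingCat.ofHom φ) =
          Spec.map (CommRingCat.ofHom (ResidueField.map φ)) ≫
            Spec.map (CommRingCat.ofHom (residue A)) := by
        rw [← Spec.map_comp, ← Spec.map_comp, ← CommRingCat.ofHom_comp, ← CommRingCat.ofHom_comp]
        rfl
      rw [Category.assoc, hw2, Category.assoc, hc_snd, ← Category.assoc, hsq, Category.assoc]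
  have hwcl : w (closedPoint B) = x' := by
    let s₂ : ↥(Spec (CommRingCat.of (ResidueField B))) :=
      (⟨⊥, Ideal.isPrime_bot⟩ : PrimeSpectrum (ResidueField B))
    have h1 : (Spec.map (CommRingCat.ofHom (residue B))) s₂ =
        closedPoint B := PrimeSpectrum.comap_residue B _
    rw [← h1]
    show (Spec.map (CommRingCat.ofHom (residue B)) ≫ w) _ = x'
    rw [hres]
    exact hc_pt _
  refine ⟨w (genPt B), ?_, ?_⟩
  · rw [← hwcl]
    exact (genPt_specializes B (closedPoint B)).map w.continuous
  · show (w ≫ pullback.snd f g₀) (genPt B) ≠ closedPoint A₀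
    rw [hw2, ← Spec.map_comp, ← CommRingCat.ofHom_comp]
    have h1 : (Spec.map (CommRingCat.ofHom (φ.comp ψ))) (genPt B) = genPt A₀ := by
      apply PrimeSpectrum.ext
      show Ideal.comap (φ.comp ψ) ⊥ = ⊥
      rw [← RingHom.ker_eq_comap_bot]
      exact (RingHom.injective_iff_ker_eq_bot _).mp (hφinj.comp hψinj)
    rw [h1]
    exact genPt_ne_closedPoint A₀

end Groth.Agent.Lib.Helper48.UODvrFin
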