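import Mathlib
import Groth.Agent.H72.UODvr
import Groth.Agent.H72.QuasiSectionDim1
import Groth.Agent.H72.NormalBir3

/-!
# EGA IV 14.5.8: quasi-sections over a discrete valuation ring
-/

set_option autoImplicit false
universe u
open CategoryTheory AlgebraicGeometry Limits IsLocalRing TopologicalSpace

namespace Groth.Agent.Lib.Helper48.UODvrFin

open Groth.Agent.H72.UODvr

/-- The spectrum of a discrete valuation ring is regular of dimension at most one. -/
theorem spec_dvr_regular' (A : Type u) [CommRing A] [IsDomain A] [IsDiscreteValuationRing A]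
    (y : PrimeSpectrum A) :
    IsRegularLocalRing ((Spec (CommRingCat.of A)).presheaf.stalk y) ∧
      ringKrullDim ((Spec (CommRingCat.of A)).presheaf.stalk y) ≤ 1 := by
  letI k : Algebra A ((Spec (CommRingCat.of A)).presheaf.stalk y) :=
    StructureSheaf.stalkAlgebra A y
  haveI : IsLocalization.AtPrime ((Spec (CommRingCat.of A)).presheaf.stalk y) y.asIdeal :=
    StructureSheaf.IsLocalization.to_stalk A y
  constructor
  · exact IsRegularLocalRing.of_ringEquiv
      (IsLocalization.algEquiv y.asIdeal.primeCompl (Localization.AtPrime y.asIdeal)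
        ((Spec (CommRingCat.of A)).presheaf.stalk y)).toRingEquiv
  · rw [IsLocalization.AtPrime.ringKrullDim_eq_height y.asIdeal
      ((Spec (CommRingCat.of A)).presheaf.stalk y)]
    calc ((y.asIdeal.height : ℕ∞) : WithBot ℕ∞) ≤ ringKrullDim A := Ideal.height_le_ringKrullDim_of_isPrime
      _ ≤ 1 := Ring.krullDimLE_iff.mp inferInstance

theorem spec_dvr_regular (A : Type u) [CommRing A] [IsDomain A] [IsDiscreteValuationRing A]
    (y : Spec (CommRingCat.of A)) :
    IsRegularLocalRing ((Spec (CommRingCat.of A)).presheaf.stalk y) ∧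
      ringKrullDim ((Spec (CommRingCat.of A)).presheaf.stalk y) ≤ 1 :=
  spec_dvr_regular' A y

/-- The generic point of the spectrum of a domain. -/
theorem genericPoint_spec_eq (A : Type u) [CommRing A] [IsDomain A] :
    genericPoint (Spec (CommRingCat.of A)) = genPt A := by
  symm
  apply IsGenericPoint.eq _ (genericPoint_spec _)
  show closure {genPt A} = Set.univ
  rw [Set.eq_univ_iff_forall]
  intro p
  exact (genPt_specializes A p).mem_closure

/-- Quasi-sections over a discrete valuation ring through a closed point which has a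
generization in the generic fibre. -/
theorem exists_quasiSection_dvr {A : Type u} [CommRing A] [IsDomain A]
    [IsDiscreteValuationRing A] {P : Scheme.{u}} (q : P ⟶ Spec (CommRingCat.of A))
    [LocallyOfFiniteType q] (x' z' : P) (hz : z' ⤳ x') (hzgen : q z' ≠ closedPoint A)
    (hcl : ∀ x'' : P, x' ⤳ x'' → x'' = x') :
    ∃ (T : Scheme.{u}) (i : T ⟶ P), IsImmersion i ∧ IrreducibleSpace T ∧ IsReduced T ∧
      x' ∈ Set.range i ∧ LocallyOfFiniteType (i ≫ q) ∧ LocallyQuasiFinite (i ≫ q) ∧
      QuasiCompact (i ≫ q) ∧ IsDominant (i ≫ q) := by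
  let C : Closeds P := ⟨closure {z'}, isClosed_closure⟩
  have hCirr : IsIrreducible (C : Set P) := isIrreducible_singleton.closure
  haveI : IrreducibleSpace (Scheme.IdealSheafData.vanishingIdeal C).subscheme :=
    Groth.Agent.H72.NormalBir.irreducibleSpace_vanishingIdeal_subscheme C hCirr
  have hrange : Set.range (Scheme.IdealSheafData.vanishingIdeal C).subschemeι =
      closure {z'} := by
    rw [Scheme.IdealSheafData.range_subschemeι, Scheme.IdealSheafData.coe_support_vanishingIdeal]
    rfl
  obtain ⟨x₁, hx₁⟩ : x' ∈ Set.range (Scheme.IdealSheafData.vanishingIdeal C).subschemeι := by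
    rw [hrange]
    exact hz.mem_closure
  have hgp : (Scheme.IdealSheafData.vanishingIdeal C).subschemeι
      (genericPoint ↥(Scheme.IdealSheafData.vanishingIdeal C).subscheme) = z' := by
    have h1 : IsGenericPoint ((Scheme.IdealSheafData.vanishingIdeal C).subschemeι
        (genericPoint ↥(Scheme.IdealSheafData.vanishingIdeal C).subscheme))
        (closure ((Scheme.IdealSheafData.vanishingIdeal C).subschemeι '' Set.univ)) :=
      (genericPoint_spec _).image (Scheme.IdealSheafData.vanishingIdeal C).subschemeι.continuous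
    rw [Set.image_univ, hrange, closure_closure] at h1
    exact h1.eq (isGenericPoint_closure)
  have hgen : ((Scheme.IdealSheafData.vanishingIdeal C).subschemeι ≫ q)
      (genericPoint ↥(Scheme.IdealSheafData.vanishingIdeal C).subscheme) =
      genericPoint (Spec (CommRingCat.of A)) := by
    show q ((Scheme.IdealSheafData.vanishingIdeal C).subschemeι _) = _
    rw [hgp, genericPoint_spec_eq]
    exact eq_genPt_of_ne_closedPoint A _ hzgen
  have hcl₁ : ∀ w' : ↥(Scheme.IdealSheafData.vanishingIdeal C).subscheme,
      ((Scheme.IdealSheafData.vanishingIdeal C).subschemeι ≫ q) w' =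
        ((Scheme.IdealSheafData.vanishingIdeal C).subschemeι ≫ q) x₁ →
      x₁ ⤳ w' → w' = x₁ := by
    intro w' _ hsp
    apply (Scheme.IdealSheafData.vanishingIdeal C).subschemeι.isEmbedding.injective
    rw [hx₁]
    apply hcl
    have := hsp.map (Scheme.IdealSheafData.vanishingIdeal C).subschemeι.continuous
    rwa [hx₁] at this
  obtain ⟨T, i, h1, h2, h3, ⟨t, ht⟩, h5, h6, h7, h8⟩ :=
    Groth.Agent.H72.QuasiSectionDim1.hasQuasiSection_of_irreducible (spec_dvr_regular A)
      ((Scheme.IdealSheafData.vanishingIdeal C).subschemeι ≫ q) hgen x₁ hcl₁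
  refine ⟨T, i ≫ (Scheme.IdealSheafData.vanishingIdeal C).subschemeι, inferInstance, h2, h3,
    ⟨t, ?_⟩, ?_, ?_, ?_, ?_⟩
  · show (Scheme.IdealSheafData.vanishingIdeal C).subschemeι (i t) = x'
    rw [ht, hx₁]
  · rw [Category.assoc]; exact h5
  · rw [Category.assoc]; exact h6
  · rw [Category.assoc]; exact h7
  · rw [Category.assoc]; exact h8

end Groth.Agent.Lib.Helper48.UODvrFin
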