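import Mathlib
import Groth.Agent.Lib.Helper48.CompleteLocalNagata
import Groth.Agent.Lib.Helper48.CompleteLocalFinite

/-!
# Discrete valuation rings dominating a complete discrete valuation ring in a finite extension
-/

set_option autoImplicit false
universe u
open IsLocalRing

namespace Groth.Agent.Lib.Helper48.UODvrFin

/-- Let `A` be a complete discrete valuation ring, `L` a finite extension of its fraction field and
`R` a valuation subring of `L`, not `L` itself, dominating `A`. Then `R` is the integral closure of
`A` in `L`, which is finite over `A`. -/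
theorem valuationSubring_eq_integralClosure {A L : Type u} [CommRing A] [IsDomain A]
    [IsDiscreteValuationRing A] [IsAdicComplete (maximalIdeal A) A] [Field L] [Algebra A L]
    [Algebra (FractionRing A) L] [IsScalarTower A (FractionRing A) L]
    [FiniteDimensional (FractionRing A) L] (R : ValuationSubring L)
    (hAR : ∀ a : A, algebraMap A L a ∈ R)
    (hdom : ∀ a ∈ maximalIdeal A, ∀ hu : algebraMap A L a ≠ 0, (algebraMap A L a)⁻¹ ∉ R) :
    Module.Finite A (integralClosure A L) ∧ ∀ x : L, x ∈ R ↔ x ∈ integralClosure A L := by
  have hfin : Module.Finite A (integralClosure A L) :=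
    isN2_of_complete_local_domain A L inferInstance
  refine ⟨hfin, ?_⟩
  haveI := hfin
  have hinjA : Function.Injective (algebraMap A L) := by
    rw [IsScalarTower.algebraMap_eq A (FractionRing A) L]
    exact (algebraMap (FractionRing A) L).injective.comp (IsFractionRing.injective A _)
  -- `B₀ ⊆ R`
  have hsub : ∀ x : L, x ∈ integralClosure A L → x ∈ R := by
    intro x hx
    letI : Algebra A R := (RingHom.codRestrict (algebraMap A L) R.toSubring hAR).toAlgebra
    haveI : IsScalarTower A R L := IsScalarTower.of_algebraMap_eq (fun _ => rfl)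
    have hxR : IsIntegral R x := IsIntegral.tower_top (R := A) hx
    obtain ⟨y, hy⟩ := IsIntegrallyClosed.isIntegral_iff.mp hxR
    rw [← hy]
    exact y.2
  -- structure of `B₀`
  obtain ⟨hloc, -⟩ := isLocalRing_isAdicComplete_of_finite_domain A (integralClosure A L)
  haveI := hloc
  haveI : IsNoetherianRing (integralClosure A L) := IsNoetherianRing.of_finite A _
  haveI : IsFractionRing (integralClosure A L) L :=
    integralClosure.isFractionRing_of_finite_extension (FractionRing A) L
  haveI : IsIntegrallyClosed (integralClosure A L) :=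
    integralClosure.isIntegrallyClosedOfFiniteExtension (FractionRing A)
  haveI : Ring.DimensionLEOne (integralClosure A L) := inferInstance
  haveI : IsDedekindDomain (integralClosure A L) := {}
  obtain ⟨ϖ, hϖ⟩ := IsDiscreteValuationRing.exists_irreducible A
  have hϖm : ϖ ∈ maximalIdeal A := (mem_maximalIdeal ϖ).mpr hϖ.not_isUnit
  have hϖ0 : algebraMap A L ϖ ≠ 0 := fun h => hϖ.ne_zero (hinjA (by rw [h, map_zero]))
  -- the inclusion `B₀ → R` is local
  let incl : integralClosure A L →+* R :=
    RingHom.codRestrict (algebraMap (integralClosure A L) L) R.toSubring (fun x => hsub x x.2)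
  have hnu : ¬ IsUnit (incl (algebraMap A (integralClosure A L) ϖ)) := by
    intro hu
    obtain ⟨w, hw⟩ := hu.exists_right_inv
    have hw' : algebraMap A L ϖ * (w : L) = 1 := by
      have := congrArg (fun z : R => (z : L)) hw
      exact this
    have : (algebraMap A L ϖ)⁻¹ = (w : L) := (eq_inv_of_mul_eq_one_right hw').symm
    exact hdom ϖ hϖm hϖ0 (this ▸ w.2)
  have hne0 : algebraMap A (integralClosure A L) ϖ ≠ 0 := by
    intro h
    have : algebraMap A L ϖ = 0 := congrArg Subtype.val h
    exact hϖ0 this
  have hmemϖ : algebraMap A (integralClosure A L) ϖ ∈ Ideal.comap incl (maximalIdeal R) := by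
    rw [Ideal.mem_comap, mem_maximalIdeal, mem_nonunits_iff]
    exact hnu
  have hcomap : Ideal.comap incl (maximalIdeal R) = maximalIdeal (integralClosure A L) := by
    haveI hp : (Ideal.comap incl (maximalIdeal R)).IsPrime := Ideal.comap_isPrime _ _
    have hne : Ideal.comap incl (maximalIdeal R) ≠ ⊥ := by
      intro hbot
      rw [hbot, Ideal.mem_bot] at hmemϖ
      exact hne0 hmemϖ
    exact IsLocalRing.eq_maximalIdeal (Ring.DimensionLEOne.maximalOfPrime hne hp)
  have hnf : ¬ IsField (integralClosure A L) := by
    intro hf
    have : maximalIdeal (integralClosure A L) = ⊥ := isField_iff_maximalIdeal_eq.mp hf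
    rw [hcomap, this, Ideal.mem_bot] at hmemϖ
    exact hne0 hmemϖ
  have hDed : IsDedekindDomain (integralClosure A L) := inferInstance
  haveI : ValuationRing (integralClosure A L) :=
    ((tfae_of_isNoetherianRing_of_isLocalRing_of_isDomain (integralClosure A L)).out 2 1).mp hDed
  intro x
  refine ⟨fun hxR => ?_, hsub x⟩
  rcases ValuationRing.isInteger_or_isInteger (integralClosure A L) x with ⟨b, hb⟩ | ⟨b, hb⟩
  · rw [← hb]; exact b.2
  · by_cases hx0 : x = 0
    · rw [hx0]; exact Subalgebra.zero_mem _
    by_cases hbu : IsUnit b
    · obtain ⟨w, hw⟩ := hbu.exists_right_inv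
      have hw' : x⁻¹ * (w : L) = 1 := by
        have := congrArg (algebraMap (integralClosure A L) L) hw
        rw [map_mul, hb, map_one] at this
        exact this
      have : x = (w : L) := by
        have h1 : (w : L) = (x⁻¹)⁻¹ := eq_inv_of_mul_eq_one_right hw'
        rw [h1, inv_inv]
      rw [this]; exact w.2
    · exfalso
      have hbm : b ∈ maximalIdeal (integralClosure A L) := (mem_maximalIdeal b).mpr hbu
      rw [← hcomap, Ideal.mem_comap, mem_maximalIdeal, mem_nonunits_iff] at hbm
      apply hbm
      have hval : ((incl b : R) : L) = x⁻¹ := hb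
      refine ⟨⟨incl b, ⟨x, hxR⟩, ?_, ?_⟩, rfl⟩
      · apply Subtype.ext
        show ((incl b : R) : L) * x = 1
        rw [hval, inv_mul_cancel₀ hx0]
      · apply Subtype.ext
        show x * ((incl b : R) : L) = 1
        rw [hval, mul_inv_cancel₀ hx0]

end Groth.Agent.Lib.Helper48.UODvrFin
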