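import Mathlib

/-!
# Residue field points of a scheme over a local ring
-/

set_option autoImplicit false
universe u
open CategoryTheory AlgebraicGeometry Limits IsLocalRing TopologicalSpace

namespace Groth.Agent.Lib.Helper48.UODvrFin

variable {A : Type u} [CommRing A] [IsLocalRing A] {P : Scheme.{u}}
  (q : P ⟶ Spec (CommRingCat.of A)) (c : Spec (CommRingCat.of (ResidueField A)) ⟶ P)

/-- A point of `P` given by a section over the closed point of `Spec A` is closed. -/
theorem eq_of_specializes_of_residue_section
    (hc : c ≫ q = Spec.map (CommRingCat.ofHom (residue A)))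
    (s : Spec (CommRingCat.of (ResidueField A))) (x'' : P) (h : c s ⤳ x'') : x'' = c s := by
  obtain ⟨U, hU, hxU⟩ : ∃ U : P.Opens, IsAffineOpen U ∧ x'' ∈ U := by
    obtain ⟨U, hU, hxU, -⟩ := Opens.isBasis_iff_nbhd.mp P.isBasis_affineOpens
      (U := ⊤) (x := x'') trivial
    exact ⟨U, hU, hxU⟩
  have hcU : c s ∈ U := h.mem_open U.2 hxU
  haveI : IsAffine U := hU
  have hr : Set.range c ⊆ Set.range U.ι := by
    rw [Scheme.Opens.range_ι]
    rintro _ ⟨s', rfl⟩
    have : s' = s := Subsingleton.elim _ _
    rw [this]
    exact hcU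
  let cU : Spec (CommRingCat.of (ResidueField A)) ⟶ U := IsOpenImmersion.lift U.ι c hr
  have hcU' : cU ≫ U.ι = c := IsOpenImmersion.lift_fac _ _ _
  haveI : IsClosedImmersion (cU ≫ (U.ι ≫ q)) := by
    rw [← Category.assoc, hcU', hc]
    exact IsClosedImmersion.spec_of_surjective _ residue_surjective
  haveI : IsClosedImmersion cU := IsClosedImmersion.of_comp cU (U.ι ≫ q)
  have hcl : IsClosed (Set.range cU) := cU.isClosedEmbedding.isClosed_range
  obtain ⟨y'', hy''⟩ : x'' ∈ Set.range U.ι := by
    rw [Scheme.Opens.range_ι]; exact hxU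
  have hcUs : U.ι (cU s) = c s := by
    have := congrArg (fun φ => φ.base s) hcU'
    exact this
  have hsp : cU s ⤳ y'' := by
    rw [← U.ι.isEmbedding.isInducing.specializes_iff, hcUs, hy'']
    exact h
  obtain ⟨s', hs'⟩ : y'' ∈ Set.range cU := hsp.mem_closed hcl ⟨s, rfl⟩
  have : s' = s := Subsingleton.elim _ _
  rw [← hy'', ← hs', this, hcUs]

/-- A field valued point with the same image as `c` factors through `c`. -/
theorem exists_factor_through_residue_section
    (hc : c ≫ q = Spec.map (CommRingCat.ofHom (residue A)))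
    {F : Type u} [Field F] (b : Spec (CommRingCat.of F) ⟶ P)
    (hb : b (closedPoint F) = c (closedPoint (ResidueField A))) :
    ∃ b' : Spec (CommRingCat.of F) ⟶ Spec (CommRingCat.of (ResidueField A)), b = b' ≫ c := by
  let γ := Scheme.descResidueField (Scheme.stalkClosedPointTo c)
  have hγ : Spec.map γ ≫ P.fromSpecResidueField (c (closedPoint (ResidueField A))) = c :=
    Scheme.descResidueField_stalkClosedPointTo_fromSpecResidueField _ P c
  let β := Scheme.descResidueField (Scheme.stalkClosedPointTo b)
  have hβ : Spec.map β ≫ P.fromSpecResidueField (b (closedPoint F)) = b :=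
    Scheme.descResidueField_stalkClosedPointTo_fromSpecResidueField _ P b
  -- `γ` is an isomorphism
  let ρ' : CommRingCat.of A ⟶ P.residueField (c (closedPoint (ResidueField A))) :=
    Spec.preimage (P.fromSpecResidueField (c (closedPoint (ResidueField A))) ≫ q)
  have hρ' : Spec.map ρ' = P.fromSpecResidueField (c (closedPoint (ResidueField A))) ≫ q :=
    Spec.map_preimage _
  have hργ : ρ' ≫ γ = CommRingCat.ofHom (residue A) := by
    apply Spec.map_injective
    rw [Spec.map_comp, hρ', ← Category.assoc, hγ, hc]
  have hγsurj : Function.Surjective γ.hom := by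
    intro z
    obtain ⟨a, rfl⟩ := residue_surjective z
    refine ⟨ρ'.hom a, ?_⟩
    have := congrArg (fun φ => φ.hom a) hργ
    exact this
  have hγinj : Function.Injective γ.hom := RingHom.injective _
  haveI : IsIso γ := by
    rw [ConcreteCategory.isIso_iff_bijective]
    exact ⟨hγinj, hγsurj⟩
  have hι : Spec.map (inv γ) ≫ c = P.fromSpecResidueField (c (closedPoint (ResidueField A))) := by
    have h1 : Spec.map (inv γ) ≫ (Spec.map γ ≫
        P.fromSpecResidueField (c (closedPoint (ResidueField A)))) =
        P.fromSpecResidueField (c (closedPoint (ResidueField A))) := by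
      rw [← Category.assoc, ← Spec.map_comp, IsIso.hom_inv_id, Spec.map_id, Category.id_comp]
    rw [hγ] at h1
    exact h1
  have hcongr : Spec.map (P.residueFieldCongr hb.symm).hom ≫
      P.fromSpecResidueField (c (closedPoint (ResidueField A))) =
      P.fromSpecResidueField (b (closedPoint F)) :=
    Scheme.residueFieldCongr_fromSpecResidueField hb.symm
  refine ⟨Spec.map β ≫ Spec.map (P.residueFieldCongr hb.symm).hom ≫ Spec.map (inv γ), ?_⟩
  rw [Category.assoc, Category.assoc, hι, hcongr, hβ]

end Groth.Agent.Lib.Helper48.UODvrFin
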