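import Mathlib
import Groth.Agent.H72.UODvr
import Groth.Agent.Lib.Helper78.DVRScheme
import Groth.Agent.Lib.Helper48.UODvrFin2
import Groth.Agent.Lib.Helper48.UODvrFin3
import Groth.Agent.Lib.Helper48.UODvrFin4
import Groth.Agent.Lib.Helper48.UODvrFin5

/-!
# EGA IV 14.5.8, the direction "universally open ⇒ finite DVR liftings"
-/

set_option autoImplicit false
universe u
open CategoryTheory AlgebraicGeometry Limits IsLocalRing TopologicalSpace

namespace Groth.Agent.Lib.Helper48.UODvrFin

open Groth.Agent.H72.UODvr

theorem finLift_of_isUnivOpenAt {X Y : Scheme.{u}} [IsLocallyNoetherian Y] (f : X ⟶ Y)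
    [LocallyOfFiniteType f] (x : X) (H : EGA43.IsUnivOpenAt f x) : FinLift f x := by
  intro A _ _ _ _ _ g hg u₀ hu₀ hxr
  haveI : LocallyOfFiniteType (pullback.snd f g) := inferInstance
  haveI : IsLocallyNoetherian (pullback f g) :=
    LocallyOfFiniteType.isLocallyNoetherian (pullback.snd f g)
  -- the `k`-point of the fibre product
  obtain ⟨c, hcdef⟩ : ∃ c : Spec (CommRingCat.of (ResidueField A)) ⟶ pullback f g,
      c = pullback.lift u₀ (Spec.map (CommRingCat.ofHom (residue A))) hu₀ := ⟨_, rfl⟩
  have hc1 : c ≫ pullback.fst f g = u₀ := by rw [hcdef]; exact pullback.lift_fst _ _ _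
  have hc2 : c ≫ pullback.snd f g = Spec.map (CommRingCat.ofHom (residue A)) := by
    rw [hcdef]; exact pullback.lift_snd _ _ _
  obtain ⟨s₀, hs₀⟩ : ∃ s₀ : Spec (CommRingCat.of (ResidueField A)),
      s₀ = closedPoint (ResidueField A) := ⟨_, rfl⟩
  obtain ⟨x', hx'def⟩ : ∃ x' : ↥(pullback f g), x' = c s₀ := ⟨_, rfl⟩
  have hx' : (pullback.fst f g) x' = x := by
    obtain ⟨s, hs⟩ := hxr
    have : s = s₀ := Subsingleton.elim _ _
    rw [hx'def, ← hs, this, ← hc1]
    rfl
  have hx'cl : (pullback.snd f g) x' = closedPoint A := by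
    rw [hx'def]
    show (c ≫ pullback.snd f g) s₀ = _
    rw [hc2]
    exact PrimeSpectrum.comap_residue A _
  obtain ⟨z', hz', hz'gen⟩ := dvrCond_of_isUnivOpenAt f x H A g hg x' hx' hx'cl
  have hcl : ∀ x'' : ↥(pullback f g), x' ⤳ x'' → x'' = x' := fun x'' h => by
    rw [hx'def] at h ⊢
    exact eq_of_specializes_of_residue_section (pullback.snd f g) c hc2 s₀ x'' h
  obtain ⟨T, i, hi, hTirr, hTred, ⟨t, ht⟩, hlft, hqf, hqc, hdom⟩ :=
    exists_quasiSection_dvr (pullback.snd f g) x' z' hz' hz'gen hcl
  haveI := hi; haveI := hTirr; haveI := hTred; haveI := hlft; haveI := hqf; haveI := hqc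
  haveI := hdom
  -- the generic point of `T`
  have hηt : genericPoint T ⤳ t := genericPoint_specializes t
  have hsp : i (genericPoint T) ⤳ x' := by
    rw [← ht]; exact hηt.map i.continuous
  have hgenη : (pullback.snd f g) (i (genericPoint T)) = genPt A := by
    rw [← genericPoint_spec_eq]
    have h1 : IsGenericPoint ((i ≫ pullback.snd f g) (genericPoint T))
        (closure ((i ≫ pullback.snd f g) '' Set.univ)) :=
      (genericPoint_spec T).image (i ≫ pullback.snd f g).continuous
    rw [Set.image_univ, (IsDominant.denseRange (f := i ≫ pullback.snd f g)).closure_range] at h1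
    exact h1.eq (genericPoint_spec _)
  have hne : x' ≠ i (genericPoint T) := by
    intro h
    rw [h, hgenη] at hx'cl
    exact genPt_ne_closedPoint A hx'cl
  haveI : LocallyOfFiniteType i := locallyOfFiniteType_of_comp i (pullback.snd f g)
  obtain ⟨R, h, hRdvr, hcl_h, hcompat⟩ :=
    Groth.Agent.Lib.Helper78.exists_dvr_specialization i (genericPoint T) x' hsp hne
  haveI := hRdvr
  -- the ring homomorphism `A → R`
  obtain ⟨φ, hφ⟩ : ∃ φ : A →+* R, Spec.map (CommRingCat.ofHom φ) = h ≫ pullback.snd f g :=
    ⟨(Spec.preimage (h ≫ pullback.snd f g)).hom, Spec.map_preimage _⟩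
  haveI hφloc : IsLocalHom φ := by
    rw [IsLocalRing.isLocalHom_iff_comap_closedPoint]
    have h1 : (Spec.map (CommRingCat.ofHom φ)) (closedPoint R) = closedPoint A := by
      rw [hφ]
      show (pullback.snd f g) (h (closedPoint R)) = _
      rw [hcl_h, hx'cl]
    exact h1
  -- the algebra structures on the residue field
  letI algAL : Algebra A (T.residueField (genericPoint T)) := (R.subtype.comp φ).toAlgebra
  have hρ : Spec.map (CommRingCat.ofHom (algebraMap A (T.residueField (genericPoint T)))) =
      T.fromSpecResidueField (genericPoint T) ≫ i ≫ pullback.snd f g := by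
    have : algebraMap A (T.residueField (genericPoint T)) = R.subtype.comp φ := rfl
    rw [this, CommRingCat.ofHom_comp, Spec.map_comp, hφ, ← Category.assoc, hcompat, Category.assoc]
  have hinj : Function.Injective (algebraMap A (T.residueField (genericPoint T))) := by
    rw [RingHom.injective_iff_ker_eq_bot]
    let s₁ : ↥(Spec (T.residueField (genericPoint T))) :=
      (⟨⊥, Ideal.isPrime_bot⟩ : PrimeSpectrum (T.residueField (genericPoint T)))
    have h1 : (Spec.map (CommRingCat.ofHom (algebraMap A (T.residueField (genericPoint T))))) s₁ =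
        genPt A := by
      rw [hρ]
      show (pullback.snd f g) (i ((T.fromSpecResidueField (genericPoint T)) s₁)) = _
      rw [Scheme.fromSpecResidueField_apply, hgenη]
    exact congrArg PrimeSpectrum.asIdeal h1
  letI algKL : Algebra (FractionRing A) (T.residueField (genericPoint T)) :=
    (IsFractionRing.lift hinj).toAlgebra
  haveI : IsScalarTower A (FractionRing A) (T.residueField (genericPoint T)) :=
    IsScalarTower.of_algebraMap_eq (fun a => (IsFractionRing.lift_algebraMap hinj a).symm)
  haveI hLQF : LocallyQuasiFinite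
      (Spec.map (CommRingCat.ofHom (algebraMap A (T.residueField (genericPoint T))))) := by
    rw [hρ]; infer_instance
  have hQF : (algebraMap A (T.residueField (genericPoint T))).QuasiFinite :=
    (HasRingHomProperty.Spec_iff (P := @LocallyQuasiFinite)).mp hLQF
  haveI : Algebra.QuasiFinite A (T.residueField (genericPoint T)) :=
    RingHom.quasiFinite_algebraMap.mp hQF
  haveI : Algebra.QuasiFinite (FractionRing A) (T.residueField (genericPoint T)) :=
    Algebra.QuasiFinite.of_restrictScalars A _ _
  haveI : FiniteDimensional (FractionRing A) (T.residueField (genericPoint T)) :=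
    Module.Finite.of_quasiFinite
  -- `R` is the integral closure
  have hAR : ∀ a : A, algebraMap A (T.residueField (genericPoint T)) a ∈ R := fun a => (φ a).2
  have hdomR : ∀ a ∈ maximalIdeal A,
      ∀ _ : algebraMap A (T.residueField (genericPoint T)) a ≠ 0,
      (algebraMap A (T.residueField (genericPoint T)) a)⁻¹ ∉ R := by
    intro a ha h0 hinv
    have hnu : ¬ IsUnit (φ a) := fun hu => ((mem_maximalIdeal a).mp ha) (hφloc.map_nonunit a hu)
    apply hnu
    refine ⟨⟨φ a, ⟨_, hinv⟩, ?_, ?_⟩, rfl⟩
    · apply Subtype.ext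
      exact mul_inv_cancel₀ h0
    · apply Subtype.ext
      exact inv_mul_cancel₀ h0
  obtain ⟨hfin, hRB⟩ := valuationSubring_eq_integralClosure R hAR hdomR
  have hφfin : φ.Finite := by
    letI := φ.toAlgebra
    let ℓ : integralClosure A (T.residueField (genericPoint T)) →ₗ[A] R :=
      { toFun := fun y => ⟨y.1, (hRB y.1).mpr y.2⟩
        map_add' := fun _ _ => rfl
        map_smul' := fun a y => by
          apply Subtype.ext
          rfl }
    have hℓ : Function.Surjective ℓ := fun r => ⟨⟨r.1, (hRB r.1).mp r.2⟩, rfl⟩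
    exact Module.Finite.of_surjective ℓ hℓ
  -- the lifting
  refine ⟨CommRingCat.of R, inferInstance, hRdvr, φ, hφloc, h ≫ pullback.fst f g, hφfin, ?_, ?_⟩
  · rw [Category.assoc, pullback.condition, ← Category.assoc, ← hφ]
  · -- compatibility at the closed point
    have hbpt : (Spec.map (CommRingCat.ofHom (residue R)) ≫ h) (closedPoint (ResidueField R)) =
        c (closedPoint (ResidueField A)) := by
      show h ((Spec.map (CommRingCat.ofHom (residue R))) (closedPoint (ResidueField R))) = _
      have : (Spec.map (CommRingCat.ofHom (residue R))) (closedPoint (ResidueField R)) =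
          closedPoint R := PrimeSpectrum.comap_residue R _
      rw [this, hcl_h, hx'def, hs₀]
    obtain ⟨b', hb'⟩ := exists_factor_through_residue_section (pullback.snd f g) c hc2
      (Spec.map (CommRingCat.ofHom (residue R)) ≫ h) hbpt
    have hsq : Spec.map (CommRingCat.ofHom (residue R)) ≫ Spec.map (CommRingCat.ofHom φ) =
        Spec.map (CommRingCat.ofHom (ResidueField.map φ)) ≫
          Spec.map (CommRingCat.ofHom (residue A)) := by
      rw [← Spec.map_comp, ← Spec.map_comp, ← CommRingCat.ofHom_comp, ← CommRingCat.ofHom_comp]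
      rfl
    haveI : Mono (Spec.map (CommRingCat.ofHom (residue A))) := by
      haveI : IsClosedImmersion (Spec.map (CommRingCat.ofHom (residue A))) :=
        IsClosedImmersion.spec_of_surjective _ residue_surjective
      infer_instance
    have hb'eq : b' = Spec.map (CommRingCat.ofHom (ResidueField.map φ)) := by
      rw [← cancel_mono (Spec.map (CommRingCat.ofHom (residue A))), ← hsq, hφ, ← Category.assoc,
        hb', Category.assoc, hc2]
    show Spec.map (CommRingCat.ofHom (ResidueField.map φ)) ≫ u₀ =
      Spec.map (CommRingCat.ofHom (residue R)) ≫ h ≫ pullback.fst f g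
    rw [← Category.assoc, hb', Category.assoc, hc1, hb'eq]

end Groth.Agent.Lib.Helper48.UODvrFin
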