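import Mathlib
import Groth.Prelude
import Groth.Agent.Lib.Helper48.UnibranchFlatFibresConnectedB

/-!
# Connectedness of complements for flat morphisms with geometrically reduced fibres over a
geometrically unibranch base (global, scheme-theoretic form; helper48)
-/

set_option autoImplicit false
set_option linter.style.haveILetI false
universe u
open TensorProduct IsLocalRing CategoryTheory AlgebraicGeometry Limits

namespace Groth.Agent.Lib.Helper48.FlatConn

/-- Reducedness of fibres passes to localizations on both sides. -/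
theorem isReduced_tensor_of_isLocalization {R S' A B K : Type u} [CommRing R] [CommRing S']
    [Algebra R S'] [CommRing A] [Algebra R A] (M : Submonoid R) [IsLocalization M A]
    [CommRing B] [Algebra S' B] (N : Submonoid S') [IsLocalization N B]
    [Algebra A B] [Algebra R B] [IsScalarTower R A B] [IsScalarTower R S' B]
    [Field K] [Algebra A K] [Algebra R K] [IsScalarTower R A K]
    (h : _root_.IsReduced (K ⊗[R] S')) : _root_.IsReduced (K ⊗[A] B) := by
  -- `K ⊗[R] B` is a localization of `K ⊗[R] S'`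
  letI : Algebra (K ⊗[R] S') (K ⊗[R] B) :=
    (Algebra.TensorProduct.map (AlgHom.id R K) (IsScalarTower.toAlgHom R S' B)).toRingHom.toAlgebra
  haveI : IsScalarTower K (K ⊗[R] S') (K ⊗[R] B) :=
    IsScalarTower.of_algebraMap_eq (fun k => by
      simp [RingHom.algebraMap_toAlgebra])
  haveI hloc := IsLocalization.tensorProduct_tensorProduct_right R K N B (by
    ext s
    simp [RingHom.algebraMap_toAlgebra])
  have h1 : _root_.IsReduced (K ⊗[R] B) :=
    isReduced_localizationPreserves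
      (N.map (Algebra.TensorProduct.includeRight (R := R) (A := K))) (K ⊗[R] B) h
  exact isReduced_of_injective (IsLocalization.algebraTensorEquiv M A K B).toRingEquiv.toRingHom
    (IsLocalization.algebraTensorEquiv M A K B).injective

/-- Unibranch case, general form: any subset of `Spec B` containing the generic fibre is
connected. -/
theorem isConnected_of_generic_fibre_subset (A : Type u) [CommRing A]
    [IsLocalRing A] [IsNoetherianRing A]
    (B : Type u) [CommRing B] [IsLocalRing B] [Algebra A B] [IsLocalHom (algebraMap A B)]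
    [Module.Flat A B]
    (hgr : ∀ (K : Type u) [Field K] [Algebra A K], _root_.IsReduced (K ⊗[A] B))
    (hA : CAlg2.IsGeomUnibranch A)
    (W : Set (PrimeSpectrum B))
    (hW : ∀ Q : PrimeSpectrum B,
      (PrimeSpectrum.comap (algebraMap A B) Q).asIdeal = nilradical A → Q ∈ W) :
    _root_.IsConnected W := by
  haveI hdom : IsDomain (CAlg2.red A) := hA.1.1
  haveI hprime : (nilradical A).IsPrime := (Ideal.Quotient.isDomain_iff_prime _).mp hdom
  haveI hconn := connectedSpace_tensor_fractionRing_of_isGeomUnibranch A B hgr hA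
  let e : (nilradical A).ResidueField ≃ₐ[A] FractionRing (CAlg2.red A) :=
    (IsLocalization.algEquiv (nonZeroDivisors (CAlg2.red A)) (nilradical A).ResidueField
      (FractionRing (CAlg2.red A))).restrictScalars A
  haveI : ConnectedSpace (PrimeSpectrum ((nilradical A).ResidueField ⊗[A] B)) :=
    connectedSpace_tensor_of_algHom A B _ _ e.toAlgHom
  obtain ⟨p₀, hp₀⟩ : ∃ p₀ : PrimeSpectrum A, p₀ = ⟨nilradical A, hprime⟩ := ⟨_, rfl⟩
  have hFconn : _root_.IsConnected (PrimeSpectrum.comap (algebraMap A B) ⁻¹' {p₀}) := by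
    rw [isConnected_iff_connectedSpace]
    subst hp₀
    exact (PrimeSpectrum.preimageHomeomorphFiber A B
      ⟨nilradical A, hprime⟩).symm.surjective.connectedSpace
      (PrimeSpectrum.preimageHomeomorphFiber A B ⟨nilradical A, hprime⟩).symm.continuous
  have hgenA : ∀ p : PrimeSpectrum A, p₀ ⤳ p := by
    intro p
    rw [← PrimeSpectrum.le_iff_specializes, hp₀]
    show nilradical A ≤ p.asIdeal
    exact nilradical_le_prime p.asIdeal
  have hFT : PrimeSpectrum.comap (algebraMap A B) ⁻¹' {p₀} ⊆ W := by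
    intro y hy
    apply hW
    have : PrimeSpectrum.comap (algebraMap A B) y = p₀ := hy
    rw [this, hp₀]
  have hgd : GeneralizingMap (PrimeSpectrum.comap (algebraMap A B)) :=
    Algebra.HasGoingDown.iff_generalizingMap_primeSpectrumComap.mp inferInstance
  refine ⟨hFconn.nonempty.mono hFT, ?_⟩
  refine isPreconnected_of_generalization hFconn.isPreconnected hFT (fun x _ => ?_)
  obtain ⟨y, hyx, hy⟩ := hgd (hgenA (PrimeSpectrum.comap (algebraMap A B) x))
  exact ⟨y, hy, hyx⟩

/-- In the spectrum of a Noetherian ring, a point in the closure of an open set has a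
generization in that open set. -/
theorem exists_specializes_of_mem_closure_of_isOpen {R : Type*} [CommRing R] [IsNoetherianRing R]
    {U : Set (PrimeSpectrum R)} (hU : IsOpen U) {p : PrimeSpectrum R} (hp : p ∈ closure U) :
    ∃ p' ∈ U, p' ⤳ p := by
  classical
  have hfin : {q : PrimeSpectrum R | q.asIdeal ∈ minimalPrimes R ∧ q ∈ U}.Finite := by
    refine Set.Finite.of_finite_image (f := PrimeSpectrum.asIdeal)
      ((minimalPrimes.finite_of_isNoetherianRing R).subset ?_)
      (fun a _ b _ h => PrimeSpectrum.ext h)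
    rintro _ ⟨q, hq, rfl⟩
    exact hq.1
  have hclosed : IsClosed (⋃ q ∈ {q : PrimeSpectrum R | q.asIdeal ∈ minimalPrimes R ∧ q ∈ U},
      PrimeSpectrum.zeroLocus (q.asIdeal : Set R)) :=
    hfin.isClosed_biUnion (fun q _ => PrimeSpectrum.isClosed_zeroLocus _)
  have hsub : U ⊆ ⋃ q ∈ {q : PrimeSpectrum R | q.asIdeal ∈ minimalPrimes R ∧ q ∈ U},
      PrimeSpectrum.zeroLocus (q.asIdeal : Set R) := by
    intro p'' hp''
    obtain ⟨q, hq, hqle⟩ := Ideal.exists_minimalPrimes_le (I := ⊥) (J := p''.asIdeal) bot_le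
    have hqs : (⟨q, hq.1.1⟩ : PrimeSpectrum R) ⤳ p'' :=
      (PrimeSpectrum.le_iff_specializes _ _).mp hqle
    refine Set.mem_biUnion (x := ⟨q, hq.1.1⟩) ⟨hq, hqs.mem_open hU hp''⟩ ?_
    exact hqle
  obtain ⟨q, ⟨-, hqU⟩, hpq⟩ := Set.mem_iUnion₂.mp (closure_minimal hsub hclosed hp)
  exact ⟨q, hqU, (PrimeSpectrum.le_iff_specializes _ _).mp hpq⟩

/-- In the spectrum of a Noetherian ring, a point without proper generizations has an open
neighbourhood contained in its closure. -/
theorem exists_isOpen_subset_closure_of_minimal {R : Type*} [CommRing R] [IsNoetherianRing R]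
    (q₀ : PrimeSpectrum R) (hq₀ : ∀ q : PrimeSpectrum R, q ⤳ q₀ → q = q₀) :
    ∃ N : Set (PrimeSpectrum R), IsOpen N ∧ q₀ ∈ N ∧ N ⊆ closure {q₀} := by
  classical
  have hfin : {q : PrimeSpectrum R | q.asIdeal ∈ minimalPrimes R ∧ q ≠ q₀}.Finite := by
    refine Set.Finite.of_finite_image (f := PrimeSpectrum.asIdeal)
      ((minimalPrimes.finite_of_isNoetherianRing R).subset ?_)
      (fun a _ b _ h => PrimeSpectrum.ext h)
    rintro _ ⟨q, hq, rfl⟩
    exact hq.1
  have hclosed : IsClosed (⋃ q ∈ {q : PrimeSpectrum R | q.asIdeal ∈ minimalPrimes R ∧ q ≠ q₀},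
      PrimeSpectrum.zeroLocus (q.asIdeal : Set R)) :=
    hfin.isClosed_biUnion (fun q _ => PrimeSpectrum.isClosed_zeroLocus _)
  refine ⟨_, hclosed.isOpen_compl, ?_, ?_⟩
  · intro h
    obtain ⟨q, ⟨-, hne⟩, hq⟩ := Set.mem_iUnion₂.mp h
    exact hne (hq₀ q ((PrimeSpectrum.le_iff_specializes _ _).mp hq))
  · intro p hp
    obtain ⟨q, hq, hqle⟩ := Ideal.exists_minimalPrimes_le (I := ⊥) (J := p.asIdeal) bot_le
    by_cases hqq : (⟨q, hq.1.1⟩ : PrimeSpectrum R) = q₀
    · rw [← specializes_iff_mem_closure, ← hqq]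
      exact (PrimeSpectrum.le_iff_specializes _ _).mp hqle
    · exfalso
      apply hp
      refine Set.mem_biUnion (x := ⟨q, hq.1.1⟩) ⟨hq, hqq⟩ ?_
      exact hqle

/-- Fibres of a geometrically reduced morphism are reduced, on affine charts. -/
theorem isReduced_tensor_appLE {X Y : Scheme.{u}} (f : X ⟶ Y) [hf : GeometricallyReduced f]
    {V : Y.Opens} (hV : IsAffineOpen V) {U : X.Opens} (hU : IsAffineOpen U) (e : U ≤ f ⁻¹ᵁ V)
    (K : Type u) [Field K] [Algebra Γ(Y, V) K] :
    letI := (f.appLE V U e).hom.toAlgebra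
    _root_.IsReduced (K ⊗[Γ(Y, V)] Γ(X, U)) := by
  letI := (f.appLE V U e).hom.toAlgebra
  let y : Spec (.of K) ⟶ Y := Spec.map (CommRingCat.ofHom (algebraMap Γ(Y, V) K)) ≫ hV.fromSpec
  have hZ : IsReduced (pullback f y) :=
    pullback_of_geometrically hf.geometrically_isReduced K y
  have e₁ : Spec.map (CommRingCat.ofHom (algebraMap Γ(Y, V) Γ(X, U))) ≫ hV.fromSpec =
      hU.fromSpec ≫ f := by
    rw [RingHom.algebraMap_toAlgebra, CommRingCat.ofHom_hom]
    exact IsAffineOpen.SpecMap_appLE_fromSpec f hV hU e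
  have e₂ : Spec.map (CommRingCat.ofHom (algebraMap Γ(Y, V) K)) ≫ hV.fromSpec = 𝟙 _ ≫ y := by
    rw [Category.id_comp]
  have h2 : IsReduced (pullback (Spec.map (CommRingCat.ofHom (algebraMap Γ(Y, V) Γ(X, U))))
      (Spec.map (CommRingCat.ofHom (algebraMap Γ(Y, V) K)))) :=
    isReduced_of_isOpenImmersion (pullback.map _ _ f y hU.fromSpec (𝟙 _) hV.fromSpec e₁ e₂)
  have h3 : IsReduced (Spec (CommRingCat.of (Γ(X, U) ⊗[Γ(Y, V)] K))) :=
    isReduced_of_isOpenImmersion (pullbackSpecIso Γ(Y, V) Γ(X, U) K).inv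
  have h4 : _root_.IsReduced (Γ(X, U) ⊗[Γ(Y, V)] K) := (affine_isReduced_iff _).mp h3
  exact isReduced_of_injective (Algebra.TensorProduct.comm Γ(Y, V) K Γ(X, U))
    (Algebra.TensorProduct.comm Γ(Y, V) K Γ(X, U)).injective

/-- The stalk maps of a geometrically reduced morphism have (geometrically) reduced fibres. -/
theorem isReduced_tensor_stalkMap {X Y : Scheme.{u}} (f : X ⟶ Y) [hf : GeometricallyReduced f]
    (x : X) (K : Type u) [Field K] [Algebra (Y.presheaf.stalk (f x)) K] :
    letI := (f.stalkMap x).hom.toAlgebra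
    _root_.IsReduced (K ⊗[Y.presheaf.stalk (f x)] X.presheaf.stalk x) := by
  obtain ⟨_, ⟨V, hV, rfl⟩, hyV, -⟩ := Y.isBasis_affineOpens.exists_subset_of_mem_open
    (Set.mem_univ (f x)) isOpen_univ
  obtain ⟨_, ⟨U, hU, rfl⟩, hxU, hUV⟩ := X.isBasis_affineOpens.exists_subset_of_mem_open
    hyV (f ⁻¹ᵁ V).2
  have e : U ≤ f ⁻¹ᵁ V := hUV
  letI aAB : Algebra (Y.presheaf.stalk (f x)) (X.presheaf.stalk x) := (f.stalkMap x).hom.toAlgebra
  letI aRA : Algebra Γ(Y, V) (Y.presheaf.stalk (f x)) :=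
    TopCat.Presheaf.algebra_section_stalk Y.presheaf ⟨f x, hyV⟩
  letI aSB : Algebra Γ(X, U) (X.presheaf.stalk x) :=
    TopCat.Presheaf.algebra_section_stalk X.presheaf ⟨x, hxU⟩
  haveI lA : IsLocalization.AtPrime (Y.presheaf.stalk (f x))
      (hV.primeIdealOf ⟨f x, hyV⟩).asIdeal := hV.isLocalization_stalk ⟨f x, hyV⟩
  haveI lB : IsLocalization.AtPrime (X.presheaf.stalk x)
      (hU.primeIdealOf ⟨x, hxU⟩).asIdeal := hU.isLocalization_stalk ⟨x, hxU⟩
  letI aRS : Algebra Γ(Y, V) Γ(X, U) := (f.appLE V U e).hom.toAlgebra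
  letI aRB : Algebra Γ(Y, V) (X.presheaf.stalk x) :=
    ((algebraMap Γ(X, U) (X.presheaf.stalk x)).comp (algebraMap Γ(Y, V) Γ(X, U))).toAlgebra
  haveI : IsScalarTower Γ(Y, V) Γ(X, U) (X.presheaf.stalk x) :=
    IsScalarTower.of_algebraMap_eq (fun _ => rfl)
  haveI : IsScalarTower Γ(Y, V) (Y.presheaf.stalk (f x)) (X.presheaf.stalk x) := by
    apply IsScalarTower.of_algebraMap_eq'
    have h : Y.presheaf.germ V (f x) hyV ≫ f.stalkMap x =
        f.appLE V U e ≫ X.presheaf.germ U x hxU := by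
      rw [Scheme.Hom.appLE, Category.assoc, X.presheaf.germ_res, Scheme.Hom.germ_stalkMap]
    have := congrArg CommRingCat.Hom.hom h
    rw [CommRingCat.hom_comp, CommRingCat.hom_comp] at this
    exact this.symm
  letI aRK : Algebra Γ(Y, V) K :=
    ((algebraMap (Y.presheaf.stalk (f x)) K).comp
      (algebraMap Γ(Y, V) (Y.presheaf.stalk (f x)))).toAlgebra
  haveI : IsScalarTower Γ(Y, V) (Y.presheaf.stalk (f x)) K :=
    IsScalarTower.of_algebraMap_eq (fun _ => rfl)
  have h1 : _root_.IsReduced (K ⊗[Γ(Y, V)] Γ(X, U)) := isReduced_tensor_appLE f hV hU e K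
  exact isReduced_tensor_of_isLocalization (R := Γ(Y, V)) (S' := Γ(X, U))
    (hV.primeIdealOf ⟨f x, hyV⟩).asIdeal.primeCompl
    (hU.primeIdealOf ⟨x, hxU⟩).asIdeal.primeCompl h1

/-- In a locally Noetherian scheme a point in the closure of an open set has a generization in
that open set. -/
theorem exists_specializes_of_mem_closure_of_isOpen_scheme {X : Scheme.{u}} [IsLocallyNoetherian X]
    {U : Set X} (hU : IsOpen U) {x : X} (hx : x ∈ closure U) : ∃ x' ∈ U, x' ⤳ x := by
  obtain ⟨_, ⟨V, hV', rfl⟩, hxV, -⟩ := X.isBasis_affineOpens.exists_subset_of_mem_open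
    (Set.mem_univ x) isOpen_univ
  have hV : IsAffineOpen V := hV'
  haveI : IsNoetherianRing Γ(X, V) := IsLocallyNoetherian.component_noetherian ⟨V, hV⟩
  have hφx : hV.fromSpec (hV.primeIdealOf ⟨x, hxV⟩) = x := hV.fromSpec_primeIdealOf ⟨x, hxV⟩
  have hopen : IsOpenMap hV.fromSpec := hV.fromSpec.isOpenEmbedding.isOpenMap
  have hcont : Continuous hV.fromSpec := hV.fromSpec.continuous
  have h1 : hV.primeIdealOf ⟨x, hxV⟩ ∈ closure (hV.fromSpec ⁻¹' U) := by
    rw [← hopen.preimage_closure_eq_closure_preimage hcont]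
    show hV.fromSpec (hV.primeIdealOf ⟨x, hxV⟩) ∈ closure U
    rw [hφx]; exact hx
  obtain ⟨p', hp'U, hp'⟩ := exists_specializes_of_mem_closure_of_isOpen
    (hU.preimage hcont) h1
  exact ⟨hV.fromSpec p', hp'U, hφx ▸ hp'.map hcont⟩

/-- In a locally Noetherian scheme a point without proper generizations has an open neighbourhood
contained in its closure. -/
theorem exists_isOpen_subset_closure_of_minimal_scheme {Y : Scheme.{u}} [IsLocallyNoetherian Y]
    (y₀ : Y) (hy₀ : ∀ y : Y, y ⤳ y₀ → y = y₀) :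
    ∃ N : Set Y, IsOpen N ∧ y₀ ∈ N ∧ N ⊆ closure {y₀} := by
  obtain ⟨_, ⟨V, hV', rfl⟩, hyV, -⟩ := Y.isBasis_affineOpens.exists_subset_of_mem_open
    (Set.mem_univ y₀) isOpen_univ
  have hV : IsAffineOpen V := hV'
  haveI : IsNoetherianRing Γ(Y, V) := IsLocallyNoetherian.component_noetherian ⟨V, hV⟩
  have hφy : hV.fromSpec (hV.primeIdealOf ⟨y₀, hyV⟩) = y₀ := hV.fromSpec_primeIdealOf ⟨y₀, hyV⟩
  have hopen : IsOpenMap hV.fromSpec := hV.fromSpec.isOpenEmbedding.isOpenMap
  have hcont : Continuous hV.fromSpec := hV.fromSpec.continuous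
  have hinj : Function.Injective hV.fromSpec := hV.fromSpec.isOpenEmbedding.injective
  obtain ⟨N₀, hN₀o, hqN₀, hN₀c⟩ := exists_isOpen_subset_closure_of_minimal
    (hV.primeIdealOf ⟨y₀, hyV⟩) (fun q hq => by
      apply hinj
      rw [hφy]
      exact hy₀ _ (hφy ▸ hq.map hcont))
  refine ⟨hV.fromSpec '' N₀, hopen _ hN₀o, ⟨_, hqN₀, hφy⟩, ?_⟩
  refine (Set.image_mono hN₀c).trans ?_
  refine (image_closure_subset_closure_image hcont).trans ?_
  refine closure_mono ?_
  rintro _ ⟨q, hq, rfl⟩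
  have hq' : q = hV.primeIdealOf ⟨y₀, hyV⟩ := hq
  show hV.fromSpec q = y₀
  rw [hq']
  exact hφy

/-- Local connectedness along generizations. -/
theorem isConnected_inter_generizations {X Y : Scheme.{u}} [IsLocallyNoetherian X]
    [IsLocallyNoetherian Y] (hY : ∀ y : Y, CAlg2.IsGeomUnibranch (Y.presheaf.stalk y))
    (f : X ⟶ Y) [Flat f] [GeometricallyReduced f] (W : Set X)
    (hW : ∀ x' : X, (∀ y' : Y, y' ⤳ f x' → y' = f x') → x' ∈ W) (x : X) :
    _root_.IsConnected (W ∩ {x' | x' ⤳ x}) := by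
  letI aAB : Algebra (Y.presheaf.stalk (f x)) (X.presheaf.stalk x) := (f.stalkMap x).hom.toAlgebra
  haveI : IsLocalHom (algebraMap (Y.presheaf.stalk (f x)) (X.presheaf.stalk x)) :=
    inferInstanceAs (IsLocalHom (f.stalkMap x).hom)
  haveI : Module.Flat (Y.presheaf.stalk (f x)) (X.presheaf.stalk x) := Flat.stalkMap f x
  have hcomm := Scheme.SpecMap_stalkMap_fromSpecStalk f (x := x)
  have hconn := isConnected_of_generic_fibre_subset (Y.presheaf.stalk (f x)) (X.presheaf.stalk x)
    (fun K _ _ => isReduced_tensor_stalkMap f x K) (hY (f x))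
    ((X.fromSpecStalk x) ⁻¹' W) (fun Q hQ => by
      apply hW
      intro y' hy'
      -- `f (j Q) = j_Y (comap Q)`
      have h1 : f (X.fromSpecStalk x Q) =
          Y.fromSpecStalk (f x) (PrimeSpectrum.comap (algebraMap _ _) Q) := by
        have := congrArg (fun g => g.base Q) hcomm
        exact this.symm
      rw [h1] at hy' ⊢
      have h2 : Y.fromSpecStalk (f x) (PrimeSpectrum.comap (algebraMap _ _) Q) ⤳ f x := by
        have : Y.fromSpecStalk (f x) (PrimeSpectrum.comap (algebraMap _ _) Q) ∈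
            Set.range (Y.fromSpecStalk (f x)) := ⟨_, rfl⟩
        rw [Scheme.range_fromSpecStalk] at this
        exact this
      have h3 : y' ∈ Set.range (Y.fromSpecStalk (f x)) := by
        rw [Scheme.range_fromSpecStalk]
        exact hy'.trans h2
      obtain ⟨P', rfl⟩ := h3
      have h4 : P' ⤳ PrimeSpectrum.comap (algebraMap _ _) Q :=
        (Y.fromSpecStalk (f x)).isEmbedding.isInducing.specializes_iff.mp hy'
      have h5 : P'.asIdeal ≤ (PrimeSpectrum.comap (algebraMap _ _) Q).asIdeal :=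
        (PrimeSpectrum.le_iff_specializes (R := Y.presheaf.stalk (f x)) P' _).mpr h4
      congr 1
      apply PrimeSpectrum.ext
      refine le_antisymm h5 ?_
      rw [hQ]
      haveI := P'.isPrime
      exact nilradical_le_prime P'.asIdeal)
  have himg := hconn.image (X.fromSpecStalk x) (X.fromSpecStalk x).continuous.continuousOn
  have hset : (X.fromSpecStalk x) '' ((X.fromSpecStalk x) ⁻¹' W) = W ∩ {x' | x' ⤳ x} := by
    rw [← Scheme.range_fromSpecStalk]
    exact Set.image_preimage_eq_inter_range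
  rw [← hset]
  exact himg

/-- Global form: complement of a closed subset with nowhere dense image is connected. -/
theorem isConnected_compl_of_flat_geomReduced_geomUnibranch {X Y : Scheme.{u}}
    [IsLocallyNoetherian X] [IsLocallyNoetherian Y] [ConnectedSpace X]
    (hY : ∀ y : Y, CAlg2.IsGeomUnibranch (Y.presheaf.stalk y))
    (f : X ⟶ Y) [Flat f] [GeometricallyReduced f]
    (T : Set X) (hT : IsClosed T) (hT' : interior (closure (f '' T)) = ∅) :
    _root_.IsConnected Tᶜ := by
  have hW : ∀ x' : X, (∀ y' : Y, y' ⤳ f x' → y' = f x') → x' ∈ Tᶜ := by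
    intro x' hx' hx'T
    obtain ⟨N, hNo, hyN, hNc⟩ := exists_isOpen_subset_closure_of_minimal_scheme (f x') hx'
    have h1 : N ⊆ closure (f '' T) :=
      hNc.trans (closure_mono (Set.singleton_subset_iff.mpr ⟨x', hx'T, rfl⟩))
    have h2 : N ⊆ interior (closure (f '' T)) := interior_maximal h1 hNo
    rw [hT'] at h2
    exact h2 hyN
  have hloc := isConnected_inter_generizations hY f Tᶜ hW
  have hgen : ∀ x : X, ∃ x' ∈ Tᶜ, x' ⤳ x := fun x => by
    obtain ⟨x', hx'⟩ := (hloc x).nonempty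
    exact ⟨x', hx'.1, hx'.2⟩
  refine ⟨?_, ?_⟩
  · obtain ⟨x⟩ := (inferInstance : Nonempty X)
    obtain ⟨x', hx', -⟩ := hgen x
    exact ⟨x', hx'⟩
  · intro u v hu hv hWuv hWu hWv
    by_contra hne
    rw [Set.not_nonempty_iff_eq_empty] at hne
    have hcover : (Set.univ : Set X) ⊆ closure (Tᶜ ∩ u) ∪ closure (Tᶜ ∩ v) := by
      intro x _
      obtain ⟨x', hx'W, hx'⟩ := hgen x
      rcases hWuv hx'W with h | h
      · left; exact hx'.mem_closed isClosed_closure (subset_closure ⟨hx'W, h⟩)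
      · right; exact hx'.mem_closed isClosed_closure (subset_closure ⟨hx'W, h⟩)
    obtain ⟨x, -, hx1, hx2⟩ := isPreconnected_closed_iff.mp
      (isPreconnected_univ (α := X)) _ _ isClosed_closure isClosed_closure hcover
      (by obtain ⟨z, hz⟩ := hWu; exact ⟨z, trivial, subset_closure hz⟩)
      (by obtain ⟨z, hz⟩ := hWv; exact ⟨z, trivial, subset_closure hz⟩)
    obtain ⟨x1, hx1U, hx1s⟩ := exists_specializes_of_mem_closure_of_isOpen_scheme
      (hT.isOpen_compl.inter hu) hx1
    obtain ⟨x2, hx2U, hx2s⟩ := exists_specializes_of_mem_closure_of_isOpen_scheme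
      (hT.isOpen_compl.inter hv) hx2
    obtain ⟨z, hz, hzu, hzv⟩ := (hloc x).isPreconnected u v hu hv
      (Set.inter_subset_left.trans hWuv) ⟨x1, ⟨hx1U.1, hx1s⟩, hx1U.2⟩ ⟨x2, ⟨hx2U.1, hx2s⟩, hx2U.2⟩
    have : z ∈ Tᶜ ∩ (u ∩ v) := ⟨hz.1, hzu, hzv⟩
    rw [hne] at this
    exact this

end Groth.Agent.Lib.Helper48.FlatConn
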