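import Mathlib
import Groth.Prelude
import Groth.Agent.Lib.Helper48.UnibranchFlatFibresConnectedB
import Groth.Agent.Lib.Helper48.FlatKrullHartogs
import Groth.Agent.Lib.Helper55.KrullDimIntegral

/-!
# Hartogs-type connectedness over a geometrically unibranch local domain of dimension `≥ 2`

For a flat local homomorphism `A → B` with `A` a geometrically unibranch Noetherian local domain of
dimension at least two, the complement of the closed fibre in `Spec B` is connected.
-/

set_option autoImplicit false
set_option linter.style.haveILetI false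
universe u
open TensorProduct IsLocalRing CategoryTheory AlgebraicGeometry

namespace Groth.Agent.Lib.Helper48.FlatConn

/-- Mori–Nagata with centres: if the integral closure `A'` of a Noetherian local domain `A₂` of
dimension `≥ 2` is local, it is the intersection of a family of valuation rings of finite character
none of which is centred at the closed point. -/
theorem exists_krull_family_integralClosure_of_two_le_dim (A₂ : Type u) [CommRing A₂]
    [IsDomain A₂] [IsLocalRing A₂] [IsNoetherianRing A₂] (L : Type u) [Field L] [Algebra A₂ L]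
    [IsFractionRing A₂ L] [IsLocalRing (integralClosure A₂ L)] (hdim : 2 ≤ ringKrullDim A₂) :
    ∃ (ι : Type u) (V' : ι → Subalgebra (integralClosure A₂ L) L),
      (∀ x : L, (∀ i, x ∈ V' i) →
        ∃ r : integralClosure A₂ L, algebraMap (integralClosure A₂ L) L r = x) ∧
      (∀ x : L, {i | x ∉ V' i}.Finite) ∧
      (∀ i, ∃ b ∈ maximalIdeal A₂, b ≠ 0 ∧ (algebraMap A₂ L b)⁻¹ ∈ V' i) := by
  classical
  obtain ⟨C, hCfin, hCint, hV, hInt, hFin⟩ := Groth.Agent.Lib.Helper48.moriNagata_local A₂ L
  have hex : ∀ i : {q : Ideal C // q.IsPrime ∧ q.height = 1},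
      ∃ V : ValuationSubring L, IsDiscreteValuationRing V ∧
        ∀ x : L, x ∈ V ↔ ∃ s : C, s ∉ i.1 ∧ IsIntegral C ((s : L) * x) := fun i =>
    haveI := i.2.1
    hV i.1 i.2.2
  choose Vs hDVR hmem using hex
  have hAbV : ∀ (i : {q : Ideal C // q.IsPrime ∧ q.height = 1})
      (r : integralClosure A₂ L), (r : L) ∈ Vs i := by
    intro i r
    haveI := i.2.1
    obtain ⟨s, hs, hsx⟩ := (hInt (r : L)).mp r.2 i.1 i.2.2
    exact (hmem i _).mpr ⟨s, hs, hsx⟩
  obtain ⟨V', hV'mem⟩ : ∃ V' : {q : Ideal C // q.IsPrime ∧ q.height = 1} →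
      Subalgebra (integralClosure A₂ L) L, ∀ i (x : L), x ∈ V' i ↔ x ∈ Vs i :=
    ⟨fun i => { (Vs i).toSubring with algebraMap_mem' := fun r => hAbV i r },
      fun i x => Iff.rfl⟩
  refine ⟨{q : Ideal C // q.IsPrime ∧ q.height = 1}, V', ?_, ?_, ?_⟩
  · intro x hx
    have h1 : IsIntegral A₂ x := by
      rw [hInt]
      intro q hq hq1
      exact (hmem ⟨q, hq, hq1⟩ x).mp ((hV'mem _ x).mp (hx ⟨q, hq, hq1⟩))
    exact ⟨⟨x, h1⟩, rfl⟩
  · intro x
    have h1 := hFin x
    refine Set.Finite.of_finite_image (f := Subtype.val) (h1.subset ?_) Subtype.val_injective.injOn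
    rintro _ ⟨i, hi, rfl⟩
    refine ⟨i.2.1, i.2.2, fun h => hi ?_⟩
    exact (hV'mem i x).mpr ((hmem i x).mpr h)
  · rintro ⟨q, hq, hq1⟩
    haveI := hq
    haveI := hCfin
    haveI : Algebra.IsIntegral A₂ C := Algebra.IsIntegral.of_finite A₂ C
    have hinjAC : Function.Injective (algebraMap A₂ C) := by
      intro a b hab
      have := congrArg (fun z : C => (z : L)) hab
      exact IsFractionRing.injective A₂ L this
    -- the key claim
    have hclaim : ∃ b ∈ maximalIdeal A₂, algebraMap A₂ C b ∉ q := by
      by_contra hcon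
      push Not at hcon
      have hle : maximalIdeal A₂ ≤ q.comap (algebraMap A₂ C) := fun b hb => hcon b hb
      have hcomap : q.comap (algebraMap A₂ C) = maximalIdeal A₂ :=
        ((IsLocalRing.maximalIdeal.isMaximal A₂).eq_of_le
          (Ideal.comap_ne_top _ hq.ne_top) hle).symm
      have hqmax : q.IsMaximal := by
        apply Ideal.isMaximal_of_isIntegral_of_isMaximal_comap (R := A₂) q
        rw [hcomap]; exact IsLocalRing.maximalIdeal.isMaximal A₂
      -- `C` is local
      letI : Algebra C (integralClosure A₂ L) := (Subalgebra.inclusion hCint).toRingHom.toAlgebra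
      haveI : IsScalarTower A₂ C (integralClosure A₂ L) :=
        IsScalarTower.of_algebraMap_eq (fun x => rfl)
      haveI : Algebra.IsIntegral C (integralClosure A₂ L) :=
        Algebra.IsIntegral.tower_top (R := A₂)
      have hinjCA' : Function.Injective (algebraMap C (integralClosure A₂ L)) :=
        Subalgebra.inclusion_injective hCint
      have huniq : ∀ n : Ideal C, n.IsMaximal →
          n = (maximalIdeal (integralClosure A₂ L)).comap (algebraMap C (integralClosure A₂ L)) := by
        intro n hn
        obtain ⟨Q, hQmax, hQn⟩ := Ideal.exists_ideal_over_maximal_of_isIntegral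
          (S := integralClosure A₂ L) n (by
            rw [(RingHom.injective_iff_ker_eq_bot _).mp hinjCA']; exact bot_le)
        rw [← hQn, IsLocalRing.eq_maximalIdeal hQmax]
      haveI : IsLocalRing C := IsLocalRing.of_unique_max_ideal
        ⟨q, hqmax, fun n hn => (huniq n hn).trans (huniq q hqmax).symm⟩
      have hqm : q = maximalIdeal C := IsLocalRing.eq_maximalIdeal hqmax
      have hdimC : ringKrullDim C = ringKrullDim A₂ :=
        Groth.Agent.Lib.Helper55.ringKrullDim_eq_of_isIntegral_of_injective A₂ C hinjAC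
      have h3 := IsLocalRing.maximalIdeal_height_eq_ringKrullDim (R := C)
      rw [← hqm, hq1, hdimC] at h3
      rw [← h3] at hdim
      have : ((2 : ℕ∞) : WithBot ℕ∞) ≤ ((1 : ℕ∞) : WithBot ℕ∞) := hdim
      have := WithBot.coe_le_coe.mp this
      norm_num at this
    obtain ⟨b, hbm, hbq⟩ := hclaim
    have hb0 : b ≠ 0 := by
      rintro rfl
      exact hbq (by rw [map_zero]; exact q.zero_mem)
    refine ⟨b, hbm, hb0, ?_⟩
    rw [hV'mem, hmem]
    refine ⟨algebraMap A₂ C b, hbq, ?_⟩
    have hbL : algebraMap A₂ L b ≠ 0 := fun h =>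
      hb0 (IsFractionRing.injective A₂ L (by rw [h, map_zero]))
    have : ((algebraMap A₂ C b : C) : L) * (algebraMap A₂ L b)⁻¹ = 1 := by
      show algebraMap A₂ L b * (algebraMap A₂ L b)⁻¹ = 1
      exact mul_inv_cancel₀ hbL
    rw [this]
    exact isIntegral_one

/-- Abstract core of the Hartogs-type connectedness statement. -/
theorem isPreconnected_compl_zeroLocus_of_krull_family (A : Type u) [CommRing A]
    (B : Type u) [CommRing B] [Algebra A B] [Module.Flat A B]
    (Ab : Type u) [CommRing Ab] [IsDomain Ab] [Algebra A Ab] [Algebra.IsIntegral A Ab]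
    (hinjA : Function.Injective (algebraMap A Ab))
    (L : Type u) [Field L] [Algebra Ab L] [IsFractionRing Ab L] [Algebra A L]
    [IsScalarTower A Ab L] [IsLocalRing (Ab ⊗[A] B)]
    {ι : Type*} (V : ι → Subalgebra Ab L)
    (hVall : ∀ x : L, (∀ i, x ∈ V i) → ∃ r : Ab, algebraMap Ab L r = x)
    (hfinV : ∀ x : L, {i | x ∉ V i}.Finite)
    (J : Ideal A) (hJ : ∀ i, ∃ b ∈ J, b ≠ 0 ∧ (algebraMap A L b)⁻¹ ∈ V i) :
    IsPreconnected
      ((PrimeSpectrum.zeroLocus ((J.map (algebraMap A B) : Ideal B) : Set B))ᶜ) := by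
  have hinjL : Function.Injective (algebraMap Ab L) := IsFractionRing.injective Ab L
  have hD : ∀ d : Ab ⊗[A] B, d * d = d → d = 0 ∨ d = 1 := by
    intro d hd
    rcases IsLocalRing.isUnit_or_isUnit_one_sub_self d with hu | hu
    · right
      have h1 : d * (d - 1) = 0 := by rw [mul_sub, hd, mul_one, sub_self]
      have := hu.mul_right_eq_zero.mp h1
      exact sub_eq_zero.mp this
    · left
      have h1 : (1 - d) * d = 0 := by rw [sub_mul, hd, one_mul, sub_self]
      exact hu.mul_right_eq_zero.mp h1
  haveI : Module.Flat Ab (Ab ⊗[A] B) := inferInstance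
  have hpre := FlatKrullHartogs.isPreconnected_compl_zeroLocus_of_krull (R := Ab) (L := L)
    (D := Ab ⊗[A] B) hinjL V hVall hfinV (J.map (algebraMap A Ab)) (fun i => by
      obtain ⟨b, hbJ, hb0, hbV⟩ := hJ i
      refine ⟨algebraMap A Ab b, Ideal.mem_map_of_mem _ hbJ, fun h => hb0 (hinjA ?_), ?_⟩
      · rw [h, map_zero]
      · rw [← IsScalarTower.algebraMap_apply]; exact hbV) hD
  -- the map to `Spec B`
  obtain ⟨ψ, hψ⟩ : ∃ ψ : B →+* Ab ⊗[A] B,
      ψ = (Algebra.TensorProduct.includeRight : B →ₐ[A] Ab ⊗[A] B).toRingHom := ⟨_, rfl⟩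
  have hψb : ∀ b : B, ψ b = (1 : Ab) ⊗ₜ[A] b := fun b => by rw [hψ]; rfl
  have hψA : ∀ a : A, ψ (algebraMap A B a) =
      algebraMap Ab (Ab ⊗[A] B) (algebraMap A Ab a) := by
    intro a
    rw [hψ, ← IsScalarTower.algebraMap_apply]
    exact (Algebra.TensorProduct.includeRight : B →ₐ[A] Ab ⊗[A] B).commutes a
  have hψint : ψ.IsIntegral := by
    intro z
    induction z using TensorProduct.induction_on with
    | zero => exact RingHom.isIntegralElem_zero _
    | tmul r b =>
      have h1 : r ⊗ₜ[A] b = (r ⊗ₜ[A] (1 : B)) * ψ b := by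
        rw [hψb, Algebra.TensorProduct.tmul_mul_tmul, mul_one, one_mul]
      rw [h1]
      refine RingHom.IsIntegralElem.mul ψ ?_ (ψ.isIntegralElem_map)
      obtain ⟨p, hpm, hp⟩ := Algebra.IsIntegral.isIntegral (R := A) r
      refine ⟨p.map (algebraMap A B), hpm.map _, ?_⟩
      rw [Polynomial.eval₂_map]
      have hcomp : ψ.comp (algebraMap A B) =
          (Algebra.TensorProduct.includeLeft : Ab →ₐ[A] Ab ⊗[A] B).toRingHom.comp
            (algebraMap A Ab) := by
        ext a
        rw [RingHom.comp_apply, hψA]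
        rfl
      have hr : r ⊗ₜ[A] (1 : B) =
          (Algebra.TensorProduct.includeLeft : Ab →ₐ[A] Ab ⊗[A] B).toRingHom r := rfl
      rw [hcomp, hr, ← Polynomial.hom_eval₂, hp, map_zero]
    | add x y hx hy => exact RingHom.IsIntegralElem.add ψ hx hy
  have hψinj : Function.Injective ψ := by
    rw [hψ]
    exact Algebra.TensorProduct.includeRight_injective hinjA
  have hsurj : Function.Surjective (PrimeSpectrum.comap ψ) := hψint.comap_surjective hψinj
  have hpre_eq : PrimeSpectrum.comap ψ ⁻¹'
      ((PrimeSpectrum.zeroLocus ((J.map (algebraMap A B) : Ideal B) : Set B))ᶜ) =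
      (PrimeSpectrum.zeroLocus (((J.map (algebraMap A Ab)).map
        (algebraMap Ab (Ab ⊗[A] B)) : Ideal (Ab ⊗[A] B)) : Set (Ab ⊗[A] B)))ᶜ := by
    ext P
    rw [Set.mem_preimage, Set.mem_compl_iff, Set.mem_compl_iff, PrimeSpectrum.mem_zeroLocus,
      PrimeSpectrum.mem_zeroLocus, SetLike.coe_subset_coe, SetLike.coe_subset_coe,
      Ideal.map_le_iff_le_comap, Ideal.map_le_iff_le_comap, Ideal.map_le_iff_le_comap]
    refine not_congr ⟨fun h a ha => ?_, fun h a ha => ?_⟩
    · have := h ha
      rw [Ideal.mem_comap, Ideal.mem_comap]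
      rw [← hψA]
      exact this
    · have := h ha
      rw [Ideal.mem_comap, Ideal.mem_comap, ← hψA] at this
      exact this
  have h2 := hpre.image (PrimeSpectrum.comap ψ) (PrimeSpectrum.continuous_comap ψ).continuousOn
  rw [← hpre_eq, Set.image_preimage_eq _ hsurj] at h2
  exact h2

/-- Passing to the reduction does not change the Krull dimension. -/
theorem ringKrullDim_quotient_nilradical (A : Type*) [CommRing A] :
    ringKrullDim (A ⧸ nilradical A) = ringKrullDim A := by
  rw [ringKrullDim_quotient]
  have : PrimeSpectrum.zeroLocus (R := A) (nilradical A) = Set.univ := by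
    ext p
    simp only [PrimeSpectrum.mem_zeroLocus, SetLike.coe_subset_coe, Set.mem_univ, iff_true]
    exact nilradical_le_prime p.asIdeal
  rw [this]
  exact Order.krullDim_eq_of_orderIso OrderIso.Set.univ

/-- **Local Hartogs-type connectedness.**  `A` a geometrically unibranch Noetherian local domain
of dimension `≥ 2`, `A → B` a flat local homomorphism of local rings.  Then the complement of the
closed fibre in `Spec B` is connected. -/
theorem isConnected_compl_zeroLocus_of_isGeomUnibranch (A : Type u) [CommRing A]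
    [IsLocalRing A] [IsNoetherianRing A] [IsDomain A]
    (B : Type u) [CommRing B] [IsLocalRing B] [Algebra A B] [IsLocalHom (algebraMap A B)]
    [Module.Flat A B]
    (hA : CAlg2.IsGeomUnibranch A) (hdim : 2 ≤ ringKrullDim A) :
    _root_.IsConnected ((PrimeSpectrum.zeroLocus
      (((maximalIdeal A).map (algebraMap A B) : Ideal B) : Set B))ᶜ) := by
  refine ⟨?_, ?_⟩
  · -- nonempty: a point over the generic point
    have hgd : GeneralizingMap (PrimeSpectrum.comap (algebraMap A B)) :=
      Algebra.HasGoingDown.iff_generalizingMap_primeSpectrumComap.mp inferInstance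
    have hspec : (⟨⊥, Ideal.isPrime_bot⟩ : PrimeSpectrum A) ⤳
        PrimeSpectrum.comap (algebraMap A B) (closedPoint B) := by
      rw [← PrimeSpectrum.le_iff_specializes]
      exact bot_le
    obtain ⟨y, -, hy⟩ := hgd hspec
    refine ⟨y, fun hyz => ?_⟩
    rw [PrimeSpectrum.mem_zeroLocus, SetLike.coe_subset_coe, Ideal.map_le_iff_le_comap] at hyz
    have h1 : maximalIdeal A ≤ (⊥ : Ideal A) := by
      intro a ha
      have h2 := hyz ha
      have h3 : a ∈ (PrimeSpectrum.comap (algebraMap A B) y).asIdeal := h2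
      rw [hy] at h3
      exact h3
    have h2 : maximalIdeal A = ⊥ := le_bot_iff.mp h1
    have h3 : IsField A := IsLocalRing.isField_iff_maximalIdeal_eq.mpr h2
    have h4 : ringKrullDim A = 0 := by
      letI := h3.toField
      exact ringKrullDim_eq_zero_of_field A
    rw [h4] at hdim
    norm_num at hdim
  · obtain ⟨⟨hdom, hloc⟩, hpi⟩ := hA
    haveI := hdom
    haveI := hloc
    have hdim₂ : 2 ≤ ringKrullDim (CAlg2.red A) := by
      rw [ringKrullDim_quotient_nilradical]; exact hdim
    obtain ⟨ι, V', hVall, hfinV, hcentre⟩ :=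
      exists_krull_family_integralClosure_of_two_le_dim (CAlg2.red A)
        (FractionRing (CAlg2.red A)) hdim₂
    haveI : Algebra.IsIntegral A (CAlg2.normRed A) := Algebra.IsIntegral.trans (CAlg2.red A)
    haveI := isLocalHom_algebraMap_of_isIntegral_of_isLocalRing A (CAlg2.normRed A)
    haveI hE : ExpChar (IsLocalRing.ResidueField (CAlg2.normRed A))
        (ringExpChar (CAlg2.normRed A ⧸ maximalIdeal (CAlg2.normRed A))) :=
      inferInstanceAs (ExpChar (IsLocalRing.ResidueField (CAlg2.normRed A))
        (ringExpChar (IsLocalRing.ResidueField (CAlg2.normRed A))))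
    haveI : ExpChar (IsLocalRing.ResidueField A)
        (ringExpChar (CAlg2.normRed A ⧸ maximalIdeal (CAlg2.normRed A))) :=
      RingHom.expChar (algebraMap (IsLocalRing.ResidueField A)
        (IsLocalRing.ResidueField (CAlg2.normRed A))) (RingHom.injective _) _
    haveI : IsLocalRing (CAlg2.normRed A ⊗[A] B) := by
      refine isLocalRing_tensor_of_pow_mem A B (CAlg2.normRed A)
        (ringExpChar (CAlg2.normRed A ⧸ maximalIdeal (CAlg2.normRed A))) (fun a' => ?_)
      obtain ⟨n, a, ha⟩ := hpi (maximalIdeal (CAlg2.normRed A))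
        (Ideal.Quotient.mk (maximalIdeal (CAlg2.normRed A)) a')
      refine ⟨n, a, ?_⟩
      rw [← Ideal.Quotient.eq, map_pow, ← ha]
      rfl
    have hinjAL : Function.Injective (algebraMap A (FractionRing (CAlg2.red A))) := by
      rw [IsScalarTower.algebraMap_eq A (CAlg2.red A) (FractionRing (CAlg2.red A))]
      refine (IsFractionRing.injective (CAlg2.red A) _).comp ?_
      rw [Ideal.Quotient.algebraMap_eq, RingHom.injective_iff_ker_eq_bot, Ideal.mk_ker]
      exact nilradical_eq_zero A
    have hinjA : Function.Injective (algebraMap A (CAlg2.normRed A)) := by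
      intro a b hab
      apply hinjAL
      rw [IsScalarTower.algebraMap_apply A (CAlg2.normRed A) (FractionRing (CAlg2.red A)),
        IsScalarTower.algebraMap_apply A (CAlg2.normRed A) (FractionRing (CAlg2.red A)), hab]
    refine isPreconnected_compl_zeroLocus_of_krull_family A B (CAlg2.normRed A) hinjA
      (FractionRing (CAlg2.red A)) V' hVall hfinV (maximalIdeal A) (fun i => ?_)
    obtain ⟨b₂, hb₂m, hb₂0, hb₂V⟩ := hcentre i
    obtain ⟨b, rfl⟩ := Ideal.Quotient.mk_surjective b₂
    refine ⟨b, ?_, ?_, ?_⟩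
    · rw [IsLocalRing.mem_maximalIdeal, mem_nonunits_iff] at hb₂m ⊢
      exact fun h => hb₂m (h.map _)
    · rintro rfl
      exact hb₂0 (map_zero _)
    · rw [IsScalarTower.algebraMap_apply A (CAlg2.red A) (FractionRing (CAlg2.red A))]
      exact hb₂V

end Groth.Agent.Lib.Helper48.FlatConn
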