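import Mathlib
import Groth.Prelude
import Groth.Agent.Lib.Helper48.UnibranchHartogs
import Groth.Agent.Lib.Helper48.UnibranchFlatConnectedScheme
import Groth.Agent.Lib.Helper50.StalkBC

/-!
# Connectedness of complements of closed subsets of the closed fibre (flat over unibranch base)
-/

set_option autoImplicit false
set_option linter.style.haveILetI false
universe u
open TensorProduct IsLocalRing CategoryTheory AlgebraicGeometry

namespace Groth.Agent.Lib.Helper48.FlatConn

/-- A set all of whose points specialize to a point of the set is preconnected. -/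
theorem isPreconnected_of_forall_specializes {X : Type*} [TopologicalSpace X] {S : Set X} {x : X}
    (hx : x ∈ S) (h : ∀ y ∈ S, y ⤳ x) : IsPreconnected S := by
  rintro u v hu hv hSuv ⟨y, hyS, hyu⟩ ⟨z, hzS, hzv⟩
  rcases hSuv hx with hxu | hxv
  · exact ⟨z, hzS, (h z hzS).mem_open hu hxu, hzv⟩
  · exact ⟨y, hyS, hyu, (h y hyS).mem_open hv hxv⟩

/-- Local-to-global principle for connectedness of an open subset of a connected locally Noetherian
scheme. -/
theorem isConnected_of_isConnected_inter_generizations {X : Scheme.{u}} [IsLocallyNoetherian X]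
    [ConnectedSpace X] (W : Set X) (hWo : IsOpen W)
    (hloc : ∀ x : X, _root_.IsConnected (W ∩ {x' | x' ⤳ x})) : _root_.IsConnected W := by
  have hgen : ∀ x : X, ∃ x' ∈ W, x' ⤳ x := fun x => by
    obtain ⟨x', hx'⟩ := (hloc x).nonempty
    exact ⟨x', hx'.1, hx'.2⟩
  refine ⟨?_, ?_⟩
  · obtain ⟨x⟩ := (inferInstance : Nonempty X)
    obtain ⟨x', hx', -⟩ := hgen x
    exact ⟨x', hx'⟩
  · intro u v hu hv hWuv hWu hWv
    by_contra hne
    rw [Set.not_nonempty_iff_eq_empty] at hne
    have hcover : (Set.univ : Set X) ⊆ closure (W ∩ u) ∪ closure (W ∩ v) := by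
      intro x _
      obtain ⟨x', hx'W, hx'⟩ := hgen x
      rcases hWuv hx'W with h | h
      · left; exact hx'.mem_closed isClosed_closure (subset_closure ⟨hx'W, h⟩)
      · right; exact hx'.mem_closed isClosed_closure (subset_closure ⟨hx'W, h⟩)
    obtain ⟨x, -, hx1, hx2⟩ := isPreconnected_closed_iff.mp
      (isPreconnected_univ (α := X)) _ _ isClosed_closure isClosed_closure hcover
      (by obtain ⟨z, hz⟩ := hWu; exact ⟨z, trivial, subset_closure hz⟩)
      (by obtain ⟨z, hz⟩ := hWv; exact ⟨z, trivial, subset_closure hz⟩)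
    obtain ⟨x1, hx1U, hx1s⟩ := exists_specializes_of_mem_closure_of_isOpen_scheme
      (hWo.inter hu) hx1
    obtain ⟨x2, hx2U, hx2s⟩ := exists_specializes_of_mem_closure_of_isOpen_scheme
      (hWo.inter hv) hx2
    obtain ⟨z, hz, hzu, hzv⟩ := (hloc x).isPreconnected u v hu hv
      (Set.inter_subset_left.trans hWuv) ⟨x1, ⟨hx1U.1, hx1s⟩, hx1U.2⟩ ⟨x2, ⟨hx2U.1, hx2s⟩, hx2U.2⟩
    have : z ∈ W ∩ (u ∩ v) := ⟨hz.1, hzu, hzv⟩
    rw [hne] at this
    exact this

/-- **EGA-type Hartogs connectedness.**  `A` a geometrically unibranch Noetherian local domain of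
dimension `≥ 2`, `X` a connected locally Noetherian scheme flat over `Spec A`; the complement of a
closed subset of the closed fibre is connected. -/
theorem isConnected_compl_of_flat_over_isGeomUnibranch (A : Type u) [CommRing A]
    [IsNoetherianRing A] [IsLocalRing A] [IsDomain A] (hA : CAlg2.IsGeomUnibranch A)
    (hdim : 2 ≤ ringKrullDim A)
    {X : Scheme.{u}} [IsLocallyNoetherian X] [ConnectedSpace ↥X]
    (f : X ⟶ Spec (CommRingCat.of A)) [Flat f]
    (T : Set ↥X) (_hT : IsClosed T) (hTy : ∀ x ∈ T, f x = IsLocalRing.closedPoint A) :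
    _root_.IsConnected Tᶜ := by
  -- the complement of the closed fibre
  obtain ⟨W, hWdef⟩ : ∃ W : Set X, W = f ⁻¹' ({IsLocalRing.closedPoint A}ᶜ : Set (PrimeSpectrum A)) :=
    ⟨_, rfl⟩
  have hWmem : ∀ x : X, x ∈ W ↔ f x ≠ IsLocalRing.closedPoint A := by
    intro x; rw [hWdef]; rfl
  have hWo : IsOpen W := by
    rw [hWdef]
    exact (IsLocalRing.isClosed_singleton_closedPoint A).isOpen_compl.preimage f.continuous
  have hloc : ∀ x : X, _root_.IsConnected (W ∩ {x' | x' ⤳ x}) := by
    intro x
    by_cases hfx : f x = IsLocalRing.closedPoint A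
    · -- the essential case
      obtain ⟨ψ, hψ⟩ : ∃ ψ : CommRingCat.of A ⟶ X.presheaf.stalk x,
          Spec.map ψ = X.fromSpecStalk x ≫ f := ⟨Spec.preimage _, Spec.map_preimage _⟩
      have hpt : ∀ Q : PrimeSpectrum (X.presheaf.stalk x),
          f (X.fromSpecStalk x Q) = PrimeSpectrum.comap ψ.hom Q := by
        intro Q
        have := congrArg (fun g => g.base Q) hψ
        exact this.symm
      have hflat : ψ.hom.Flat := by
        rw [← Flat.SpecMap_iff, hψ]
        infer_instance
      letI aAB : Algebra A (X.presheaf.stalk x) := ψ.hom.toAlgebra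
      haveI : Module.Flat A (X.presheaf.stalk x) := hflat
      haveI : IsLocalHom (algebraMap A (X.presheaf.stalk x)) := by
        show IsLocalHom ψ.hom
        rw [IsLocalRing.isLocalHom_iff_comap_closedPoint, ← hpt,
          Scheme.fromSpecStalk_closedPoint, hfx]
      have hconn := isConnected_compl_zeroLocus_of_isGeomUnibranch A (X.presheaf.stalk x) hA hdim
      have himg := hconn.image (X.fromSpecStalk x) (X.fromSpecStalk x).continuous.continuousOn
      have hZ : (PrimeSpectrum.zeroLocus (((maximalIdeal A).map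
          (algebraMap A (X.presheaf.stalk x)) : Ideal (X.presheaf.stalk x)) :
            Set (X.presheaf.stalk x)))ᶜ = (X.fromSpecStalk x) ⁻¹' W := by
        ext Q
        refine Iff.trans ?_ (hWmem (X.fromSpecStalk x Q)).symm
        rw [hpt, Set.mem_compl_iff, PrimeSpectrum.mem_zeroLocus,
          SetLike.coe_subset_coe, Ideal.map_le_iff_le_comap]
        refine not_congr ⟨fun h => ?_, fun h => ?_⟩
        · apply PrimeSpectrum.ext
          exact ((IsLocalRing.maximalIdeal.isMaximal A).eq_of_le
            (Ideal.comap_ne_top _ Q.isPrime.ne_top) h).symm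
        · have h1 : (PrimeSpectrum.comap ψ.hom Q).asIdeal = maximalIdeal A := by rw [h]; rfl
          exact h1.ge
      have hset : (X.fromSpecStalk x) '' ((X.fromSpecStalk x) ⁻¹' W) = W ∩ {x' | x' ⤳ x} := by
        rw [← Scheme.range_fromSpecStalk]
        exact Set.image_preimage_eq_inter_range
      rw [← hset, ← hZ]
      exact himg
    · -- all generizations of `x` lie in `W`
      have hsub : W ∩ {x' | x' ⤳ x} = {x' | x' ⤳ x} := by
        refine Set.inter_eq_right.mpr (fun x' hx' => ?_)
        rw [hWmem]
        intro h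
        have h1 : f x' ⤳ f x := (show x' ⤳ x from hx').map f.continuous
        rw [h] at h1
        have h2 : f x ∈ ({IsLocalRing.closedPoint A} : Set (PrimeSpectrum A)) :=
          h1.mem_closed (IsLocalRing.isClosed_singleton_closedPoint A) rfl
        exact hfx h2
      rw [hsub]
      exact ⟨⟨x, specializes_rfl⟩,
        isPreconnected_of_forall_specializes (x := x) specializes_rfl (fun y hy => hy)⟩
  have hWconn := isConnected_of_isConnected_inter_generizations W hWo hloc
  refine hWconn.subset_closure ?_ ?_
  · intro x hx hxT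
    exact (hWmem x).mp hx (hTy x hxT)
  · intro x _
    obtain ⟨x', hx'⟩ := (hloc x).nonempty
    exact (show x' ⤳ x from hx'.2).mem_closed isClosed_closure (subset_closure hx'.1)

end Groth.Agent.Lib.Helper48.FlatConn
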